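import Mathlib.Algebra.Homology.DerivedCategory.Ext.ExactSequences
import Mathlib.Algebra.Homology.DerivedCategory.Ext.EnoughInjectives
import Mathlib.CategoryTheory.Preadditive.Injective.Basic
import Mathlib.GroupTheory.QuotientGroup.Basic

/-! Comparison of Ext groups along an acyclicity-preserving functor, by dimension shifting. -/

universe w w' v v' u u'

open CategoryTheory CategoryTheory.Limits CategoryTheory.Abelian

namespace Groth.L10

theorem nonempty_addEquiv_of_ker_eq {H M N : Type*} [AddCommGroup H] [AddCommGroup M] [AddCommGroup N]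
    (f : H →+ M) (g : H →+ N) (hf : Function.Surjective f) (hg : Function.Surjective g)
    (h : f.ker = g.ker) : Nonempty (M ≃+ N) :=
  ⟨(QuotientAddGroup.quotientKerEquivOfSurjective f hf).symm.trans
    ((QuotientAddGroup.quotientAddEquivOfEq h).trans (QuotientAddGroup.quotientKerEquivOfSurjective g hg))⟩

variable {A : Type u} [Category.{v} A] [Abelian A] [HasExt.{w} A]
  {B : Type u'} [Category.{v'} B] [Abelian B] [HasExt.{w'} B]

/-- The connecting map is surjective when the middle term has no `Ext^(n+1)`. -/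
theorem postcomp_extClass_surjective (X : A) {S : ShortComplex A} (hS : S.ShortExact) (n : ℕ)
    [Subsingleton (Ext X S.X₂ (n+1))] :
    Function.Surjective (hS.extClass.postcomp X (rfl : n + 1 = n + 1)) := fun x =>
  Ext.covariant_sequence_exact₁ X hS x (Subsingleton.elim _ _) rfl

/-- The connecting map is injective when the middle term has no `Ext^(n+1)`. -/
theorem postcomp_extClass_injective (X : A) {S : ShortComplex A} (hS : S.ShortExact) (n : ℕ)
    [Subsingleton (Ext X S.X₂ (n+1))] :
    Function.Injective (hS.extClass.postcomp X (rfl : n + 1 + 1 = n + 1 + 1)) :=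
  (injective_iff_map_eq_zero _).2 fun x hx => by
    obtain ⟨y, rfl⟩ := Ext.covariant_sequence_exact₃ X hS x rfl hx
    rw [Subsingleton.elim y 0, Ext.zero_comp]

/-- Dimension shifting. -/
noncomputable def extShift (X : A) {S : ShortComplex A} (hS : S.ShortExact) (n : ℕ)
    [Subsingleton (Ext X S.X₂ (n+1))] [Subsingleton (Ext X S.X₂ (n+1+1))] :
    Ext X S.X₃ (n+1) ≃+ Ext X S.X₁ (n+1+1) :=
  AddEquiv.ofBijective _ ⟨postcomp_extClass_injective X hS n, postcomp_extClass_surjective X hS (n+1)⟩

variable [EnoughInjectives A]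

/-- Comparison of `Ext^n(X, F)` and `Ext^n(Y, G F)` for `F` in a class `P` stable under quotients of
injective hulls whose hull sequences stay exact under `G`, injectives going to `Y`-acyclic objects. -/
theorem nonempty_ext_compare (X : A) (Y : B) (G : A ⥤ B) [G.PreservesZeroMorphisms] (P : A → Prop)
    (e : ∀ F : A, (X ⟶ F) ≃+ (Y ⟶ G.obj F))
    (he : ∀ {F F' : A} (f : F ⟶ F') (g : X ⟶ F), e F' (g ≫ f) = e F g ≫ G.map f)
    (hquot : ∀ F, P F → P (cokernel (Injective.ι F)))
    (hexact : ∀ F, P F → ((ShortComplex.mk (Injective.ι F) (cokernel.π _) (cokernel.condition _)).map G).ShortExact)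
    (hinj : ∀ (I : A) (n : ℕ), Injective I → Subsingleton (Ext Y (G.obj I) (n+1)))
    (F : A) (hF : P F) (n : ℕ) : Nonempty (Ext X F n ≃+ Ext Y (G.obj F) n) := by
  induction n generalizing F with
  | zero => exact ⟨Ext.addEquiv₀.trans ((e F).trans Ext.addEquiv₀.symm)⟩
  | succ n ih =>
    let S := ShortComplex.mk (Injective.ι F) (cokernel.π _) (cokernel.condition _)
    have hS : S.ShortExact := { exact := ShortComplex.exact_cokernel _ }
    have hT := hexact F hF
    have hA : ∀ m, Subsingleton (Ext X S.X₂ (m+1)) := fun m => Ext.subsingleton_of_injective X _ m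
    have hB : ∀ m, Subsingleton (Ext Y (S.map G).X₂ (m+1)) := fun m => hinj _ m inferInstance
    cases n with
    | zero =>
      refine nonempty_addEquiv_of_ker_eq
        ((hS.extClass.postcomp X (rfl : 0 + 1 = 0 + 1)).comp Ext.addEquiv₀.symm.toAddMonoidHom)
        ((hT.extClass.postcomp Y (rfl : 0 + 1 = 0 + 1)).comp
          (Ext.addEquiv₀.symm.toAddMonoidHom.comp (e S.X₃).toAddMonoidHom))
        (fun x => by
          obtain ⟨y, hy⟩ := postcomp_extClass_surjective X hS 0 x
          obtain ⟨g, rfl⟩ := Ext.addEquiv₀.symm.surjective y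
          exact ⟨g, hy⟩)
        (fun x => by
          obtain ⟨y, hy⟩ := postcomp_extClass_surjective Y hT 0 x
          obtain ⟨g, rfl⟩ := Ext.addEquiv₀.symm.surjective y
          obtain ⟨g, rfl⟩ := (e S.X₃).surjective g
          exact ⟨g, hy⟩) ?_
      ext g
      change (Ext.mk₀ g).comp hS.extClass (rfl : 0 + 1 = 0 + 1) = 0 ↔ (Ext.mk₀ (e S.X₃ g)).comp hT.extClass (rfl : 0 + 1 = 0 + 1) = 0
      constructor <;> intro hg
      · obtain ⟨y, hy⟩ := Ext.covariant_sequence_exact₃ X hS _ rfl hg
        obtain ⟨k, rfl⟩ := (Ext.mk₀_bijective _ _).2 y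
        rw [Ext.mk₀_comp_mk₀] at hy
        rw [← (Ext.mk₀_bijective _ _).1 hy, he, ← Ext.mk₀_comp_mk₀]
        exact ((Ext.comp_assoc_of_second_deg_zero (Ext.mk₀ (e S.X₂ k)) (Ext.mk₀ (G.map S.g)) hT.extClass _).trans
          ((congrArg (fun z => (Ext.mk₀ (e S.X₂ k)).comp z (zero_add 1)) hT.comp_extClass).trans (Ext.comp_zero _ _ _ _ _)))
      · obtain ⟨y, hy⟩ := Ext.covariant_sequence_exact₃ Y hT _ rfl hg
        obtain ⟨k, rfl⟩ := (Ext.mk₀_bijective _ _).2 y
        obtain ⟨k, rfl⟩ := (e S.X₂).surjective k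
        replace hy := (Ext.mk₀_comp_mk₀ (e S.X₂ k) (G.map S.g)).symm.trans hy
        have : e S.X₃ (k ≫ S.g) = e S.X₃ g := (he S.g k).trans ((Ext.mk₀_bijective _ _).1 hy)
        rw [← (e S.X₃).injective this, ← Ext.mk₀_comp_mk₀]
        exact ((Ext.comp_assoc_of_second_deg_zero (Ext.mk₀ k) (Ext.mk₀ S.g) hS.extClass _).trans
          ((congrArg (fun z => (Ext.mk₀ k).comp z (zero_add 1)) hS.comp_extClass).trans (Ext.comp_zero _ _ _ _ _)))
    | succ m =>
      obtain ⟨φ⟩ := ih S.X₃ (hquot F hF)
      have := hA m; have := hA (m+1); have := hB m; have := hB (m+1)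
      exact ⟨(extShift X hS m).symm.trans (φ.trans (extShift Y hT m))⟩

end Groth.L10
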