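import Groth.Agent.L10.SiteRightDerived
import Groth.Agent.L10.ExtCompare

/-! Locally acyclic sheaves for a direct image and comparison of cohomology. -/

universe u

open CategoryTheory CategoryTheory.Limits CategoryTheory.Abelian Opposite ZeroObject

set_option backward.defeqAttrib.useBackward true
set_option backward.isDefEq.respectTransparency false
namespace Groth.L10.SiteCoh

variable {C D : Type u} [SmallCategory C] [SmallCategory D] {J : GrothendieckTopology C}
  (K : GrothendieckTopology D) (u : D ⥤ C) [u.IsContinuous K J]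

/-- Every positive degree class over some `u V` vanishes locally on `V`. -/
def LocAcyclic (F : Sheaf J AddCommGrpCat.{u}) : Prop :=
  ∀ (V : D) (n : ℕ) (x : Ext (fs J (u.obj V)) F (n+1)),
    ∃ S : K.Cover V, ∀ a : S.Arrow, (Ext.mk₀ (fsMap J (u.map a.f))).comp x (zero_add (n+1)) = 0

theorem locAcyclic_of_isCocontinuous [u.IsCocontinuous K J] (F : Sheaf J AddCommGrpCat.{u}) :
    LocAcyclic K u F := fun V n x => by
  obtain ⟨S, hS⟩ := exists_cover_res_eq_zero F (u.obj V) n x
  exact ⟨⟨_, u.cover_lift K J S.2⟩, fun a => hS ⟨_, u.map a.f, a.hf⟩⟩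

theorem locAcyclic_of_subsingleton (F : Sheaf J AddCommGrpCat.{u})
    (h : ∀ V n, Subsingleton (Ext (fs J (u.obj V)) F (n+1))) : LocAcyclic K u F := fun V n x =>
  ⟨⊤, fun a => by rw [(h V n).elim x 0, Ext.comp_zero]⟩

theorem isZero_presheafToSheaf (P : Dᵒᵖ ⥤ AddCommGrpCat.{u})
    (h : ∀ (V : D) (x : P.obj (op V)), ∃ S : K.Cover V, ∀ a : S.Arrow, P.map a.f.op x = 0) :
    IsZero ((presheafToSheaf K AddCommGrpCat.{u}).obj P) := by
  have : Presheaf.IsLocallyInjective K (0 : P ⟶ 0) := ⟨fun {V} x y _ => by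
    obtain ⟨S, hS⟩ := h V.unop (x - y)
    refine K.superset_covering ?_ S.2
    intro W g hg
    have := hS ⟨W, g, hg⟩
    simpa [sub_eq_zero] using this⟩
  have h0 : IsZero (0 : Dᵒᵖ ⥤ AddCommGrpCat.{u}) := isZero_zero _
  have : Presheaf.IsLocallySurjective K (0 : P ⟶ 0) := ⟨fun {V} s => by
    convert K.top_mem V
    ext W g
    simp only [Sieve.top_apply, iff_true]
    have := AddCommGrpCat.subsingleton_of_isZero (h0.obj (op W))
    exact ⟨0, Subsingleton.elim _ _⟩⟩
  have hW : K.W (0 : P ⟶ 0) := (K.W_iff_isLocallyBijective _).2 ⟨inferInstance, inferInstance⟩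
  rw [GrothendieckTopology.W_iff] at hW
  exact IsZero.of_iso (Functor.map_isZero _ h0)
    (asIso ((presheafToSheaf K AddCommGrpCat.{u}).map (0 : P ⟶ 0)))

theorem locally_zero_of_isZero (P : Dᵒᵖ ⥤ AddCommGrpCat.{u})
    (h : IsZero ((presheafToSheaf K AddCommGrpCat.{u}).obj P)) (V : D) (x : P.obj (op V)) :
    ∃ S : K.Cover V, ∀ a : S.Arrow, P.map a.f.op x = 0 := by
  have h' : IsZero ((sheafToPresheaf K AddCommGrpCat.{u}).obj ((presheafToSheaf K _).obj P)) :=
    Functor.map_isZero _ h
  have : Subsingleton ((CategoryTheory.sheafify K P).obj (op V)) := AddCommGrpCat.subsingleton_of_isZero (h'.obj (op V))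
  refine ⟨⟨_, Presheaf.equalizerSieve_mem K (CategoryTheory.toSheafify K P) x 0 (Subsingleton.elim _ _)⟩, fun a => ?_⟩
  exact a.hf.trans (map_zero _)

theorem isZero_Rpush_succ_iff (F : Sheaf J AddCommGrpCat.{u}) :
    (∀ q, IsZero ((CohSite.Rpush J K u (q+1)).obj F)) ↔ LocAcyclic K u F := by
  refine ⟨fun h V n x => ?_, fun h q => ?_⟩
  · obtain ⟨e⟩ := nonempty_Rpush_iso K u F (n+1)
    exact locally_zero_of_isZero K _ ((h n).of_iso e.symm) V x
  · obtain ⟨e⟩ := nonempty_Rpush_iso K u F (q+1)
    exact (isZero_presheafToSheaf K (u.op ⋙ F.cohomologyPresheaf (q+1)) fun V x => h V q x).of_iso e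

variable {K u}

theorem LocAcyclic.quot {F : Sheaf J AddCommGrpCat.{u}} (h : LocAcyclic K u F) :
    LocAcyclic K u (hull F).X₃ := fun V n x => by
  obtain ⟨S, hS⟩ := h V (n+1) ((x.comp (hull_shortExact F).extClass rfl))
  refine ⟨S, fun a => ?_⟩
  have : Subsingleton (Ext (fs J (u.obj a.Y)) (hull F).X₂ (n+1)) := Ext.subsingleton_of_injective _ _ _
  apply postcomp_extClass_injective _ (hull_shortExact F) n
  rw [map_zero]
  exact (Ext.comp_assoc _ _ _ (zero_add _) rfl (by omega)).trans (hS a)

theorem LocAcyclic.locally_surjective {F : Sheaf J AddCommGrpCat.{u}} (h : LocAcyclic K u F) (V : D)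
    (s : (hull F).X₃.obj.obj (op (u.obj V))) :
    ∃ S : K.Cover V, ∀ a : S.Arrow, ∃ t, (hull F).g.hom.app (op (u.obj a.Y)) t =
      (hull F).X₃.obj.map (u.map a.f).op s := by
  obtain ⟨S, hS⟩ := h V 0 (((hu0 _ _).symm s).comp (hull_shortExact F).extClass (zero_add 1))
  refine ⟨S, fun a => ?_⟩
  obtain ⟨y, hy⟩ := Ext.covariant_sequence_exact₃ _ (hull_shortExact F)
    ((Ext.mk₀ (fsMap J (u.map a.f))).comp ((hu0 _ _).symm s) (zero_add 0)) (zero_add 1)
    ((Ext.comp_assoc _ _ _ (zero_add 0) (zero_add 1) (by omega)).trans (hS a))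
  exact ⟨hu0 _ _ y, by rw [← hu0_comp, hy, hu0_map, AddEquiv.apply_symm_apply]⟩

variable (K u)

instance preservesFiniteLimits_push : PreservesFiniteLimits (CohSite.push J K u) := by
  have : PreservesFiniteLimits (CohSite.push J K u ⋙ sheafToPresheaf K AddCommGrpCat.{u}) :=
    inferInstanceAs (PreservesFiniteLimits (sheafToPresheaf J AddCommGrpCat.{u} ⋙ (Functor.whiskeringLeft _ _ _).obj u.op))
  exact preservesFiniteLimits_of_reflects_of_preserves _ (sheafToPresheaf K AddCommGrpCat.{u})

theorem LocAcyclic.shortExact {F : Sheaf J AddCommGrpCat.{u}} (h : LocAcyclic K u F) :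
    ((hull F).map (CohSite.push J K u)).ShortExact := by
  have : Mono ((CohSite.push J K u).map (hull F).f) := inferInstance
  have he : Epi ((CohSite.push J K u).map (hull F).g) := by
    refine (Sheaf.isLocallySurjective_iff_epi' _ _).1 ⟨fun {V} s => ?_⟩
    obtain ⟨S, hS⟩ := h.locally_surjective V s
    exact K.superset_covering (fun W g hg => hS ⟨W, g, hg⟩) S.2
  exact { exact := (hull_shortExact F).exact.map_of_mono_of_preservesKernel _ inferInstance inferInstance
          mono_f := this
          epi_g := he }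

/-- `H^n(u T, F) = H^n(T, u_* F)` for locally acyclic `F`, provided direct images of injectives are acyclic. -/
theorem nonempty_push_compare (T : D)
    (hinj : ∀ (I : Sheaf J AddCommGrpCat.{u}) (n : ℕ), Injective I →
      Subsingleton (Ext (fs K T) ((CohSite.push J K u).obj I) (n+1)))
    (F : Sheaf J AddCommGrpCat.{u}) (hF : LocAcyclic K u F) (n : ℕ) :
    Nonempty (Ext (fs J (u.obj T)) F n ≃+ Ext (fs K T) ((CohSite.push J K u).obj F) n) :=
  nonempty_ext_compare _ _ (CohSite.push J K u) (LocAcyclic K u)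
    (fun F => (secEquiv J (u.obj T) F).trans (secEquiv K T ((CohSite.push J K u).obj F)).symm)
    (fun {F F'} f g => by
      apply (secEquiv K T _).injective
      simp only [AddEquiv.trans_apply, secEquiv_comp]
      erw [AddEquiv.apply_symm_apply, AddEquiv.apply_symm_apply]
      rfl)
    (fun F h => h.quot) (fun F h => h.shortExact K u) hinj F hF n

/-- The free sheaf on an object covered by the empty sieve is zero. -/
theorem isZero_fs_of_bot_mem {U : C} (h : ⊥ ∈ J U) : IsZero (fs J U) := by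
  rw [IsZero.iff_id_eq_zero]
  apply (secEquiv J U _).injective
  have hh := (isSheaf_iff_isSheaf_of_type _ _).1
    ((Presheaf.isSheaf_iff_isSheaf_forget J (fs J U).obj (forget _)).1 (fs J U).property) ⊥ h
  exact hh.isSeparatedFor.ext (fun _ _ hf => hf.elim)

end Groth.L10.SiteCoh
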