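import Groth.Prelude.Def_CohTop
import Groth.Agent.L10.SitePush
import Mathlib.Topology.Sheaves.Flasque
import Mathlib.Algebra.Category.Grp.Colimits
import Mathlib.Algebra.Category.Grp.Limits
import Mathlib.CategoryTheory.Functor.Flat
import Mathlib.CategoryTheory.Sites.Pullback
import Mathlib.Topology.Sheaves.SheafCondition.Sites

/-! Cohomology of abelian sheaves on topological spaces. -/

universe u

open CategoryTheory CategoryTheory.Limits CategoryTheory.Abelian Opposite TopologicalSpace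

set_option backward.defeqAttrib.useBackward true
set_option backward.isDefEq.respectTransparency false
namespace Groth.L10.TopCoh

open Groth.L10.SiteCoh

variable {X Y : TopCat.{u}}

/-- `⊤` is terminal. -/
noncomputable abbrev topTerminal (X : TopCat.{u}) : IsTerminal (⊤ : Opens X) :=
  IsTerminal.ofUniqueHom (fun U => homOfLE le_top) (fun _ _ => Subsingleton.elim _ _)

theorem isFlasque_of_injective (F : CohTop.Ab X) [Injective F] : TopCat.Sheaf.IsFlasque F :=
  ⟨fun {_ _} i => (AddCommGrpCat.epi_iff_surjective _).2 (by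
    have : Mono i.unop := ⟨fun _ _ _ => Subsingleton.elim _ _⟩
    exact surjective_map_of_injective F i.unop)⟩

theorem subsingleton_ext_of_flasque (F : CohTop.Ab X) (hF : TopCat.Sheaf.IsFlasque F) (U : Opens X) (n : ℕ) :
    Subsingleton (Ext (fs (Opens.grothendieckTopology X) U) F (n+1)) :=
  subsingleton_of_class (fun F => TopCat.Sheaf.IsFlasque F) U
    (fun S hS h => (AddCommGrpCat.epi_iff_surjective _).1
      (have : TopCat.Sheaf.IsFlasque S.X₁ := h; TopCat.Sheaf.IsFlasque.epi_of_shortExact hS))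
    (fun S hS h hI => by
      have : TopCat.Sheaf.IsFlasque S.X₁ := h
      have : TopCat.Sheaf.IsFlasque S.X₂ := @isFlasque_of_injective _ _ hI
      exact TopCat.Sheaf.IsFlasque.of_shortExact_of_isFlasque₁₂ hS)
    F hF n

theorem subsingleton_H_of_flasque (F : CohTop.Ab X) (hF : TopCat.Sheaf.IsFlasque F) (n : ℕ) :
    Subsingleton (CohTop.H F (n+1)) :=
  have := subsingleton_ext_of_flasque F hF ⊤ n
  (hEquiv (topTerminal X) F (n+1)).toEquiv.subsingleton

attribute [local instance] reflectsLimits_of_reflectsIsomorphisms in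
theorem lan_map_preservesFiniteLimits (f : X ⟶ Y) :
    PreservesFiniteLimits ((Opens.map f).op.lan : ((Opens Y)ᵒᵖ ⥤ AddCommGrpCat.{u}) ⥤ _) :=
  inferInstance

theorem pull_preservesFiniteLimits (f : X ⟶ Y) : PreservesFiniteLimits (CohTop.pull f) := by
  have := lan_map_preservesFiniteLimits f
  exact Functor.sheafPullbackConstruction.preservesFiniteLimits (Opens.map f) AddCommGrpCat.{u}
    (Opens.grothendieckTopology Y) (Opens.grothendieckTopology X)

theorem push_injective (f : X ⟶ Y) (I : CohTop.Ab X) [Injective I] : Injective ((CohTop.push f).obj I) := by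
  have := pull_preservesFiniteLimits f
  exact Injective.injective_of_adjoint (TopCat.Sheaf.pullbackPushforwardAdjunction AddCommGrpCat.{u} f) I

theorem exists_cover_res_eq_zero (F : CohTop.Ab X) (U : Opens X) (n : ℕ)
    (x : Ext (fs (Opens.grothendieckTopology X) U) F (n+1)) (p : X) (hp : p ∈ U) :
    ∃ (V : Opens X) (h : V ≤ U), p ∈ V ∧ (Ext.mk₀ (fsMap _ (homOfLE h))).comp x (zero_add (n+1)) = 0 := by
  obtain ⟨S, hS⟩ := SiteCoh.exists_cover_res_eq_zero F U n x
  obtain ⟨V, f, hf, hpV⟩ := S.2 p hp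
  exact ⟨V, f.le, hpV, hS ⟨V, f, hf⟩⟩

theorem isZero_Rpush_flasque (f : X ⟶ Y) (F : CohTop.Ab X) (hF : TopCat.Sheaf.IsFlasque F) (q : ℕ) :
    IsZero ((CohTop.Rpush f (q+1)).obj F) :=
  (isZero_Rpush_succ_iff _ (Opens.map f) F).2
    (locAcyclic_of_subsingleton _ _ _ fun _ n => subsingleton_ext_of_flasque F hF _ n) q

theorem locAcyclic_of_isClosedEmbedding (f : X ⟶ Y) (hf : Topology.IsClosedEmbedding f) (F : CohTop.Ab X) :
    LocAcyclic (Opens.grothendieckTopology Y) (Opens.map f) F := fun V n x => by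
  have key : ∀ y ∈ V, ∃ (W : Opens Y) (h : W ≤ V), y ∈ W ∧
      (Ext.mk₀ (fsMap (Opens.grothendieckTopology X) ((Opens.map f).map (homOfLE h)))).comp x (zero_add (n+1)) = 0 := by
    intro y hy
    by_cases hr : y ∈ Set.range f
    · obtain ⟨p, rfl⟩ := hr
      obtain ⟨O, hO, hpO, h0⟩ := exists_cover_res_eq_zero F _ n x p hy
      obtain ⟨O', hO', heq⟩ := hf.isInducing.isOpen_iff.1 O.isOpen
      refine ⟨⟨O', hO'⟩ ⊓ V, inf_le_right, ⟨Set.ext_iff.1 heq p |>.2 hpO, hy⟩, ?_⟩
      have hle : (Opens.map f).obj (⟨O', hO'⟩ ⊓ V) ≤ O := fun q hq => (Set.ext_iff.1 heq q).1 hq.1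
      rw [show fsMap (Opens.grothendieckTopology X) ((Opens.map f).map (homOfLE inf_le_right)) =
          fsMap (Opens.grothendieckTopology X) (homOfLE hle) ≫ fsMap _ (homOfLE hO) from by
        rw [← Functor.map_comp, ← Functor.whiskerRight_comp, ← Functor.map_comp]; exact congrArg (fsMap _) (Subsingleton.elim _ _), ← Ext.mk₀_comp_mk₀_assoc, h0, Ext.comp_zero]
    · refine ⟨⟨(Set.range f)ᶜ, hf.isClosed_range.isOpen_compl⟩ ⊓ V, inf_le_right, ⟨hr, hy⟩, ?_⟩
      have hz : IsZero (fs (Opens.grothendieckTopology X)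
          ((Opens.map f).obj (⟨(Set.range f)ᶜ, hf.isClosed_range.isOpen_compl⟩ ⊓ V))) :=
        isZero_fs_of_bot_mem fun q hq => (hq.1 ⟨q, rfl⟩).elim
      rw [hz.eq_of_src (fsMap _ _) 0, Ext.mk₀_zero, Ext.zero_comp]
  exact ⟨⟨{ arrows := fun W g =>
              (Ext.mk₀ (fsMap (Opens.grothendieckTopology X) ((Opens.map f).map g))).comp x (zero_add (n+1)) = 0
            downward_closed := fun {W W'} g hg g' => by
              simp only [fsMap, fpMap, Functor.map_comp, Functor.whiskerRight_comp]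
              rw [← Ext.mk₀_comp_mk₀_assoc, hg, Ext.comp_zero] },
    fun y hy => by
      obtain ⟨W, h, hyW, h0⟩ := key y hy
      exact ⟨W, homOfLE h, h0, hyW⟩⟩, fun a => a.hf⟩

theorem nonempty_H_push (f : X ⟶ Y) (F : CohTop.Ab X)
    (hF : LocAcyclic (Opens.grothendieckTopology Y) (Opens.map f) F) (n : ℕ) :
    Nonempty (CohTop.H F n ≃+ CohTop.H ((CohTop.push f).obj F) n) := by
  obtain ⟨e⟩ := nonempty_push_compare (Opens.grothendieckTopology Y) (Opens.map f) ⊤
    (fun I m _ => subsingleton_ext_of_flasque _ (@isFlasque_of_injective _ _ (push_injective f I)) ⊤ m) F hF n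
  exact ⟨(hEquiv (topTerminal X) F n).trans (e.trans (hEquiv (topTerminal Y) ((CohTop.push f).obj F) n).symm)⟩

theorem nonempty_HU_restr (F : CohTop.Ab X) (U : Opens X) (n : ℕ) :
    Nonempty (CohTop.HU F n U ≃+ CohTop.H (CohTop.restr F U) n) := by
  let u : Opens (TopCat.of U) ⥤ Opens X := U.isOpenEmbedding.isOpenMap.functor
  have : u.IsContinuous (Opens.grothendieckTopology (TopCat.of U)) (Opens.grothendieckTopology X) := U.isOpenEmbedding.functor_isContinuous
  have : u.IsCocontinuous (Opens.grothendieckTopology (TopCat.of U)) (Opens.grothendieckTopology X) :=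
    ⟨fun {V} S hS p hp => by
      obtain ⟨W, g, hg, hW⟩ := hS p.1 ⟨p, hp, rfl⟩
      refine ⟨⟨Subtype.val ⁻¹' W, W.isOpen.preimage continuous_subtype_val⟩ ⊓ V, homOfLE inf_le_right, ?_, hW, hp⟩
      exact S.downward_closed hg (homOfLE (by rintro q ⟨r, hr, rfl⟩; exact hr.1))⟩
  obtain ⟨e⟩ := nonempty_push_compare (J := Opens.grothendieckTopology X) (Opens.grothendieckTopology (TopCat.of U)) u ⊤
    (fun I m _ => by
      have := isFlasque_of_injective I
      exact subsingleton_ext_of_flasque ((CohSite.push _ _ u).obj I) ⟨fun i => this.epi (u.op.map i)⟩ ⊤ m)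
    F (locAcyclic_of_isCocontinuous _ u F) n
  have hU : u.obj ⊤ = U := by
    ext p
    exact ⟨fun ⟨q, _, h⟩ => h ▸ q.2, fun hp => ⟨⟨p, hp⟩, trivial, rfl⟩⟩
  exact ⟨(AddEquiv.cast (M := fun V => Ext (fs (Opens.grothendieckTopology X) V) F n) hU.symm).trans
    (e.trans (hEquiv (topTerminal _) (CohTop.restr F U) n).symm)⟩

theorem isFlasque_of_shortExact_outer (S : ShortComplex (CohTop.Ab X)) (hS : S.ShortExact)
    [TopCat.Sheaf.IsFlasque S.X₁] [TopCat.Sheaf.IsFlasque S.X₃] : TopCat.Sheaf.IsFlasque S.X₂ := by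
  refine ⟨fun {U V} i => (AddCommGrpCat.epi_iff_surjective _).2 fun t => ?_⟩
  obtain ⟨s₃, hs₃⟩ := (AddCommGrpCat.epi_iff_surjective _).1
    (TopCat.Presheaf.IsFlasque.epi (F := S.X₃.obj) i) (S.g.hom.app V t)
  obtain ⟨s, hs⟩ := (AddCommGrpCat.epi_iff_surjective _).1
    (TopCat.Sheaf.IsFlasque.epi_of_shortExact hS (U := U.unop)) s₃
  have hn : S.g.hom.app V (S.X₂.obj.map i s) = S.g.hom.app V t := by
    rw [← hs₃, ← hs]
    exact congr($(S.g.hom.naturality i) s)
  obtain ⟨d, hd⟩ := TopCat.Sheaf.sections_exact_of_left_exact hS.1 hS.2 (U := V.unop) (t - S.X₂.obj.map i s)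
    (by rw [map_sub]; exact sub_eq_zero.2 hn.symm)
  obtain ⟨d', hd'⟩ := (AddCommGrpCat.epi_iff_surjective _).1 (TopCat.Presheaf.IsFlasque.epi (F := S.X₁.obj) i) d
  refine ⟨s + S.f.hom.app U d', ?_⟩
  rw [map_add, show S.X₂.obj.map i (S.f.hom.app U d') = S.f.hom.app V d from by
    rw [← hd']; exact (congr($(S.f.hom.naturality i) d')).symm]
  rw [show S.f.hom.app V d = t - S.X₂.obj.map i s from hd]
  abel

end Groth.L10.TopCoh
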