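import Groth.Agent.S0563
import Groth.Agent.S0564
import Groth.Agent.L01.Regular
import Mathlib.RingTheory.Ideal.UFD
import Mathlib.LinearAlgebra.Dimension.OrzechProperty
import Mathlib.RingTheory.Localization.Algebra
import Mathlib.RingTheory.Flat.EquationalCriterion
import Mathlib.LinearAlgebra.Matrix.ToLin
import Mathlib.LinearAlgebra.Matrix.NonsingularInverse
import Mathlib.Algebra.Module.LocalizedModule.Exact
import Mathlib.Algebra.Category.ModuleCat.EnoughInjectives

/-!
Auslander–Buchsbaum: regular local rings are factorial.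
-/

set_option autoImplicit false
set_option linter.all false

universe u

open IsLocalRing CategoryTheory

namespace Groth.L10.RegUFD

/-- Splitting of a short exact sequence with a section. -/
noncomputable def split_aux {R M N P : Type*} [CommRing R] [AddCommGroup M] [AddCommGroup N] [AddCommGroup P]
    [Module R M] [Module R N] [Module R P] (i : M →ₗ[R] N) (g : N →ₗ[R] P)
    (h : Function.Exact i g) (hi : Function.Injective i) (l : P →ₗ[R] N) (hl : g ∘ₗ l = LinearMap.id) :
    { e : N ≃ₗ[R] M × P // i = e.symm.toLinearMap ∘ₗ LinearMap.inl R M P ∧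
      g = LinearMap.snd R M P ∘ₗ e.toLinearMap } :=
  h.splitSurjectiveEquiv hi ⟨l, hl⟩

/-- A stably free, locally principal ideal of a domain is principal. -/
theorem principal_of_stablyFree {S : Type u} [CommRing S] [IsDomain S] (J : Ideal S) (hJ : J ≠ ⊥)
    {a b : ℕ} (e : (J × (Fin a → S)) ≃ₗ[S] (Fin b → S))
    (hloc : ∀ n : Ideal S, n.IsMaximal → ∃ g : J, ∀ v : J, ∃ s : S, s ∉ n ∧ ∃ r : S, s • v = r • g) :
    J.IsPrincipal := by
  classical
  obtain ⟨x, hxJ, hx0⟩ := Submodule.exists_mem_ne_zero_of_ne_bot hJ
  have h1 : a + 1 ≤ b := by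
    let i : (Fin (a + 1) → S) →ₗ[S] (J × (Fin a → S)) :=
      ((LinearMap.proj 0).smulRight (⟨x, hxJ⟩ : J)).prod (LinearMap.funLeft S S Fin.succ)
    have hi : Function.Injective i := by
      rw [injective_iff_map_eq_zero]
      intro f hf
      replace hf : (f 0 • (⟨x, hxJ⟩ : J), LinearMap.funLeft S S Fin.succ f) = (0, 0) := hf
      rw [Prod.mk.injEq] at hf
      funext j
      refine Fin.cases ?_ (fun k => ?_) j
      · have := congrArg Subtype.val hf.1
        simpa [hx0] using this
      · exact congrFun hf.2 k
    simpa using card_le_of_injective S (e.toLinearMap ∘ₗ i) (e.injective.comp hi)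
  let ev : J →ₗ[S] (Fin b → S) := e.toLinearMap ∘ₗ LinearMap.inl S J (Fin a → S)
  let u : Fin a → (Fin b → S) := fun j => e (0, Pi.single j 1)
  have key : ∀ n : Ideal S, n.IsMaximal → b = a + 1 ∧ ∀ (hb : b = a + 1), ∃ v : J,
      Matrix.det (Matrix.of fun (i j : Fin (a + 1)) =>
        (Fin.cons (ev v) u : Fin (a + 1) → Fin b → S) i (Fin.cast hb.symm j)) ∉ n := by
    intro n hn
    obtain ⟨g, hg⟩ := hloc n hn
    let _ : Field (S ⧸ n) := Ideal.Quotient.field n
    let rows : Fin (a + 1) → (Fin b → S) := Fin.cons (ev g) u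
    let q : (Fin b → S) → (Fin b → S ⧸ n) := fun w i => Ideal.Quotient.mk n (w i)
    have hspan : ⊤ ≤ Submodule.span (S ⧸ n) (Set.range (q ∘ rows)) := by
      intro w _
      obtain ⟨w', rfl⟩ : ∃ w', q w' = w :=
        ⟨fun i => Function.surjInv Ideal.Quotient.mk_surjective (w i),
          funext fun i => Function.surjInv_eq _ _⟩
      obtain ⟨s, hs, r, hr⟩ := hg (e.symm w').1
      have hc : w' = ev (e.symm w').1 + ∑ j, (e.symm w').2 j • u j := by
        apply e.symm.injective
        simp only [ev, u, map_add, map_sum, map_smul, LinearMap.coe_comp, Function.comp_apply,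
          LinearEquiv.coe_coe, LinearEquiv.symm_apply_apply, LinearMap.inl_apply]
        refine Prod.ext ?_ ?_
        · simp [Prod.fst_sum]
        · simp only [Prod.snd_add, zero_add, Prod.snd_sum, Prod.smul_snd]
          exact pi_eq_sum_univ' (e.symm w').2
      have hc2 : s • w' = r • ev g + ∑ j, (s * (e.symm w').2 j) • u j := by
        conv_lhs => rw [hc]
        rw [smul_add, Finset.smul_sum, ← map_smul, hr, map_smul]
        congr 1
        exact Finset.sum_congr rfl fun j _ => smul_smul _ _ _
      have hs0 : Ideal.Quotient.mk n s ≠ 0 := by rwa [Ne, Ideal.Quotient.eq_zero_iff_mem]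
      have hq : q w' = (Ideal.Quotient.mk n s)⁻¹ • q (s • w') := by
        funext i
        simp [q, ← mul_assoc, inv_mul_cancel₀ hs0]
      rw [hq]
      refine Submodule.smul_mem _ _ ?_
      have hq2 : q (s • w') = Ideal.Quotient.mk n r • q (ev g) +
          ∑ j, Ideal.Quotient.mk n (s * (e.symm w').2 j) • q (u j) := by
        funext i
        simp [q, hc2, Finset.sum_apply]
      rw [hq2]
      refine add_mem (Submodule.smul_mem _ _ (Submodule.subset_span ⟨0, ?_⟩))
        (sum_mem fun j _ => Submodule.smul_mem _ _ (Submodule.subset_span ⟨j.succ, ?_⟩))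
      · simp [rows]
      · simp [rows]
    have h2 : b ≤ a + 1 := by
      have := finrank_le_of_span_eq_top (R := S ⧸ n) (top_le_iff.mp hspan)
      simpa using this
    refine ⟨le_antisymm h2 h1, fun hb => ⟨g, fun hdet => ?_⟩⟩
    subst hb
    have hli : LinearIndependent (S ⧸ n) (Matrix.row
        ((Matrix.of rows).map (Ideal.Quotient.mk n))) :=
      linearIndependent_of_top_le_span_of_card_eq_finrank hspan (by simp)
    rw [Matrix.linearIndependent_rows_iff_isUnit, Matrix.isUnit_iff_isUnit_det,
      ← RingHom.mapMatrix_apply, ← RingHom.map_det] at hli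
    exact hli.ne_zero (Ideal.Quotient.eq_zero_iff_mem.mpr (by simpa using hdet))
  obtain ⟨n₀, hn₀⟩ := Ideal.exists_maximal S
  obtain ⟨hb, -⟩ := key n₀ hn₀
  subst hb
  let φ : J →ₗ[S] S := ((Matrix.detRowAlternating (R := S) (n := Fin (a + 1))).toMultilinearMap.toLinearMap
    (Fin.cons 0 u) 0) ∘ₗ ev
  have hφ : ∀ v, φ v = Matrix.det (Matrix.of (Fin.cons (ev v) u)) := by
    intro v
    simp only [φ, LinearMap.comp_apply, MultilinearMap.toLinearMap]
    show Matrix.det (Matrix.of (Function.update (Fin.cons 0 u) 0 (ev v))) = _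
    rw [Fin.update_cons_zero]
  have hsurj : LinearMap.range φ = ⊤ := by
    by_contra hne
    obtain ⟨n, hn, hle⟩ := Ideal.exists_le_maximal (LinearMap.range φ : Ideal S) hne
    obtain ⟨-, h⟩ := key n hn
    obtain ⟨v, hv⟩ := h rfl
    exact hv (by simpa [hφ] using hle ⟨v, rfl⟩)
  obtain ⟨w, hw⟩ : ∃ w, φ w = 1 := LinearMap.range_eq_top.mp hsurj 1
  refine ⟨(w : S), le_antisymm (fun v hv => ?_) ((Submodule.span_singleton_le_iff_mem _ _).mpr w.2)⟩
  refine Submodule.mem_span_singleton.mpr ⟨φ ⟨v, hv⟩, ?_⟩
  have h := congrArg φ (Subtype.ext (mul_comm v (w : S)) : v • w = (w : S) • (⟨v, hv⟩ : J))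
  simp only [map_smul, hw, smul_eq_mul, mul_one] at h
  rw [smul_eq_mul, mul_comm]
  exact h.symm

/-- A locally principal nonzero ideal of a Noetherian domain is projective. -/
theorem projective_of_loc {S : Type u} [CommRing S] [IsDomain S] [IsNoetherianRing S]
    (J : Ideal S) (hJ : J ≠ ⊥)
    (hloc : ∀ n : Ideal S, n.IsMaximal → ∃ g : J, ∀ v : J, ∃ s : S, s ∉ n ∧ ∃ r : S, s • v = r • g) :
    Module.Projective S J := by
  classical
  obtain ⟨G, hG⟩ := Module.Finite.fg_top (R := S) (M := J)
  -- the set of good multipliers generates the unit ideal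
  have hcov : Ideal.span {s : S | ∃ g : J, (g : S) ≠ 0 ∧ ∀ v : J, s • v ∈ Submodule.span S {g}} = ⊤ := by
    by_contra hne
    obtain ⟨n, hn, hle⟩ := Ideal.exists_le_maximal _ hne
    obtain ⟨g, hg⟩ := hloc n hn
    choose s hs r hr using hg
    have hmem : ∀ v : J, (∏ w ∈ G, s w) • v ∈ Submodule.span S {g} := by
      intro v
      have hv : v ∈ Submodule.span S (G : Set J) := by rw [hG]; trivial
      induction hv using Submodule.span_induction with
      | mem w hw =>
        rw [← Finset.prod_erase_mul G s hw, mul_smul, hr]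
        exact Submodule.smul_mem _ _ (Submodule.smul_mem _ _ (Submodule.mem_span_singleton_self g))
      | zero => simp
      | add _ _ _ _ h1 h2 => rw [smul_add]; exact add_mem h1 h2
      | smul c _ _ h1 => rw [smul_comm]; exact Submodule.smul_mem _ c h1
    have hP : ∏ w ∈ G, s w ∉ n := fun h => by
      obtain ⟨w, -, hw⟩ := hn.isPrime.prod_mem_iff.mp h
      exact hs w hw
    refine hP (hle (Ideal.subset_span ⟨g, fun hg0 => ?_, hmem⟩))
    obtain ⟨x, hxJ, hx0⟩ := Submodule.exists_mem_ne_zero_of_ne_bot hJ
    have := congrArg Subtype.val (hr ⟨x, hxJ⟩)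
    simp [hg0, hx0] at this
    exact hs ⟨x, hxJ⟩ (this ▸ n.zero_mem)
  obtain ⟨N, c, hc⟩ : ∃ (N : Finset S) (c : S → S), (↑N ⊆ {s : S | ∃ g : J, (g : S) ≠ 0 ∧
      ∀ v : J, s • v ∈ Submodule.span S {g}}) ∧ ∑ s ∈ N, c s • s = 1 := by
    have h1 := (Ideal.eq_top_iff_one _).mp hcov
    obtain ⟨l, hl, hl2⟩ := (Submodule.mem_span_set).mp h1
    exact ⟨l.support, l, hl, hl2⟩
  obtain ⟨hN, hc⟩ := hc
  choose g hg0 hg using fun s : N => hN s.2
  let r : J →ₗ[S] (N → S) := LinearMap.pi fun s =>
    (LinearEquiv.toSpanNonzeroSingleton S J (g s) (fun h => hg0 s (congrArg Subtype.val h))).symm.toLinearMap ∘ₗ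
      ((s : S) • LinearMap.id).codRestrict (Submodule.span S {g s}) (fun v => hg s v)
  let back : (N → S) →ₗ[S] J := Fintype.linearCombination S (fun s => c s • g s)
  refine Module.Projective.of_split r back (LinearMap.ext fun v => ?_)
  have hr : ∀ s, r v s • g s = (s : S) • v := fun s => by
    have := congrArg Subtype.val ((LinearEquiv.toSpanNonzeroSingleton S J (g s)
      (fun h => hg0 s (congrArg Subtype.val h))).apply_symm_apply ⟨(s : S) • v, hg s v⟩)
    exact this
  simp only [LinearMap.comp_apply, back, Fintype.linearCombination_apply, LinearMap.id_coe, id_eq]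
  calc ∑ s, r v s • c s • g s = ∑ s : N, c s • (s : S) • v := by
        refine Finset.sum_congr rfl fun s _ => ?_
        rw [smul_comm, hr]
    _ = v := by
        rw [Finset.sum_coe_sort N (fun s => c s • s • v)]
        simp_rw [← mul_smul, ← Finset.sum_smul]
        simp only [smul_eq_mul] at hc
        rw [hc, one_smul]

/-- A finite module of finite projective dimension over a Noetherian local ring whose localization
is projective has stably free localization. -/
theorem stablyFree_localization {A : Type u} [CommRing A] [IsLocalRing A] [IsNoetherianRing A]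
    (T : Submonoid A) : ∀ (k : ℕ) (M : Type u) [AddCommGroup M] [Module A M] [Module.Finite A M],
      HasProjectiveDimensionLT (ModuleCat.of A M) (k + 1) →
      Module.Projective (Localization T) (LocalizedModule T M) →
      ∃ a b : ℕ, Nonempty ((LocalizedModule T M × (Fin a → Localization T)) ≃ₗ[Localization T]
        (Fin b → Localization T)) := by
  intro k
  induction k with
  | zero =>
    intro M _ _ _ h _
    haveI : Projective (ModuleCat.of A M) := projective_iff_hasProjectiveDimensionLT_one.mpr h
    haveI : Module.Projective A M := (IsProjective.iff_projective M).mpr inferInstance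
    haveI : Module.Free A M := Module.free_of_flat_of_isLocalRing
    let c := Module.Free.chooseBasis A M
    haveI : Finite (Module.Free.ChooseBasisIndex A M) := inferInstance
    let bl := (c.ofIsLocalizedModule (Localization T) T (LocalizedModule.mkLinearMap T M))
    let bl' := bl.reindex (Fintype.equivFin _)
    exact ⟨0, _, ⟨(LinearEquiv.prodUnique (M₂ := Fin 0 → Localization T)).trans bl'.equivFun⟩⟩
  | succ k ih =>
    intro M _ _ _ h hproj
    obtain ⟨m, f, hf⟩ := Module.Finite.exists_fin' A M
    have hex := LinearMap.exact_subtype_ker_map f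
    let Sh := ShortComplex.mk (ModuleCat.ofHom (LinearMap.ker f).subtype) (ModuleCat.ofHom f)
      (by ext x; exact x.2)
    have hSh : Sh.ShortExact :=
      { exact := by
          rw [ShortComplex.ShortExact.moduleCat_exact_iff_function_exact]
          exact hex
        mono_f := (ModuleCat.mono_iff_injective _).mpr Subtype.val_injective
        epi_g := (ModuleCat.epi_iff_surjective _).mpr hf }
    haveI : Projective (ModuleCat.of A (Fin m → A)) :=
      (IsProjective.iff_projective (Fin m → A)).mp inferInstance
    have hK : HasProjectiveDimensionLT (ModuleCat.of A (LinearMap.ker f)) (k + 1) :=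
      hSh.hasProjectiveDimensionLT_X₁ (k + 1) (hasProjectiveDimensionLT_of_ge _ 1 _ (by omega)) h
    let g : LocalizedModule T (Fin m → A) →ₗ[Localization T] LocalizedModule T M :=
      LocalizedModule.map T f
    let i : LocalizedModule T (LinearMap.ker f) →ₗ[Localization T] LocalizedModule T (Fin m → A) :=
      LocalizedModule.map T (LinearMap.ker f).subtype
    have hgs : Function.Surjective g := LocalizedModule.map_surjective T f hf
    have his : Function.Injective i := LocalizedModule.map_injective T _ Subtype.val_injective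
    have hgi : Function.Exact i g := LocalizedModule.map_exact T _ _ hex
    obtain ⟨l, hl⟩ := Module.projective_lifting_property g LinearMap.id hgs
    let esplit := split_aux (R := Localization T) (M := LocalizedModule T (LinearMap.ker f)) (N := LocalizedModule T (Fin m → A)) (P := LocalizedModule T M) i g hgi his l hl
    let e₁ := esplit.1
    let bF := ((Pi.basisFun A (Fin m)).ofIsLocalizedModule (Localization T) T
      (LocalizedModule.mkLinearMap T (Fin m → A))).equivFun
    haveI : Module.Projective (Localization T) (LocalizedModule T (LinearMap.ker f)) := by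
      haveI : Module.Projective (Localization T) (LocalizedModule T (Fin m → A)) :=
        Module.Projective.of_equiv bF.symm
      exact Module.Projective.of_split i (LinearMap.fst _ _ _ ∘ₗ e₁.toLinearMap) (by
        obtain ⟨ha, -⟩ := esplit.2
        ext x
        have := LinearMap.congr_fun ha x
        simp [e₁] at this ⊢
        rw [this]; simp)
    obtain ⟨a, b, ⟨eK⟩⟩ := ih (LinearMap.ker f) hK inferInstance
    -- (M_T × A^b) ≃ (M_T × K_T × A^a) ≃ A^m × A^a
    refine ⟨b, m + a, ⟨?_⟩⟩
    exact (LinearEquiv.prodCongr (LinearEquiv.refl _ _) eK.symm).trans <|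
      (LinearEquiv.prodAssoc _ _ _ _).symm.trans <|
      (LinearEquiv.prodCongr ((LinearEquiv.prodComm _ _ _).trans (e₁.symm.trans bF))
        (LinearEquiv.refl _ _)).trans <|
      (LinearEquiv.sumArrowLequivProdArrow (Fin m) (Fin a) _ _).symm.trans
        (LinearEquiv.funCongrLeft _ _ finSumFinEquiv.symm)

theorem isUFD_aux : ∀ (d : ℕ) (A : Type u) [CommRing A] [IsRegularLocalRing A] [IsDomain A],
    ringKrullDim A = d → UniqueFactorizationMonoid A := by
  intro d
  induction d using Nat.strong_induction_on with
  | _ d ih =>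
  intro A _ _ _ hd
  rcases Nat.eq_zero_or_pos d with rfl | hpos
  · have hF : Ring.KrullDimLE 0 A := (Ring.krullDimLE_iff).mpr (le_of_eq hd)
    haveI : IsPrincipalIdealRing A := by
      let := (Ring.KrullDimLE.isField_of_isDomain (R := A)).toField
      infer_instance
    infer_instance
  have hreg := (isRegularLocalRing_iff A).mp ‹_›
  obtain ⟨x, hx, hx2⟩ : ∃ x ∈ maximalIdeal A, x ∉ maximalIdeal A ^ 2 := by
    by_contra! h
    have hm : maximalIdeal A ≤ maximalIdeal A • (maximalIdeal A : Submodule A A) := by
      rw [smul_eq_mul, ← pow_two]; exact h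
    have := Submodule.eq_bot_of_le_smul_of_le_jacobson_bot (maximalIdeal A) (maximalIdeal A)
      (Ideal.fg_of_isNoetherianRing _) hm (maximalIdeal_le_jacobson _)
    rw [this, Submodule.spanFinrank_bot, hd] at hreg
    norm_cast at hreg
    omega
  obtain ⟨hq, -⟩ := Groth.L01.regular_quotient_of_notMem_sq hx hx2
  have hxp : Prime x := by
    have hx0 : x ≠ 0 := fun h0 => hx2 (h0 ▸ Submodule.zero_mem _)
    refine (Ideal.span_singleton_prime hx0).mp ?_
    haveI := hq
    exact (Ideal.Quotient.isDomain_iff_prime _).mp (Groth.L01.isDomain_of_regular _)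
  refine UniqueFactorizationMonoid.of_forall_isPrincipal_of_height_eq_one fun Q _ hQ => ?_
  by_cases hxQ : x ∈ Q
  · exact ⟨x, Q.eq_span_singleton_of_height_eq_one hQ hxQ hxp⟩
  let T := Submonoid.powers x
  haveI : IsLocalization.Away x (Localization T) := inferInstanceAs (IsLocalization T (Localization T))
  haveI : IsDomain (Localization T) := IsLocalization.Away.isDomain (Localization T) hxp.ne_zero
  refine Q.isPrincipal_of_isPrincipal_isLocalizationAway_of_prime hxp hxQ (Localization T) ?_
  set J := Q.map (algebraMap A (Localization T)) with hJdef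
  have hJ0 : J ≠ ⊥ := by
    rw [hJdef, Ne, Ideal.map_eq_bot_iff_of_injective (IsLocalization.injective (Localization T)
      (powers_le_nonZeroDivisors_of_noZeroDivisors hxp.ne_zero))]
    exact Q.ne_bot_of_height_eq_one hQ
  -- local principality
  have hloc : ∀ n : Ideal (Localization T), n.IsMaximal →
      ∃ g : J, ∀ v : J, ∃ s : Localization T, s ∉ n ∧ ∃ r : Localization T, s • v = r • g := by
    intro n hn
    haveI := hn.isPrime
    set p := n.comap (algebraMap A (Localization T)) with hp
    haveI : p.IsPrime := Ideal.IsPrime.comap _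
    haveI := Groth.Agent.S0564.result A p
    haveI : IsDomain (Localization.AtPrime p) :=
      IsLocalization.isDomain_localization p.primeCompl_le_nonZeroDivisors
    have hxp' : x ∉ p := fun h => hn.ne_top (Ideal.eq_top_of_isUnit_mem n h
      (IsLocalization.Away.algebraMap_isUnit x))
    obtain ⟨e, he⟩ := Groth.L01.exists_dim_eq_nat (R := Localization.AtPrime p)
    have hlt : e < d := by
      have h1 : p < maximalIdeal A :=
        lt_of_le_of_ne (le_maximalIdeal (Ideal.IsPrime.ne_top ‹_›)) fun h => hxp' (h ▸ hx)
      have h2 := Ideal.height_strict_mono_of_isPrime_of_isPrime h1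
      have h3 := maximalIdeal_height_eq_ringKrullDim (R := A)
      rw [IsLocalization.AtPrime.ringKrullDim_eq_height p (Localization.AtPrime p)] at he
      rw [hd] at h3
      rw [show p.height = (e : ℕ∞) by exact_mod_cast he,
        show (maximalIdeal A).height = (d : ℕ∞) by exact_mod_cast h3] at h2
      exact_mod_cast h2
    haveI := ih e hlt (Localization.AtPrime p) he
    have hpr : ∃ g ∈ Q, ∀ v ∈ Q, ∃ s ∉ p, ∃ r, s * v = r * g := by
      by_cases hle : Q ≤ p
      · have hd' : Disjoint (p.primeCompl : Set A) Q := Set.disjoint_left.mpr fun a ha h => ha (hle h)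
        haveI := IsLocalization.isPrime_of_isPrime_disjoint p.primeCompl (Localization.AtPrime p) Q
          inferInstance hd'
        have h1 : (Q.map (algebraMap A (Localization.AtPrime p))).height = 1 := by
          rw [← IsLocalization.height_under p.primeCompl,
            IsLocalization.under_map_of_isPrime_disjoint p.primeCompl _ inferInstance hd', hQ]
        obtain ⟨y, hy⟩ := UniqueFactorizationMonoid.isPrincipal_of_height_eq_one h1
        have hym : y ∈ Q.map (algebraMap A (Localization.AtPrime p)) :=
          hy ▸ Submodule.mem_span_singleton_self y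
        obtain ⟨⟨⟨g, hg⟩, s₀⟩, hs₀⟩ := (IsLocalization.mem_map_algebraMap_iff p.primeCompl _).mp hym
        refine ⟨g, hg, fun v hv => ?_⟩
        have hvm := Ideal.mem_map_of_mem (algebraMap A (Localization.AtPrime p)) hv
        rw [hy] at hvm
        obtain ⟨c, hc⟩ := Submodule.mem_span_singleton.mp hvm
        obtain ⟨c', t, rfl⟩ := IsLocalization.exists_mk'_eq p.primeCompl c
        have : algebraMap A (Localization.AtPrime p) ((t : A) * (s₀ : A) * v) =
            algebraMap A (Localization.AtPrime p) (c' * g) := by
          rw [map_mul, map_mul, map_mul, ← hc, smul_eq_mul]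
          simp only at hs₀
          rw [← hs₀]
          have := IsLocalization.mk'_spec (Localization.AtPrime p) c' t
          linear_combination (y * algebraMap A (Localization.AtPrime p) (s₀ : A)) * this
        exact ⟨_, (t * s₀).2, c',
          IsLocalization.injective _ p.primeCompl_le_nonZeroDivisors this⟩
      · obtain ⟨g, hg, hgp⟩ := SetLike.not_le_iff_exists.mp hle
        exact ⟨g, hg, fun v _ => ⟨g, hgp, v, mul_comm _ _⟩⟩
    obtain ⟨g, hg, hg'⟩ := hpr
    refine ⟨⟨_, Ideal.mem_map_of_mem _ hg⟩, fun ⟨v, hv⟩ => ?_⟩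
    obtain ⟨⟨⟨v', hv'⟩, t⟩, ht⟩ := (IsLocalization.mem_map_algebraMap_iff T _).mp hv
    simp only at ht
    obtain ⟨s, hs, r, hr⟩ := hg' v' hv'
    refine ⟨algebraMap A _ (s * t), fun h => ?_, algebraMap A _ r, Subtype.ext ?_⟩
    · rw [map_mul] at h
      rcases (Ideal.IsPrime.mem_or_mem ‹n.IsPrime› h) with h | h
      · exact hs h
      · exact hn.ne_top (Ideal.eq_top_of_isUnit_mem n h (IsLocalization.map_units _ t))
    · show algebraMap A _ (s * t) * v = algebraMap A _ r * algebraMap A _ g
      rw [← map_mul, ← hr, map_mul, map_mul, ← ht]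
      ring
  haveI : IsLocalizedModule T (Algebra.idealMap (Localization T) Q) := inferInstance
  let eJ : LocalizedModule T Q ≃ₗ[Localization T] J :=
    LinearEquiv.extendScalarsOfIsLocalization T (Localization T)
      (IsLocalizedModule.iso T (Algebra.idealMap (Localization T) Q))
  haveI : Module.Projective (Localization T) (LocalizedModule T Q) :=
    haveI := projective_of_loc J hJ0 hloc
    Module.Projective.of_equiv eJ.symm
  obtain ⟨a, b, ⟨e⟩⟩ := stablyFree_localization T d Q (Groth.Agent.S0563.result A d hd Q) inferInstance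
  exact principal_of_stablyFree J hJ0
    ((LinearEquiv.prodCongr eJ.symm (LinearEquiv.refl _ _)).trans e) hloc

theorem isUFD (A : Type u) [CommRing A] [IsRegularLocalRing A] :
    UniqueFactorizationMonoid A :=
  haveI := Groth.L01.isDomain_of_regular A
  let ⟨d, hd⟩ := Groth.L01.exists_dim_eq_nat (R := A)
  isUFD_aux d A hd

end Groth.L10.RegUFD
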