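import Mathlib.Algebra.Category.ModuleCat.Sheaf.Abelian
import Mathlib.Algebra.Category.ModuleCat.Sheaf.Colimits
import Mathlib.Algebra.Category.ModuleCat.Presheaf.Generator
import Mathlib.Algebra.Category.Grp.AB
import Mathlib.Algebra.Category.Grp.FilteredColimits
import Mathlib.CategoryTheory.Abelian.GrothendieckAxioms.FunctorCategory
import Mathlib.CategoryTheory.Abelian.GrothendieckCategory.EnoughInjectives
import Mathlib.CategoryTheory.Generator.Basic
import Mathlib.CategoryTheory.Limits.Preserves.FunctorCategory

/-! Presheaves and sheaves of modules on a small category form Grothendieck abelian categories. -/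

universe u

open CategoryTheory Limits

namespace Groth.L10

variable {C : Type u} [SmallCategory C]

/-- The free Yoneda presheaves of modules. -/
noncomputable abbrev fy (R : Cᵒᵖ ⥤ RingCat.{u}) (X : C) : PresheafOfModules.{u} R :=
  (PresheafOfModules.free R).obj (yoneda.obj X)

theorem pMod_isSeparating (R : Cᵒᵖ ⥤ RingCat.{u}) :
    ObjectProperty.IsSeparating (ObjectProperty.ofObj (fy R)) :=
  PresheafOfModules.freeYoneda.isSeparating R

theorem pMod_hasSeparator (R : Cᵒᵖ ⥤ RingCat.{u}) :
    HasSeparator (PresheafOfModules.{u} R) :=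
  ⟨⟨∐ (fy R), (isSeparator_sigma _).2 (pMod_isSeparating R)⟩⟩

theorem pMod_ab5 (R : Cᵒᵖ ⥤ RingCat.{u}) : AB5OfSize.{u, u} (PresheafOfModules.{u} R) where
  ofShape J _ _ := by
    have : ReflectsFiniteLimits (PresheafOfModules.toPresheaf.{u} R) :=
      ⟨fun _ _ _ => reflectsLimitsOfShape_of_reflectsIsomorphisms⟩
    exact HasExactColimitsOfShape.domain_of_functor J (PresheafOfModules.toPresheaf R)

theorem pMod_isGrothendieckAbelian (R : Cᵒᵖ ⥤ RingCat.{u}) :
    IsGrothendieckAbelian.{u} (PresheafOfModules.{u} R) := by
  have := pMod_ab5 R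
  have := pMod_hasSeparator R
  exact {}

variable {J : GrothendieckTopology C} (R : Sheaf J RingCat.{u})

theorem shMod_isGrothendieckAbelian : IsGrothendieckAbelian.{u} (SheafOfModules.{u} R) := by
  have : AB5OfSize.{u, u} (SheafOfModules.{u} R) := ⟨fun K _ _ => by
    have := pMod_ab5 R.obj
    exact (PresheafOfModules.sheafificationAdjunction (𝟙 R.obj)).hasExactColimitsOfShape K⟩
  have : HasSeparator (SheafOfModules.{u} R) := by
    refine ⟨⟨∐ (fun X => (PresheafOfModules.sheafification (𝟙 R.obj)).obj (fy R.obj X)),
      (isSeparator_sigma _).2 ?_⟩⟩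
    intro M N f g h
    let adj := PresheafOfModules.sheafificationAdjunction (𝟙 R.obj)
    apply (SheafOfModules.forget R ⋙ PresheafOfModules.restrictScalars (𝟙 R.obj)).map_injective
    apply pMod_isSeparating R.obj
    intro G hG k
    cases hG with
    | mk X =>
      have := h _ (ObjectProperty.ofObj_apply _ X) ((adj.homEquiv _ _).symm k)
      have := congrArg (adj.homEquiv _ _) this
      simpa [Adjunction.homEquiv_naturality_right] using this
  exact {}

end Groth.L10
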