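import Groth.Agent.L10.KInjRes.Resolution
import Mathlib.Algebra.Homology.DerivedCategory.KInjective
import Mathlib.CategoryTheory.Localization.DerivabilityStructure.Constructor
import Mathlib.CategoryTheory.Localization.DerivabilityStructure.Derives

/-! Right derived functors through K-injective complexes. -/

universe w v u v' u' v'' u''

open CategoryTheory CategoryTheory.Limits

set_option backward.defeqAttrib.useBackward true
set_option backward.isDefEq.respectTransparency false
namespace Groth.L10.KInjDerived

variable {A : Type u} [Category.{v} A] [Abelian A]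

/-- Every complex maps quasi-isomorphically to a K-injective one. -/
class EnoughKInjectives (A : Type u) [Category.{v} A] [Abelian A] : Prop where
  exists_res (K : CochainComplex A ℤ) : ∃ (I : CochainComplex A ℤ) (f : K ⟶ I), I.IsKInjective ∧ QuasiIso f

instance [IsGrothendieckAbelian.{v} A] : EnoughKInjectives A where
  exists_res K := ⟨KInjRes.res K, KInjRes.resι K, inferInstance, inferInstance⟩

variable (A) in
/-- The K-injective objects of the homotopy category. -/
abbrev kInj : ObjectProperty (HomotopyCategory A (ComplexShape.up ℤ)) := fun X => CochainComplex.IsKInjective X.as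

variable (A) in
/-- The homotopy category of K-injective complexes. -/
abbrev KI := (kInj A).FullSubcategory

variable (A) in
/-- The inclusion of K-injective complexes, as a localizer morphism. -/
abbrev locMor : LocalizerMorphism (MorphismProperty.isomorphisms (KI A))
    (HomotopyCategory.quasiIso A (ComplexShape.up ℤ)) where
  functor := (kInj A).ι
  map _ _ f hf := by
    have : IsIso f := hf
    simp only [MorphismProperty.inverseImage, HomotopyCategory.mem_quasiIso_iff]
    intro n
    infer_instance

/-- Maps into a K-injective complex are the same in the homotopy and derived categories. -/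
theorem qh_bijective [HasDerivedCategory.{w} A] (X : HomotopyCategory A (ComplexShape.up ℤ)) (I : KI A) :
    Function.Bijective (DerivedCategory.Qh.map : (X ⟶ I.obj) → _) :=
  have : CochainComplex.IsKInjective I.obj.as := I.property
  CochainComplex.IsKInjective.Qh_map_bijective X I.obj.as

/-- Precomposition with a quasi-isomorphism is bijective on maps to K-injectives. -/
theorem precomp_bijective {X Y : HomotopyCategory A (ComplexShape.up ℤ)} (w : X ⟶ Y)
    (hw : HomotopyCategory.quasiIso A (ComplexShape.up ℤ) w) (I : KI A) :
    Function.Bijective (fun g : Y ⟶ I.obj => w ≫ g) := by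
  letI := HasDerivedCategory.standard A
  have := Localization.inverts DerivedCategory.Qh (HomotopyCategory.quasiIso A (ComplexShape.up ℤ)) w hw
  refine ⟨fun g g' h => (qh_bijective Y I).injective ?_, fun t => ?_⟩
  · have := congrArg DerivedCategory.Qh.map h
    simpa only [Functor.map_comp, cancel_epi] using this
  · obtain ⟨g, hg⟩ := (qh_bijective Y I).surjective (inv (DerivedCategory.Qh.map w) ≫ DerivedCategory.Qh.map t)
    exact ⟨g, (qh_bijective X I).injective (by rw [Functor.map_comp, hg, IsIso.hom_inv_id_assoc])⟩

variable [EnoughKInjectives A]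

theorem exists_rightResolution (X : HomotopyCategory A (ComplexShape.up ℤ)) :
    Nonempty ((locMor A).RightResolution X) := by
  obtain ⟨I, f, hI, hf⟩ := EnoughKInjectives.exists_res X.as
  exact ⟨{ X₁ := ⟨(HomotopyCategory.quotient A (ComplexShape.up ℤ)).obj I, hI⟩
           w := (HomotopyCategory.quotient A (ComplexShape.up ℤ)).map f
           hw := (HomotopyCategory.quotient_map_mem_quasiIso_iff f).2 ((HomologicalComplex.mem_quasiIso_iff f).2 hf) }⟩

instance : (locMor A).HasRightResolutions := exists_rightResolution

instance (X : HomotopyCategory A (ComplexShape.up ℤ)) : IsConnected ((locMor A).RightResolution X) := by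
  have := exists_rightResolution X
  refine zigzag_isConnected fun R R' => ?_
  obtain ⟨g, hg⟩ := (precomp_bijective R.w R.hw R'.X₁).surjective R'.w
  exact Zigzag.of_hom { f := ObjectProperty.homMk g, comm := hg }

instance : (locMor A).arrow.HasRightResolutions := fun f => by
  obtain ⟨R⟩ := exists_rightResolution f.left
  obtain ⟨R'⟩ := exists_rightResolution f.right
  obtain ⟨g, hg⟩ := (precomp_bijective R.w R.hw R'.X₁).surjective (f.hom ≫ R'.w)
  exact ⟨{ X₁ := Arrow.mk (ObjectProperty.homMk g : R.X₁ ⟶ R'.X₁)
           w := Arrow.homMk R.w R'.w hg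
           hw := ⟨R.hw, R'.hw⟩ }⟩

section

variable [HasDerivedCategory.{w} A]

instance : ((kInj A).ι ⋙ DerivedCategory.Qh).Faithful where
  map_injective {X Y} f g h := ObjectProperty.hom_ext _ ((qh_bijective X.obj Y).injective h)

instance : ((kInj A).ι ⋙ DerivedCategory.Qh).Full where
  map_surjective {X Y} t := by
    obtain ⟨g, hg⟩ := (qh_bijective X.obj Y).surjective t
    exact ⟨ObjectProperty.homMk g, hg⟩

instance : ((kInj A).ι ⋙ DerivedCategory.Qh).EssSurj where
  mem_essImage X := by
    obtain ⟨R⟩ := exists_rightResolution (DerivedCategory.Qh.objPreimage X)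
    have := Localization.inverts DerivedCategory.Qh (HomotopyCategory.quasiIso A (ComplexShape.up ℤ)) R.w R.hw
    exact ⟨R.X₁, ⟨(asIso (DerivedCategory.Qh.map R.w)).symm ≪≫ DerivedCategory.Qh.objObjPreimageIso X⟩⟩

instance : ((kInj A).ι ⋙ DerivedCategory.Qh).IsEquivalence where

/-- The derived category as homotopy category of K-injective complexes. -/
noncomputable def equiv : KI A ≌ DerivedCategory A := ((kInj A).ι ⋙ DerivedCategory.Qh).asEquivalence

end

instance : (locMor A).IsLocalizedEquivalence := by
  letI := HasDerivedCategory.standard A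
  letI : CatCommSq (locMor A).functor (𝟭 (KI A)) DerivedCategory.Qh ((kInj A).ι ⋙ DerivedCategory.Qh) :=
    ⟨(Functor.leftUnitor _).symm⟩
  exact LocalizerMorphism.IsLocalizedEquivalence.mk' (locMor A) (𝟭 (KI A)) DerivedCategory.Qh
    ((kInj A).ι ⋙ DerivedCategory.Qh)

instance : (locMor A).IsRightDerivabilityStructure :=
  LocalizerMorphism.IsRightDerivabilityStructure.mk' _

variable {H : Type u''} [Category.{v''} H] (F : HomotopyCategory A (ComplexShape.up ℤ) ⥤ H)

theorem derives : (locMor A).Derives F := MorphismProperty.isInvertedBy_isomorphisms _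

instance : F.HasPointwiseRightDerivedFunctor (HomotopyCategory.quasiIso A (ComplexShape.up ℤ)) :=
  (derives F).hasPointwiseRightDerivedFunctor

theorem hasRightDerivedFunctor : F.HasRightDerivedFunctor (HomotopyCategory.quasiIso A (ComplexShape.up ℤ)) :=
  inferInstance

variable {F} [HasDerivedCategory.{w} A] {RF : DerivedCategory A ⥤ H} (α : F ⟶ DerivedCategory.Qh ⋙ RF)

theorem isIso_app_of_isKInjective [RF.IsRightDerivedFunctor α (HomotopyCategory.quasiIso A (ComplexShape.up ℤ))]
    (X : HomotopyCategory A (ComplexShape.up ℤ)) (h : CochainComplex.IsKInjective X.as) : IsIso (α.app X) :=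
  (derives F).isIso_of_isRightDerivedFunctor α ⟨X, h⟩

theorem isIso_app_quotient [RF.IsRightDerivedFunctor α (HomotopyCategory.quasiIso A (ComplexShape.up ℤ))]
    (I : CochainComplex A ℤ) [h : I.IsKInjective] :
    IsIso (α.app ((HomotopyCategory.quotient A (ComplexShape.up ℤ)).obj I)) :=
  (derives F).isIso_of_isRightDerivedFunctor α ⟨_, h⟩

theorem isRightDerivedFunctor_of_isIso
    (hα : ∀ (I : CochainComplex A ℤ), I.IsKInjective → IsIso (α.app ((HomotopyCategory.quotient A (ComplexShape.up ℤ)).obj I))) :
    RF.IsRightDerivedFunctor α (HomotopyCategory.quasiIso A (ComplexShape.up ℤ)) :=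
  (derives F).isRightDerivedFunctor_of_isIso α fun X => hα X.obj.as X.property

end Groth.L10.KInjDerived
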