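import Groth.Agent.L10.SitePullExact
import Groth.Agent.L10.SitePush

/-! Direct images of acyclic sheaves. -/

universe u

open CategoryTheory CategoryTheory.Limits CategoryTheory.Abelian Opposite

set_option backward.defeqAttrib.useBackward true
set_option backward.isDefEq.respectTransparency false
namespace Groth.L10.SiteFr

open Groth.L10.SiteCoh

variable {C D : Type u} [SmallCategory C] [SmallCategory D] {J : GrothendieckTopology C}
  (K : GrothendieckTopology D) (u : D ⥤ C) [u.IsContinuous K J] [PreservesFiniteLimits (pullT (J := J) K u)]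

omit [PreservesFiniteLimits (pullT (J := J) K u)] in
theorem push_shortExact_of_surjective {S : ShortComplex (Sheaf J AddCommGrpCat.{u})} (hS : S.ShortExact)
    (h : ∀ V, Function.Surjective (S.g.hom.app (op (u.obj V)))) : (S.map (CohSite.push J K u)).ShortExact := by
  have := hS.mono_f
  have : Mono ((CohSite.push J K u).map S.f) := inferInstance
  have he : Epi ((CohSite.push J K u).map S.g) :=
    (Sheaf.isLocallySurjective_iff_epi' _ _).1 ⟨fun {V} s => by
      obtain ⟨t, ht⟩ := h V s
      exact K.superset_covering (fun W g _ => ⟨S.X₂.obj.map (u.map g).op t,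
        (congr($(S.g.hom.naturality (u.map g).op) t)).trans (congrArg _ ht)⟩) (K.top_mem V)⟩
  exact { exact := hS.exact.map_of_mono_of_preservesKernel _ inferInstance inferInstance
          mono_f := this
          epi_g := he }

theorem subsingleton_push_of_acyclic (F : Sheaf J AddCommGrpCat.{u})
    (hF : ∀ (W : C) (q : ℕ), Subsingleton (Ext (fs J W) F (q + 1))) (V : D) (q : ℕ) :
    Subsingleton (Ext (fs K V) ((CohSite.push J K u).obj F) (q + 1)) := by
  induction q generalizing F with
  | zero =>
    have hs : ∀ W, Function.Surjective ((hull F).g.hom.app (op W)) := fun W => by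
      have := hF W 0
      exact surjective_sections_of_subsingleton (hull_shortExact F) W
    have hS := push_shortExact_of_surjective K u (hull_shortExact F) fun W => hs _
    have : Injective ((hull F).map (CohSite.push J K u)).X₂ := push_injective_of_exact K u (hull F).X₂
    exact subsingleton_of_forall_eq 0 fun x => eq_zero_of_surjective_sections hS V (hs (u.obj V)) x
      (Ext.eq_zero_of_injective _)
  | succ q ih =>
    have hs : ∀ W, Function.Surjective ((hull F).g.hom.app (op W)) := fun W => by
      have := hF W 0
      exact surjective_sections_of_subsingleton (hull_shortExact F) W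
    have hS := push_shortExact_of_surjective K u (hull_shortExact F) fun W => hs _
    have : Injective ((hull F).map (CohSite.push J K u)).X₂ := push_injective_of_exact K u (hull F).X₂
    refine subsingleton_of_forall_eq 0 fun x => ?_
    obtain ⟨y, rfl⟩ := Ext.covariant_sequence_exact₁ _ hS x (Ext.eq_zero_of_injective _) (n₀ := q + 1) rfl
    have := ih (hull F).X₃ fun W m => by
      have := hF W (m+1)
      have hI := fun k => Ext.subsingleton_of_injective (fs J W) (hull F).X₂ k
      exact (extShift (fs J W) (hull_shortExact F) m).toEquiv.subsingleton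
    rw [Subsingleton.elim (α := Ext (fs K V) ((CohSite.push J K u).obj (hull F).X₃) (q+1)) y 0, Ext.zero_comp]

theorem exists_lift_of_totallyAcyclic {S : ShortComplex (Sheaf J AddCommGrpCat.{u})} (hS : S.ShortExact)
    (h : CohCx.IsTotallyAcyclic S.X₁) (X : Sheaf J (Type u)) (b : X ⟶ (U J).obj S.X₃) :
    ∃ a : X ⟶ (U J).obj S.X₂, a ≫ (U J).map S.g = b := by
  have : Subsingleton (Ext ((fr J).obj X) S.X₁ 1) := h X 0
  obtain ⟨y, hy⟩ := Ext.covariant_sequence_exact₃ ((fr J).obj X) hS
    (Ext.mk₀ (((adj J).homEquiv X S.X₃).symm b)) (zero_add 1) (Subsingleton.elim _ _)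
  obtain ⟨g, rfl⟩ := (Ext.mk₀_bijective _ _).2 y
  rw [Ext.mk₀_comp_mk₀] at hy
  refine ⟨(adj J).homEquiv X S.X₂ g, ?_⟩
  rw [← (adj J).homEquiv_naturality_right, (Ext.mk₀_bijective _ _).1 hy, Equiv.apply_symm_apply]

omit [PreservesFiniteLimits (pullT (J := J) K u)] in
theorem exists_push_lift {S : ShortComplex (Sheaf J AddCommGrpCat.{u})} (hS : S.ShortExact)
    (h : CohCx.IsTotallyAcyclic S.X₁) (X : Sheaf K (Type u))
    (b : (fr K).obj X ⟶ (CohSite.push J K u).obj S.X₃) :
    ∃ a : (fr K).obj X ⟶ (CohSite.push J K u).obj S.X₂, a ≫ (CohSite.push J K u).map S.g = b := by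
  let α := u.sheafAdjunctionContinuous (Type u) K J
  obtain ⟨a, ha⟩ := exists_lift_of_totallyAcyclic hS h ((pullT K u).obj X) (tr K u ((adj K).homEquiv _ _ b))
  refine ⟨((adj K).homEquiv _ _).symm (untr K u a), ?_⟩
  rw [← (adj K).homEquiv_naturality_right_symm, Equiv.symm_apply_eq]
  exact ((α.homEquiv_naturality_right a ((U J).map S.g)).symm.trans (congrArg (α.homEquiv _ _) ha)).trans (untr_tr K u _)

/-- Direct images preserve totally acyclic sheaves. -/
theorem isTotallyAcyclic_push (F : Sheaf J AddCommGrpCat.{u}) (hF : CohCx.IsTotallyAcyclic F) :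
    CohCx.IsTotallyAcyclic ((CohSite.push J K u).obj F) := fun X q => by
  change Subsingleton (Ext ((fr K).obj X) ((CohSite.push J K u).obj F) (q + 1))
  induction q generalizing F with
  | zero =>
    have hs : ∀ W, Function.Surjective ((hull F).g.hom.app (op W)) := fun W => by
      have : Subsingleton (Ext ((fr J).obj (rep J W)) F 1) := hF (rep J W) 0
      have : Subsingleton (Ext (fs J W) F 1) := (extFsRep (J := J) W F 1).toEquiv.subsingleton
      exact surjective_sections_of_subsingleton (hull_shortExact F) W
    have hS := push_shortExact_of_surjective K u (hull_shortExact F) fun W => hs _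
    have : Injective ((hull F).map (CohSite.push J K u)).X₂ := push_injective_of_exact K u (hull F).X₂
    refine subsingleton_of_forall_eq 0 fun x => ?_
    obtain ⟨y, rfl⟩ := Ext.covariant_sequence_exact₁ _ hS x (Ext.eq_zero_of_injective _) (zero_add 1)
    obtain ⟨b, rfl⟩ := (Ext.mk₀_bijective _ _).2 y
    obtain ⟨a, rfl⟩ := exists_push_lift K u (hull_shortExact F) hF X b
    rw [← Ext.mk₀_comp_mk₀]
    refine (Ext.comp_assoc_of_second_deg_zero _ _ _ _).trans ?_
    exact (congrArg (fun r => (Ext.mk₀ a).comp r (zero_add 1)) hS.comp_extClass).trans (Ext.comp_zero _ _ _ _ _)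
  | succ q ih =>
    have hs : ∀ W, Function.Surjective ((hull F).g.hom.app (op W)) := fun W => by
      have : Subsingleton (Ext ((fr J).obj (rep J W)) F 1) := hF (rep J W) 0
      have : Subsingleton (Ext (fs J W) F 1) := (extFsRep (J := J) W F 1).toEquiv.subsingleton
      exact surjective_sections_of_subsingleton (hull_shortExact F) W
    have hS := push_shortExact_of_surjective K u (hull_shortExact F) fun W => hs _
    have : Injective ((hull F).map (CohSite.push J K u)).X₂ := push_injective_of_exact K u (hull F).X₂
    refine subsingleton_of_forall_eq 0 fun x => ?_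
    obtain ⟨y, rfl⟩ := Ext.covariant_sequence_exact₁ _ hS x (Ext.eq_zero_of_injective _) (n₀ := q + 1) rfl
    have := ih (hull F).X₃ fun Z m => by
      have : Subsingleton (Ext ((fr J).obj Z) (hull F).X₁ (m + 1 + 1)) := hF Z (m+1)
      have hI := fun k => Ext.subsingleton_of_injective ((fr J).obj Z) (hull F).X₂ k
      exact (extShift ((fr J).obj Z) (hull_shortExact F) m).toEquiv.subsingleton
    rw [Subsingleton.elim (α := Ext ((fr K).obj X) ((CohSite.push J K u).obj (hull F).X₃) (q+1)) y 0, Ext.zero_comp]

end Groth.L10.SiteFr
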