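import Groth.Agent.L17.HomAcyclic
import Groth.Agent.L10.PushAcyclic

/-! Injective sheaves of modules are totally acyclic, and so are their direct images. -/

universe u

open CategoryTheory CategoryTheory.Limits Opposite

set_option backward.defeqAttrib.useBackward true
set_option backward.isDefEq.respectTransparency false
namespace Groth.L10.InjTA

open Groth.L10 Groth.L10.SiteFr Groth.L00.ModSiteTensor Groth.L17.HomAcyclic

variable {C : Type u} [SmallCategory C] {J : GrothendieckTopology C} (O : Sheaf J CommRingCat.{u})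
  {K' K : Sheaf J (Type u)} (f : K' ⟶ K)

/-- The presheaf differential. -/
noncomputable def D (n : ℕ) : (freeMod O).obj (Nerve.N f (n+1)) ⟶ (freeMod O).obj (Nerve.N f n) :=
  ∑ j : Fin (n+2), (-1 : ℤ) ^ (j : ℕ) • (freeMod O).map (Nerve.δ f j)

theorem D_comp_D (n : ℕ) : D O f (n+1) ≫ D O f n = 0 :=
  AlgebraicTopology.AlternatingFaceMapComplex.d_squared ((Arrow.mk f).cechNerve ⋙ freeMod O) n

theorem exact_D (n : ℕ) : (ShortComplex.mk (D O f (n+1)) (D O f n) (D_comp_D O f n)).Exact := by
  let R := O.obj ⋙ forget₂ CommRingCat RingCat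
  rw [ShortComplex.exact_iff_isZero_homology, IsZero.iff_id_eq_zero]
  refine PresheafOfModules.hom_ext fun V => ?_
  have e := ((ShortComplex.mk (D O f (n+1)) (D O f n) (D_comp_D O f n)).mapHomologyIso
    (PresheafOfModules.evaluation R V))
  refine ((ShortComplex.exact_iff_isZero_homology _).1 ?_).of_iso e.symm |>.eq_of_src _ _
  let T := ModuleCat.free.{u} (O.obj.obj V)
  have hd : ∀ m, (PresheafOfModules.evaluation R V).map (D O f m) =
      ∑ j : Fin (m+2), (-1 : ℤ) ^ (j : ℕ) • T.map ((Nerve.δ f j).hom.app V) := fun m => by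
    rw [D, Functor.map_sum]
    refine Finset.sum_congr rfl fun j _ => ?_
    rw [Functor.map_zsmul]
    rfl
  let A₂ := T.obj ((Nerve.N f (n+1+1)).obj.obj V)
  let A₁ := T.obj ((Nerve.N f (n+1)).obj.obj V)
  let A₀ := T.obj ((Nerve.N f n).obj.obj V)
  let u₁ : A₂ ⟶ A₁ := (PresheafOfModules.evaluation R V).map (D O f (n+1))
  let u₀ : A₁ ⟶ A₀ := (PresheafOfModules.evaluation R V).map (D O f n)
  let a : A₁ ⟶ A₂ := T.map (sV f V (n+1))
  let b : A₀ ⟶ A₁ := T.map (sV f V n)
  have hu : a ≫ u₁ + u₀ ≫ b = 𝟙 A₁ :=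
    (congrArg₂ (fun (p : A₂ ⟶ A₁) (q : A₁ ⟶ A₀) => a ≫ p + q ≫ b) (hd (n+1)) (hd n)).trans
      (homotopy_of_extra (T := T) (fun j => (Nerve.δ f j).hom.app V) (fun j => (Nerve.δ f j).hom.app V) _ _
        (sV_δ_zero f V (n+1)) (sV_δ_succ f V n))
  exact exact_of_homotopy _ a b hu

/-- Maps out of a free abelian sheaf into the abelian sheaf underlying a module. -/
noncomputable def homEquiv (G : ModSite.Mod O) (X : Sheaf J (Type u)) :
    ((fr J).obj X ⟶ ModSite.toAb G) ≃+ ((shf O).obj ((freeMod O).obj X) ⟶ G) :=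
  (freeEquiv O G X).trans (shfEquiv O G _)

theorem homEquiv_d (G : ModSite.Mod O) (n : ℕ) (z : (fr J).obj (Nerve.N f n) ⟶ ModSite.toAb G) :
    homEquiv O G _ (Nerve.d f n ≫ z) = (shf O).map (D O f n) ≫ homEquiv O G _ z := by
  rw [D, Functor.map_sum, Nerve.d, Preadditive.sum_comp, map_sum, Preadditive.sum_comp]
  refine Finset.sum_congr rfl fun j _ => ?_
  rw [Functor.map_zsmul, Preadditive.zsmul_comp, map_zsmul, Preadditive.zsmul_comp]
  refine congrArg (((-1 : ℤ) ^ (j : ℕ)) • ·) ?_
  exact (congrArg (shfEquiv O G _) (freeFun_comp O (Nerve.δ f j) z)).trans (shfEquiv_natural O G _ _)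

omit K' K f in
/-- An injective sheaf of modules is totally acyclic. -/
theorem isTotallyAcyclic (G : ModSite.Mod O) [Injective G] : CohCx.IsTotallyAcyclic (ModSite.toAb G) :=
  Nerve.CechAcyclic.isTotallyAcyclic fun K' K f _ n z hz => by
    have := shf_preservesFiniteLimits O
    have h0 : (shf O).map (D O f (n+1)) ≫ homEquiv O G _ z = 0 := by
      rw [← homEquiv_d, hz, map_zero]
    have he := (exact_D O f n).map (shf O)
    refine ⟨(homEquiv O G _).symm (he.descToInjective _ h0), ?_⟩
    apply (homEquiv O G (Nerve.N f (n+1))).injective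
    rw [homEquiv_d, AddEquiv.apply_symm_apply]
    exact he.comp_descToInjective _ h0

variable {D' : Type u} [SmallCategory D'] {L : GrothendieckTopology D'} {O' : Sheaf L CommRingCat.{u}}

omit K' K f in
/-- The direct image of an injective module is totally acyclic. -/
theorem isTotallyAcyclic_push (φ : ModSite.RMor O O') (G : ModSite.Mod O) [Injective G] :
    CohCx.IsTotallyAcyclic (ModSite.toAb (φ.push.obj G)) :=
  SiteFr.isTotallyAcyclic_push L φ.fn _ (isTotallyAcyclic O G)

end Groth.L10.InjTA
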