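import Groth.Agent.L10.HomotopyProd
import Groth.Prelude.Def_DCoh2
import Groth.Prelude.Def_CohCx
import Mathlib.Algebra.Homology.Refinements
import Mathlib.Algebra.Homology.DerivedCategory.Fractions
import Mathlib.Algebra.Homology.HomotopyCategory.Pretriangulated

/-! Exact products: products in derived categories, and derived functors of product preserving functors. -/

universe t w w' v v' u u'

open CategoryTheory CategoryTheory.Limits

set_option backward.defeqAttrib.useBackward true
set_option backward.isDefEq.respectTransparency false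
namespace Groth.L10.ExactProd

variable {B : Type u} [Category.{v} B] [Abelian B] {ι : Type t} [HasProductsOfShape ι B]
  [(lim : (Discrete ι ⥤ B) ⥤ B).PreservesEpimorphisms]

theorem epi_piMap {X Y : ι → B} (p : ∀ i, X i ⟶ Y i) [∀ i, Epi (p i)] : Epi (Limits.Pi.map p) := by
  let η : Discrete.functor X ⟶ Discrete.functor Y := Discrete.natTrans fun j => p j.as
  have : ∀ j, Epi (η.app j) := fun j => inferInstanceAs (Epi (p j.as))
  have : Epi η := NatTrans.epi_of_epi_app η
  exact inferInstanceAs (Epi ((lim : (Discrete ι ⥤ B) ⥤ B).map η))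

/-- A common refinement of a family of epimorphisms indexed by `ι`. -/
theorem exists_common_refinement {T : B} {T' : ι → B} (p : ∀ i, T' i ⟶ T) [∀ i, Epi (p i)] :
    ∃ (S : B) (π : S ⟶ T) (_ : Epi π) (q : ∀ i, S ⟶ T' i), ∀ i, q i ≫ p i = π := by
  have := epi_piMap p
  refine ⟨pullback (Pi.lift fun _ : ι => 𝟙 T) (Limits.Pi.map p), pullback.fst _ _, inferInstance,
    fun i => pullback.snd _ _ ≫ Pi.π _ i, fun i => ?_⟩
  have := congrArg (· ≫ Pi.π _ i) (pullback.condition (f := Pi.lift fun _ : ι => 𝟙 T) (g := Limits.Pi.map p))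
  simp only [Category.assoc, Pi.lift_π, Category.comp_id, Limits.Pi.map_π] at this
  simp [this]

/-- Componentwise product of quasi-isomorphisms is a quasi-isomorphism. -/
theorem quasiIso_piMap {X Y : ι → CochainComplex B ℤ} (f : ∀ i, X i ⟶ Y i) [∀ i, QuasiIso (f i)] :
    QuasiIso (Limits.Pi.map f) := by
  let hX := fun q => isLimitOfHasProductOfPreservesLimit (HomologicalComplex.eval B (ComplexShape.up ℤ) q) X
  let hY := fun q => isLimitOfHasProductOfPreservesLimit (HomologicalComplex.eval B (ComplexShape.up ℤ) q) Y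
  have hf : ∀ i q, (Limits.Pi.map f).f q ≫ (Pi.π Y i).f q = (Pi.π X i).f q ≫ (f i).f q := fun i q => by
    rw [← HomologicalComplex.comp_f, Limits.Pi.map_π]; rfl
  have lX : ∀ {S : B} q (m : ∀ i, S ⟶ (X i).X q) i, Fan.IsLimit.lift (hX q) m ≫ (Pi.π X i).f q = m i :=
    fun q m i => Fan.IsLimit.fac (hX q) m i
  have lY : ∀ {S : B} q (m : ∀ i, S ⟶ (Y i).X q) i, Fan.IsLimit.lift (hY q) m ≫ (Pi.π Y i).f q = m i :=
    fun q m i => Fan.IsLimit.fac (hY q) m i
  rw [quasiIso_iff]
  intro n
  rw [quasiIsoAt_iff_isIso_homologyMap]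
  have hE : Epi (HomologicalComplex.homologyMap (Limits.Pi.map f) n) := by
    rw [HomologicalComplex.epi_homologyMap_iff_up_to_refinements _ (n - 1) n (n + 1) (by simp) (by simp)]
    intro T y hy
    have h : ∀ i, ∃ (T' : B) (π : T' ⟶ T) (_ : Epi π) (x₂ : T' ⟶ (X i).X n) (_ : x₂ ≫ (X i).d n (n + 1) = 0)
        (y₁ : T' ⟶ (Y i).X (n - 1)),
        π ≫ y ≫ (Pi.π Y i).f n = x₂ ≫ (f i).f n + y₁ ≫ (Y i).d (n - 1) n := fun i =>
      (HomologicalComplex.epi_homologyMap_iff_up_to_refinements (f i) (n - 1) n (n + 1) (by simp) (by simp)).1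
        inferInstance _ (by rw [Category.assoc, (Pi.π Y i).comm, ← Category.assoc, hy, zero_comp])
    choose T' p hp x hx y₁ hy₁ using h
    obtain ⟨S, π, hπ, q, hq⟩ := exists_common_refinement p
    refine ⟨S, π, hπ, Fan.IsLimit.lift (hX n) fun i => q i ≫ x i, Fan.IsLimit.hom_ext (hX (n + 1)) _ _ fun i => ?_,
      Fan.IsLimit.lift (hY (n - 1)) fun i => q i ≫ y₁ i, Fan.IsLimit.hom_ext (hY n) _ _ fun i => ?_⟩
    · change (_ ≫ (∏ᶜ X).d n (n + 1)) ≫ (Pi.π X i).f (n + 1) = 0 ≫ (Pi.π X i).f (n + 1)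
      simp only [Category.assoc, ← (Pi.π X i).comm, reassoc_of% lX, zero_comp, hx, comp_zero]
    · change (π ≫ y) ≫ (Pi.π Y i).f n = (_ ≫ (Limits.Pi.map f).f n + _ ≫ (∏ᶜ Y).d (n - 1) n) ≫ (Pi.π Y i).f n
      simp only [Preadditive.add_comp, Category.assoc, hf, ← (Pi.π Y i).comm, reassoc_of% lX, reassoc_of% lY]
      rw [← hq i, Category.assoc, hy₁, Preadditive.comp_add]
  have hM : Mono (HomologicalComplex.homologyMap (Limits.Pi.map f) n) := by
    rw [HomologicalComplex.mono_homologyMap_iff_up_to_refinements _ (n - 1) n (n + 1) (by simp) (by simp)]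
    intro T x hx y hy
    have h : ∀ i, ∃ (T' : B) (π : T' ⟶ T) (_ : Epi π) (x₁ : T' ⟶ (X i).X (n - 1)),
        π ≫ x ≫ (Pi.π X i).f n = x₁ ≫ (X i).d (n - 1) n := fun i =>
      (HomologicalComplex.mono_homologyMap_iff_up_to_refinements (f i) (n - 1) n (n + 1) (by simp) (by simp)).1
        inferInstance _ (by rw [Category.assoc, (Pi.π X i).comm, ← Category.assoc, hx, zero_comp])
        (y ≫ (Pi.π Y i).f (n - 1)) (by rw [Category.assoc, ← hf, reassoc_of% hy, Category.assoc, ← (Pi.π Y i).comm])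
    choose T' p hp x₁ hx₁ using h
    obtain ⟨S, π, hπ, q, hq⟩ := exists_common_refinement p
    refine ⟨S, π, hπ, Fan.IsLimit.lift (hX (n - 1)) fun i => q i ≫ x₁ i, Fan.IsLimit.hom_ext (hX n) _ _ fun i => ?_⟩
    change (π ≫ x) ≫ (Pi.π X i).f n = (_ ≫ (∏ᶜ X).d (n - 1) n) ≫ (Pi.π X i).f n
    simp only [Category.assoc, ← (Pi.π X i).comm, reassoc_of% lX]
    rw [← hq i, Category.assoc, hx₁]
  exact isIso_of_mono_of_epi _

variable [HasDerivedCategory.{w} B]

open DerivedCategory

local notation "qK" => HomotopyCategory.quotient B (ComplexShape.up ℤ)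
local notation "qW" => HomotopyCategory.quasiIso B (ComplexShape.up ℤ)

/-- With exact products, the product of complexes is the product in the derived category. -/
theorem hom_to_product_bijective (Z : ι → CochainComplex B ℤ) (Y : DerivedCategory B) :
    Function.Bijective (fun (g : Y ⟶ Qh.obj ((qK).obj (∏ᶜ Z))) i => g ≫ Qh.map ((qK).map (Pi.π Z i))) := by
  let Y' := Qh.objPreimage Y
  let e : Qh.obj Y' ≅ Y := Qh.objObjPreimageIso Y
  refine ⟨fun g g' h => ?_, fun f => ?_⟩
  · rw [← cancel_epi e.hom]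
    obtain ⟨φ, hφ⟩ := Localization.exists_rightFraction Qh qW (e.hom ≫ (g - g'))
    have := Localization.inverts Qh qW φ.s φ.hs
    suffices Qh.map φ.f = 0 by
      have h2 : φ.map Qh (Localization.inverts Qh qW) = 0 := by
        rw [MorphismProperty.RightFraction.map, this, comp_zero]
      rw [h2, Preadditive.comp_sub, sub_eq_zero] at hφ
      exact hφ
    have hi : ∀ i, Qh.map (φ.f ≫ (qK).map (Pi.π Z i)) = Qh.map (0 : φ.X' ⟶ (qK).obj (Z i)) := fun i => by
      have h1 : (e.hom ≫ (g - g')) ≫ Qh.map ((qK).map (Pi.π Z i)) = 0 := by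
        rw [Category.assoc, Preadditive.sub_comp, sub_eq_zero.2 (congrFun h i), comp_zero]
      rw [hφ, MorphismProperty.RightFraction.map, Category.assoc] at h1
      rw [Functor.map_zero, Functor.map_comp, ← cancel_epi (inv (Qh.map φ.s)), comp_zero]
      exact h1
    choose W t ht heq using fun i => (MorphismProperty.map_eq_iff_postcomp Qh qW _ _).1 (hi i)
    choose t' ht' using fun i => (qK).map_surjective (X := Z i) (Y := (W i).as) (t i)
    have : ∀ i, QuasiIso (t' i) := fun i => (HomologicalComplex.mem_quasiIso_iff _).1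
      ((HomotopyCategory.quotient_map_mem_quasiIso_iff _).1 (by erw [ht' i]; exact ht i))
    have := quasiIso_piMap t'
    have hz : φ.f ≫ (qK).map (Limits.Pi.map t') = 0 := by
      refine (HomotopyProd.hom_to_product_bijective (fun i => (W i).as) φ.X').injective (funext fun i => ?_)
      change (φ.f ≫ (qK).map (Limits.Pi.map t')) ≫ (qK).map (Pi.π (fun i => (W i).as) i) = 0 ≫ _
      rw [Category.assoc, ← Functor.map_comp, Limits.Pi.map_π, Functor.map_comp, ← Category.assoc, zero_comp]
      refine (congrArg (_ ≫ ·) (ht' i)).trans ((heq i).trans zero_comp)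
    have := Localization.inverts Qh qW ((qK).map (Limits.Pi.map t'))
      ((HomotopyCategory.quotient_map_mem_quasiIso_iff _).2 ((HomologicalComplex.mem_quasiIso_iff _).2 inferInstance))
    rw [← cancel_mono (Qh.map ((qK).map (Limits.Pi.map t'))), zero_comp, ← Functor.map_comp, hz, Functor.map_zero]
  · choose φ hφ using fun i => Localization.exists_leftFraction Qh qW (e.hom ≫ f i)
    choose a ha using fun i => (qK).map_surjective (X := Y'.as) (Y := ((φ i).Y').as) ((φ i).f)
    choose s hs using fun i => (qK).map_surjective (X := Z i) (Y := ((φ i).Y').as) ((φ i).s)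
    have : ∀ i, QuasiIso (s i) := fun i => (HomologicalComplex.mem_quasiIso_iff _).1
      ((HomotopyCategory.quotient_map_mem_quasiIso_iff _).1 (by erw [hs i]; exact (φ i).hs))
    have := quasiIso_piMap s
    have := Localization.inverts Qh qW ((qK).map (Limits.Pi.map s))
      ((HomotopyCategory.quotient_map_mem_quasiIso_iff _).2 ((HomologicalComplex.mem_quasiIso_iff _).2 inferInstance))
    refine ⟨e.inv ≫ Qh.map ((qK).map (Pi.lift a)) ≫ inv (Qh.map ((qK).map (Limits.Pi.map s))), funext fun i => ?_⟩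
    have := Localization.inverts Qh qW (φ i).s (φ i).hs
    rw [← cancel_epi e.hom, hφ i, MorphismProperty.LeftFraction.map, ← cancel_mono (Qh.map (φ i).s)]
    simp only [Category.assoc, Iso.hom_inv_id_assoc, IsIso.inv_hom_id, Category.comp_id]
    have h3 : Qh.map ((qK).map (Pi.π Z i)) ≫ Qh.map (φ i).s =
        Qh.map ((qK).map (Limits.Pi.map s)) ≫ Qh.map ((qK).map (Pi.π (fun i => (φ i).Y'.as) i)) := by
      refine (congrArg (fun x => Qh.map ((qK).map (Pi.π Z i)) ≫ Qh.map x) (hs i).symm).trans ?_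
      simp only [← Functor.map_comp, Limits.Pi.map_π]
    rw [h3, IsIso.inv_hom_id_assoc, ← Functor.map_comp, ← Functor.map_comp, Pi.lift_π]
    exact congrArg Qh.map (ha i)

end Groth.L10.ExactProd

namespace Groth.L10.ExactProd

open KInjDerived DerivedCategory Pretriangulated

variable {A : Type u} [Category.{v} A] [Abelian A] [HasDerivedCategory.{w} A] [EnoughKInjectives A]
  {B : Type u'} [Category.{v'} B] [Abelian B] [HasDerivedCategory.{w'} B] (F : A ⥤ B) [F.Additive]

theorem isKInjective_obj₁ (T : Triangle (HomotopyCategory A (ComplexShape.up ℤ))) (hT : T ∈ distTriang _)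
    (h₂ : CochainComplex.IsKInjective T.obj₂.as) (h₃ : CochainComplex.IsKInjective T.obj₃.as) :
    CochainComplex.IsKInjective T.obj₁.as := by
  rw [CochainComplex.isKInjective_iff_rightOrthogonal] at h₂ h₃ ⊢
  exact ObjectProperty.ext_of_isTriangulatedClosed₁ _ T hT h₂ h₃

/-- A derived functor commutes with derived limits if it sends countable products of K-injective complexes to
products. -/
theorem isRlimVia_of_prod [HasProductsOfShape ℕ A]
    (RF : DerivedCategory A ⥤ DerivedCategory B) (α : F.mapHomotopyCategory (ComplexShape.up ℤ) ⋙ Qh ⟶ Qh ⋙ RF)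
    [RF.IsRightDerivedFunctor α (HomotopyCategory.quasiIso A (ComplexShape.up ℤ))]
    (hprod : ∀ (I : ℕ → CochainComplex A ℤ), (∀ n, (I n).IsKInjective) → ∀ W : DerivedCategory B,
      Function.Bijective (fun (g : W ⟶ (F.mapHomotopyCategory (ComplexShape.up ℤ) ⋙ Qh).obj
          ((HomotopyCategory.quotient A (ComplexShape.up ℤ)).obj (∏ᶜ I))) n =>
        g ≫ (F.mapHomotopyCategory (ComplexShape.up ℤ) ⋙ Qh).map ((HomotopyCategory.quotient A (ComplexShape.up ℤ)).map (Pi.π I n))))
    (K : ℕ → DerivedCategory A) (t : ∀ n, K (n + 1) ⟶ K n) (L : DerivedCategory A) [HasProduct K]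
    [HasProduct fun n => RF.obj (K n)] (a₀ : ∀ n, L ⟶ K n) (hL : CohCx.IsRlimVia K t L a₀) :
    CohCx.IsRlimVia (fun n => RF.obj (K n)) (fun n => RF.map (t n)) (RF.obj L) (fun n => RF.map (a₀ n)) := by
  let R := fun n => (exists_rightResolution (A := A) (Qh.objPreimage (K n))).some
  let I : ℕ → CochainComplex A ℤ := fun n => (R n).X₁.obj.as
  have hI : ∀ n, (I n).IsKInjective := fun n => (R n).X₁.property
  have : ∀ n, IsIso (Qh.map (R n).w) := fun n =>
    Localization.inverts Qh (HomotopyCategory.quasiIso A (ComplexShape.up ℤ)) _ (R n).hw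
  let e : ∀ n, Qh.obj ((HomotopyCategory.quotient A (ComplexShape.up ℤ)).obj (I n)) ≅ K n := fun n =>
    (asIso (Qh.map (R n).w)).symm ≪≫ Qh.objObjPreimageIso (K n)
  choose s' hs' using fun n => (qh_bijective ((HomotopyCategory.quotient A (ComplexShape.up ℤ)).obj (I (n + 1)))
    ⟨(HomotopyCategory.quotient A (ComplexShape.up ℤ)).obj (I n), hI n⟩).surjective ((e (n + 1)).hom ≫ t n ≫ (e n).inv)
  choose s hs using fun n => (HomotopyCategory.quotient A (ComplexShape.up ℤ)).map_surjective (s' n)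
  have hst : ∀ n, Qh.map ((HomotopyCategory.quotient A (ComplexShape.up ℤ)).map (s n)) ≫ (e n).hom = (e (n + 1)).hom ≫ t n :=
    fun n => by rw [hs n, hs' n]; simp
  let P := ∏ᶜ I
  have hP : P.IsKInjective := Groth.L10.s0480 I (fun i => inferInstance)
  let Φ : P ⟶ P := Pi.lift fun n => Pi.π I n - Pi.π I (n + 1) ≫ s n
  let θ : Qh.obj ((HomotopyCategory.quotient A (ComplexShape.up ℤ)).obj P) ⟶ ∏ᶜ K :=
    Pi.lift fun n => Qh.map ((HomotopyCategory.quotient A (ComplexShape.up ℤ)).map (Pi.π I n)) ≫ (e n).hom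
  have hθ : IsIso θ := by
    refine (isIso_iff_yoneda_map_bijective θ).2 fun W => ⟨fun g g' hg => ?_, fun g => ?_⟩
    · refine (DerivedProd.hom_to_product_bijective I W).injective (funext fun n => ?_)
      have := congrArg (fun h => (h ≫ Pi.π K n) ≫ (e n).inv) hg
      simpa [θ] using this
    · obtain ⟨g', hg'⟩ := (DerivedProd.hom_to_product_bijective I W).surjective (fun n => g ≫ Pi.π K n ≫ (e n).inv)
      refine ⟨g', Pi.hom_ext _ _ fun n => ?_⟩
      have := congrArg (· ≫ (e n).hom) (congrFun hg' n)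
      simpa [θ] using this
  have hcomm : Qh.map ((HomotopyCategory.quotient A (ComplexShape.up ℤ)).map Φ) ≫ θ =
      θ ≫ Pi.lift (fun n => Pi.π K n - Pi.π K (n + 1) ≫ t n) := by
    refine Pi.hom_ext _ _ fun n => ?_
    simp only [θ, Category.assoc, Pi.lift_π, Preadditive.comp_sub, Pi.lift_π_assoc, ← Functor.map_comp_assoc, ← Functor.map_comp, Φ]
    rw [Functor.map_sub, Functor.map_sub, Preadditive.sub_comp, Functor.map_comp, Functor.map_comp, Category.assoc, hst]
  obtain ⟨c, hT⟩ := hL
  let T0 := (CochainComplex.mappingCone.triangleh Φ).invRotate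
  have hT0 : T0 ∈ distTriang _ := inv_rot_of_distTriang _ (HomotopyCategory.mappingCone_triangleh_distinguished Φ)
  have hT0' : Qh.mapTriangle.obj T0 ∈ distTriang _ := Qh.map_distinguished T0 hT0
  obtain ⟨g, hg₁, hg₃⟩ := complete_distinguished_triangle_morphism₁ _ _ hT0' hT θ θ hcomm
  have hgi : IsIso g := isIso₁_of_isIso₂₃ (Triangle.homMk _ _ g θ θ hg₁ hcomm hg₃) hT0' hT hθ hθ
  have hC : CochainComplex.IsKInjective T0.obj₁.as := isKInjective_obj₁ T0 hT0 hP hP
  have hαC : IsIso (α.app T0.obj₁) := isIso_app_of_isKInjective α T0.obj₁ hC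
  let Fh := F.mapHomotopyCategory (ComplexShape.up ℤ) ⋙ Qh
  have : ∀ n, IsIso (α.app ((HomotopyCategory.quotient A (ComplexShape.up ℤ)).obj (I n))) := fun n =>
    isIso_app_quotient α (I n)
  let τ : Fh.obj ((HomotopyCategory.quotient A (ComplexShape.up ℤ)).obj P) ⟶ ∏ᶜ fun n => RF.obj (K n) :=
    Pi.lift fun n => Fh.map ((HomotopyCategory.quotient A (ComplexShape.up ℤ)).map (Pi.π I n)) ≫
      α.app _ ≫ RF.map (e n).hom
  have hτ : IsIso τ := by
    refine (isIso_iff_yoneda_map_bijective τ).2 fun W => ⟨fun x x' hx => ?_, fun x => ?_⟩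
    · refine (hprod I hI W).injective (funext fun n => ?_)
      have := congrArg (fun h => h ≫ Pi.π _ n) hx
      simp only [τ, Category.assoc, Pi.lift_π] at this
      rw [← cancel_mono (α.app ((HomotopyCategory.quotient A (ComplexShape.up ℤ)).obj (I n)) ≫ RF.map (e n).hom)]
      simpa only [Category.assoc] using this
    · obtain ⟨z, hz⟩ := (hprod I hI W).surjective fun n => x ≫ Pi.π _ n ≫
        inv (α.app ((HomotopyCategory.quotient A (ComplexShape.up ℤ)).obj (I n)) ≫ RF.map (e n).hom)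
      refine ⟨z, Pi.hom_ext _ _ fun n => ?_⟩
      simp only [τ, Category.assoc, Pi.lift_π]
      refine (Category.assoc _ _ _).symm.trans ((congrArg (· ≫ _) (congrFun hz n)).trans ?_)
      simp
  have hcomm' : Fh.map ((HomotopyCategory.quotient A (ComplexShape.up ℤ)).map Φ) ≫ τ =
      τ ≫ Pi.lift (fun n => Pi.π (fun n => RF.obj (K n)) n - Pi.π (fun n => RF.obj (K n)) (n + 1) ≫ RF.map (t n)) := by
    refine Pi.hom_ext _ _ fun n => ?_
    simp only [τ, Category.assoc, Pi.lift_π, Preadditive.comp_sub, Pi.lift_π_assoc, ← Functor.map_comp_assoc, ← Functor.map_comp, Φ]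
    have hn : Fh.map ((HomotopyCategory.quotient A (ComplexShape.up ℤ)).map (s n)) ≫ α.app _ =
        α.app _ ≫ RF.map (Qh.map ((HomotopyCategory.quotient A (ComplexShape.up ℤ)).map (s n))) :=
      α.naturality ((HomotopyCategory.quotient A (ComplexShape.up ℤ)).map (s n))
    rw [Functor.map_sub, Functor.map_sub, Preadditive.sub_comp, Functor.map_comp, Functor.map_comp, Category.assoc,
      reassoc_of% hn, ← Functor.map_comp, hst]
  have ha : Pi.lift (fun n => RF.map (a₀ n)) = RF.map (inv g) ≫ inv (α.app T0.obj₁) ≫ Fh.map T0.mor₁ ≫ τ := by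
    refine Pi.hom_ext _ _ fun n => ?_
    simp only [τ, Category.assoc, Pi.lift_π]
    rw [← Functor.map_comp_assoc Fh]
    have hn : Fh.map (T0.mor₁ ≫ (HomotopyCategory.quotient A (ComplexShape.up ℤ)).map (Pi.π I n)) ≫ α.app _ =
        α.app _ ≫ RF.map (Qh.map (T0.mor₁ ≫ (HomotopyCategory.quotient A (ComplexShape.up ℤ)).map (Pi.π I n))) :=
      α.naturality (T0.mor₁ ≫ (HomotopyCategory.quotient A (ComplexShape.up ℤ)).map (Pi.π I n))
    rw [reassoc_of% hn, IsIso.inv_hom_id_assoc, ← Functor.map_comp, ← Functor.map_comp]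
    refine congrArg RF.map ?_
    rw [IsIso.eq_inv_comp]
    have h1 := congrArg (· ≫ Pi.π K n) hg₁
    simp only [θ, Category.assoc, Pi.lift_π, Triangle.mk_mor₁, Functor.mapTriangle_obj] at h1
    rw [Functor.map_comp, Category.assoc]
    exact h1.symm
  refine ⟨inv τ ≫ (Fh.mapTriangle.obj T0).mor₃ ≫ (α.app T0.obj₁ ≫ RF.map g)⟦(1 : ℤ)⟧', ?_⟩
  rw [ha]
  refine isomorphic_distinguished _ (Fh.map_distinguished T0 hT0) _ (Iso.symm ?_)
  refine Triangle.isoMk _ _ (asIso (α.app T0.obj₁ ≫ RF.map g)) (asIso τ) (asIso τ) ?_ ?_ ?_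
  · simp
  · exact hcomm'
  · simp


/-- The derived functor of a functor commuting with countable products, into a category with exact countable
products, commutes with derived limits. -/
theorem isRlim [HasProductsOfShape ℕ A] [HasProductsOfShape ℕ B]
    [(lim : (Discrete ℕ ⥤ B) ⥤ B).PreservesEpimorphisms] [PreservesLimitsOfShape (Discrete ℕ) F]
    (RF : DerivedCategory A ⥤ DerivedCategory B) (α : F.mapHomotopyCategory (ComplexShape.up ℤ) ⋙ Qh ⟶ Qh ⋙ RF)
    [RF.IsRightDerivedFunctor α (HomotopyCategory.quasiIso A (ComplexShape.up ℤ))]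
    (K : ℕ → DerivedCategory A) (t : ∀ n, K (n + 1) ⟶ K n) (L : DerivedCategory A) [HasProduct K]
    [HasProduct fun n => RF.obj (K n)] (hL : DCoh.IsRlim K t L) :
    DCoh.IsRlim (fun n => RF.obj (K n)) (fun n => RF.map (t n)) (RF.obj L) := by
  obtain ⟨a, c, hT⟩ := hL
  refine (fun ⟨c', h'⟩ => ⟨_, c', h'⟩) (isRlimVia_of_prod F RF α (fun I hI W => ?_) K t L (fun n => a ≫ Pi.π K n)
    ⟨c, by
      have : Pi.lift (fun n => a ≫ Pi.π K n) = a := Pi.hom_ext _ _ fun n => by simp
      rw [this]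
      exact hT⟩)
  let G := F.mapHomologicalComplex (ComplexShape.up ℤ)
  let ψ : G.obj (∏ᶜ I) ⟶ ∏ᶜ (fun n => G.obj (I n)) := Pi.lift fun n => G.map (Pi.π I n)
  have hψq : ∀ q, IsIso (ψ.f q) := fun q => by
    let h₁ := isLimitFanMkObjOfIsLimit F _ _
      (isLimitOfHasProductOfPreservesLimit (HomologicalComplex.eval A (ComplexShape.up ℤ) q) I)
    let h₂ := isLimitOfHasProductOfPreservesLimit (HomologicalComplex.eval B (ComplexShape.up ℤ) q) (fun n => G.obj (I n))
    have : ψ.f q = (h₁.conePointUniqueUpToIso h₂).hom := by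
      refine Fan.IsLimit.hom_ext h₂ _ _ fun n => ?_
      refine Eq.trans ?_ (h₁.conePointUniqueUpToIso_hom_comp h₂ ⟨n⟩).symm
      exact congrArg (fun (x : G.obj (∏ᶜ I) ⟶ G.obj (I n)) => x.f q) (Pi.lift_π (fun n => G.map (Pi.π I n)) n)
    rw [this]
    infer_instance
  have : IsIso ψ := HomologicalComplex.Hom.isIso_of_components ψ
  have hb := hom_to_product_bijective (fun n => G.obj (I n)) W
  let χ := asIso ((Qh (C := B)).map ((HomotopyCategory.quotient B (ComplexShape.up ℤ)).map ψ))
  have hψπ : ∀ n, (F.mapHomotopyCategory (ComplexShape.up ℤ) ⋙ Qh).map ((HomotopyCategory.quotient A (ComplexShape.up ℤ)).map (Pi.π I n)) =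
      χ.hom ≫ Qh.map ((HomotopyCategory.quotient B (ComplexShape.up ℤ)).map (Pi.π (fun n => G.obj (I n)) n)) := fun n => by
    simp only [χ, asIso_hom, ← Functor.map_comp, ψ, Pi.lift_π]
    rfl
  refine ⟨fun x x' hx => ?_, fun x => ?_⟩
  · refine (cancel_mono χ.hom).1 (hb.injective (funext fun n => ?_))
    have := congrFun hx n
    simp only [hψπ] at this
    exact (Category.assoc _ _ _).trans (this.trans (Category.assoc _ _ _).symm)
  · obtain ⟨z, hz⟩ := hb.surjective x
    refine ⟨z ≫ χ.inv, funext fun n => ?_⟩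
    simp only [hψπ]
    refine (Category.assoc _ _ _).trans ?_
    rw [Iso.inv_hom_id_assoc]
    exact congrFun hz n

end Groth.L10.ExactProd
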