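import Groth.Agent.L10.AcycObj
import Groth.Agent.L10.ExactProd

/-! Derived right adjoints with enough acyclic objects send products to products. -/

universe t w w' v v' u u'

open CategoryTheory CategoryTheory.Limits CategoryTheory.Abelian DerivedCategory

set_option backward.defeqAttrib.useBackward true
set_option backward.isDefEq.respectTransparency false
namespace Groth.L10.AcycObj

variable {A : Type u} [Category.{v} A] [Abelian A] [EnoughInjectives A]
  {B : Type u'} [Category.{v'} B] [Abelian B] [HasExt.{w} B] [HasDerivedCategory.{w} B] [KInjDerived.EnoughKInjectives B]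
  {F : A ⥤ B} [F.Additive] {G : B ⥤ A} [G.Additive] (adj : G ⊣ F)
  (hE : ∀ X : B, ∃ (Y : B) (p : Y ⟶ X), Acyc F Y ∧ Epi p)
  {ι : Type t} [HasProductsOfShape ι A] [HasProductsOfShape ι B] [PreservesLimitsOfShape (Discrete ι) F]

local notation "qA" => HomotopyCategory.quotient A (ComplexShape.up ℤ)
local notation "qB" => HomotopyCategory.quotient B (ComplexShape.up ℤ)
local notation "Fh" => F.mapHomotopyCategory (ComplexShape.up ℤ) ⋙ Qh

include adj hE in
/-- The image of a product of K-injective complexes is their product in the derived category. -/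
theorem product_bijective (I : ι → CochainComplex A ℤ) [∀ i, (I i).IsKInjective] (W : DerivedCategory B) :
    Function.Bijective (fun (g : W ⟶ (Fh).obj ((qA).obj (∏ᶜ I))) i => g ≫ (Fh).map ((qA).map (Pi.π I i))) := by
  let Gc := F.mapHomologicalComplex (ComplexShape.up ℤ)
  let ψ : Gc.obj (∏ᶜ I) ⟶ ∏ᶜ (fun n => Gc.obj (I n)) := Pi.lift fun n => Gc.map (Pi.π I n)
  have hψq : ∀ q, IsIso (ψ.f q) := fun q => by
    let h₁ := isLimitFanMkObjOfIsLimit F _ _
      (isLimitOfHasProductOfPreservesLimit (HomologicalComplex.eval A (ComplexShape.up ℤ) q) I)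
    let h₂ := isLimitOfHasProductOfPreservesLimit (HomologicalComplex.eval B (ComplexShape.up ℤ) q) (fun n => Gc.obj (I n))
    have : ψ.f q = (h₁.conePointUniqueUpToIso h₂).hom := by
      refine Fan.IsLimit.hom_ext h₂ _ _ fun n => ?_
      refine Eq.trans ?_ (h₁.conePointUniqueUpToIso_hom_comp h₂ ⟨n⟩).symm
      exact congrArg (fun (x : Gc.obj (∏ᶜ I) ⟶ Gc.obj (I n)) => x.f q) (Pi.lift_π (fun n => Gc.map (Pi.π I n)) n)
    rw [this]
    infer_instance
  have : IsIso ψ := HomologicalComplex.Hom.isIso_of_components ψ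
  choose J s hJ hs using fun i => KInjDerived.EnoughKInjectives.exists_res (Gc.obj (I i))
  have : ∀ i, (J i).IsKInjective := hJ
  have hsi : ∀ i, IsIso (Qh.map ((qB).map (s i))) := fun i =>
    Localization.inverts Qh (HomotopyCategory.quasiIso B (ComplexShape.up ℤ)) _
      ((HomotopyCategory.quotient_map_mem_quasiIso_iff _).2 ((HomologicalComplex.mem_quasiIso_iff _).2 (hs i)))
  let σ : Gc.obj (∏ᶜ I) ⟶ ∏ᶜ J := Pi.lift fun i => Gc.map (Pi.π I i) ≫ s i
  have hσ : ∀ i, σ ≫ Pi.π J i = Gc.map (Pi.π I i) ≫ s i := fun i => Pi.lift_π _ i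
  have hq : QuasiIso σ := by
    refine quasiIso_of_test hE σ fun P hP m => ?_
    have hF : ∀ i, Function.Bijective (fun x : (qB).obj ((HomologicalComplex.single B (ComplexShape.up ℤ) m).obj P) ⟶
        (qB).obj (Gc.obj (I i)) => x ≫ (qB).map (s i)) := fun i => by
      have h1 := qh_bijective adj hE ((HomologicalComplex.single B (ComplexShape.up ℤ) m).obj P) m
        (single_acyc P hP m) (I i)
      have h2 := KInjDerived.qh_bijective ((qB).obj ((HomologicalComplex.single B (ComplexShape.up ℤ) m).obj P))
        ⟨(qB).obj (J i), hJ i⟩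
      refine ⟨fun x x' hx => h1.injective ?_, fun y => ?_⟩
      · have := congrArg (Qh (C := B)).map hx
        simp only [Functor.map_comp] at this
        exact (cancel_mono (Qh.map ((qB).map (s i)))).1 this
      · obtain ⟨x, hx⟩ := h1.surjective (Qh.map y ≫ inv (Qh.map ((qB).map (s i))))
        refine ⟨x, h2.injective ?_⟩
        rw [Functor.map_comp]
        exact (congrArg (· ≫ Qh.map ((qB).map (s i))) hx).trans (by simp)
    have hA := HomotopyProd.hom_to_product_bijective (fun n => Gc.obj (I n))
      ((qB).obj ((HomologicalComplex.single B (ComplexShape.up ℤ) m).obj P))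
    have hB := HomotopyProd.hom_to_product_bijective J
      ((qB).obj ((HomologicalComplex.single B (ComplexShape.up ℤ) m).obj P))
    refine ⟨fun g g' hg => ?_, fun y => ?_⟩
    · rw [← cancel_mono ((qB).map ψ)]
      refine hA.injective (funext fun i => (hF i).injective ?_)
      have := congrArg (fun h => h ≫ (qB).map (Pi.π J i)) hg
      simp only [Category.assoc, ← Functor.map_comp, hσ] at this
      simp only [Category.assoc, ← Functor.map_comp, ψ, Pi.lift_π_assoc]
      exact this
    · choose x hx using fun i => (hF i).surjective (y ≫ (qB).map (Pi.π J i))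
      obtain ⟨z, hz⟩ := hA.surjective x
      refine ⟨z ≫ inv ((qB).map ψ), hB.injective (funext fun i => ?_)⟩
      change ((z ≫ inv ((qB).map ψ)) ≫ (qB).map σ) ≫ (qB).map (Pi.π J i) = y ≫ (qB).map (Pi.π J i)
      have hσ' : (qB).map σ ≫ (qB).map (Pi.π J i) =
          (qB).map ψ ≫ (qB).map (Pi.π (fun n => Gc.obj (I n)) i) ≫ (qB).map (s i) := by
        simp only [← Functor.map_comp, hσ, ψ, Pi.lift_π_assoc]
      rw [Category.assoc, Category.assoc, hσ', IsIso.inv_hom_id_assoc, ← hx i, ← congrFun hz i]
      exact (Category.assoc _ _ _).symm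
  have := Localization.inverts Qh (HomotopyCategory.quasiIso B (ComplexShape.up ℤ)) _
      ((HomotopyCategory.quotient_map_mem_quasiIso_iff _).2 ((HomologicalComplex.mem_quasiIso_iff _).2 hq))
  have hb := DerivedProd.hom_to_product_bijective J W
  have key : ∀ i, Qh.map ((qB).map σ) ≫ Qh.map ((qB).map (Pi.π J i)) =
      (Fh).map ((qA).map (Pi.π I i)) ≫ Qh.map ((qB).map (s i)) := fun i => by
    simp only [← Functor.map_comp, hσ]
    simp only [Functor.map_comp]
    rfl
  refine ⟨fun x x' hx => ?_, fun x => ?_⟩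
  · refine (cancel_mono (Qh.map ((qB).map σ))).1 (hb.injective (funext fun i => ?_))
    simp only [Category.assoc, key]
    exact (Category.assoc _ _ _).symm.trans ((congrArg (· ≫ _) (congrFun hx i)).trans (Category.assoc _ _ _))
  · obtain ⟨z, hz⟩ := hb.surjective fun i => x i ≫ Qh.map ((qB).map (s i))
    refine ⟨z ≫ inv (Qh.map ((qB).map σ)), funext fun i => ?_⟩
    refine (cancel_mono (Qh.map ((qB).map (s i)))).1 ?_
    refine (Category.assoc _ _ _).trans ?_
    rw [← key, Category.assoc, IsIso.inv_hom_id_assoc]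
    exact congrFun hz i

end Groth.L10.AcycObj
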