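import Groth.Agent.L10.NerveExact
import Groth.Agent.L10.ExtCompare
import Groth.Agent.L10.PushAcyclic
import Mathlib.Algebra.Homology.QuasiIso
import Mathlib.CategoryTheory.Adjunction.Limits

/-! Čech criterion for totally acyclic sheaves. -/

universe u

open CategoryTheory CategoryTheory.Limits CategoryTheory.Abelian Opposite Simplicial

set_option backward.defeqAttrib.useBackward true
set_option backward.isDefEq.respectTransparency false
namespace Groth.L10.Nerve

open Groth.L10.SiteFr Groth.L10.SiteCoh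

variable {C : Type u} [SmallCategory C] {J : GrothendieckTopology C}

theorem quasiIso_ε {K' K : Sheaf J (Type u)} (f : K' ⟶ K) [Epi f] :
    QuasiIso ((AlgebraicTopology.AlternatingFaceMapComplex.ε (C := Sheaf J AddCommGrpCat.{u})).app
      (((SimplicialObject.Augmented.whiskering _ _).obj (fr J)).obj (Arrow.mk f).augmentedCechNerve)) := by
  let X := ((SimplicialObject.Augmented.whiskering _ _).obj (fr J)).obj (Arrow.mk f).augmentedCechNerve
  let Kc := (AlgebraicTopology.alternatingFaceMapComplex (Sheaf J AddCommGrpCat.{u})).obj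
    (SimplicialObject.Augmented.drop.obj X)
  have hd : ∀ n, Kc.d (n+1) n = d f n := fun n =>
    (AlgebraicTopology.alternatingFaceMapComplex_obj_d _ n).trans rfl
  refine ⟨fun n => ?_⟩
  cases n with
  | zero =>
    rw [ChainComplex.quasiIsoAt₀_iff,
      ShortComplex.quasiIso_iff_of_zeros' _ (by simp) (by simp) (by simp)]
    have h0 : ((HomologicalComplex.shortComplexFunctor' (Sheaf J AddCommGrpCat.{u}) (ComplexShape.down ℕ) 1 0 0).map
        ((AlgebraicTopology.AlternatingFaceMapComplex.ε (C := Sheaf J AddCommGrpCat.{u})).app X)).τ₂ =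
        (fr J).map (bs f 0) :=
      (AlgebraicTopology.AlternatingFaceMapComplex.ε_app_f_zero X).trans (Category.comp_id _)
    refine ⟨?_, ?_⟩
    · refine ShortComplex.exact_of_iso (ShortComplex.isoMk (Iso.refl _) (Iso.refl _) (Iso.refl _) ?_ ?_) (exact_ε f)
      · exact (Category.id_comp _).trans ((hd 0).trans (Category.comp_id _).symm)
      · exact (Category.id_comp _).trans (h0.trans (Category.comp_id _).symm)
    · have := epi_ε f
      rw [h0]
      exact this
  | succ n =>
    rw [quasiIsoAt_iff_exactAt' _ _ (by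
      rw [HomologicalComplex.exactAt_iff]
      exact ShortComplex.exact_of_isZero_X₂ _ (show IsZero (((ChainComplex.single₀ (Sheaf J AddCommGrpCat.{u})).obj
        (SimplicialObject.Augmented.point.obj X)).X (n+1)) from
          HomologicalComplex.isZero_single_obj_X (ComplexShape.down ℕ) 0 _ _ (by simp))),
      HomologicalComplex.exactAt_iff' _ (n+2) (n+1) n (by simp) (by simp)]
    refine (ShortComplex.exact_iff_of_iso (ShortComplex.isoMk (S₁ := ShortComplex.mk (d f (n+1)) (d f n) (d_comp_d f n))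
      (S₂ := Kc.sc' (n+2) (n+1) n) (Iso.refl _) (Iso.refl _) (Iso.refl _) ?_ ?_)).1 (exact_d f n)
    · exact (Category.id_comp _).trans ((hd (n+1)).trans (Category.comp_id _).symm)
    · exact (Category.id_comp _).trans ((hd n).trans (Category.comp_id _).symm)

/-- All positive Čech groups of epimorphisms of sheaves of sets vanish. -/
def CechAcyclic (F : Sheaf J AddCommGrpCat.{u}) : Prop :=
  ∀ ⦃K' K : Sheaf J (Type u)⦄ (f : K' ⟶ K), Epi f → ∀ (n : ℕ) (z : (fr J).obj (N f (n+1)) ⟶ F),
    d f (n+1) ≫ z = 0 → ∃ w, d f n ≫ w = z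

theorem cechNerveCx_d (F : Sheaf J AddCommGrpCat.{u}) {K' K : Sheaf J (Type u)} (f : K' ⟶ K) (n : ℕ)
    (z : (fr J).obj (N f n) ⟶ F) : (CohCx.cechNerveCx F f).d n (n+1) z = d f n ≫ z := by
  let Z : CosimplicialObject AddCommGrpCat.{u} := (Arrow.mk f).cechNerve.rightOp ⋙ CohCx.HK0Functor J F
  have hd : (CohCx.cechNerveCx F f).d n (n+1) = AlgebraicTopology.AlternatingCofaceMapComplex.objD Z n :=
    @CochainComplex.of_d AddCommGrpCat.{u} _ _ ℕ _ _ _ (fun m : ℕ => (Z.obj (SimplexCategory.mk m) : AddCommGrpCat.{u})) (AlgebraicTopology.AlternatingCofaceMapComplex.objD Z) n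
  rw [hd, AlgebraicTopology.AlternatingCofaceMapComplex.objD, d, Preadditive.sum_comp]
  change AddCommGrpCat.homAddEquiv (∑ i : Fin (n+2), (-1 : ℤ) ^ (i : ℕ) • Z.δ i) z = _
  rw [map_sum, AddMonoidHom.finsetSum_apply]
  refine Finset.sum_congr rfl fun j _ => ?_
  rw [Preadditive.zsmul_comp]
  rfl

theorem isZero_cechNerveCx_iff (F : Sheaf J AddCommGrpCat.{u}) {K' K : Sheaf J (Type u)} (f : K' ⟶ K) (n : ℕ) :
    IsZero ((CohCx.cechNerveCx F f).homology (n+1)) ↔
      ∀ z : (fr J).obj (N f (n+1)) ⟶ F, d f (n+1) ≫ z = 0 → ∃ w, d f n ≫ w = z := by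
  rw [← HomologicalComplex.exactAt_iff_isZero_homology, HomologicalComplex.exactAt_iff' _ n (n+1) (n+2) (by simp) (by simp),
    ShortComplex.ab_exact_iff]
  exact forall_congr' fun (z : (fr J).obj (N f (n+1)) ⟶ F) =>
    imp_congr (Iff.of_eq (congrArg (· = 0) (cechNerveCx_d F f (n+1) z)))
      (exists_congr fun (w : (fr J).obj (N f n) ⟶ F) => Iff.of_eq (congrArg (· = z) (cechNerveCx_d F f n w)))

theorem exists_desc {K' K : Sheaf J (Type u)} (f : K' ⟶ K) [Epi f] {F : Sheaf J AddCommGrpCat.{u}}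
    (t : (fr J).obj (N f 0) ⟶ F) (ht : d f 0 ≫ t = 0) : ∃ w, (fr J).map (bs f 0) ≫ w = t := by
  have : Epi (ShortComplex.mk (d f 0) ((fr J).map (bs f 0)) (d_comp_ε f)).g := epi_ε f
  exact ⟨(exact_ε f).gIsCokernel.desc (CokernelCofork.ofπ t ht),
    (exact_ε f).gIsCokernel.fac (CokernelCofork.ofπ t ht) WalkingParallelPair.one⟩

theorem cechAcyclic_injective (I : Sheaf J AddCommGrpCat.{u}) [Injective I] : CechAcyclic I :=
  fun _ _ f _ n z hz => ⟨(exact_d f n).descToInjective z hz, (exact_d f n).comp_descToInjective z hz⟩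

/-- Preimages under an epimorphism of abelian sheaves form a covering sheaf of sets. -/
theorem exists_epi_cover {F G : Sheaf J AddCommGrpCat.{u}} (g : F ⟶ G) [Epi g] {K : Sheaf J (Type u)}
    (s : (fr J).obj K ⟶ G) : ∃ (K' : Sheaf J (Type u)) (f : K' ⟶ K) (_ : Epi f) (t : (fr J).obj K' ⟶ F),
      t ≫ g = (fr J).map f ≫ s := by
  let s' := (adj J).homEquiv K G s
  let f : pullback s' ((U J).map g) ⟶ K := pullback.fst _ _
  have hg : Sheaf.IsLocallySurjective g := (Sheaf.isLocallySurjective_iff_epi' _ g).2 inferInstance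
  have hloc : Sheaf.IsLocallySurjective f := ⟨fun {V} x => by
    refine J.superset_covering ?_ (hg.imageSieve_mem (U := V) (secRep V ((repEquiv V K).symm x ≫ s')))
    intro W a ha
    obtain ⟨t, ht⟩ := ha
    refine ⟨repEquiv W _ (pullback.lift ((repEquiv W K).symm (K.obj.map a.op x))
      ((repEquiv W ((U J).obj F)).symm t) ?_), ?_⟩
    · apply (repEquiv W _).injective
      rw [repEquiv_comp, repEquiv_comp, Equiv.apply_symm_apply, Equiv.apply_symm_apply]
      have hx : secRep V ((repEquiv V K).symm x ≫ s') = s'.hom.app (op V) x :=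
        (repEquiv_comp _ _).trans (congrArg _ ((repEquiv V K).apply_symm_apply x))
      rw [hx] at ht
      exact (congr($(s'.hom.naturality a.op) x)).trans ht.symm
    · change f.hom.app _ _ = _
      rw [← repEquiv_comp, pullback.lift_fst, Equiv.apply_symm_apply]⟩
  have hf : Epi f := (Sheaf.isLocallySurjective_iff_epi f).1 hloc
  refine ⟨_, f, hf, ((adj J).homEquiv _ F).symm (pullback.snd _ _), ?_⟩
  rw [← (adj J).homEquiv_naturality_right_symm, ← pullback.condition]
  exact ((adj J).homEquiv_naturality_left_symm f s').trans (congrArg ((fr J).map f ≫ ·) (Equiv.symm_apply_apply _ _))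

theorem CechAcyclic.exists_lift {S : ShortComplex (Sheaf J AddCommGrpCat.{u})} (hS : S.ShortExact)
    (h : CechAcyclic S.X₁) {K : Sheaf J (Type u)} (s : (fr J).obj K ⟶ S.X₃) : ∃ t, t ≫ S.g = s := by
  have := hS.epi_g
  have := hS.mono_f
  obtain ⟨K', f, hf, t, ht⟩ := exists_epi_cover S.g s
  let t₀ : (fr J).obj (N f 0) ⟶ S.X₂ := (fr J).map (pr f (0 : Fin 1)) ≫ t
  have hg : t₀ ≫ S.g = (fr J).map (bs f 0) ≫ s := by
    rw [Category.assoc, ht, ← Category.assoc, ← Functor.map_comp, pr_w]
  have hc : (d f 0 ≫ t₀) ≫ S.g = 0 := by rw [Category.assoc, hg, ← Category.assoc, d_comp_ε, zero_comp]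
  obtain ⟨e, he⟩ := h f hf 0 (hS.exact.lift (d f 0 ≫ t₀) hc) (by
    rw [← cancel_mono S.f, Category.assoc, hS.exact.lift_f, ← Category.assoc, d_comp_d, zero_comp, zero_comp])
  obtain ⟨w, hw⟩ := exists_desc f (t₀ - e ≫ S.f) (by
    rw [Preadditive.comp_sub, ← Category.assoc _ e, he, hS.exact.lift_f, sub_self])
  have := epi_ε f
  refine ⟨w, (cancel_epi ((fr J).map (bs f 0))).1 ?_⟩
  rw [← Category.assoc, hw, Preadditive.sub_comp, Category.assoc e, S.zero, comp_zero, sub_zero, hg]

theorem CechAcyclic.quot {S : ShortComplex (Sheaf J AddCommGrpCat.{u})} (hS : S.ShortExact)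
    (h₁ : CechAcyclic S.X₁) (h₂ : CechAcyclic S.X₂) : CechAcyclic S.X₃ := fun K' K f hf n z hz => by
  have := hS.mono_f
  obtain ⟨y, rfl⟩ := h₁.exists_lift hS z
  obtain ⟨e, he⟩ := h₁ f hf (n+1) (hS.exact.lift (d f (n+1) ≫ y) (by rw [Category.assoc, hz])) (by
    rw [← cancel_mono S.f, Category.assoc, hS.exact.lift_f, ← Category.assoc, d_comp_d, zero_comp, zero_comp])
  obtain ⟨w, hw⟩ := h₂ f hf n (y - e ≫ S.f) (by
    rw [Preadditive.comp_sub, ← Category.assoc _ e, he, hS.exact.lift_f, sub_self])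
  exact ⟨w ≫ S.g, by rw [← Category.assoc, hw, Preadditive.sub_comp, Category.assoc, S.zero, comp_zero, sub_zero]⟩

theorem CechAcyclic.isTotallyAcyclic {F : Sheaf J AddCommGrpCat.{u}} (h : CechAcyclic F) :
    CohCx.IsTotallyAcyclic F := fun K p => by
  change Subsingleton (Ext ((fr J).obj K) F (p+1))
  induction p generalizing F with
  | zero =>
    refine subsingleton_of_forall_eq 0 fun x => ?_
    obtain ⟨y, rfl⟩ := Ext.covariant_sequence_exact₁ _ (hull_shortExact F) x (Ext.eq_zero_of_injective _) (zero_add 1)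
    obtain ⟨s, rfl⟩ := (Ext.mk₀_bijective _ _).2 y
    obtain ⟨t, rfl⟩ := h.exists_lift (hull_shortExact F) s
    rw [← Ext.mk₀_comp_mk₀]
    refine (Ext.comp_assoc_of_second_deg_zero _ _ _ _).trans ?_
    exact (congrArg (fun r => (Ext.mk₀ t).comp r (zero_add 1)) (hull_shortExact F).comp_extClass).trans (Ext.comp_zero _ _ _ _ _)
  | succ p ih =>
    refine subsingleton_of_forall_eq 0 fun x => ?_
    obtain ⟨y, rfl⟩ := Ext.covariant_sequence_exact₁ _ (hull_shortExact F) x (Ext.eq_zero_of_injective _) (n₀ := p + 1) rfl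
    have := ih (h.quot (hull_shortExact F) (cechAcyclic_injective (hull F).X₂))
    rw [Subsingleton.elim (α := Ext ((fr J).obj K) (hull F).X₃ (p+1)) y 0, Ext.zero_comp]

theorem exists_lift_hull {F : Sheaf J AddCommGrpCat.{u}} (hF : CohCx.IsTotallyAcyclic F) {K : Sheaf J (Type u)}
    (s : (fr J).obj K ⟶ (hull F).X₃) : ∃ t, t ≫ (hull F).g = s := by
  obtain ⟨a, ha⟩ := exists_lift_of_totallyAcyclic (hull_shortExact F) hF K ((adj J).homEquiv _ _ s)
  refine ⟨((adj J).homEquiv _ _).symm a, ?_⟩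
  rw [← (adj J).homEquiv_naturality_right_symm, ha, Equiv.symm_apply_apply]

theorem isTotallyAcyclic_hull_quot {F : Sheaf J AddCommGrpCat.{u}} (hF : CohCx.IsTotallyAcyclic F) :
    CohCx.IsTotallyAcyclic (hull F).X₃ := fun K m => by
  have : Subsingleton (Ext ((fr J).obj K) (hull F).X₁ (m + 1 + 1)) := hF K (m+1)
  have hI := fun k => Ext.subsingleton_of_injective ((fr J).obj K) (hull F).X₂ k
  exact (extShift ((fr J).obj K) (hull_shortExact F) m).toEquiv.subsingleton

theorem cechAcyclic_of_isTotallyAcyclic {F : Sheaf J AddCommGrpCat.{u}} (hF : CohCx.IsTotallyAcyclic F) :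
    CechAcyclic F := fun K' K f hf n => by
  induction n generalizing F with
  | zero =>
    intro z hz
    have := (hull_shortExact F).mono_f
    obtain ⟨w, hw⟩ := cechAcyclic_injective (hull F).X₂ f hf 0 (z ≫ (hull F).f) (by rw [← Category.assoc, hz, zero_comp])
    obtain ⟨s, hs⟩ := exists_desc f (w ≫ (hull F).g) (by rw [← Category.assoc, hw, Category.assoc, (hull F).zero, comp_zero])
    obtain ⟨t, rfl⟩ := exists_lift_hull hF s
    refine ⟨(hull_shortExact F).exact.lift (w - (fr J).map (bs f 0) ≫ t)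
      (by rw [Preadditive.sub_comp, Category.assoc, hs, sub_self]), ?_⟩
    rw [← cancel_mono (hull F).f, Category.assoc, ShortComplex.Exact.lift_f, Preadditive.comp_sub, hw,
      ← Category.assoc, d_comp_ε, zero_comp, sub_zero]
  | succ n ih =>
    intro z hz
    have := (hull_shortExact F).mono_f
    obtain ⟨w, hw⟩ := cechAcyclic_injective (hull F).X₂ f hf (n+1) (z ≫ (hull F).f) (by rw [← Category.assoc, hz, zero_comp])
    obtain ⟨v, hv⟩ := ih (isTotallyAcyclic_hull_quot hF) (w ≫ (hull F).g)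
      (by rw [← Category.assoc, hw, Category.assoc, (hull F).zero, comp_zero])
    obtain ⟨t, rfl⟩ := exists_lift_hull hF v
    refine ⟨(hull_shortExact F).exact.lift (w - d f n ≫ t)
      (by rw [Preadditive.sub_comp, Category.assoc, hv, sub_self]), ?_⟩
    rw [← cancel_mono (hull F).f, Category.assoc, ShortComplex.Exact.lift_f, Preadditive.comp_sub, hw,
      ← Category.assoc, d_comp_d, zero_comp, sub_zero]

theorem isTotallyAcyclic_pi {T : Type u} (F : T → Sheaf J AddCommGrpCat.{u}) (hF : ∀ t, CohCx.IsTotallyAcyclic (F t)) :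
    CohCx.IsTotallyAcyclic (∏ᶜ F) :=
  CechAcyclic.isTotallyAcyclic fun K' K f hf n z hz => by
    choose w hw using fun t => cechAcyclic_of_isTotallyAcyclic (hF t) f hf n (z ≫ Pi.π F t)
      (by rw [← Category.assoc, hz, zero_comp])
    exact ⟨Pi.lift w, Limits.Pi.hom_ext _ _ fun t => by rw [Category.assoc, Pi.lift_π]; exact hw t⟩

theorem surjective_restrict {F : Sheaf J AddCommGrpCat.{u}} (hF : CohCx.IsTotallyAcyclic F)
    {Y X : Sheaf J (Type u)} (ι : Y ⟶ X) [Mono ι] (a : (fr J).obj Y ⟶ F) :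
    ∃ b : (fr J).obj X ⟶ F, (fr J).map ι ≫ b = a := by
  have hp : ∀ V, Mono (((sheafToPresheaf J (Type u)).map ι).app V) := fun V => inferInstance
  have : ∀ V, Mono ((Functor.whiskerRight ι.hom AddCommGrpCat.free.{u}).app V) := fun V => by
    have := hp V
    exact inferInstanceAs (Mono (AddCommGrpCat.free.map (((sheafToPresheaf J (Type u)).map ι).app V)))
  have : Mono (Functor.whiskerRight ι.hom AddCommGrpCat.free.{u}) := NatTrans.mono_of_mono_app _
  have : Mono ((fr J).map ι) := (presheafToSheaf J AddCommGrpCat.{u}).map_mono _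
  have := (hull_shortExact F).mono_f
  let t := Injective.factorThru (a ≫ (hull F).f) ((fr J).map ι)
  have hι : (fr J).map ι ≫ t = a ≫ (hull F).f := Injective.comp_factorThru _ _
  let e := (adj J).homEquiv
  have h0 : ι ≫ e X _ (t ≫ (hull F).g) = ι ≫ e X _ 0 := by
    rw [← (adj J).homEquiv_naturality_left, ← (adj J).homEquiv_naturality_left, ← Category.assoc, hι,
      Category.assoc, (hull F).zero, comp_zero, comp_zero]
  obtain ⟨v, hv⟩ := exists_lift_of_totallyAcyclic (hull_shortExact F) hF (pushout ι ι) (pushout.desc _ _ h0)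
  let u₁ := (e X _).symm (pushout.inl _ _ ≫ v)
  let u₂ := (e X _).symm (pushout.inr _ _ ≫ v)
  have h1 : u₁ ≫ (hull F).g = t ≫ (hull F).g := by
    rw [← (adj J).homEquiv_naturality_right_symm, Category.assoc, hv, pushout.inl_desc, Equiv.symm_apply_apply]
  have h2 : u₂ ≫ (hull F).g = 0 := by
    rw [← (adj J).homEquiv_naturality_right_symm, Category.assoc, hv, pushout.inr_desc, Equiv.symm_apply_apply]
  have h3 : (fr J).map ι ≫ u₁ = (fr J).map ι ≫ u₂ := by
    rw [← (adj J).homEquiv_naturality_left_symm, ← (adj J).homEquiv_naturality_left_symm, ← Category.assoc,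
      pushout.condition, Category.assoc]
  refine ⟨(hull_shortExact F).exact.lift (t - (u₁ - u₂))
    (by rw [Preadditive.sub_comp, Preadditive.sub_comp, h1, h2, sub_zero, sub_self]), ?_⟩
  rw [← cancel_mono (hull F).f, Category.assoc, ShortComplex.Exact.lift_f, Preadditive.comp_sub,
    Preadditive.comp_sub, h3, sub_self, sub_zero, hι]

end Groth.L10.Nerve
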