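import Groth.Agent.L10.InjTA
import Groth.Agent.L10.AcycProd
import Groth.Agent.L10.SheafModGroth
import Groth.Agent.L10.TopCech

/-! Free sheaves of modules are acyclic for direct images. -/

universe u

open CategoryTheory CategoryTheory.Limits CategoryTheory.Abelian Opposite

set_option backward.defeqAttrib.useBackward true
set_option backward.isDefEq.respectTransparency false
namespace Groth.L10.ModAcyc

open Groth.L10 Groth.L10.SiteFr Groth.L00.ModSiteTensor Groth.L17.HomAcyclic

variable {C : Type u} [SmallCategory C] {J : GrothendieckTopology C} (O : Sheaf J CommRingCat.{u})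

instance : (SheafOfModules.toSheaf.{u} (ModSite.ringSh O)).Additive where

instance preservesFiniteLimits_toSheaf : PreservesFiniteLimits (SheafOfModules.toSheaf.{u} (ModSite.ringSh O)) :=
  have : PreservesFiniteLimits (SheafOfModules.forget (ModSite.ringSh O) ⋙ PresheafOfModules.toPresheaf (ModSite.ringSh O).obj) := inferInstance
  have : PreservesFiniteLimits (SheafOfModules.toSheaf.{u} (ModSite.ringSh O) ⋙ sheafToPresheaf J AddCommGrpCat.{u}) :=
    preservesFiniteLimits_of_natIso (SheafOfModules.toSheafCompSheafToPresheafIso (ModSite.ringSh O)).symm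
  preservesFiniteLimits_of_reflects_of_preserves (C := ModSite.Mod O) (SheafOfModules.toSheaf.{u} (ModSite.ringSh O)) (sheafToPresheaf J AddCommGrpCat.{u})

theorem epi_toSheaf {M N : ModSite.Mod O} (φ : M ⟶ N) [Epi φ] :
    Epi ((SheafOfModules.toSheaf.{u} (ModSite.ringSh O)).map φ) := by
  let S := PresheafOfModules.sheafification.{u} (𝟙 (ModSite.ringSh O).obj)
  let adj := PresheafOfModules.sheafificationAdjunction (𝟙 (ModSite.ringSh O).obj)
  let H := PresheafOfModules.toPresheaf (ModSite.ringSh O).obj ⋙ presheafToSheaf J AddCommGrpCat.{u}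
  let eH : S ⋙ SheafOfModules.toSheaf.{u} (ModSite.ringSh O) ≅ H :=
    PresheafOfModules.sheafificationCompToSheaf (𝟙 (ModSite.ringSh O).obj)
  let R' := SheafOfModules.forget (ModSite.ringSh O) ⋙ PresheafOfModules.restrictScalars (𝟙 (ModSite.ringSh O).obj)
  have : PreservesFiniteColimits S := by
    have := adj.leftAdjoint_preservesColimits
    infer_instance
  have hSφ : Epi (S.map (R'.map φ)) := by
    have h := adj.counit.naturality φ
    have : Epi (S.map (R'.map φ) ≫ adj.counit.app N) := by
      erw [h]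
      exact epi_comp _ _
    exact (epi_comp_iff_of_isIso _ (adj.counit.app N)).1 this
  have hc : IsZero (S.obj (cokernel (R'.map φ))) :=
    (isZero_cokernel_of_epi (S.map (R'.map φ))).of_iso (PreservesCokernel.iso S (R'.map φ))
  have : PreservesFiniteColimits H := comp_preservesFiniteColimits _ _
  have hc' : IsZero (cokernel (H.map (R'.map φ))) :=
    (((SheafOfModules.toSheaf.{u} (ModSite.ringSh O)).map_isZero hc).of_iso (eH.app _).symm).of_iso
      (PreservesCokernel.iso H (R'.map φ)).symm
  have hH : Epi (H.map (R'.map φ)) :=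
    Preadditive.epi_of_isZero_cokernel' _ (cokernelIsCokernel _) hc'
  have hST : Epi ((SheafOfModules.toSheaf.{u} (ModSite.ringSh O)).map (S.map (R'.map φ))) :=
    ((MorphismProperty.epimorphisms _).arrow_mk_iso_iff (Arrow.isoMk (eH.app _) (eH.app _) (eH.hom.naturality _).symm)).2 hH
  have h := congrArg (SheafOfModules.toSheaf.{u} (ModSite.ringSh O)).map (adj.counit.naturality φ)
  rw [Functor.map_comp, Functor.map_comp] at h
  have : Epi ((SheafOfModules.toSheaf.{u} (ModSite.ringSh O)).map (adj.counit.app M) ≫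
      (SheafOfModules.toSheaf.{u} (ModSite.ringSh O)).map φ) := by
    erw [← h]
    exact @epi_comp _ _ _ _ _ _ hST _ inferInstance
  exact epi_of_epi ((SheafOfModules.toSheaf.{u} (ModSite.ringSh O)).map (adj.counit.app M)) _

/-- `toSheaf` preserves short exact sequences. -/
theorem shortExact_toSheaf {S : ShortComplex (ModSite.Mod O)} (hS : S.ShortExact) :
    (S.map (SheafOfModules.toSheaf.{u} (ModSite.ringSh O))).ShortExact := by
  have := hS.mono_f
  have := hS.epi_g
  exact { exact := hS.exact.map_of_mono_of_preservesKernel _ inferInstance inferInstance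
          mono_f := inferInstanceAs (Mono ((SheafOfModules.toSheaf.{u} (ModSite.ringSh O)).map S.f))
          epi_g := epi_toSheaf O S.g }

/-- The free module on a sheaf of sets. -/
noncomputable abbrev free (X : Sheaf J (Type u)) : ModSite.Mod O := (shf O).obj ((freeMod O).obj X)

theorem homEquiv_comp (X : Sheaf J (Type u)) {M N : ModSite.Mod O} (z : (fr J).obj X ⟶ ModSite.toAb M) (φ : M ⟶ N) :
    InjTA.homEquiv O N X (z ≫ (SheafOfModules.toSheaf.{u} (ModSite.ringSh O)).map φ) = InjTA.homEquiv O M X z ≫ φ := by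
  refine Eq.trans ?_ ((shfAdj O).homEquiv_naturality_right_symm (freeFun O z) φ)
  refine congrArg ((shfAdj O).homEquiv _ _).symm ?_
  change freeFun O (z ≫ (SheafOfModules.toSheaf.{u} (ModSite.ringSh O)).map φ) = _
  rw [freeFun]
  erw [(adj J).homEquiv_naturality_right]
  have h := (PresheafOfModules.freeAdjunction (O.obj ⋙ forget₂ CommRingCat RingCat)).homEquiv_naturality_right_symm
    ((adj J).homEquiv X _ z).hom ((preF O).map φ)
  rw [PresheafOfModules.freeAdjunction_homEquiv, PresheafOfModules.freeAdjunction_homEquiv] at h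
  exact h

variable [HasExt.{u + 1} (ModSite.Mod O)] [EnoughInjectives (ModSite.Mod O)]

theorem subsingleton_ext_free (X : Sheaf J (Type u)) (M : ModSite.Mod O)
    (hM : CohCx.IsTotallyAcyclic (ModSite.toAb M)) (q : ℕ) : Subsingleton (Ext.{u + 1} (free O X) M (q + 1)) := by
  obtain ⟨P⟩ := EnoughInjectives.presentation M
  let S : ShortComplex (ModSite.Mod O) := ShortComplex.mk P.f (cokernel.π P.f) (cokernel.condition _)
  have hS : S.ShortExact := ShortComplex.ShortExact.mk (S.exact_of_g_is_cokernel (cokernelIsCokernel _))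
  have : Injective S.X₂ := P.injective
  have hJ := InjTA.isTotallyAcyclic O S.X₂
  have hab := shortExact_toSheaf O hS
  induction q generalizing M with
  | zero =>
    refine subsingleton_of_forall_eq 0 fun x => ?_
    obtain ⟨y, rfl⟩ := Ext.covariant_sequence_exact₁ _ hS x (Ext.eq_zero_of_injective _) (zero_add 1)
    obtain ⟨s, rfl⟩ := (Ext.mk₀_bijective _ _).2 y
    obtain ⟨a, ha⟩ := SiteFr.exists_lift_of_totallyAcyclic hab hM X ((adj J).homEquiv _ _ ((InjTA.homEquiv O S.X₃ X).symm s))
    have hs : s = InjTA.homEquiv O S.X₂ X (((adj J).homEquiv _ _).symm a) ≫ S.g := by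
      rw [← homEquiv_comp]
      refine ((InjTA.homEquiv O S.X₃ X).apply_symm_apply s).symm.trans (congrArg _ ?_)
      refine (((adj J).homEquiv X _).symm_apply_apply _).symm.trans ?_
      exact (congrArg ((adj J).homEquiv X _).symm ha.symm).trans ((adj J).homEquiv_naturality_right_symm a _)
    rw [hs, ← Ext.mk₀_comp_mk₀]
    refine (Ext.comp_assoc_of_second_deg_zero _ _ _ _).trans ?_
    exact (congrArg (fun r => (Ext.mk₀ _).comp r (zero_add 1)) hS.comp_extClass).trans (Ext.comp_zero _ _ _ _ _)
  | succ q ih =>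
    refine subsingleton_of_forall_eq 0 fun x => ?_
    obtain ⟨y, rfl⟩ := Ext.covariant_sequence_exact₁ _ hS x (Ext.eq_zero_of_injective _) (n₀ := q + 1) rfl
    have hM' : CohCx.IsTotallyAcyclic (ModSite.toAb S.X₃) := fun K m => by
      refine subsingleton_of_forall_eq 0 fun z => ?_
      have : Subsingleton (Ext ((fr J).obj K) (S.map (SheafOfModules.toSheaf.{u} (ModSite.ringSh O))).X₁ (m + 1 + 1)) := hM K (m + 1)
      have : Subsingleton (Ext ((fr J).obj K) (S.map (SheafOfModules.toSheaf.{u} (ModSite.ringSh O))).X₂ (m + 1)) := hJ K m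
      obtain ⟨z', rfl⟩ := Ext.covariant_sequence_exact₃ ((fr J).obj K) hab z (n₁ := m + 1 + 1) rfl (Subsingleton.elim _ _)
      rw [Subsingleton.elim z' 0, Ext.zero_comp]
    obtain ⟨P'⟩ := EnoughInjectives.presentation S.X₃
    have hS' : (ShortComplex.mk P'.f (cokernel.π P'.f) (cokernel.condition _)).ShortExact :=
      ShortComplex.ShortExact.mk (ShortComplex.exact_of_g_is_cokernel _ (cokernelIsCokernel _))
    have := ih S.X₃ hM' P' hS' P'.injective (InjTA.isTotallyAcyclic O P'.J) (shortExact_toSheaf O hS')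
    rw [Subsingleton.elim (α := Ext.{u + 1} (free O X) S.X₃ (q+1)) y 0, Ext.zero_comp]

variable {D : Type u} [SmallCategory D] {K : GrothendieckTopology D} {O' : Sheaf K CommRingCat.{u}}

/-- Free modules are acyclic for any direct image. -/
theorem acyc_free (f : ModSite.RMor O' O) (X : Sheaf J (Type u)) :
    AcycObj.Acyc.{u + 1} f.push (free O X) := fun G _ q =>
  subsingleton_ext_free O X _ (InjTA.isTotallyAcyclic_push O' f G) q

omit [EnoughInjectives (ModSite.Mod O)] in
theorem enough (f : ModSite.RMor O' O) [EnoughInjectives (ModSite.Mod O)] (M : ModSite.Mod O) :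
    ∃ (Y : ModSite.Mod O) (p : Y ⟶ M), AcycObj.Acyc.{u + 1} f.push Y ∧ Epi p := by
  let X := (U J).obj (ModSite.toAb M)
  let c : (fr J).obj X ⟶ ModSite.toAb M := (adj J).counit.app _
  refine ⟨free O X, InjTA.homEquiv O M X c, acyc_free O f X, Preadditive.epi_of_cancel_zero _ fun {N} φ hφ => ?_⟩
  have h1 : c ≫ (SheafOfModules.toSheaf.{u} (ModSite.ringSh O)).map φ = 0 := by
    apply (InjTA.homEquiv O N X).injective
    rw [homEquiv_comp, hφ, map_zero]
  have : Epi c := inferInstanceAs (Epi ((adj J).counit.app (ModSite.toAb M)))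
  refine (SheafOfModules.toSheaf.{u} (ModSite.ringSh O)).map_injective ?_
  rw [Functor.map_zero, ← cancel_epi c, h1, comp_zero]

end Groth.L10.ModAcyc
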