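import Mathlib.Algebra.Homology.DerivedCategory.TStructure
import Mathlib.Algebra.Homology.DerivedCategory.FullyFaithful
import Mathlib.Algebra.Homology.DerivedCategory.HomologySequence
import Mathlib.CategoryTheory.Triangulated.TStructure.TruncLTGE

universe v u v' u' w w'
open CategoryTheory CategoryTheory.Limits CategoryTheory.Pretriangulated CategoryTheory.Triangulated

set_option backward.defeqAttrib.useBackward true
set_option backward.isDefEq.respectTransparency false
namespace Groth.L10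
open DerivedCategory

variable {A : Type u} [Category.{v} A] [Abelian A] [HasDerivedCategory.{w} A]

local notation "tt" => DerivedCategory.TStructure.t
local notation "H" => DerivedCategory.homologyFunctor A

noncomputable def hShiftIso (X : DerivedCategory A) (a n m : ℤ) (h : a + n = m) :
    (H n).obj (X⟦a⟧) ≅ (H m).obj X :=
  ((DerivedCategory.homologyFunctor A 0).shiftIso a n m h).app X

theorem hShiftIso_nat {X Y : DerivedCategory A} (f : X ⟶ Y) (a n m : ℤ) (h : a + n = m) :
    (H n).map (f⟦a⟧') ≫ (hShiftIso Y a n m h).hom = (hShiftIso X a n m h).hom ≫ (H m).map f :=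
  (((DerivedCategory.homologyFunctor A 0).shiftIso a n m h).hom.naturality f)

theorem isIso_H_mor₁ (T : Triangle (DerivedCategory A)) (hT : T ∈ distTriang _) (m : ℤ)
    (h₀ : IsZero ((H (m-1)).obj T.obj₃)) (h₁ : IsZero ((H m).obj T.obj₃)) :
    IsIso ((H m).map T.mor₁) :=
  have : Mono ((H m).map T.mor₁) :=
    (HomologySequence.mono_homologyMap_mor₁_iff T hT (m-1) m (by omega)).2 (h₀.eq_of_src _ _)
  have : Epi ((H m).map T.mor₁) :=
    (HomologySequence.epi_homologyMap_mor₁_iff T hT m).2 (h₁.eq_of_tgt _ _)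
  isIso_of_mono_of_epi _

theorem isIso_H_mor₂ (T : Triangle (DerivedCategory A)) (hT : T ∈ distTriang _) (m : ℤ)
    (h₀ : IsZero ((H m).obj T.obj₁)) (h₁ : IsZero ((H (m+1)).obj T.obj₁)) :
    IsIso ((H m).map T.mor₂) :=
  have : Mono ((H m).map T.mor₂) :=
    (HomologySequence.mono_homologyMap_mor₂_iff T hT m).2 (h₀.eq_of_src _ _)
  have : Epi ((H m).map T.mor₂) :=
    (HomologySequence.epi_homologyMap_mor₂_iff T hT m (m+1) rfl).2 (h₁.eq_of_tgt _ _)
  isIso_of_mono_of_epi _

theorem isZero_H_LT (n m : ℤ) (h : n ≤ m) (X : DerivedCategory A) :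
    IsZero ((H m).obj (((tt).truncLT n).obj X)) :=
  have : DerivedCategory.IsLE (((tt).truncLT n).obj X) (n - 1) := inferInstance
  DerivedCategory.isZero_of_isLE _ (n-1) m (by omega)

theorem isZero_H_GE (n m : ℤ) (h : m < n) (X : DerivedCategory A) :
    IsZero ((H m).obj (((tt).truncGE n).obj X)) :=
  have : DerivedCategory.IsGE (((tt).truncGE n).obj X) n := inferInstance
  DerivedCategory.isZero_of_isGE _ n m h

theorem isIso_H_ι (n m : ℤ) (h : m < n) (X : DerivedCategory A) :
    IsIso ((H m).map (((tt).truncLTι n).app X)) :=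
  isIso_H_mor₁ _ ((tt).triangleLTGE_distinguished n X) m (isZero_H_GE n (m-1) (by omega) X)
    (isZero_H_GE n m h X)

theorem isIso_H_π (n m : ℤ) (h : n ≤ m) (X : DerivedCategory A) :
    IsIso ((H m).map (((tt).truncGEπ n).app X)) :=
  isIso_H_mor₂ _ ((tt).triangleLTGE_distinguished n X) m (isZero_H_LT n m h X)
    (isZero_H_LT n (m+1) (by omega) X)

theorem exists_iso_single_H (X : DerivedCategory A) (n : ℤ) [X.IsGE n] [X.IsLE n] :
    Nonempty (X ≅ (singleFunctor A n).obj ((H n).obj X)) := by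
  obtain ⟨Y, ⟨e⟩⟩ := exists_iso_singleFunctor_obj_of_isGE_of_isLE X n
  exact ⟨e ≪≫ (singleFunctor A n).mapIso (((H n).mapIso e ≪≫
    (singleFunctorCompHomologyFunctorIso A n).app Y).symm)⟩

theorem eq_zero_of_H_eq_zero {Y Z : DerivedCategory A} (m : ℤ) [Y.IsLE m] [Z.IsGE m] (g : Y ⟶ Z)
    (hg : (H m).map g = 0) : g = 0 := by
  have hY := (tt).isGE_truncGE_obj Y m m
  let g₁ := (tt).descTruncGE g m
  have e₁ : (H m).map g₁ = 0 := by
    have := isIso_H_π m m le_rfl Y
    apply (cancel_epi ((H m).map (((tt).truncGEπ m).app Y))).1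
    rw [← Functor.map_comp, comp_zero, (tt).π_descTruncGE g m, hg]
  let g₂ := (tt).liftTruncLT g₁ m (m+1) rfl
  have e₂ : (H m).map g₂ = 0 := by
    have := isIso_H_ι (m+1) m (by omega) Z
    apply (cancel_mono ((H m).map (((tt).truncLTι (m+1)).app Z))).1
    rw [← Functor.map_comp, zero_comp, (tt).liftTruncLT_ι g₁ m (m+1) rfl, e₁]
  have z : g₂ = 0 := by
    let P := ((tt).truncGE m).obj Y
    let R := ((tt).truncLT (m+1)).obj Z
    have : DerivedCategory.IsGE P m := inferInstance
    have : DerivedCategory.IsLE P m := inferInstanceAs ((tt).IsLE (((tt).truncGE m).obj Y) m)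
    have : DerivedCategory.IsLE R m := inferInstance
    have : DerivedCategory.IsGE R m := by
      rw [DerivedCategory.isGE_iff]
      intro i hi
      have := isIso_H_ι (m+1) i (by omega) Z
      exact (DerivedCategory.isZero_of_isGE Z m i hi).of_iso (asIso ((H i).map (((tt).truncLTι (m+1)).app Z)))
    obtain ⟨p, ⟨eP⟩⟩ := exists_iso_singleFunctor_obj_of_isGE_of_isLE P m
    obtain ⟨r, ⟨eR⟩⟩ := exists_iso_singleFunctor_obj_of_isGE_of_isLE R m
    obtain ⟨k, hk⟩ := (singleFunctor A m).map_surjective (eP.inv ≫ g₂ ≫ eR.hom)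
    have h0 : k = 0 := by
      have hn := NatIso.naturality_1 (singleFunctorCompHomologyFunctorIso A m) k
      simp only [Functor.comp_map, Functor.id_map] at hn
      rw [← hn, hk, Functor.map_comp, Functor.map_comp, e₂]
      simp
    rw [h0, Functor.map_zero] at hk
    exact (cancel_epi eP.inv).1 ((cancel_mono eR.hom).1 (by
      rw [comp_zero, zero_comp, Category.assoc]; exact hk.symm))
  rw [← (tt).π_descTruncGE g m]
  change _ ≫ g₁ = 0
  rw [← (tt).liftTruncLT_ι g₁ m (m+1) rfl]
  change _ ≫ g₂ ≫ _ = 0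
  simp [z]

theorem s18550 (X : DerivedCategory A) (a : ℤ) (n : ℕ)
    (hX : ∀ i : ℤ, i < a ∨ a + n < i → IsZero ((H i).obj X))
    (f : CategoryTheory.End X) (hf : ∀ i : ℤ, (H i).map f = 0) : f ^ (n + 1) = 0 := by
  have : X.IsGE a := (DerivedCategory.isGE_iff X a).2 fun i hi => hX i (Or.inl hi)
  have hle : X.IsLE (a + n) := (DerivedCategory.isLE_iff X _).2 fun i hi => hX i (Or.inr hi)
  have key : ∀ k : ℕ, ∃ g, (f ^ k : CategoryTheory.End X) = g ≫ ((tt).truncLTι (a + n + 1 - k)).app X := by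
    intro k
    induction k with
    | zero =>
      have : IsIso (((tt).truncLTι (a + n + 1 - (0:ℕ))).app X) :=
        ((tt).isLE_iff_isIso_truncLTι_app (a+n) _ (by omega) X).1 hle
      exact ⟨inv (((tt).truncLTι (a + n + 1 - (0:ℕ))).app X), by simp [End.one_def]⟩
    | succ k ih =>
      obtain ⟨g, hg⟩ := ih
      let m : ℤ := a + n - k
      have e : a + n + 1 - (k:ℤ) = m + 1 := by omega
      have e' : a + n + 1 - ((k+1 : ℕ) : ℤ) = m := by omega
      rw [e'] 
      obtain ⟨h, hh⟩ := Triangle.coyoneda_exact₂ _ ((tt).triangleLTGE_distinguished m X)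
        (((tt).truncLTι (a + n + 1 - k)).app X ≫ f) (by
          have : DerivedCategory.IsLE (((tt).truncLT (a + n + 1 - k)).obj X) m :=
            (tt).isLE_truncLT_obj _ _ _ (by omega)
          have : DerivedCategory.IsGE (((tt).truncGE m).obj X) m := inferInstance
          refine eq_zero_of_H_eq_zero (Y := ((tt).truncLT (a + n + 1 - k)).obj X) (Z := ((tt).truncGE m).obj X) m _ ?_
          simp [hf])
      exact ⟨g ≫ h, by rw [pow_succ', End.mul_def, hg, Category.assoc, hh, Category.assoc]; rfl⟩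
  obtain ⟨g, hg⟩ := key (n+1)
  have : a + n + 1 - ((n+1 : ℕ) : ℤ) = a := by omega
  have hz : IsZero (((tt).truncLT (a + n + 1 - ((n+1 : ℕ) : ℤ))).obj X) := by
    rw [this]; exact (tt).isZero_truncLT_obj_of_isGE a X
  rw [hg, hz.eq_of_tgt g 0, zero_comp]

theorem s0989 (P : ObjectProperty A) [P.IsClosedUnderIsomorphisms] (h0 : ∃ Z : A, IsZero Z ∧ P Z)
    (hP : ∀ S : ComposableArrows A 4, S.Exact → P (S.obj 0) → P (S.obj 1) → P (S.obj 3) → P (S.obj 4) → P (S.obj 2)) :
    ObjectProperty.IsTriangulated (fun X : DerivedCategory A => ∀ n : ℤ, P ((H n).obj X)) ∧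
    ObjectProperty.IsStableUnderRetracts (fun X : DerivedCategory A => ∀ n : ℤ, P ((H n).obj X)) := by
  obtain ⟨Z, hZ, hPZ⟩ := h0
  have pz : ∀ W : A, IsZero W → P W := fun W hW => P.prop_of_iso (hZ.iso hW) hPZ
  have : ObjectProperty.IsClosedUnderIsomorphisms (fun X : DerivedCategory A => ∀ n : ℤ, P ((H n).obj X)) :=
    ⟨fun e h n => P.prop_of_iso ((H n).mapIso e) (h n)⟩
  have five : ∀ {X₀ X₁ X₂ X₃ X₄ : A} (a : X₀ ⟶ X₁) (b : X₁ ⟶ X₂) (c : X₂ ⟶ X₃) (d : X₃ ⟶ X₄)
      (ab : a ≫ b = 0) (bc : b ≫ c = 0) (cd : c ≫ d = 0),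
      (ShortComplex.mk _ _ ab).Exact → (ShortComplex.mk _ _ bc).Exact → (ShortComplex.mk _ _ cd).Exact →
      P X₀ → P X₁ → P X₃ → P X₄ → P X₂ := fun a b c d ab bc cd e1 e2 e3 p0 p1 p3 p4 =>
    hP (ComposableArrows.mk₄ a b c d)
      (ComposableArrows.exact_of_δ₀ (ComposableArrows.exact₂_mk _ ab e1)
        (ComposableArrows.exact_of_δ₀ (ComposableArrows.exact₂_mk _ bc e2)
          (ComposableArrows.exact₂_mk _ cd e3))) p0 p1 p3 p4
  refine ⟨{ exists_zero := ⟨_, Limits.isZero_zero _, fun n => pz _ ((H n).map_isZero (Limits.isZero_zero _))⟩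
            isStableUnderShiftBy := fun a => ⟨fun X hX n => P.prop_of_iso (hShiftIso X a n (a+n) rfl).symm (hX _)⟩
            toIsTriangulatedClosed₂ := .mk' fun T hT h1 h3 n => ?_ }, ⟨fun {X Y} r hY n => ?_⟩⟩
  · exact five (HomologySequence.δ T (n-1) n (by omega)) ((H n).map T.mor₁) ((H n).map T.mor₂)
      (HomologySequence.δ T n (n+1) rfl)
      (HomologySequence.δ_comp T hT _ _ _) (by rw [← Functor.map_comp, comp_distTriang_mor_zero₁₂ _ hT, Functor.map_zero]) (HomologySequence.comp_δ T hT _ _ _)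
      (HomologySequence.exact₁ T hT _ _ _) (HomologySequence.exact₂ T hT _) (HomologySequence.exact₃ T hT _ _ _)
      (h3 _) (h1 _) (h3 _) (h1 _)
  · let i := (H n).map r.i
    let p := (H n).map r.r
    have hip : i ≫ p = 𝟙 _ := by simp [i, p, ← Functor.map_comp]
    have w : i ≫ (𝟙 _ - p ≫ i) = 0 := by simp [Preadditive.comp_sub, reassoc_of% hip]
    have : Mono i := mono_of_mono_fac hip
    have ex : (ShortComplex.mk i (𝟙 _ - p ≫ i) w).Exact := by
      refine ShortComplex.exact_of_f_is_kernel _ (Fork.IsLimit.mk' _ fun s => ⟨s.ι ≫ p, ?_, fun {m} hm => ?_⟩)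
      · have hc := s.condition
        simp [Preadditive.comp_sub, sub_eq_zero] at hc
        dsimp; rw [Category.assoc]; exact hc.symm
      · rw [← cancel_mono i]
        have hc := s.condition
        simp [Preadditive.comp_sub, sub_eq_zero] at hc
        dsimp at hm ⊢
        rw [hm, Category.assoc]; exact hc
    exact five (0 : Z ⟶ Z) (0 : Z ⟶ _) i (𝟙 _ - p ≫ i) (by simp) (by simp) w
      (ShortComplex.exact_of_isZero_X₂ _ hZ) (by
        rw [ShortComplex.exact_iff_mono _ (by rfl)]; exact ‹Mono i›) ex hPZ hPZ (hY n) (hY n)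

theorem isIso_five {A : Type u'} [Category.{v'} A] [Preadditive A] [HasZeroObject A] [HasShift A ℤ]
    [∀ n : ℤ, (shiftFunctor A n).Additive] [Pretriangulated A]
    {B : Type u} [Category.{v} B] [Preadditive B] [HasZeroObject B] [HasShift B ℤ]
    [∀ n : ℤ, (shiftFunctor B n).Additive] [Pretriangulated B]
    (F G : A ⥤ B) [F.CommShift ℤ] [G.CommShift ℤ]
    [F.IsTriangulated] [G.IsTriangulated] (η : F ⟶ G) [NatTrans.CommShift η ℤ]
    (T : Triangle A) (hT : T ∈ distTriang A) (h₁ : IsIso (η.app T.obj₁)) (h₃ : IsIso (η.app T.obj₃)) :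
    IsIso (η.app T.obj₂) :=
  isIso₂_of_isIso₁₃ (T := F.mapTriangle.obj T) (T' := G.mapTriangle.obj T)
    { hom₁ := η.app _
      hom₂ := η.app _
      hom₃ := η.app _
      comm₁ := η.naturality _
      comm₂ := η.naturality _
      comm₃ := by
        dsimp
        rw [Category.assoc, NatTrans.shift_app_comm, ← NatTrans.naturality_assoc] }
    (F.map_distinguished _ hT) (G.map_distinguished _ hT) h₁ h₃

section wayout
variable {B : Type u'} [Category.{v'} B] [Abelian B] [HasDerivedCategory.{w'} B]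
    (P : ObjectProperty A) [P.IsClosedUnderIsomorphisms]
    (F G : DerivedCategory A ⥤ DerivedCategory B) [F.CommShift ℤ] [G.CommShift ℤ]
    [F.IsTriangulated] [G.IsTriangulated] (η : F ⟶ G) [NatTrans.CommShift η ℤ]
    (hη : ∀ X : A, P X → IsIso (η.app ((DerivedCategory.singleFunctor A 0).obj X)))
include hη

theorem isIso_app_single (Y : A) (k : ℤ) (hY : P Y) : IsIso (η.app ((singleFunctor A k).obj Y)) := by
  refine (NatTrans.isIso_app_iff_of_iso η (((DerivedCategory.singleFunctors A).shiftIso (-k) k 0 (by omega)).app Y)).1 ?_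
  dsimp
  rw [NatTrans.app_shift η (-k)]
  have : IsIso (η.app (((DerivedCategory.singleFunctors A).functor 0).obj Y)) := hη Y hY
  infer_instance

theorem isIso_app_range (a : ℤ) : ∀ (k : ℕ) (Y : DerivedCategory A), Y.IsGE a → Y.IsLE (a + k - 1) →
      (∀ i : ℤ, a ≤ i → i ≤ a + k - 1 → P ((H i).obj Y)) → IsIso (η.app Y) := by
  intro k
  induction k with
  | zero =>
    intro Y h1 h2 _
    have hz : IsZero Y := (tt).isZero Y (a + (0:ℕ) - 1) a (by omega)
    exact ⟨0, (F.map_isZero hz).eq_of_src _ _, (G.map_isZero hz).eq_of_src _ _⟩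
  | succ k ih =>
    intro Y h1 h2 hP'
    refine isIso_five F G η _ ((tt).triangleLTGE_distinguished (a + k) Y) (ih _ ?_ ?_ ?_) ?_
    · rw [DerivedCategory.isGE_iff]
      intro i hi
      have := isIso_H_ι (a+k) i (by omega) Y
      exact (DerivedCategory.isZero_of_isGE Y a i hi).of_iso (asIso ((H i).map (((tt).truncLTι (a+k)).app Y)))
    · exact (tt).isLE_truncLT_obj _ _ _ (by omega)
    · intro i hi hi'
      have := isIso_H_ι (a+k) i (by omega) Y
      exact P.prop_of_iso (asIso ((H i).map (((tt).truncLTι (a+k)).app Y))).symm (hP' i hi (by omega))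
    · change IsIso (η.app (((tt).truncGE (a + k)).obj Y))
      have : DerivedCategory.IsGE (((tt).truncGE (a + k)).obj Y) (a + k) := inferInstance
      have : DerivedCategory.IsLE (((tt).truncGE (a + k)).obj Y) (a + k) := by
        rw [DerivedCategory.isLE_iff]
        intro i hi
        have := isIso_H_π (a+k) i (by omega) Y
        exact (DerivedCategory.isZero_of_isLE Y (a + (k+1:ℕ) - 1) i (by omega)).of_iso
          (asIso ((H i).map (((tt).truncGEπ (a+k)).app Y))).symm
      obtain ⟨e⟩ := exists_iso_single_H (((tt).truncGE (a + k)).obj Y) (a + k)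
      refine (NatTrans.isIso_app_iff_of_iso η e).2 (isIso_app_single P F G η hη _ _ ?_)
      have := isIso_H_π (a+k) (a+k) le_rfl Y
      exact P.prop_of_iso (asIso ((H (a+k)).map (((tt).truncGEπ (a+k)).app Y))) (hP' _ (by omega) (by omega))

theorem s11149 (X : DerivedCategory A) (a b : ℤ) [X.IsGE a] [X.IsLE b]
    (hX : ∀ i : ℤ, P ((H i).obj X)) : IsIso (η.app X) :=
  isIso_app_range P F G η hη a (b - a + 1).toNat X inferInstance ((tt).isLE_of_le X b _ (by omega))
    (fun i _ _ => hX i)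

theorem s11150
    (hF : ∀ n₁ : ℤ, ∃ n₂ : ℤ, ∀ Y : DerivedCategory A, Y.IsGE n₂ → (F.obj Y).IsGE n₁)
    (hG : ∀ n₁ : ℤ, ∃ n₂ : ℤ, ∀ Y : DerivedCategory A, Y.IsGE n₂ → (G.obj Y).IsGE n₁)
    (X : DerivedCategory A) (a : ℤ) [X.IsGE a]
    (hX : ∀ i : ℤ, P ((H i).obj X)) : IsIso (η.app X) := by
  rw [DerivedCategory.isIso_iff]
  intro i
  obtain ⟨p, hp⟩ := hF (i+1)
  obtain ⟨q, hq⟩ := hG (i+1)
  let n := max (max p q) (a+1)
  have hge : DerivedCategory.IsGE (((tt).truncGE n).obj X) n := inferInstance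
  have hF0 := hp _ ((tt).isGE_of_ge (((tt).truncGE n).obj X) p n (by omega))
  have hG0 := hq _ ((tt).isGE_of_ge (((tt).truncGE n).obj X) q n (by omega))
  have iF : IsIso ((DerivedCategory.homologyFunctor B i).map (F.map (((tt).truncLTι n).app X))) :=
    isIso_H_mor₁ _ (F.map_distinguished _ ((tt).triangleLTGE_distinguished n X)) i
      (DerivedCategory.isZero_of_isGE (F.obj (((tt).truncGE n).obj X)) (i+1) (i-1) (by omega)) (DerivedCategory.isZero_of_isGE (F.obj (((tt).truncGE n).obj X)) (i+1) i (by omega))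
  have iG : IsIso ((DerivedCategory.homologyFunctor B i).map (G.map (((tt).truncLTι n).app X))) :=
    isIso_H_mor₁ _ (G.map_distinguished _ ((tt).triangleLTGE_distinguished n X)) i
      (DerivedCategory.isZero_of_isGE (G.obj (((tt).truncGE n).obj X)) (i+1) (i-1) (by omega)) (DerivedCategory.isZero_of_isGE (G.obj (((tt).truncGE n).obj X)) (i+1) i (by omega))
  have : DerivedCategory.IsGE (((tt).truncLT n).obj X) a := by
    rw [DerivedCategory.isGE_iff]
    intro j hj
    have := isIso_H_ι n j (by omega) X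
    exact (DerivedCategory.isZero_of_isGE X a j hj).of_iso (asIso ((H j).map (((tt).truncLTι n).app X)))
  have : DerivedCategory.IsLE (((tt).truncLT n).obj X) (n-1) := inferInstance
  have hb : IsIso (η.app (((tt).truncLT n).obj X)) := by
    refine isIso_app_range P F G η hη a (n - a).toNat _ inferInstance ((tt).isLE_of_le _ (n-1) _ (by omega)) (fun j h h' => ?_)
    have := isIso_H_ι n j (by omega) X
    exact P.prop_of_iso (asIso ((H j).map (((tt).truncLTι n).app X))).symm (hX j)
  have hn := congrArg (DerivedCategory.homologyFunctor B i).map (η.naturality (((tt).truncLTι n).app X))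
  rw [Functor.map_comp, Functor.map_comp] at hn
  exact IsIso.of_isIso_fac_left hn

theorem s11151 (hP : ∀ Z : A, IsZero Z → P Z)
    (hF : ∀ n₁ : ℤ, ∃ n₂ : ℤ, ∀ Y : DerivedCategory A, Y.IsGE n₂ → (F.obj Y).IsGE n₁)
    (hF' : ∀ n₁ : ℤ, ∃ n₂ : ℤ, ∀ Y : DerivedCategory A, Y.IsLE n₂ → (F.obj Y).IsLE n₁)
    (hG : ∀ n₁ : ℤ, ∃ n₂ : ℤ, ∀ Y : DerivedCategory A, Y.IsGE n₂ → (G.obj Y).IsGE n₁)
    (hG' : ∀ n₁ : ℤ, ∃ n₂ : ℤ, ∀ Y : DerivedCategory A, Y.IsLE n₂ → (G.obj Y).IsLE n₁)
    (X : DerivedCategory A) (hX : ∀ i : ℤ, P ((H i).obj X)) : IsIso (η.app X) := by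
  have pGE : ∀ (Y : DerivedCategory A), (∀ i : ℤ, P ((H i).obj Y)) → ∀ n i : ℤ, P ((H i).obj (((tt).truncGE n).obj Y)) :=
    fun Y hY n i => by
      by_cases h : n ≤ i
      · have := isIso_H_π n i h Y
        exact P.prop_of_iso (asIso ((H i).map (((tt).truncGEπ n).app Y))) (hY i)
      · exact hP _ (isZero_H_GE n i (by omega) Y)
  have pLT : ∀ (Y : DerivedCategory A), (∀ i : ℤ, P ((H i).obj Y)) → ∀ n i : ℤ, P ((H i).obj (((tt).truncLT n).obj Y)) :=
    fun Y hY n i => by
      by_cases h : i < n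
      · have := isIso_H_ι n i h Y
        exact P.prop_of_iso (asIso ((H i).map (((tt).truncLTι n).app Y))).symm (hY i)
      · exact hP _ (isZero_H_LT n i (by omega) Y)
  have above : ∀ (Y : DerivedCategory A) (b : ℤ), Y.IsLE b → (∀ i : ℤ, P ((H i).obj Y)) → IsIso (η.app Y) := by
    intro Y b hb hY
    rw [DerivedCategory.isIso_iff]
    intro i
    obtain ⟨p, hp⟩ := hF' (i-1)
    obtain ⟨q, hq⟩ := hG' (i-1)
    let n := min p q
    have hle : DerivedCategory.IsLE (((tt).truncLT n).obj Y) (n-1) := inferInstance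
    have hF0 := hp _ ((tt).isLE_of_le (((tt).truncLT n).obj Y) (n-1) p (by omega))
    have hG0 := hq _ ((tt).isLE_of_le (((tt).truncLT n).obj Y) (n-1) q (by omega))
    have iF : IsIso ((DerivedCategory.homologyFunctor B i).map (F.map (((tt).truncGEπ n).app Y))) :=
      isIso_H_mor₂ _ (F.map_distinguished _ ((tt).triangleLTGE_distinguished n Y)) i
        (DerivedCategory.isZero_of_isLE (F.obj (((tt).truncLT n).obj Y)) (i-1) i (by omega))
        (DerivedCategory.isZero_of_isLE (F.obj (((tt).truncLT n).obj Y)) (i-1) (i+1) (by omega))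
    have iG : IsIso ((DerivedCategory.homologyFunctor B i).map (G.map (((tt).truncGEπ n).app Y))) :=
      isIso_H_mor₂ _ (G.map_distinguished _ ((tt).triangleLTGE_distinguished n Y)) i
        (DerivedCategory.isZero_of_isLE (G.obj (((tt).truncLT n).obj Y)) (i-1) i (by omega))
        (DerivedCategory.isZero_of_isLE (G.obj (((tt).truncLT n).obj Y)) (i-1) (i+1) (by omega))
    have hge : DerivedCategory.IsGE (((tt).truncGE n).obj Y) n := inferInstance
    have hb' : DerivedCategory.IsLE (((tt).truncGE n).obj Y) b := inferInstanceAs ((tt).IsLE (((tt).truncGE n).obj Y) b)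
    have hb2 : IsIso (η.app (((tt).truncGE n).obj Y)) := s11149 P F G η hη _ n b (pGE Y hY n)
    have hn := congrArg (DerivedCategory.homologyFunctor B i).map (η.naturality (((tt).truncGEπ n).app Y))
    rw [Functor.map_comp, Functor.map_comp] at hn
    exact IsIso.of_isIso_fac_right hn.symm
  refine isIso_five F G η _ ((tt).triangleLTGE_distinguished 0 X)
    (above (((tt).truncLT 0).obj X) (-1) ((tt).isLE_truncLT_obj _ _ _ (by omega)) (pLT X hX 0)) ?_
  have : DerivedCategory.IsGE (((tt).truncGE 0).obj X) 0 := inferInstance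
  exact s11150 P F G η hη hF hG _ 0 (pGE X hX 0)

end wayout
end Groth.L10
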