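import Groth.Agent.L10.LocalDetect
import Groth.Agent.L10.DerTrunc
import Groth.Prelude.Def_CohCx
import Mathlib.Algebra.Homology.DerivedCategory.Ext.Basic

/-! Derived limits of towers which stabilise on test objects; objects are derived limits of their truncations
under local bounds on cohomological dimension. -/

universe t w v u

open CategoryTheory CategoryTheory.Limits CategoryTheory.Pretriangulated

set_option backward.defeqAttrib.useBackward true
set_option backward.isDefEq.respectTransparency false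
namespace Groth.L10.TowerStab

section Tower

variable {T : Type u} [Category.{v} T] [Preadditive T] [HasZeroObject T] [HasShift T ℤ]
  [∀ n : ℤ, (shiftFunctor T n).Additive] [Pretriangulated T]
  {K : ℕ → T} {t : ∀ n, K (n + 1) ⟶ K n} [HasProduct K] {L : T} {a : ∀ n, L ⟶ K n}

theorem rlim_w (hL : CohCx.IsRlimVia K t L a) (n : ℕ) : a (n + 1) ≫ t n = a n := by
  obtain ⟨c, hT⟩ := hL
  have h0 : Pi.lift a ≫ (Pi.lift fun n => Pi.π K n - Pi.π K (n + 1) ≫ t n) = 0 := comp_distTriang_mor_zero₁₂ _ hT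
  have := congrArg (· ≫ Pi.π K n) h0
  simp only [Category.assoc, Pi.lift_π, Preadditive.comp_sub, zero_comp, Pi.lift_π_assoc] at this
  exact (sub_eq_zero.1 this).symm

omit [HasZeroObject T] [HasShift T ℤ] [∀ n : ℤ, (shiftFunctor T n).Additive] [Pretriangulated T] [HasProduct K] in
theorem exists_sub_solution (W : T) (N : ℕ) (hs : ∀ n, N ≤ n → Function.Surjective (fun x : W ⟶ K (n + 1) => x ≫ t n))
    (c : ∀ n, W ⟶ K n) : ∃ b : ∀ n, W ⟶ K n, ∀ n, b n - b (n + 1) ≫ t n = c n := by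
  choose pre hpre using hs
  let up : ∀ k, W ⟶ K (N + k) := fun k => Nat.rec (motive := fun k => W ⟶ K (N + k)) 0
    (fun k prev => pre (N + k) (by omega) (prev - c (N + k))) k
  have hup : ∀ k, up k - up (k + 1) ≫ t (N + k) = c (N + k) := fun k => by
    have : up (k + 1) ≫ t (N + k) = up k - c (N + k) := hpre (N + k) (by omega) (up k - c (N + k))
    rw [this, sub_sub_cancel]
  have down : ∀ d n, n + d = N → ∃ b : ∀ m, n ≤ m → (W ⟶ K m),
      ∀ m (hm : n ≤ m), b m hm - b (m + 1) (by omega) ≫ t m = c m := by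
    intro d
    induction d with
    | zero =>
      intro n hn
      obtain rfl : n = N := by omega
      refine ⟨fun m hm => up (m - n) ≫ eqToHom (by rw [Nat.add_sub_cancel' hm]), fun m hm => ?_⟩
      obtain ⟨k, rfl⟩ := Nat.exists_eq_add_of_le hm
      have h1 : ∀ (j j' : ℕ) (e : j = j') (h : K (n + j) = K (n + j')), up j ≫ eqToHom h = up j' := by
        rintro j _ rfl h
        simp
      change up (n + k - n) ≫ eqToHom _ - (up (n + k + 1 - n) ≫ eqToHom _) ≫ t (n + k) = c (n + k)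
      rw [← hup k]
      congr 1
      · have : n + k - n = k := by omega
        exact h1 _ _ this _
      · congr 1
        have : n + k + 1 - n = k + 1 := by omega
        exact h1 _ _ this _
    | succ d ih =>
      intro n hn
      obtain ⟨b, hb⟩ := ih (n + 1) (by omega)
      refine ⟨fun m hm => if h : n + 1 ≤ m then b m h else
        (c n + b (n + 1) le_rfl ≫ t n) ≫ eqToHom (by rw [show n = m by omega]), fun m hm => ?_⟩
      by_cases h : n + 1 ≤ m
      · simp only [h, show n + 1 ≤ m + 1 by omega, dite_true]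
        exact hb m h
      · obtain rfl : n = m := by omega
        simp
  obtain ⟨b, hb⟩ := down N 0 (by omega)
  exact ⟨fun n => b n (Nat.zero_le n), fun n => hb n _⟩

/-- If the tower stabilises on `W` (and on `W⟦1⟧`) then `Hom(W, L)` is the stable value. -/
theorem bijective_rlim (hL : CohCx.IsRlimVia K t L a) (W : T) (N : ℕ)
    (hb : ∀ n, N ≤ n → Function.Bijective (fun x : W ⟶ K (n + 1) => x ≫ t n))
    (hs : ∀ n, N ≤ n → Function.Surjective (fun x : W⟦(1 : ℤ)⟧ ⟶ K (n + 1) => x ≫ t n)) :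
    Function.Bijective (fun x : W ⟶ L => x ≫ a N) := by
  have hw := rlim_w hL
  obtain ⟨c, hT⟩ := hL
  refine ⟨fun x x' hx => ?_, fun y => ?_⟩
  · rw [← sub_eq_zero]
    have hall : ∀ n, (x - x') ≫ a n = 0 := by
      have hN : (x - x') ≫ a N = 0 := by rw [Preadditive.sub_comp, sub_eq_zero]; exact hx
      have hup : ∀ k, (x - x') ≫ a (N + k) = 0 := fun k => by
        induction k with
        | zero => exact hN
        | succ k ih =>
          refine (hb (N + k) (by omega)).injective ?_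
          change ((x - x') ≫ a (N + k + 1)) ≫ t (N + k) = 0 ≫ t (N + k)
          rw [Category.assoc, hw, ih, zero_comp]
      have hdown : ∀ d n, N ≤ n + d → (x - x') ≫ a n = 0 := fun d => by
        induction d with
        | zero =>
          intro n hn
          obtain ⟨k, rfl⟩ := Nat.exists_eq_add_of_le (show N ≤ n by omega)
          exact hup k
        | succ d ih =>
          intro n hn
          rw [← hw n, ← Category.assoc, ih (n + 1) (by omega), zero_comp]
      exact fun n => hdown N n (by omega)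
    have hz : (x - x') ≫ Pi.lift a = 0 := Pi.hom_ext _ _ fun n => by rw [Category.assoc, Pi.lift_π, zero_comp, hall n]
    have h1 : (x - x')⟦(1 : ℤ)⟧' ≫ (Triangle.mk (Pi.lift a) (Pi.lift fun n => Pi.π K n - Pi.π K (n + 1) ≫ t n) c).rotate.rotate.mor₂ = 0 := by
      change (x - x')⟦(1 : ℤ)⟧' ≫ (-(Pi.lift a)⟦(1 : ℤ)⟧') = 0
      rw [Preadditive.comp_neg, ← Functor.map_comp, hz, Functor.map_zero, neg_zero]
    obtain ⟨η, hη⟩ := Triangle.coyoneda_exact₂ _ (rot_of_distTriang _ (rot_of_distTriang _ hT)) _ h1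
    obtain ⟨b, hb'⟩ := exists_sub_solution (W⟦(1 : ℤ)⟧) N hs (fun n => η ≫ Pi.π K n)
    have hη' : η = Pi.lift b ≫ Pi.lift fun n => Pi.π K n - Pi.π K (n + 1) ≫ t n :=
      Pi.hom_ext _ _ fun n => by
        simp only [Category.assoc, Pi.lift_π, Preadditive.comp_sub, Pi.lift_π_assoc]
        exact (hb' n).symm
    refine (shiftFunctor T (1 : ℤ)).map_injective ?_
    rw [Functor.map_zero, hη, hη']
    exact (Category.assoc _ _ _).trans ((congrArg (Pi.lift b ≫ ·) (comp_distTriang_mor_zero₂₃ _ hT)).trans comp_zero)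
  · choose pre hpre using fun n (hn : N ≤ n) => (hb n hn).surjective
    let up : ∀ k, W ⟶ K (N + k) := fun k => Nat.rec (motive := fun k => W ⟶ K (N + k)) y
      (fun k prev => pre (N + k) (by omega) prev) k
    have down : ∀ d n, n + d = N → ∃ b : ∀ m, n ≤ m → (W ⟶ K m), (∀ h, b N h = y) ∧
        ∀ m (hm : n ≤ m), b (m + 1) (by omega) ≫ t m = b m hm := by
      intro d
      induction d with
      | zero =>
        intro n hn
        obtain rfl : n = N := by omega
        refine ⟨fun m hm => up (m - n) ≫ eqToHom (by rw [Nat.add_sub_cancel' hm]), fun h => ?_, fun m hm => ?_⟩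
        · have h1 : ∀ (j : ℕ) (e : j = 0) (h : K (n + j) = K n), up j ≫ eqToHom h = y := by
            rintro _ rfl h
            simp [up]
          exact h1 _ (Nat.sub_self n) _
        · obtain ⟨k, rfl⟩ := Nat.exists_eq_add_of_le hm
          have h1 : ∀ (j j' : ℕ) (e : j = j') (h : K (n + j) = K (n + j')), up j ≫ eqToHom h = up j' := by
            rintro j _ rfl h
            simp
          change (up (n + k + 1 - n) ≫ eqToHom _) ≫ t (n + k) = up (n + k - n) ≫ eqToHom _
          have e1 : n + k + 1 - n = k + 1 := by omega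
          have e2 : n + k - n = k := by omega
          refine (congrArg (· ≫ t (n + k)) (h1 _ _ e1 _)).trans (Eq.trans ?_ (h1 _ _ e2 _).symm)
          exact hpre (n + k) (by omega) (up k)
      | succ d ih =>
        intro n hn
        obtain ⟨b, hbN, hb⟩ := ih (n + 1) (by omega)
        refine ⟨fun m hm => if h : n + 1 ≤ m then b m h else
          (b (n + 1) le_rfl ≫ t n) ≫ eqToHom (by rw [show n = m by omega]), fun h => ?_, fun m hm => ?_⟩
        · simp only [show n + 1 ≤ N by omega, dite_true]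
          exact hbN _
        · by_cases h : n + 1 ≤ m
          · simp only [h, show n + 1 ≤ m + 1 by omega, dite_true]
            exact hb m h
          · obtain rfl : n = m := by omega
            simp
    obtain ⟨b, hbN, hb'⟩ := down N 0 (by omega)
    have hz : Pi.lift (fun n => b n (Nat.zero_le n)) ≫ (Pi.lift fun n => Pi.π K n - Pi.π K (n + 1) ≫ t n) = 0 :=
      Pi.hom_ext _ _ fun n => by
        simp only [Category.assoc, Pi.lift_π, Preadditive.comp_sub, Pi.lift_π_assoc, zero_comp]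
        rw [hb' n (Nat.zero_le n), sub_self]
    obtain ⟨x, hx⟩ := Triangle.coyoneda_exact₂ _ hT _ hz
    refine ⟨x, ?_⟩
    have h2 := congrArg (· ≫ Pi.π K N) hx.symm
    simp only [Triangle.mk_mor₁, Category.assoc, Pi.lift_π] at h2
    exact h2.trans (hbN _)

end Tower

open DerivedCategory

variable {C : Type u} [Category.{v} C] [Abelian C] [HasDerivedCategory.{w} C]

local notation "tt" => DerivedCategory.TStructure.t
local notation "S0" => singleFunctor C 0

/-- The transition maps of the tower of truncations. -/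
noncomputable abbrev tr (X : DerivedCategory C) (n : ℕ) :
    ((tt).truncGE (-((n + 1 : ℕ) : ℤ))).obj X ⟶ ((tt).truncGE (-(n : ℤ))).obj X :=
  ((tt).natTransTruncGEOfLE (-((n + 1 : ℕ) : ℤ)) (-(n : ℤ)) (by omega)).app X

/-- `Q` does not see the objects `M[m]` for `m > d`. -/
def Small (d : ℕ) (Q M : C) : Prop := ∀ m : ℤ, (d : ℤ) < m → ∀ g : (S0).obj Q ⟶ ((S0).obj M)⟦m⟧, g = 0

theorem small_single {d : ℕ} {Q M : C} (h : Small d Q M) (p k : ℤ) (hk : (d : ℤ) + p + k < 0)
    (g : ((S0).obj Q)⟦k⟧ ⟶ (singleFunctor C p).obj M) : g = 0 := by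
  let e₁ : (singleFunctor C p).obj M ≅ ((S0).obj M)⟦(-p)⟧ :=
    ((singleFunctors C).shiftIso (-p) p 0 (by omega)).symm.app M
  let e₂ : (((S0).obj Q)⟦k⟧)⟦(-k)⟧ ≅ (S0).obj Q := (shiftEquiv _ k).unitIso.symm.app _
  let e₃ : (((S0).obj M)⟦(-p)⟧)⟦(-k)⟧ ≅ ((S0).obj M)⟦(-p - k)⟧ :=
    ((shiftFunctorAdd' _ (-p) (-k) (-p - k) (by omega)).app _).symm
  have h0 := h (-p - k) (by omega) (e₂.inv ≫ (g ≫ e₁.hom)⟦(-k)⟧' ≫ e₃.hom)
  rw [← cancel_mono e₁.hom, zero_comp]
  refine (shiftFunctor _ (-k)).map_injective ?_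
  rw [Functor.map_zero, ← cancel_epi e₂.inv, ← cancel_mono e₃.hom, Category.assoc, h0, comp_zero, zero_comp]

/-- Truncation transition maps are bijective on test objects in the stable range. -/
theorem bijective_tr {d : ℕ} {Q : C} (X : DerivedCategory C)
    (h : ∀ i, Small d Q ((homologyFunctor C i).obj X)) (k : ℤ) (n : ℕ) (hn : (d : ℤ) + k < n) :
    Function.Bijective (fun x : ((S0).obj Q)⟦k⟧ ⟶ ((tt).truncGE (-((n + 1 : ℕ) : ℤ))).obj X => x ≫ tr X n) := by
  let a : ℤ := -((n + 1 : ℕ) : ℤ)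
  let Y := ((tt).truncGE a).obj X
  let F := ((tt).truncLT (-(n : ℤ))).obj Y
  have hsq : ((tt).truncGEπ a).app X ≫ ((tt).truncGEπ (-(n : ℤ))).app Y =
      ((tt).truncGEπ (-(n : ℤ))).app X ≫ ((tt).truncGE (-(n : ℤ))).map (((tt).truncGEπ a).app X) :=
    ((tt).truncGEπ (-(n : ℤ))).naturality _
  have hφ : tr X n ≫ ((tt).truncGE (-(n : ℤ))).map (((tt).truncGEπ a).app X) = ((tt).truncGEπ (-(n : ℤ))).app Y := by
    have : (tt).IsGE (((tt).truncGE (-(n : ℤ))).obj Y) a := (tt).isGE_of_ge _ a (-(n : ℤ)) (by simp only [a]; omega)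
    refine (tt).from_truncGE_obj_ext ?_
    rw [← Category.assoc, (tt).π_natTransTruncGEOfLE_app]
    exact hsq.symm
  have : IsIso (((tt).truncGE (-(n : ℤ))).map (((tt).truncGEπ a).app X)) := by
    rw [DerivedCategory.isIso_iff]
    intro i
    by_cases hi : -(n : ℤ) ≤ i
    · have := isIso_H_π (-(n : ℤ)) i hi X
      have := isIso_H_π (-(n : ℤ)) i hi Y
      have := isIso_H_π a i (by simp only [a]; omega) X
      have h1 := congrArg (homologyFunctor C i).map hsq
      rw [Functor.map_comp, Functor.map_comp] at h1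
      refine @IsIso.of_isIso_comp_left _ _ _ _ _ ((homologyFunctor C i).map (((tt).truncGEπ (-(n : ℤ))).app X)) _ _ ?_
      rw [← h1]
      infer_instance
    · exact (isZero_H_GE (-(n : ℤ)) i (by omega) X).isIso (isZero_H_GE (-(n : ℤ)) i (by omega) Y) _
  have hFle : DerivedCategory.IsLE F a := (tt).isLE_truncLT_obj _ _ _ (by simp only [a]; omega)
  have hFge : DerivedCategory.IsGE F a := by
    rw [DerivedCategory.isGE_iff]
    intro i hi
    have := isIso_H_ι (-(n : ℤ)) i (by simp only [a] at hi; omega) Y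
    exact (isZero_H_GE a i hi X).of_iso (asIso ((homologyFunctor C i).map (((tt).truncLTι (-(n : ℤ))).app Y)))
  obtain ⟨e⟩ := exists_iso_single_H F a
  let eH : (homologyFunctor C a).obj F ≅ (homologyFunctor C a).obj X :=
    (@asIso _ _ _ _ _ (isIso_H_ι (-(n : ℤ)) a (by simp only [a]; omega) Y)) ≪≫
      (@asIso _ _ _ _ _ (isIso_H_π a a le_rfl X)).symm
  let e' : F ≅ (singleFunctor C a).obj ((homologyFunctor C a).obj X) := e ≪≫ (singleFunctor C a).mapIso eH
  have hF : ∀ g : ((S0).obj Q)⟦k⟧ ⟶ F, g = 0 := fun g => by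
    rw [← cancel_mono e'.hom, zero_comp]
    exact small_single (h a) a k (by simp only [a]; omega) _
  have hF1 : ∀ g : ((S0).obj Q)⟦k⟧ ⟶ F⟦(1 : ℤ)⟧, g = 0 := fun g => by
    let e₂ := (shiftFunctorAdd' (DerivedCategory C) k (-1) (k - 1) (by omega)).app ((S0).obj Q)
    let u := (shiftEquiv (DerivedCategory C) (1 : ℤ)).unitIso.symm.app F
    have h0 := small_single (h a) a (k - 1) (by simp only [a]; omega) (e₂.hom ≫ g⟦(-1 : ℤ)⟧' ≫ u.hom ≫ e'.hom)
    refine (shiftFunctor _ (-1 : ℤ)).map_injective ?_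
    rw [Functor.map_zero, ← cancel_epi e₂.hom, ← cancel_mono (u.hom ≫ e'.hom), Category.assoc, h0, comp_zero, zero_comp]
  have hT := (tt).triangleLTGE_distinguished (-(n : ℤ)) Y
  refine ⟨fun x x' hx => ?_, fun y => ?_⟩
  · rw [← sub_eq_zero]
    have h1 : (x - x') ≫ ((tt).truncGEπ (-(n : ℤ))).app Y = 0 := by
      have hx' : (x - x') ≫ tr X n = 0 := (Preadditive.sub_comp _ _ _).trans (sub_eq_zero.2 hx)
      rw [← hφ, ← Category.assoc, hx', zero_comp]
    obtain ⟨g, hg⟩ := Triangle.coyoneda_exact₂ _ hT _ h1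
    rw [hg, hF g, zero_comp]
  · obtain ⟨x, hx⟩ := Triangle.coyoneda_exact₃ _ hT
      (y ≫ ((tt).truncGE (-(n : ℤ))).map (((tt).truncGEπ a).app X)) (hF1 _)
    refine ⟨x, ?_⟩
    rw [← cancel_mono (((tt).truncGE (-(n : ℤ))).map (((tt).truncGEπ a).app X)), Category.assoc, hφ]
    exact hx.symm

end Groth.L10.TowerStab

namespace Groth.L10.TowerStab

open DerivedCategory

variable {C : Type u} [Category.{v} C] [Abelian C] [HasDerivedCategory.{w} C] [KInjDerived.EnoughKInjectives C]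

local notation "tt" => DerivedCategory.TStructure.t
local notation "S0" => singleFunctor C 0

/-- A tower stabilising on cohomology sheaves and, locally, on test objects computes the cohomology of its derived
limit. -/
theorem isIso_H_rlim {ι : Type t} (𝒞 : LocalDetect.Cover C ι) {K : ℕ → DerivedCategory C}
    {t : ∀ n, K (n + 1) ⟶ K n} [HasProduct K] {L : DerivedCategory C} {a : ∀ n, L ⟶ K n}
    (hL : CohCx.IsRlimVia K t L a) (j : ℤ) (n₀ : ℕ)
    (hst : ∀ n, n₀ ≤ n → IsIso ((homologyFunctor C j).map (t n)))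
    (hgood : ∀ i, ∃ N : ℕ, ∀ Q, 𝒞.good i Q → ∀ n, N ≤ n →
      Function.Bijective (fun x : ((S0).obj Q)⟦(-j)⟧ ⟶ K (n + 1) => x ≫ t n) ∧
      Function.Surjective (fun x : ((S0).obj Q)⟦(-j + 1)⟧ ⟶ K (n + 1) => x ≫ t n)) :
    IsIso ((homologyFunctor C j).map (a n₀)) := by
  have htrans : ∀ m : ℕ, ∃ g : K (n₀ + m) ⟶ K n₀, a (n₀ + m) ≫ g = a n₀ ∧ IsIso ((homologyFunctor C j).map g) := fun m => by
    induction m with
    | zero => exact ⟨𝟙 _, Category.comp_id _, inferInstance⟩
    | succ m ih =>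
      obtain ⟨g, hg, hg'⟩ := ih
      have := hst (n₀ + m) (by omega)
      refine ⟨t (n₀ + m) ≫ g, ?_, ?_⟩
      · exact (Category.assoc _ _ _).symm.trans ((congrArg (· ≫ g) (rlim_w hL (n₀ + m))).trans hg)
      · rw [Functor.map_comp]
        infer_instance
  let adj := (shiftEquiv (DerivedCategory C) j).symm.toAdjunction
  have hkey : ∀ i, ∃ (m : ℕ), ∀ Q, 𝒞.good i Q →
      Function.Bijective (fun ξ : (S0).obj Q ⟶ L⟦j⟧ => ξ ≫ (a (n₀ + m))⟦j⟧') := fun i => by
    obtain ⟨N, hN⟩ := hgood i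
    refine ⟨N, fun Q hQ => ?_⟩
    have hb := bijective_rlim hL (((S0).obj Q)⟦(-j)⟧) (n₀ + N) (fun n hn => (hN Q hQ n (by omega)).1) (fun n hn x => by
      let e := (shiftFunctorAdd' (DerivedCategory C) (-j) 1 (-j + 1) rfl).app ((S0).obj Q)
      obtain ⟨y, hy⟩ := (hN Q hQ n (by omega)).2 (e.hom ≫ x)
      exact ⟨e.inv ≫ y, (Category.assoc _ _ _).trans ((congrArg (e.inv ≫ ·) hy).trans (Iso.inv_hom_id_assoc _ _))⟩)
    have hc : (fun ξ : (S0).obj Q ⟶ L⟦j⟧ => ξ ≫ (a (n₀ + N))⟦j⟧') =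
        (adj.homEquiv _ _) ∘ (fun x => x ≫ a (n₀ + N)) ∘ (adj.homEquiv _ _).symm := by
      funext ξ
      simp only [Function.comp_apply]
      exact ((adj.homEquiv_naturality_right ((adj.homEquiv _ _).symm ξ) (a (n₀ + N))).trans (congrArg (fun z => z ≫ (a (n₀ + N))⟦j⟧') ((adj.homEquiv _ _).apply_symm_apply ξ))).symm
    rw [hc]
    exact (adj.homEquiv _ _).bijective.comp (hb.comp (adj.homEquiv _ _).symm.bijective)
  have hfac : ∀ m, ∃ g : (K (n₀ + m))⟦j⟧ ⟶ (K n₀)⟦j⟧, (a (n₀ + m))⟦j⟧' ≫ g = (a n₀)⟦j⟧' ∧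
      IsIso ((homologyFunctor C 0).map g) := fun m => by
    obtain ⟨g, hg, hg'⟩ := htrans m
    refine ⟨g⟦j⟧', by rw [← Functor.map_comp, hg], ?_⟩
    exact ((MorphismProperty.isomorphisms C).arrow_mk_iso_iff (Arrow.isoMk (hShiftIso _ j 0 j (by omega))
      (hShiftIso _ j 0 j (by omega)) (hShiftIso_nat g j 0 j (by omega)).symm)).2 hg'
  have : Mono ((homologyFunctor C 0).map ((a n₀)⟦j⟧')) := LocalDetect.mono_H0 𝒞 _ fun i => by
    obtain ⟨m, hm⟩ := hkey i
    obtain ⟨g, hg, hg'⟩ := hfac m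
    exact ⟨_, _, g, hg, hg', fun Q hQ ξ hξ => (hm Q hQ).injective (hξ.trans zero_comp.symm)⟩
  have : Epi ((homologyFunctor C 0).map ((a n₀)⟦j⟧')) := LocalDetect.epi_H0 𝒞 _ fun i => by
    obtain ⟨m, hm⟩ := hkey i
    obtain ⟨g, hg, hg'⟩ := hfac m
    exact ⟨_, _, g, hg, hg', fun Q hQ η => (hm Q hQ).surjective η⟩
  exact ((MorphismProperty.isomorphisms C).arrow_mk_iso_iff (Arrow.isoMk (hShiftIso _ j 0 j (by omega))
      (hShiftIso _ j 0 j (by omega)) (hShiftIso_nat (a n₀) j 0 j (by omega)).symm)).1 (isIso_of_mono_of_epi _)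

omit [KInjDerived.EnoughKInjectives C] in
theorem isIso_H_tr (X : DerivedCategory C) (j : ℤ) (n : ℕ) (hj : -(n : ℤ) ≤ j) :
    IsIso ((homologyFunctor C j).map (tr X n)) := by
  have := isIso_H_π (-((n + 1 : ℕ) : ℤ)) j (by omega) X
  have := isIso_H_π (-(n : ℤ)) j hj X
  have h := congrArg (homologyFunctor C j).map ((tt).π_natTransTruncGEOfLE_app (-((n + 1 : ℕ) : ℤ)) (-(n : ℤ)) (by omega) X)
  rw [Functor.map_comp] at h
  have h' : IsIso ((homologyFunctor C j).map (((tt).truncGEπ (-((n + 1 : ℕ) : ℤ))).app X) ≫ (homologyFunctor C j).map (tr X n)) := by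
    rw [h]
    infer_instance
  exact IsIso.of_isIso_comp_left ((homologyFunctor C j).map (((tt).truncGEπ (-((n + 1 : ℕ) : ℤ))).app X)) _

/-- Local bounds on the cohomological dimension of test objects. -/
def LocBounded {ι : Type t} (𝒞 : LocalDetect.Cover C ι) (X : DerivedCategory C) : Prop :=
  ∀ i, ∃ d : ℕ, ∀ Q, 𝒞.good i Q → ∀ p : ℤ, Small d Q ((homologyFunctor C p).obj X)

theorem LocBounded.hgood {ι : Type t} {𝒞 : LocalDetect.Cover C ι} {X : DerivedCategory C} (h : LocBounded 𝒞 X) (j : ℤ) (i : ι) :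
    ∃ N : ℕ, ∀ Q, 𝒞.good i Q → ∀ n, N ≤ n →
      Function.Bijective (fun x : ((S0).obj Q)⟦(-j)⟧ ⟶ ((tt).truncGE (-((n + 1 : ℕ) : ℤ))).obj X => x ≫ tr X n) ∧
      Function.Surjective (fun x : ((S0).obj Q)⟦(-j + 1)⟧ ⟶ ((tt).truncGE (-((n + 1 : ℕ) : ℤ))).obj X => x ≫ tr X n) := by
  obtain ⟨d, hd⟩ := h i
  refine ⟨((d : ℤ) - j + 2).toNat, fun Q hQ n hn => ⟨bijective_tr X (hd Q hQ) _ n (by omega), ?_⟩⟩
  exact (bijective_tr X (hd Q hQ) _ n (by omega)).surjective

/-- Under local bounds, a derived limit of the truncations has the cohomology of the truncations. -/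
theorem isIso_H_rlim_trunc {ι : Type t} {𝒞 : LocalDetect.Cover C ι} {X : DerivedCategory C} (h : LocBounded 𝒞 X)
    [HasProduct fun n : ℕ => ((tt).truncGE (-(n : ℤ))).obj X] {L : DerivedCategory C}
    {a : ∀ n : ℕ, L ⟶ ((tt).truncGE (-(n : ℤ))).obj X} (hL : CohCx.IsRlimVia _ (tr X) L a)
    (j : ℤ) (n : ℕ) (hj : -(n : ℤ) ≤ j) : IsIso ((homologyFunctor C j).map (a n)) :=
  isIso_H_rlim 𝒞 hL j n (fun m hm => isIso_H_tr X j m (by omega)) (h.hgood j)

/-- Under local bounds, an object is the derived limit of its truncations. -/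
theorem isRlimVia_truncGE {ι : Type t} {𝒞 : LocalDetect.Cover C ι} {X : DerivedCategory C} (h : LocBounded 𝒞 X)
    [HasProduct fun n : ℕ => ((tt).truncGE (-(n : ℤ))).obj X] :
    CohCx.IsRlimVia _ (tr X) X (fun n => ((tt).truncGEπ (-(n : ℤ))).app X) := by
  let K := fun n : ℕ => ((tt).truncGE (-(n : ℤ))).obj X
  let Δ : ∏ᶜ K ⟶ ∏ᶜ K := Pi.lift fun n => Pi.π K n - Pi.π K (n + 1) ≫ tr X n
  obtain ⟨L, f, g, hT⟩ := distinguished_cocone_triangle₁ Δ
  have hf : Pi.lift (fun n => f ≫ Pi.π K n) = f := Pi.hom_ext _ _ fun n => by simp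
  have hL : CohCx.IsRlimVia K (tr X) L (fun n => f ≫ Pi.π K n) := ⟨g, by rw [hf]; exact hT⟩
  have hπ : Pi.lift (fun n : ℕ => ((tt).truncGEπ (-(n : ℤ))).app X) ≫ Δ = 0 := Pi.hom_ext _ _ fun n => by
    simp only [Δ, Category.assoc, Pi.lift_π, Preadditive.comp_sub, Pi.lift_π_assoc, zero_comp]
    erw [Pi.lift_π, Pi.lift_π_assoc]
    erw [(tt).π_natTransTruncGEOfLE_app]
    exact sub_self _
  obtain ⟨c, hc⟩ := Triangle.coyoneda_exact₂ _ hT _ hπ
  have : IsIso c := by
    rw [DerivedCategory.isIso_iff]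
    intro j
    let n := (-j).toNat
    have hj : -(n : ℤ) ≤ j := by omega
    have := isIso_H_π (-(n : ℤ)) j hj X
    have := isIso_H_rlim_trunc h hL j n hj
    have h1 : c ≫ f ≫ Pi.π K n = ((tt).truncGEπ (-(n : ℤ))).app X := by
      have := congrArg (· ≫ Pi.π K n) hc
      simp only [Category.assoc] at this
      exact this.symm.trans (Pi.lift_π _ _)
    have h2 : IsIso ((homologyFunctor C j).map c ≫ (homologyFunctor C j).map (f ≫ Pi.π K n)) := by
      rw [← Functor.map_comp, h1]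
      infer_instance
    exact IsIso.of_isIso_comp_right _ ((homologyFunctor C j).map (f ≫ Pi.π K n))
  refine ⟨g ≫ (inv c)⟦(1 : ℤ)⟧', isomorphic_distinguished _ hT _ (Triangle.isoMk _ _ (asIso c) (Iso.refl _) (Iso.refl _) ?_ ?_ ?_)⟩
  · simpa using hc
  · simp [Δ, K]
  · simp [← Functor.map_comp]

end Groth.L10.TowerStab
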