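import Groth.Agent.L10.ModAcyc
import Groth.Agent.L10.TowerStab

/-! Test objects on a ringed site: free modules on objects with bounded cohomological dimension. -/

universe u

open CategoryTheory CategoryTheory.Limits CategoryTheory.Abelian Opposite

set_option backward.defeqAttrib.useBackward true
set_option backward.isDefEq.respectTransparency false
namespace Groth.L10.SiteCover

open Groth.L10 Groth.L10.SiteFr Groth.L00.ModSiteTensor Groth.L17.HomAcyclic

variable {C : Type u} [SmallCategory C] {J : GrothendieckTopology C} (O : Sheaf J CommRingCat.{u})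

/-- The free module on an object. -/
noncomputable abbrev P (V : C) : ModSite.Mod O := ModAcyc.free O (rep J V)

/-- Morphisms out of the free module on an object are sections. -/
noncomputable def sec (V : C) (M : ModSite.Mod O) : (P O V ⟶ M) ≃ (ModSite.toAb M).obj.obj (op V) :=
  ((InjTA.homEquiv O M (rep J V)).symm.toEquiv.trans ((adj J).homEquiv (rep J V) (ModSite.toAb M))).trans
    (repEquiv V _)

theorem sec_comp (V : C) {M N : ModSite.Mod O} (a : P O V ⟶ M) (φ : M ⟶ N) :
    sec O V N (a ≫ φ) = ((SheafOfModules.toSheaf.{u} (ModSite.ringSh O)).map φ).hom.app (op V) (sec O V M a) := by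
  obtain ⟨z, rfl⟩ := (InjTA.homEquiv O M (rep J V)).surjective a
  rw [← ModAcyc.homEquiv_comp]
  simp only [sec, Equiv.trans_apply, AddEquiv.toEquiv_eq_coe, EquivLike.coe_coe, AddEquiv.symm_apply_apply]
  rw [(adj J).homEquiv_naturality_right]
  exact repEquiv_comp _ _

/-- The map of free modules induced by a morphism. -/
noncomputable def Pmap {W V : C} (g : W ⟶ V) : P O W ⟶ P O V :=
  (shf O).map ((freeMod O).map (((yoneda ⋙ presheafToSheaf J (Type u))).map g))

theorem sec_Pmap {W V : C} (g : W ⟶ V) {M : ModSite.Mod O} (a : P O V ⟶ M) :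
    sec O W M (Pmap O g ≫ a) = (ModSite.toAb M).obj.map g.op (sec O V M a) := by
  obtain ⟨z, rfl⟩ := (InjTA.homEquiv O M (rep J V)).surjective a
  have h : Pmap O g ≫ InjTA.homEquiv O M (rep J V) z =
      InjTA.homEquiv O M (rep J W) ((fr J).map ((yoneda ⋙ presheafToSheaf J (Type u)).map g) ≫ z) :=
    ((congrArg (shfEquiv O M _) (freeFun_comp O _ z)).trans (shfEquiv_natural O M _ _)).symm
  rw [h]
  simp only [sec, Equiv.trans_apply, AddEquiv.toEquiv_eq_coe, EquivLike.coe_coe, AddEquiv.symm_apply_apply]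
  rw [(adj J).homEquiv_naturality_left]
  exact repEquiv_map g _

theorem eq_of_locally_eq (M : Sheaf J AddCommGrpCat.{u}) {V : C} (S : Sieve V) (hS : S ∈ J V)
    (x y : M.obj.obj (op V)) (h : ∀ ⦃W : C⦄ (g : W ⟶ V), S g → M.obj.map g.op x = M.obj.map g.op y) : x = y :=
  (((isSheaf_iff_isSheaf_of_type J _).1 ((sheafCompose J (forget AddCommGrpCat.{u})).obj M).property) S hS).isSeparatedFor.ext
    fun W g hg => h g hg

/-- The cover datum of a set of objects covering every object, each with a cofinal system of good coverings. -/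
noncomputable def cover (B : Set C)
    (hB : ∀ U : C, ∃ (ι : Type u) (Y : ι → C) (g : ∀ i, Y i ⟶ U), Sieve.ofArrows Y g ∈ J U ∧ ∀ i, Y i ∈ B)
    (good : B → Set C)
    (hgood : ∀ V : B, ∀ T ∈ J V.1, ∃ (ι : Type u) (Y : ι → C) (g : ∀ i, Y i ⟶ V.1),
      (∀ i, T.arrows (g i)) ∧ Sieve.ofArrows Y g ∈ J V.1 ∧ ∀ i, Y i ∈ good V) :
    LocalDetect.Cover (ModSite.Mod O) B where
  P V := P O V.1
  good V Q := ∃ W ∈ good V, Q = P O W
  sep M N φ h := by
    refine (SheafOfModules.toSheaf.{u} (ModSite.ringSh O)).map_injective ?_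
    rw [Functor.map_zero]
    refine Sheaf.hom_ext (NatTrans.ext (funext fun U => AddCommGrpCat.hom_ext (AddMonoidHom.ext fun s => ?_)))
    obtain ⟨ι, F, g, hY, hYB⟩ := hB U.unop
    refine eq_of_locally_eq (ModSite.toAb N) _ hY _ _ ?_
    rintro W _ ⟨Z, q, g', hg', rfl⟩
    obtain ⟨i⟩ := hg'
    have h1 := congrArg (sec O (F i) N) (h ⟨F i, hYB i⟩ ((sec O (F i) M).symm ((ModSite.toAb M).obj.map (g i).op s)))
    rw [sec_comp, Equiv.apply_symm_apply] at h1
    have h2 : sec O (F i) N (0 : P O (F i) ⟶ N) = 0 := by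
      rw [← comp_zero (f := (0 : P O (F i) ⟶ M)) (Z := N), sec_comp, Functor.map_zero]
      rfl
    rw [h2] at h1
    have h3 : (ModSite.toAb N).obj.map (g i).op
        (((SheafOfModules.toSheaf.{u} (ModSite.ringSh O)).map φ).hom.app U s) = 0 :=
      (congr($(((SheafOfModules.toSheaf.{u} (ModSite.ringSh O)).map φ).hom.naturality (g i).op) s)).symm.trans h1
    rw [op_comp, Functor.map_comp]
    change (ModSite.toAb N).obj.map q.op ((ModSite.toAb N).obj.map (g i).op _) =
      (ModSite.toAb N).obj.map q.op ((ModSite.toAb N).obj.map (g i).op _)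
    rw [h3]
    exact congrArg _ (map_zero ((ModSite.toAb N).obj.map (g i).op).hom).symm
  cov V T p _ N b h := by
    have := ModAcyc.epi_toSheaf O p
    let s₀ := sec O V.1 (P O V.1) (𝟙 _)
    obtain ⟨S, hS⟩ := SiteCoh.locally_surjective_of_epi ((SheafOfModules.toSheaf.{u} (ModSite.ringSh O)).map p) s₀
    obtain ⟨ι, F, g, hgS, hY, hYg⟩ := hgood V S.1 S.2
    apply (sec O V.1 N).injective
    refine eq_of_locally_eq (ModSite.toAb N) _ hY _ _ ?_
    rintro W _ ⟨Z, q, g', hg', rfl⟩
    obtain ⟨i⟩ := hg'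
    obtain ⟨t, ht⟩ := hS ⟨F i, g i, hgS i⟩
    let r := (sec O (F i) T).symm t
    have hr : r ≫ p = Pmap O (g i) := by
      apply (sec O (F i) _).injective
      rw [sec_comp, Equiv.apply_symm_apply, ← Category.comp_id (Pmap O (g i)), sec_Pmap]
      exact ht
    have h1 := h (P O (F i)) r ⟨F i, hYg i, rfl⟩
    rw [← Category.assoc, hr] at h1
    have h3 : (ModSite.toAb N).obj.map (g i).op (sec O V.1 N b) =
        (ModSite.toAb N).obj.map (g i).op (sec O V.1 N 0) := by
      rw [← sec_Pmap, ← sec_Pmap, h1, comp_zero]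
    rw [op_comp, Functor.map_comp]
    exact congrArg ((ModSite.toAb N).obj.map q.op) h3

variable [HasExt.{u + 1} (ModSite.Mod O)] [EnoughInjectives (ModSite.Mod O)]

omit [EnoughInjectives (ModSite.Mod O)] in
theorem subsingleton_ext_free [EnoughInjectives (ModSite.Mod O)] (X : Sheaf J (Type u)) (M : ModSite.Mod O) (q : ℕ)
    (hM : Subsingleton (Ext ((fr J).obj X) (ModSite.toAb M) (q + 1))) :
    Subsingleton (Ext.{u + 1} (ModAcyc.free O X) M (q + 1)) := by
  obtain ⟨P'⟩ := EnoughInjectives.presentation M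
  let S : ShortComplex (ModSite.Mod O) := ShortComplex.mk P'.f (cokernel.π P'.f) (cokernel.condition _)
  have hS : S.ShortExact := ShortComplex.ShortExact.mk (S.exact_of_g_is_cokernel (cokernelIsCokernel _))
  have : Injective S.X₂ := P'.injective
  have hJ := InjTA.isTotallyAcyclic O S.X₂
  have hab := ModAcyc.shortExact_toSheaf O hS
  refine subsingleton_of_forall_eq 0 fun x => ?_
  induction q generalizing M with
  | zero =>
    obtain ⟨y, rfl⟩ := Ext.covariant_sequence_exact₁ _ hS x (Ext.eq_zero_of_injective _) (zero_add 1)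
    obtain ⟨s, rfl⟩ := (Ext.mk₀_bijective _ _).2 y
    have : Subsingleton (Ext ((fr J).obj X) (S.map (SheafOfModules.toSheaf.{u} (ModSite.ringSh O))).X₁ 1) := hM
    obtain ⟨a, ha⟩ := Ext.covariant_sequence_exact₃ ((fr J).obj X) hab
      (Ext.mk₀ ((InjTA.homEquiv O S.X₃ X).symm s)) (zero_add 1) (Subsingleton.elim _ _)
    obtain ⟨a, rfl⟩ := (Ext.mk₀_bijective _ _).2 a
    have ha' := (Ext.mk₀_bijective _ _).1 ((Ext.mk₀_comp_mk₀ _ _).symm.trans ha)
    have hs : s = InjTA.homEquiv O S.X₂ X a ≫ S.g := by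
      rw [← ModAcyc.homEquiv_comp]
      refine ((InjTA.homEquiv O S.X₃ X).apply_symm_apply s).symm.trans (congrArg _ ?_)
      exact ha'.symm
    rw [hs, ← Ext.mk₀_comp_mk₀]
    refine (Ext.comp_assoc_of_second_deg_zero _ _ _ _).trans ?_
    exact (congrArg (fun r => (Ext.mk₀ _).comp r (zero_add 1)) hS.comp_extClass).trans (Ext.comp_zero _ _ _ _ _)
  | succ q ih =>
    obtain ⟨y, rfl⟩ := Ext.covariant_sequence_exact₁ _ hS x (Ext.eq_zero_of_injective _) (n₀ := q + 1) rfl
    have hM' : Subsingleton (Ext ((fr J).obj X) (ModSite.toAb S.X₃) (q + 1)) := by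
      refine subsingleton_of_forall_eq 0 fun z => ?_
      have : Subsingleton (Ext ((fr J).obj X) (S.map (SheafOfModules.toSheaf.{u} (ModSite.ringSh O))).X₁ (q + 1 + 1)) := hM
      have : Subsingleton (Ext ((fr J).obj X) (S.map (SheafOfModules.toSheaf.{u} (ModSite.ringSh O))).X₂ (q + 1)) := hJ X q
      obtain ⟨z', rfl⟩ := Ext.covariant_sequence_exact₃ ((fr J).obj X) hab z (n₁ := q + 1 + 1) rfl (Subsingleton.elim _ _)
      rw [Subsingleton.elim z' 0, Ext.zero_comp]
    obtain ⟨P''⟩ := EnoughInjectives.presentation S.X₃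
    have hS' : (ShortComplex.mk P''.f (cokernel.π P''.f) (cokernel.condition _)).ShortExact :=
      ShortComplex.ShortExact.mk (ShortComplex.exact_of_g_is_cokernel _ (cokernelIsCokernel _))
    rw [ih S.X₃ hM' P'' hS' P''.injective (InjTA.isTotallyAcyclic O P''.J) (ModAcyc.shortExact_toSheaf O hS') y, Ext.zero_comp]

/-- Vanishing of cohomology above `d` gives smallness of the free module. -/
theorem small_of_HU [HasDerivedCategory.{u + 1} (ModSite.Mod O)] (W : C) (M : ModSite.Mod O) (d : ℕ)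
    (h : ∀ k : ℕ, d < k → Subsingleton (ModSite.HU O M k W)) : TowerStab.Small d (P O W) M := fun m hm g => by
  obtain ⟨q, rfl⟩ : ∃ q : ℕ, ((q + 1 : ℕ) : ℤ) = m := ⟨m.toNat - 1, by omega⟩
  have h1 : Subsingleton (Ext (SiteCoh.fs J W) (ModSite.toAb M) (q + 1)) := h (q + 1) (by omega)
  have := subsingleton_ext_free O (rep J W) M q ((extFsRep (J := J) W (ModSite.toAb M) (q + 1)).toEquiv.symm.subsingleton)
  have h2 := (Ext.homEquiv.{u + 1} (X := P O W) (Y := M) (n := q + 1)).symm.subsingleton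
  exact h2.elim g 0

end Groth.L10.SiteCover
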