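import Groth.Agent.L10.RDerBound
import Groth.Agent.L10.SiteCover
import Groth.Prelude.Def_SiteCmp
import Groth.Prelude.Def_WeakSerre

/-! Unbounded direct images of modules on ringed sites under local bounds on cohomological dimension. -/

universe u

open CategoryTheory CategoryTheory.Limits Opposite DerivedCategory

set_option backward.defeqAttrib.useBackward true
set_option backward.isDefEq.respectTransparency false
namespace Groth.L10.ModRDer

open Groth.L10 Groth.L10.SiteFr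

variable {C : Type u} [SmallCategory C] {J : GrothendieckTopology C} {O_C : Sheaf J CommRingCat.{u}}
  {D : Type u} [SmallCategory D] {K : GrothendieckTopology D} {O_D : Sheaf K CommRingCat.{u}}
  (f : ModSite.RMor O_C O_D)

/-- Maps out of the inverse image of a free module are sections over the image object. -/
noncomputable def pullEquiv (W : D) (M : ModSite.Mod O_C) :
    (f.pull.obj (SiteCover.P O_D W) ⟶ M) ≃ (SiteCover.P O_C (f.fn.obj W) ⟶ M) :=
  (f.adj.homEquiv _ _).trans ((SiteCover.sec O_D W _).trans (SiteCover.sec O_C (f.fn.obj W) M).symm)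

theorem pullEquiv_comp (W : D) {M N : ModSite.Mod O_C} (a : f.pull.obj (SiteCover.P O_D W) ⟶ M) (φ : M ⟶ N) :
    pullEquiv f W N (a ≫ φ) = pullEquiv f W M a ≫ φ := by
  apply (SiteCover.sec O_C (f.fn.obj W) N).injective
  simp only [pullEquiv, Equiv.trans_apply, Equiv.apply_symm_apply]
  rw [f.adj.homEquiv_naturality_right, SiteCover.sec_comp, SiteCover.sec_comp]
  refine ((SiteCover.sec O_C _ N).apply_symm_apply _).trans (Eq.trans ?_ (congrArg _ ((SiteCover.sec O_C _ M).apply_symm_apply _)).symm)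
  rfl

/-- The inverse image of a free module is free. -/
noncomputable def pullIso (W : D) : f.pull.obj (SiteCover.P O_D W) ≅ SiteCover.P O_C (f.fn.obj W) where
  hom := (pullEquiv f W _).symm (𝟙 _)
  inv := pullEquiv f W _ (𝟙 _)
  hom_inv_id := by
    apply (pullEquiv f W _).injective
    rw [pullEquiv_comp, Equiv.apply_symm_apply, Category.id_comp]
  inv_hom_id := by
    rw [← pullEquiv_comp, Category.id_comp, Equiv.apply_symm_apply]

variable [HasDerivedCategory.{u + 1} (ModSite.Mod O_C)] [HasDerivedCategory.{u + 1} (ModSite.Mod O_D)]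

theorem small_of_iso {Q Q' M : ModSite.Mod O_C} {d : ℕ} (e : Q ≅ Q') (h : TowerStab.Small d Q' M) :
    TowerStab.Small d Q M := fun m hm g =>
  (cancel_epi ((singleFunctor (ModSite.Mod O_C) 0).mapIso e).inv).1 ((h m hm _).trans comp_zero.symm)

/-- The instances used throughout. -/
theorem insts {E : Type u} [SmallCategory E] {L : GrothendieckTopology E} (O : Sheaf L CommRingCat.{u}) :
    EnoughInjectives (ModSite.Mod O) ∧ KInjDerived.EnoughKInjectives (ModSite.Mod O) ∧ HasExt.{u + 1} (ModSite.Mod O) :=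
  have hC := shMod_isGrothendieckAbelian (ModSite.ringSh O)
  ⟨IsGrothendieckAbelian.enoughInjectives.{u}, @KInjDerived.instEnoughKInjectivesOfIsGrothendieckAbelian _ _ _ hC,
    HasExt.standard _⟩

variable [HasInjectiveResolutions (ModSite.Mod O_C)] {RF : DerivedCategory (ModSite.Mod O_C) ⥤ DerivedCategory (ModSite.Mod O_D)}
  (α : f.push.mapHomotopyCategory (ComplexShape.up ℤ) ⋙ Qh ⟶ Qh ⋙ RF)
  [RF.IsRightDerivedFunctor α (HomotopyCategory.quasiIso (ModSite.Mod O_C) (ComplexShape.up ℤ))]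
  (A : ObjectProperty (ModSite.Mod O_C)) (B : Set C) (B' : Set D)
  (hB : ∀ U : C, ∃ (ι : Type u) (Y : ι → C) (g : ∀ i, Y i ⟶ U), Sieve.ofArrows Y g ∈ J U ∧ ∀ i, Y i ∈ B)
  (hA : ∀ V ∈ B, ∃ d : ℕ, ∀ T ∈ J V, ∃ (ι : Type u) (Y : ι → C) (g : ∀ i, Y i ⟶ V),
      (∀ i, T.arrows (g i)) ∧ Sieve.ofArrows Y g ∈ J V ∧
      ∀ (i : ι) (F : ModSite.Mod O_C), A F → ∀ k : ℕ, d < k → Subsingleton (ModSite.HU O_C F k (Y i)))
  (hB' : ∀ U : D, ∃ (ι : Type u) (Y : ι → D) (g : ∀ i, Y i ⟶ U), Sieve.ofArrows Y g ∈ K U ∧ ∀ i, Y i ∈ B')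
  (N : ℤ) (hN : ∀ F : ModSite.Mod O_C, A F → ∀ p : ℕ, N < (p : ℤ) → IsZero ((f.Rpush p).obj F))
  (X : DerivedCategory (ModSite.Mod O_C)) (hX : WSerre.cohIn A X) (n : ℕ) (j : ℤ) (hj : N - (n : ℤ) ≤ j)

include α hB hA hB' hN hX hj

/-- Stability with bounds on the source over images of objects of the target. -/
theorem isIso_left
    (hA' : ∀ V ∈ B', ∃ d : ℕ, ∀ T ∈ K V, ∃ (ι : Type u) (Y : ι → D) (g : ∀ i, Y i ⟶ V),
      (∀ i, T.arrows (g i)) ∧ Sieve.ofArrows Y g ∈ K V ∧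
      ∀ (i : ι) (F : ModSite.Mod O_C), A F → ∀ k : ℕ, d < k → Subsingleton (ModSite.HU O_C F k (f.fn.obj (Y i)))) :
    IsIso ((homologyFunctor (ModSite.Mod O_D) j).map
      (RF.map ((DerivedCategory.TStructure.t.truncGEπ (-(n : ℤ))).app X))) := by
  obtain ⟨_, _, _⟩ := insts O_C
  obtain ⟨_, _, _⟩ := insts O_D
  choose d hd using hA
  choose d' hd' using hA'
  let 𝒞A := SiteCover.cover O_C B hB
    (fun V => {W | ∀ F : ModSite.Mod O_C, A F → ∀ k : ℕ, d V.1 V.2 < k → Subsingleton (ModSite.HU O_C F k W)})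
    (fun V T hT => (hd V.1 V.2 T hT).imp fun _ => Exists.imp fun _ => Exists.imp fun _ ⟨h1, h2, h3⟩ => ⟨h1, h2, h3⟩)
  let 𝒞B := SiteCover.cover O_D B' hB'
    (fun V => {W | ∀ F : ModSite.Mod O_C, A F → ∀ k : ℕ, d' V.1 V.2 < k → Subsingleton (ModSite.HU O_C F k (f.fn.obj W))})
    (fun V T hT => (hd' V.1 V.2 T hT).imp fun _ => Exists.imp fun _ => Exists.imp fun _ ⟨h1, h2, h3⟩ => ⟨h1, h2, h3⟩)
  refine RDerBound.isIso_H_map_π (𝒞A := 𝒞A) α X N f.adj (fun M => ModAcyc.enough O_D f M) ?_ 𝒞B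
    (fun a p hp => hN _ (hX a) p hp) ?_ n j hj
  · rintro ⟨V, hV⟩
    refine ⟨d V hV, ?_⟩
    rintro _ ⟨W, hW, rfl⟩ a
    exact SiteCover.small_of_HU O_C W _ _ (hW _ (hX a))
  · rintro ⟨V, hV⟩
    refine ⟨d' V hV, ?_⟩
    rintro _ ⟨W, hW, rfl⟩
    exact RDerBound.stab_of_small_left α X f.adj (fun M => ModAcyc.enough O_D f M) (ModAcyc.acyc_free O_D f _)
      fun a => small_of_iso (pullIso f W) (SiteCover.small_of_HU O_C _ _ _ (hW _ (hX a)))

/-- Stability with bounds on the target. -/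
theorem isIso_right (A' : ObjectProperty (ModSite.Mod O_D))
    (hA' : ∀ V ∈ B', ∃ d : ℕ, ∀ T ∈ K V, ∃ (ι : Type u) (Y : ι → D) (g : ∀ i, Y i ⟶ V),
      (∀ i, T.arrows (g i)) ∧ Sieve.ofArrows Y g ∈ K V ∧
      ∀ (i : ι) (F : ModSite.Mod O_D), A' F → ∀ k : ℕ, d < k → Subsingleton (ModSite.HU O_D F k (Y i)))
    (h3 : ∀ F : ModSite.Mod O_C, A F → ∀ p : ℕ, A' ((f.Rpush p).obj F)) :
    IsIso ((homologyFunctor (ModSite.Mod O_D) j).map
      (RF.map ((DerivedCategory.TStructure.t.truncGEπ (-(n : ℤ))).app X))) := by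
  obtain ⟨_, _, _⟩ := insts O_C
  obtain ⟨_, _, _⟩ := insts O_D
  choose d hd using hA
  choose d' hd' using hA'
  let 𝒞A := SiteCover.cover O_C B hB
    (fun V => {W | ∀ F : ModSite.Mod O_C, A F → ∀ k : ℕ, d V.1 V.2 < k → Subsingleton (ModSite.HU O_C F k W)})
    (fun V T hT => (hd V.1 V.2 T hT).imp fun _ => Exists.imp fun _ => Exists.imp fun _ ⟨h1, h2, h3⟩ => ⟨h1, h2, h3⟩)
  let 𝒞B := SiteCover.cover O_D B' hB'
    (fun V => {W | ∀ F : ModSite.Mod O_D, A' F → ∀ k : ℕ, d' V.1 V.2 < k → Subsingleton (ModSite.HU O_D F k W)})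
    (fun V T hT => (hd' V.1 V.2 T hT).imp fun _ => Exists.imp fun _ => Exists.imp fun _ ⟨h1, h2, h3⟩ => ⟨h1, h2, h3⟩)
  refine RDerBound.isIso_H_map_π (𝒞A := 𝒞A) α X N f.adj (fun M => ModAcyc.enough O_D f M) ?_ 𝒞B
    (fun a p hp => hN _ (hX a) p hp) ?_ n j hj
  · rintro ⟨V, hV⟩
    refine ⟨d V hV, ?_⟩
    rintro _ ⟨W, hW, rfl⟩ a
    exact SiteCover.small_of_HU O_C W _ _ (hW _ (hX a))
  · rintro ⟨V, hV⟩
    refine ⟨d' V hV + N.toNat + 1, ?_⟩
    rintro _ ⟨W, hW, rfl⟩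
    exact RDerBound.stab_of_small α X N (fun a p hp => hN _ (hX a) p hp)
      fun a p => SiteCover.small_of_HU O_D _ _ _ (hW _ (h3 _ (hX a) p))

end Groth.L10.ModRDer
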