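import Groth.Agent.L10.KInjDerived
import Groth.Agent.L10.DerTrunc
import Mathlib.Algebra.Homology.DerivedCategory.ExactFunctor
import Mathlib.CategoryTheory.Functor.Derived.Adjunction
import Mathlib.CategoryTheory.Functor.Derived.PointwiseLeftDerived
import Mathlib.CategoryTheory.Triangulated.Adjunction
import Mathlib.CategoryTheory.Adjunction.FullyFaithful

/-! Derived adjunctions between unbounded derived categories. -/

universe w w' v v' u u'

open CategoryTheory CategoryTheory.Limits CategoryTheory.Pretriangulated

set_option backward.defeqAttrib.useBackward true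
set_option backward.isDefEq.respectTransparency false
namespace Groth.L10.DerivedAdj

variable {A : Type u} [Category.{v} A] [Abelian A] {B : Type u'} [Category.{v'} B] [Abelian B]
  {u : A ⥤ B} {w : B ⥤ A} (adj : w ⊣ u) [u.Additive] [w.Additive]

local notation "up" => ComplexShape.up ℤ

/-- The adjunction on homotopy categories. -/
noncomputable def homotopyAdj : w.mapHomotopyCategory up ⊣ u.mapHomotopyCategory up where
  unit :=
    { app := fun X => (HomotopyCategory.quotient B up).map (X := X.as)
        (Y := (u.mapHomologicalComplex up).obj ((w.mapHomologicalComplex up).obj X.as))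
        { f := fun i => adj.unit.app (X.as.X i), comm' := fun i j _ => (adj.unit.naturality _).symm }
      naturality := by
        intro X Y φ
        obtain ⟨φ, rfl⟩ := (HomotopyCategory.quotient B up).map_surjective (X := X.as) (Y := Y.as) φ
        refine ((HomotopyCategory.quotient B up).map_comp _ _).symm.trans
          (Eq.trans (congrArg _ ?_) ((HomotopyCategory.quotient B up).map_comp _ _))
        ext i
        exact adj.unit.naturality (φ.f i) }
  counit :=
    { app := fun X => (HomotopyCategory.quotient A up).map
        (X := (w.mapHomologicalComplex up).obj ((u.mapHomologicalComplex up).obj X.as)) (Y := X.as)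
        { f := fun i => adj.counit.app (X.as.X i), comm' := fun i j _ => (adj.counit.naturality _).symm }
      naturality := by
        intro X Y φ
        obtain ⟨φ, rfl⟩ := (HomotopyCategory.quotient A up).map_surjective (X := X.as) (Y := Y.as) φ
        refine ((HomotopyCategory.quotient A up).map_comp _ _).symm.trans
          (Eq.trans (congrArg _ ?_) ((HomotopyCategory.quotient A up).map_comp _ _))
        ext i
        exact adj.counit.naturality (φ.f i) }
  left_triangle_components X := by
    refine ((HomotopyCategory.quotient A up).map_comp _ _).symm.trans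
      (Eq.trans (congrArg _ ?_) ((HomotopyCategory.quotient A up).map_id _))
    ext i
    exact adj.left_triangle_components _
  right_triangle_components X := by
    refine ((HomotopyCategory.quotient B up).map_comp _ _).symm.trans
      (Eq.trans (congrArg _ ?_) ((HomotopyCategory.quotient B up).map_id _))
    ext i
    exact adj.right_triangle_components _

variable [PreservesFiniteLimits w] [PreservesFiniteColimits w]
  [HasDerivedCategory.{_} A] [HasDerivedCategory.{_} B]
  [KInjDerived.EnoughKInjectives A]
  (RF : DerivedCategory A ⥤ DerivedCategory B) (α : u.mapHomotopyCategory up ⋙ DerivedCategory.Qh ⟶ DerivedCategory.Qh ⋙ RF)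
  [RF.IsRightDerivedFunctor α (HomotopyCategory.quasiIso A up)]

instance leftDerived :
    w.mapDerivedCategory.IsLeftDerivedFunctor w.mapDerivedCategoryFactorsh.hom (HomotopyCategory.quasiIso B up) :=
  Functor.isLeftDerivedFunctor_of_inverts _ _ _

instance leftDerived_comp :
    (w.mapDerivedCategory ⋙ RF).IsLeftDerivedFunctor
      ((Functor.associator _ _ _).inv ≫ Functor.whiskerRight w.mapDerivedCategoryFactorsh.hom RF)
      (HomotopyCategory.quasiIso B up) :=
  Functor.isLeftDerivedFunctor_of_inverts _ _
    ((Functor.associator _ _ _).symm ≪≫ Functor.isoWhiskerRight w.mapDerivedCategoryFactorsh RF)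

instance rightDerived_comp :
    (RF ⋙ w.mapDerivedCategory).IsRightDerivedFunctor
      (Functor.whiskerRight α w.mapDerivedCategory ≫ (Functor.associator _ _ _).hom)
      (HomotopyCategory.quasiIso A up) := by
  refine KInjDerived.isRightDerivedFunctor_of_isIso _ fun I hI => ?_
  have := KInjDerived.isIso_app_quotient α I
  simp only [NatTrans.comp_app, Functor.whiskerRight_app, Functor.associator_hom_app, Category.comp_id]
  infer_instance

/-- The derived adjunction. -/
noncomputable def derived : w.mapDerivedCategory ⊣ RF :=
  (homotopyAdj adj).derived (HomotopyCategory.quasiIso B up) (HomotopyCategory.quasiIso A up)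
    w.mapDerivedCategoryFactorsh.hom α

include adj α in
theorem isIso_derived_counit [IsIso adj.counit] : IsIso (derived adj RF α).counit := by
  rw [NatTrans.isIso_iff_isIso_app]
  intro X
  refine (NatTrans.isIso_app_iff_of_iso _ ((KInjDerived.equiv (A := A)).counitIso.app X)).1 ?_
  let I := (KInjDerived.equiv (A := A)).inverse.obj X
  change IsIso ((derived adj RF α).counit.app (DerivedCategory.Qh.obj I.obj))
  have := KInjDerived.isIso_app_of_isKInjective α I.obj I.property
  have hc : IsIso ((homotopyAdj adj).counit.app I.obj) := by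
    let f : (w.mapHomologicalComplex up).obj ((u.mapHomologicalComplex up).obj I.obj.as) ⟶ I.obj.as :=
      { f := fun i => adj.counit.app (I.obj.as.X i), comm' := fun i j _ => (adj.counit.naturality _).symm }
    have : ∀ i, IsIso (f.f i) := fun i => inferInstanceAs (IsIso (adj.counit.app (I.obj.as.X i)))
    have : IsIso f := HomologicalComplex.Hom.isIso_of_components f
    exact inferInstanceAs (IsIso ((HomotopyCategory.quotient A up).map f))
  refine IsIso.of_isIso_fac_left ((homotopyAdj adj).derivedε_fac_app (HomotopyCategory.quasiIso A up)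
    w.mapDerivedCategoryFactorsh.hom α I.obj)

section Generic

omit [u.Additive] [RF.IsRightDerivedFunctor α (HomotopyCategory.quasiIso A up)] [KInjDerived.EnoughKInjectives A]

theorem isLE_map (Y : DerivedCategory B) (n : ℤ) [Y.IsLE n] : (w.mapDerivedCategory.obj Y).IsLE n := by
  obtain ⟨K, _, ⟨e⟩⟩ := DerivedCategory.exists_iso_Q_obj_of_isLE Y n
  have : CochainComplex.IsStrictlyLE ((w.mapHomologicalComplex up).obj K) n :=
    (CochainComplex.isStrictlyLE_iff _ _).2 fun i hi => w.map_isZero (K.isZero_of_isStrictlyLE n i hi)
  have h : DerivedCategory.IsLE (DerivedCategory.Q.obj ((w.mapHomologicalComplex up).obj K)) n :=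
    (DerivedCategory.isLE_Q_obj_iff _ n).2 inferInstance
  have hc : DerivedCategory.TStructure.t.IsLE ((w.mapHomologicalComplex up ⋙ DerivedCategory.Q).obj K) n := h
  have h' : DerivedCategory.TStructure.t.IsLE (w.mapDerivedCategory.obj (DerivedCategory.Q.obj K)) n :=
    DerivedCategory.TStructure.t.isLE_of_iso (w.mapDerivedCategoryFactors.app K).symm n
  exact DerivedCategory.TStructure.t.isLE_of_iso (w.mapDerivedCategory.mapIso e).symm n

theorem isGE_map (Y : DerivedCategory B) (n : ℤ) [Y.IsGE n] : (w.mapDerivedCategory.obj Y).IsGE n := by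
  obtain ⟨K, _, ⟨e⟩⟩ := DerivedCategory.exists_iso_Q_obj_of_isGE Y n
  have : CochainComplex.IsStrictlyGE ((w.mapHomologicalComplex up).obj K) n :=
    (CochainComplex.isStrictlyGE_iff _ _).2 fun i hi => w.map_isZero (K.isZero_of_isStrictlyGE n i hi)
  have h : DerivedCategory.IsGE (DerivedCategory.Q.obj ((w.mapHomologicalComplex up).obj K)) n :=
    (DerivedCategory.isGE_Q_obj_iff _ n).2 inferInstance
  have hc : DerivedCategory.TStructure.t.IsGE ((w.mapHomologicalComplex up ⋙ DerivedCategory.Q).obj K) n := h
  have h' : DerivedCategory.TStructure.t.IsGE (w.mapDerivedCategory.obj (DerivedCategory.Q.obj K)) n :=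
    DerivedCategory.TStructure.t.isGE_of_iso (w.mapDerivedCategoryFactors.app K).symm n
  exact DerivedCategory.TStructure.t.isGE_of_iso (w.mapDerivedCategory.mapIso e).symm n

variable {R : DerivedCategory A ⥤ DerivedCategory B} (adj' : w.mapDerivedCategory ⊣ R)
include adj'

theorem isGE_rightAdjoint (X : DerivedCategory A) (n : ℤ) [X.IsGE n] : (R.obj X).IsGE n := by
  refine (DerivedCategory.TStructure.t.isGE_iff_orthogonal (n - 1) n (by omega) _).2 fun Y f hY => ?_
  have : DerivedCategory.IsLE Y (n - 1) := hY
  have hLE := isLE_map (w := w) Y (n - 1)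
  refine (adj'.homEquiv _ _).symm.injective ?_
  have h0 := DerivedCategory.TStructure.t.zero ((adj'.homEquiv _ _).symm f) (n-1) n (by omega)
  rw [h0]
  have : R.Additive := adj'.right_adjoint_additive
  simp [Adjunction.homEquiv_counit]

theorem isIso_counit_app (X : DerivedCategory A) (a : ℤ) [X.IsGE a]
    (h : ∀ q, IsIso (adj'.counit.app ((DerivedCategory.singleFunctor A 0).obj ((DerivedCategory.homologyFunctor A q).obj X)))) :
    IsIso (adj'.counit.app X) := by
  let := adj'.rightAdjointCommShift ℤ
  have := adj'.commShift_of_leftAdjoint (A := ℤ)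
  have := adj'.isTriangulated_rightAdjoint
  let P : ObjectProperty A := fun M => IsIso (adj'.counit.app ((DerivedCategory.singleFunctor A 0).obj M))
  have : P.IsClosedUnderIsomorphisms :=
    ⟨fun e h => (NatTrans.isIso_app_iff_of_iso adj'.counit ((DerivedCategory.singleFunctor A 0).mapIso e)).1 h⟩
  refine s11150 P (R ⋙ w.mapDerivedCategory) (𝟭 _) adj'.counit (fun M hM => hM)
    (fun n => ⟨n, fun Z hZ => ?_⟩) (fun n => ⟨n, fun Z hZ => hZ⟩) X a h
  have := isGE_rightAdjoint adj' Z n
  exact isGE_map (R.obj Z) n

theorem isIso_unit_app (Y : DerivedCategory B) (a : ℤ) [Y.IsGE a]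
    (h : ∀ q, IsIso (adj'.unit.app ((DerivedCategory.singleFunctor B 0).obj ((DerivedCategory.homologyFunctor B q).obj Y)))) :
    IsIso (adj'.unit.app Y) := by
  let := adj'.rightAdjointCommShift ℤ
  have := adj'.commShift_of_leftAdjoint (A := ℤ)
  have := adj'.isTriangulated_rightAdjoint
  let P : ObjectProperty B := fun M => IsIso (adj'.unit.app ((DerivedCategory.singleFunctor B 0).obj M))
  have : P.IsClosedUnderIsomorphisms :=
    ⟨fun e h => (NatTrans.isIso_app_iff_of_iso adj'.unit ((DerivedCategory.singleFunctor B 0).mapIso e)).1 h⟩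
  refine s11150 P (𝟭 _) (w.mapDerivedCategory ⋙ R) adj'.unit (fun M hM => hM)
    (fun n => ⟨n, fun Z hZ => hZ⟩) (fun n => ⟨n, fun Z hZ => ?_⟩) Y a h
  have := isGE_map (w := w) Z n
  exact isGE_rightAdjoint adj' _ n

end Generic

end Groth.L10.DerivedAdj
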