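import Groth.Agent.L10.CechSheaf
import Groth.Prelude.Def_CohCx

/-! The Čech nerves on slice categories and on opens. -/

universe u

open CategoryTheory CategoryTheory.Limits CategoryTheory.Abelian Opposite TopologicalSpace

set_option backward.defeqAttrib.useBackward true
set_option backward.isDefEq.respectTransparency false
namespace Groth.L10.Cech

open Groth.L10.SiteCoh

theorem isNerve_over {C : Type u} [SmallCategory C] [HasPullbacks C] {U : C} {ι : Type u} (Y : ι → Over U) :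
    IsNerve (Over.forget U) Y (fun i => (Y i).hom) where
  comp a k l := (Over.w (Pi.π (Y ∘ a) k)).trans (Over.w (Pi.π (Y ∘ a) l)).symm
  lift {n} a {V} g hg := by
    let W : Over U := Over.mk (g 0 ≫ (Y (a 0)).hom)
    let h : W ⟶ tup Y a := Pi.lift fun k => Over.homMk (g k) (hg k 0)
    exact ⟨h.left, fun k => by
      change (h ≫ Pi.π (Y ∘ a) k).left = g k
      rw [Pi.lift_π]
      rfl⟩
  hom_ext {n} a {V} h h' hh := by
    have w : h ≫ (tup Y a).hom = h' ≫ (tup Y a).hom := by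
      rw [← Over.w (Pi.π (Y ∘ a) 0), ← Category.assoc, ← Category.assoc]
      exact congrArg (· ≫ _) (hh 0)
    let W : Over U := Over.mk (h ≫ (tup Y a).hom)
    have : (Over.homMk h rfl : W ⟶ tup Y a) = Over.homMk h' w.symm := by
      refine Pi.hom_ext _ _ fun k => ?_
      ext
      simpa using hh k
    exact congrArg CommaMorphism.left this

variable {X : TopCat.{u}}

theorem isNerve_opens {ι : Type u} (U : ι → Opens X) :
    IsNerve (𝟭 (Opens X)) U (fun i => homOfLE (le_iSup U i)) where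
  comp _ _ _ := Subsingleton.elim _ _
  lift {n} a {V} g _ := ⟨Pi.lift g, fun k => Subsingleton.elim _ _⟩
  hom_ext {n} a {V} h h' _ := Subsingleton.elim _ _

theorem cover_opens {ι : Type u} (U : ι → Opens X) :
    Sieve.ofArrows (fun i => (𝟭 (Opens X)).obj (U i)) (fun i => homOfLE (le_iSup U i)) ∈
      Opens.grothendieckTopology X (iSup U) := fun x hx => by
  obtain ⟨i, hi⟩ := Opens.mem_iSup.1 hx
  exact ⟨U i, homOfLE (le_iSup U i), Sieve.ofArrows_mk _ _ i, hi⟩

theorem tup_eq_iInf {ι : Type u} (U : ι → Opens X) {n : ℕ} (a : Fin (n+1) → ι) : tup U a = ⨅ k, U (a k) :=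
  le_antisymm (le_iInf fun k => (Pi.π (U ∘ a) k).le) (Pi.lift (fun k => homOfLE (iInf_le (fun k => U (a k)) k))).le

section Site

variable {C : Type u} [SmallCategory C] {J : GrothendieckTopology C}

theorem surjective_sections_of_refinement [HasPullbacks C]
    {S : ShortComplex (Sheaf J AddCommGrpCat.{u})} (hS : S.ShortExact) (U : C)
    (h : ∀ T ∈ J U, ∃ (ι : Type u) (Y : ι → Over U), (∀ i, T.arrows (Y i).hom) ∧
      Sieve.ofArrows (fun i => (Y i).left) (fun i => (Y i).hom) ∈ J U ∧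
      (cx (Over.forget U) Y S.X₁.obj).ExactAt 1) :
    Function.Surjective (S.g.hom.app (op U)) := fun s => by
  have := hS.epi_g
  obtain ⟨T, hT⟩ := locally_surjective_of_epi S.g s
  obtain ⟨ι, Y, hY, hcov, h1⟩ := h _ T.2
  exact exists_lift_of_exact (isNerve_over Y) hcov hS h1 s fun i => hT ⟨(Y i).left, (Y i).hom, hY i⟩

/-- Cartan's criterion. -/
theorem cartan [HasPullbacks C] (B : Set C) (Cov : ∀ (U : C) (ι : Type u), (ι → Over U) → Prop)
    (h1 : ∀ (U : C) (ι : Type u) (Y : ι → Over U), Cov U ι Y → U ∈ B ∧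
      Sieve.ofArrows (fun i => (Y i).left) (fun i => (Y i).hom) ∈ J U ∧
      ∀ (p : ℕ) (a : Fin (p + 1) → ι), (∏ᶜ fun k => Y (a k)).left ∈ B)
    (h2 : ∀ U ∈ B, ∀ T ∈ J U, ∃ (ι : Type u) (Y : ι → Over U), Cov U ι Y ∧ ∀ i, T.arrows (Y i).hom)
    (F : Sheaf J AddCommGrpCat.{u})
    (h3 : ∀ (U : C) (ι : Type u) (Y : ι → Over U), Cov U ι Y → ∀ p : ℕ, (cx (Over.forget U) Y F.obj).ExactAt (p + 1))
    (U : C) (hU : U ∈ B) (p : ℕ) : Subsingleton (Ext (fs J U) F (p + 1)) := by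
  have key : ∀ (S : ShortComplex (Sheaf J AddCommGrpCat.{u})), S.ShortExact →
      (∀ (U : C) (ι : Type u) (Y : ι → Over U), Cov U ι Y → ∀ p : ℕ, (cx (Over.forget U) Y S.X₁.obj).ExactAt (p + 1)) →
      ∀ V ∈ B, Function.Surjective (S.g.hom.app (op V)) := fun S hS hP V hV =>
    surjective_sections_of_refinement hS V fun T hT => by
      obtain ⟨ι, Y, hC, hT'⟩ := h2 V hV T hT
      exact ⟨ι, Y, hT', (h1 V ι Y hC).2.1, hP V ι Y hC 0⟩
  refine subsingleton_of_class (fun F => ∀ (U : C) (ι : Type u) (Y : ι → Over U), Cov U ι Y →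
    ∀ p : ℕ, (cx (Over.forget U) Y F.obj).ExactAt (p + 1)) U (fun S hS hP => key S hS hP U hU)
    (fun S hS hP hI V ι Y hC p => ?_) F h3 p
  have := injective_obj S.X₂
  exact exactAt_X₃ hS (fun n a => key S hS hP _ ((h1 V ι Y hC).2.2 n a)) (p+1)
    (exactAt_of_injective (P := S.X₂.obj) (isNerve_over Y) p) (hP V ι Y hC (p+1))

end Site

theorem surjective_sections_of_refinement_opens {S : ShortComplex (CohTop.Ab X)} (hS : S.ShortExact)
    (U : Opens X)
    (h : ∀ (ι : Type u) (V : ι → Opens X), iSup V = U →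
      ∃ (κ : Type u) (W : κ → Opens X) (r : κ → ι), iSup W = U ∧ (∀ k, W k ≤ V (r k)) ∧
        (cx (𝟭 (Opens X)) W S.X₁.obj).ExactAt 1) :
    Function.Surjective (S.g.hom.app (op U)) := fun s => by
  have := hS.epi_g
  obtain ⟨T, hT⟩ := locally_surjective_of_epi S.g s
  choose V f hf hxV using fun p : U => T.2 p.1 p.2
  obtain ⟨κ, W, r, hW, hr, h1⟩ := h U V (le_antisymm (iSup_le fun p => (f p).le)
    fun x hx => Opens.mem_iSup.2 ⟨⟨x, hx⟩, hxV ⟨x, hx⟩⟩)
  subst hW
  exact exists_lift_of_exact (isNerve_opens W) (cover_opens W) hS h1 s fun k =>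
    hT ⟨W k, homOfLE (le_iSup W k), by
      rw [show homOfLE (le_iSup W k) = homOfLE (hr k) ≫ f (r k) from Subsingleton.elim _ _]
      exact T.1.downward_closed (hf _) _⟩

/-- Cartan's criterion for opens. -/
theorem cartan_opens (F : CohTop.Ab X)
    (B : Set (Opens X)) (Cov : ∀ (ι : Type u), (ι → Opens X) → Prop)
    (h1 : ∀ (ι : Type u) (V : ι → Opens X), Cov ι V →
      iSup V ∈ B ∧ ∀ (p : ℕ) (a : Fin (p + 1) → ι), (iInf fun k => V (a k)) ∈ B)
    (h2 : ∀ U ∈ B, ∀ (κ : Type u) (W : κ → Opens X), iSup W = U →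
      ∃ (ι : Type u) (V : ι → Opens X), Cov ι V ∧ iSup V = U ∧ ∀ i, ∃ k, V i ≤ W k)
    (h3 : ∀ (ι : Type u) (V : ι → Opens X), Cov ι V → ∀ p : ℕ, (cx (𝟭 (Opens X)) V F.obj).ExactAt (p + 1))
    (U : Opens X) (hU : U ∈ B) (p : ℕ) :
    Subsingleton (Ext (fs (Opens.grothendieckTopology X) U) F (p + 1)) := by
  have key : ∀ (S : ShortComplex (CohTop.Ab X)), S.ShortExact →
      (∀ (ι : Type u) (V : ι → Opens X), Cov ι V → ∀ p : ℕ, (cx (𝟭 (Opens X)) V S.X₁.obj).ExactAt (p + 1)) →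
      ∀ W ∈ B, Function.Surjective (S.g.hom.app (op W)) := fun S hS hP W hW =>
    surjective_sections_of_refinement_opens hS W fun κ V hV => by
      obtain ⟨ι, Z, hC, hZ, hle⟩ := h2 W hW κ V hV
      choose r hr using hle
      exact ⟨ι, Z, r, hZ, hr, hP ι Z hC 0⟩
  refine subsingleton_of_class (fun F => ∀ (ι : Type u) (V : ι → Opens X), Cov ι V →
    ∀ p : ℕ, (cx (𝟭 (Opens X)) V F.obj).ExactAt (p + 1)) U (fun S hS hP => key S hS hP U hU)
    (fun S hS hP hI ι V hC p => ?_) F h3 p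
  have := injective_obj S.X₂
  exact exactAt_X₃ hS (fun n a => key S hS hP _ ((tup_eq_iInf V a).symm ▸ (h1 ι V hC).2 n a)) (p+1)
    (exactAt_of_injective (P := S.X₂.obj) (isNerve_opens V) p) (hP ι V hC (p+1))

end Groth.L10.Cech
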