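import Mathlib.Algebra.Homology.DerivedCategory.Basic
import Mathlib.Algebra.Homology.Refinements
import Mathlib.Algebra.Homology.Embedding.HomEquiv
import Mathlib.Algebra.Homology.Embedding.StupidTrunc
import Mathlib.Algebra.Homology.Embedding.ExtendHomology
import Mathlib.Algebra.Homology.Embedding.CochainComplex
import Mathlib.CategoryTheory.Abelian.CommSq

/-! Resolutions of bounded below complexes by a class of objects into which everything embeds. -/

universe v u

open CategoryTheory CategoryTheory.Limits

set_option backward.defeqAttrib.useBackward true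
set_option backward.isDefEq.respectTransparency false
namespace Groth.L10.ClassRes

variable {A : Type u} [Category.{v} A] [Abelian A]

theorem pushout_refine {X Y Z : A} (ψ : X ⟶ Y) (d : X ⟶ Z) {T : A} (y : T ⟶ Y) (z : T ⟶ Z)
    (h : y ≫ pushout.inl ψ d = z ≫ pushout.inr ψ d) :
    ∃ (T' : A) (π : T' ⟶ T) (_ : Epi π) (w : T' ⟶ X), π ≫ y = w ≫ ψ ∧ π ≫ z = w ≫ d := by
  have he := (IsPushout.of_hasPushout ψ d).exact_shortComplex
  obtain ⟨T', π, hπ, w, hw⟩ := he.exact_up_to_refinements (biprod.lift y (-z))
    (by change biprod.lift y (-z) ≫ biprod.desc _ _ = 0; rw [biprod.lift_desc, h]; simp)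
  refine ⟨T', π, hπ, w, ?_, ?_⟩
  · have := congrArg (fun f => f ≫ biprod.fst) hw
    simpa using this
  · have := congrArg (fun f => f ≫ biprod.snd) hw
    simpa using this

variable (I : A → Prop) (hI : ∀ X : A, ∃ (Y : A) (ι : X ⟶ Y), I Y ∧ Mono ι) (K : CochainComplex A ℕ)

/-- The data of the resolution in degree `k`. -/
structure Stage (k : ℕ) where
  L : A
  hL : I L
  C : A
  π : L ⟶ C
  φ : K.X k ⟶ L
  mono : Mono φ
  hker : ∀ ⦃T : A⦄ (x : T ⟶ K.X k), x ≫ φ ≫ π = 0 → x ≫ K.d k (k + 1) = 0
  epi : Epi π

/-- The embedding into the class. -/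
noncomputable def emb (X : A) : X ⟶ (hI X).choose := (hI X).choose_spec.choose

theorem mono_emb (X : A) : Mono (emb I hI X) := (hI X).choose_spec.choose_spec.2

instance (X : A) : Mono (emb I hI X) := mono_emb I hI X

/-- The next pushout. -/
noncomputable abbrev Stage.P {k : ℕ} (S : Stage I K k) : A := pushout (S.φ ≫ S.π) (K.d k (k + 1))

/-- The next differential. -/
noncomputable abbrev Stage.δ {k : ℕ} (S : Stage I K k) : S.L ⟶ (hI S.P).choose :=
  S.π ≫ pushout.inl _ _ ≫ emb I hI S.P

/-- The next stage. -/
noncomputable def next {k : ℕ} (S : Stage I K k) : Stage I K (k + 1) where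
  L := (hI S.P).choose
  hL := (hI S.P).choose_spec.choose_spec.1
  C := cokernel (S.δ I hI K)
  π := cokernel.π _
  φ := pushout.inr _ _ ≫ emb I hI S.P
  mono := by
    have := S.mono
    refine Preadditive.mono_of_cancel_zero _ fun {T} x hx => ?_
    rw [← Category.assoc, ← zero_comp (f := emb I hI S.P), cancel_mono] at hx
    obtain ⟨T', π, hπ, w, h1, h2⟩ := pushout_refine (S.φ ≫ S.π) (K.d k (k + 1)) (0 : T ⟶ S.C) x (by rw [hx, zero_comp])
    rw [← cancel_epi π, h2, comp_zero]
    exact S.hker w (h1.symm.trans comp_zero)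
  hker T x hx := by
    obtain ⟨T', π, hπ, c, hc⟩ := ((ShortComplex.mk _ _ (cokernel.condition (S.δ I hI K))).exact_of_g_is_cokernel
      (cokernelIsCokernel _)).exact_up_to_refinements (x ≫ pushout.inr _ _ ≫ emb I hI S.P) (by simpa using hx)
    have hc' : (c ≫ S.π) ≫ pushout.inl (S.φ ≫ S.π) (K.d k (k + 1)) = (π ≫ x) ≫ pushout.inr _ _ := by
      rw [← cancel_mono (emb I hI S.P)]
      simpa [Category.assoc] using hc.symm
    obtain ⟨T'', π', hπ', w, -, h2⟩ := pushout_refine _ _ _ _ hc'
    rw [← cancel_epi π, ← cancel_epi π', comp_zero, comp_zero, ← Category.assoc, ← Category.assoc,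
      Category.assoc π', h2, Category.assoc, HomologicalComplex.d_comp_d, comp_zero]
  epi := inferInstance

/-- All stages. -/
noncomputable def stage : ∀ k, Stage I K k
  | 0 => { L := (hI (K.X 0)).choose
           hL := (hI (K.X 0)).choose_spec.choose_spec.1
           C := (hI (K.X 0)).choose
           π := 𝟙 _
           φ := emb I hI (K.X 0)
           mono := inferInstance
           hker := fun T x hx => by
             rw [Category.comp_id, ← zero_comp (f := emb I hI (K.X 0)), cancel_mono] at hx
             rw [hx, zero_comp]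
           epi := inferInstance }
  | k + 1 => next I hI K (stage k)

/-- The resolution. -/
noncomputable def res : CochainComplex A ℕ :=
  CochainComplex.of (fun k => (stage I hI K k).L) (fun k => (stage I hI K k).δ I hI K)
    (fun k => by
      change (stage I hI K k).δ I hI K ≫ ((stage I hI K (k + 1)).π ≫ _) = 0
      rw [← Category.assoc]
      refine (congrArg (· ≫ _) ?_).trans zero_comp
      exact cokernel.condition _)

theorem res_d (k : ℕ) : (res I hI K).d k (k + 1) = (stage I hI K k).δ I hI K := by
  simp [res]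

/-- The augmentation. -/
noncomputable def resι : K ⟶ res I hI K where
  f k := (stage I hI K k).φ
  comm' i j hij := by
    obtain rfl : i + 1 = j := hij
    rw [res_d]
    refine ((Category.assoc _ _ _).symm.trans ?_).trans (Category.assoc _ _ _)
    change ((stage I hI K i).φ ≫ (stage I hI K i).π) ≫ _ = _
    rw [pushout.condition_assoc, Category.assoc]

theorem mono_resι (k : ℕ) : Mono ((resι I hI K).f k) := (stage I hI K k).mono

theorem class_res (k : ℕ) : I ((res I hI K).X k) := (stage I hI K k).hL

theorem quasiIso_resι : QuasiIso (resι I hI K) := by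
  rw [quasiIso_iff]
  intro n
  rw [quasiIsoAt_iff_isIso_homologyMap]
  have hnext : (ComplexShape.up ℕ).next n = n + 1 := ComplexShape.next_eq' _ rfl
  have hcyc : ∀ ⦃T : A⦄ (y : T ⟶ (res I hI K).X n), y ≫ (res I hI K).d n (n + 1) = 0 →
      ∃ (T' : A) (π : T' ⟶ T) (_ : Epi π) (w : T' ⟶ K.X n), w ≫ K.d n (n + 1) = 0 ∧
        π ≫ y ≫ (stage I hI K n).π = w ≫ (stage I hI K n).φ ≫ (stage I hI K n).π := fun T y hy => by
    rw [res_d] at hy
    have h0 : (y ≫ (stage I hI K n).π) ≫ pushout.inl ((stage I hI K n).φ ≫ (stage I hI K n).π) (K.d n (n + 1)) =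
        (0 : T ⟶ K.X (n + 1)) ≫ pushout.inr _ _ := by
      rw [← cancel_mono (emb I hI (stage I hI K n).P), Category.assoc, Category.assoc, zero_comp, zero_comp]
      exact hy
    obtain ⟨T', π, hπ, w, h1, h2⟩ := pushout_refine _ _ _ _ h0
    exact ⟨T', π, hπ, w, h2.symm.trans comp_zero, h1⟩
  cases n with
  | zero =>
    have hE : Epi (HomologicalComplex.homologyMap (resι I hI K) 0) := by
      rw [HomologicalComplex.epi_homologyMap_iff_up_to_refinements _ 0 0 1 (by simp) (by simp)]
      intro T y hy
      obtain ⟨T', π, hπ, w, hw, h⟩ := hcyc y hy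
      refine ⟨T', π, hπ, w, hw, 0, ?_⟩
      rw [zero_comp, add_zero]
      refine ((congrArg (π ≫ ·) (Category.comp_id y)).symm.trans h).trans ?_
      exact congrArg (w ≫ ·) (Category.comp_id _)
    have hM : Mono (HomologicalComplex.homologyMap (resι I hI K) 0) := by
      rw [HomologicalComplex.mono_homologyMap_iff_up_to_refinements _ 0 0 1 (by simp) (by simp)]
      intro T x hx y hy
      have := mono_resι I hI K 0
      refine ⟨T, 𝟙 T, inferInstance, 0, ?_⟩
      rw [zero_comp, Category.id_comp, ← cancel_mono ((resι I hI K).f 0), zero_comp, hy,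
        HomologicalComplex.shape _ _ _ (by simp), comp_zero]
    exact isIso_of_mono_of_epi _
  | succ k =>
    have hE : Epi (HomologicalComplex.homologyMap (resι I hI K) (k + 1)) := by
      rw [HomologicalComplex.epi_homologyMap_iff_up_to_refinements _ k (k + 1) (k + 2) (by simp) (by simp)]
      intro T y hy
      obtain ⟨T', π, hπ, w, hw, h⟩ := hcyc y hy
      obtain ⟨T'', π', hπ', c, hc⟩ := ((ShortComplex.mk _ _ (cokernel.condition ((stage I hI K k).δ I hI K))).exact_of_g_is_cokernel
        (cokernelIsCokernel _)).exact_up_to_refinements (π ≫ y - w ≫ (resι I hI K).f (k + 1)) (by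
          change (show T' ⟶ (stage I hI K (k + 1)).L from π ≫ y - w ≫ (resι I hI K).f (k + 1)) ≫ (stage I hI K (k + 1)).π = 0
          rw [Preadditive.sub_comp, Category.assoc, Category.assoc, h]; exact sub_self _)
      refine ⟨T'', π' ≫ π, epi_comp _ _, π' ≫ w, by rw [Category.assoc, hw, comp_zero], c, ?_⟩
      rw [Preadditive.comp_sub, sub_eq_iff_eq_add] at hc
      rw [res_d]
      refine (Category.assoc _ _ _).trans (hc.trans ((add_comm _ _).trans ?_))
      exact congrArg (· + _) (Category.assoc _ _ _).symm
    have hM : Mono (HomologicalComplex.homologyMap (resι I hI K) (k + 1)) := by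
      rw [HomologicalComplex.mono_homologyMap_iff_up_to_refinements _ k (k + 1) (k + 2) (by simp) (by simp)]
      intro T x hx c hc
      rw [res_d] at hc
      have hc' : (c ≫ (stage I hI K k).π) ≫ pushout.inl ((stage I hI K k).φ ≫ (stage I hI K k).π) (K.d k (k + 1)) =
          x ≫ pushout.inr _ _ := by
        rw [← cancel_mono (emb I hI (stage I hI K k).P), Category.assoc, Category.assoc, Category.assoc]
        exact hc.symm
      obtain ⟨T', π, hπ, w, -, h2⟩ := pushout_refine _ _ _ _ hc'
      exact ⟨T', π, hπ, w, h2⟩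
    exact isIso_of_mono_of_epi _

include hI in
/-- A bounded below complex has a degreewise monomorphic quasi-isomorphism into a complex of the class. -/
theorem exists_res (hI0 : ∃ Z : A, IsZero Z ∧ I Z) (M : CochainComplex A ℤ) (a : ℤ) [M.IsStrictlyGE a] :
    ∃ (L : CochainComplex A ℤ) (α : M ⟶ L), L.IsStrictlyGE a ∧ (∀ n, I (L.X n)) ∧ (∀ n, Mono (α.f n)) ∧ QuasiIso α := by
  let e := ComplexShape.embeddingUpIntGE a
  have he : e.HasLift (𝟙 (M.restriction e)) := fun j hj i' hij' => by
    refine (IsZero.eq_of_src ?_ _ _)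
    exact M.isZero_X_of_isStrictlySupported e i' (hj.notMem hij')
  let c := e.liftExtend (𝟙 (M.restriction e)) he
  have hci : ∀ n, IsIso (c.f n) := fun n => by
    by_cases hn : ∃ i, e.f i = n
    · obtain ⟨i, hi⟩ := hn
      rw [e.isIso_liftExtend_f_iff _ _ hi]
      exact inferInstanceAs (IsIso (𝟙 _))
    · exact ⟨0, (M.isZero_X_of_isStrictlySupported e n (by simpa using hn)).eq_of_src _ _,
        (HomologicalComplex.isZero_extend_X _ e n (by simpa using hn)).eq_of_src _ _⟩
  have : IsIso c := HomologicalComplex.Hom.isIso_of_components c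
  have : QuasiIso (resι I hI (M.restriction e)) := quasiIso_resι _ _ _
  let L' := (res I hI (M.restriction e)).extend e
  let α' : M ⟶ L' := c ≫ HomologicalComplex.extendMap (resι I hI (M.restriction e)) e
  have hq : QuasiIso α' := inferInstance
  have hm : ∀ n, Mono (α'.f n) := fun n => by
    have := hci n
    have : Mono ((HomologicalComplex.extendMap (resι I hI (M.restriction e)) e).f n) := by
      by_cases hn : ∃ i, e.f i = n
      · obtain ⟨i, hi⟩ := hn
        rw [HomologicalComplex.extendMap_f _ e hi]
        have := mono_resι I hI (M.restriction e) i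
        infer_instance
      · exact ⟨fun _ _ _ => (HomologicalComplex.isZero_extend_X _ e n (by simpa using hn)).eq_of_tgt _ _⟩
    exact mono_comp _ _
  obtain ⟨Z, hZ, hIZ⟩ := hI0
  have hx : ∀ n, ∃ (Y : A) (_ : Y ≅ L'.X n), I Y := fun n => by
    by_cases hn : ∃ i, e.f i = n
    · obtain ⟨i, hi⟩ := hn
      exact ⟨_, ((res I hI (M.restriction e)).extendXIso e hi).symm, class_res _ _ _ i⟩
    · exact ⟨Z, hZ.iso (HomologicalComplex.isZero_extend_X _ e n (by simpa using hn)), hIZ⟩
  choose Y iY hY using hx
  let L : CochainComplex A ℤ :=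
    { X := Y
      d := fun i j => (iY i).hom ≫ L'.d i j ≫ (iY j).inv
      shape := fun i j h => by simp [L'.shape i j h]
      d_comp_d' := fun i j k _ _ => by simp }
  let g : L' ≅ L := HomologicalComplex.Hom.isoOfComponents (fun i => (iY i).symm) (fun i j _ => by simp [L])
  refine ⟨L, α' ≫ g.hom, ?_, hY, fun n => ?_, inferInstance⟩
  · exact CochainComplex.isStrictlyGE_of_iso g a
  · have := hm n
    have : IsIso (g.hom.f n) := inferInstanceAs (IsIso (iY n).inv)
    exact mono_comp _ _

end Groth.L10.ClassRes
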