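import Mathlib.Algebra.Homology.DerivedCategory.KInjective
import Mathlib.Algebra.Homology.DerivedCategory.KProjective
import Mathlib.Algebra.Homology.HomotopyCategory.DegreewiseSplit
import Mathlib.Algebra.Homology.HomotopyCategory.MappingCone
import Mathlib.Algebra.Homology.HomotopyCategory.Pretriangulated
import Mathlib.Algebra.Homology.DerivedCategory.HomologySequence
import Mathlib.Algebra.Homology.HomologySequenceLemmas
import Mathlib.Algebra.Homology.HomologicalComplexLimits
import Mathlib.Algebra.Homology.Embedding.CochainComplex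
import Mathlib.CategoryTheory.Adjunction.Additive

universe v u v' u' w
open CategoryTheory CategoryTheory.Limits CategoryTheory.Pretriangulated
open CochainComplex CochainComplex.HomComplex

set_option backward.defeqAttrib.useBackward true
set_option backward.isDefEq.respectTransparency false
namespace Groth.L10

section
variable {A : Type u} [Category.{v} A] [Abelian A]

theorem nullHomotopic_iff {K L : CochainComplex A ℤ} (f : K ⟶ L) :
    Nonempty (Homotopy f 0) ↔ ∃ α : Cochain K L (-1), δ (-1) 0 α = Cochain.ofHom f := by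
  constructor
  · rintro ⟨h⟩
    obtain ⟨α, hα⟩ := Cochain.equivHomotopy _ _ h
    exact ⟨α, by simpa using hα.symm⟩
  · rintro ⟨α, hα⟩
    exact ⟨(Cochain.equivHomotopy f 0).symm ⟨α, by simp [hα]⟩⟩

theorem nullHomotopic_iff_factor {K L : CochainComplex A ℤ} (f : K ⟶ L) :
    Nonempty (Homotopy f 0) ↔ ∃ g : mappingCone (𝟙 K) ⟶ L, mappingCone.inr (𝟙 K) ≫ g = f := by
  rw [nullHomotopic_iff]
  constructor
  · rintro ⟨α, hα⟩
    exact ⟨mappingCone.desc (𝟙 K) α f (by simpa using hα), mappingCone.inr_desc _ _ _ _⟩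
  · rintro ⟨g, rfl⟩
    refine ⟨(mappingCone.inl (𝟙 K)).comp (Cochain.ofHom g) (add_zero _), ?_⟩
    simp [δ_comp_ofHom, mappingCone.δ_inl]

theorem s0480 {T : Type w} (I : T → CochainComplex A ℤ)
    [HasProduct I] (h : ∀ t, (I t).IsKInjective) : (∏ᶜ I).IsKInjective where
  nonempty_homotopy_zero {K} f hK := by
    have h' := fun t => (nullHomotopic_iff_factor (f ≫ Pi.π I t)).1
      ((h t).nonempty_homotopy_zero _ hK)
    choose g hg using h'
    exact (nullHomotopic_iff_factor f).2 ⟨Pi.lift g, by ext t : 1; simp [hg]⟩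

theorem s0481 {B : Type u'} [Category.{v'} B] [Abelian B] (u : A ⥤ B) (w : B ⥤ A) (adj : w ⊣ u)
    [u.Additive] [w.Additive] [PreservesFiniteLimits w] [PreservesFiniteColimits w]
    (I : CochainComplex A ℤ) (h : I.IsKInjective) :
    CochainComplex.IsKInjective ((u.mapHomologicalComplex (ComplexShape.up ℤ)).obj I) where
  nonempty_homotopy_zero {K} f hK := by
    let f' : (w.mapHomologicalComplex (ComplexShape.up ℤ)).obj K ⟶ I :=
      { f := fun n => (adj.homEquiv _ _).symm (f.f n)
        comm' := fun i j _ => by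
          dsimp
          have := f.comm i j
          dsimp at this
          rw [← Adjunction.homEquiv_naturality_right_symm, ← Adjunction.homEquiv_naturality_left_symm, this] }
    have hK' : ((w.mapHomologicalComplex (ComplexShape.up ℤ)).obj K).Acyclic := fun n => by
      rw [HomologicalComplex.exactAt_iff]
      exact ((HomologicalComplex.exactAt_iff _ _).1 (hK n)).map w
    obtain ⟨α, hα⟩ := (nullHomotopic_iff _).1 (h.nonempty_homotopy_zero f' hK')
    refine (nullHomotopic_iff f).2 ⟨Cochain.mk (fun p q hpq => adj.homEquiv _ _ (α.v p q hpq)), ?_⟩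
    ext p
    have := Cochain.congr_v hα p p (add_zero p)
    rw [δ_v (-1) 0 (neg_add_cancel 1) _ p p (add_zero p) (p-1) (p+1) rfl rfl] at this ⊢
    simp only [Cochain.ofHom_v, f'] at this
    simp only [Cochain.ofHom_v, Cochain.mk_v]
    apply (adj.homEquiv _ _).symm.injective
    rw [← this]
    have := adj.left_adjoint_additive
    simp [Adjunction.homEquiv_counit, Adjunction.homEquiv_unit]

theorem exists_extension (S : ShortComplex (CochainComplex A ℤ)) (hS : S.ShortExact) (hA : S.X₃.Acyclic)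
    (I : CochainComplex A ℤ) [I.IsKInjective] [∀ n, Injective (I.X n)] (φ : S.X₁ ⟶ I) :
    ∃ ψ : S.X₂ ⟶ I, S.f ≫ ψ = φ := by
  have hn : ∀ n, (S.map (HomologicalComplex.eval A _ n)).ShortExact := fun n =>
    hS.map_of_exact (HomologicalComplex.eval A (ComplexShape.up ℤ) n)
  have : ∀ n, Mono (S.f.f n) := fun n => (hn n).mono_f
  have : ∀ n, Epi (S.g.f n) := fun n => (hn n).epi_g
  let β₀ : Cochain S.X₂ I 0 := Cochain.ofHoms (fun n => Injective.factorThru (φ.f n) (S.f.f n))
  let z := δ 0 1 β₀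
  have hz : ∀ p q (hpq : p + 1 = q), S.f.f p ≫ z.v p q hpq = 0 := fun p q hpq => by
    simp only [z, δ_zero_cochain_v, β₀, Cochain.ofHoms_v, Preadditive.comp_sub]
    rw [← Category.assoc, Injective.comp_factorThru, HomologicalComplex.Hom.comm_assoc, Injective.comp_factorThru,
      φ.comm, sub_self]
  let η : Cochain S.X₃ I 1 := Cochain.mk fun p q hpq =>
    (hn p).gIsCokernel.desc (CokernelCofork.ofπ (z.v p q hpq) (hz p q hpq))
  have hη : ∀ p q hpq, S.g.f p ≫ η.v p q hpq = z.v p q hpq := fun p q hpq =>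
    (hn p).gIsCokernel.fac (CokernelCofork.ofπ (z.v p q hpq) (hz p q hpq)) WalkingParallelPair.one
  have hη' : δ 1 2 η = 0 := by
    ext p q hpq
    rw [← cancel_epi (S.g.f p)]
    have := Cochain.congr_v (δ_δ 0 1 2 β₀) p q hpq
    rw [δ_v 1 2 rfl _ p q hpq (p+1) (p+1) (by omega) rfl] at this ⊢
    simp only [Preadditive.comp_add, Linear.comp_units_smul, Cochain.zero_v, comp_zero] at this ⊢
    rw [← Category.assoc, hη, HomologicalComplex.Hom.comm_assoc, hη]
    exact this
  obtain ⟨γ, hγ⟩ := IsKInjective.eq_δ_of_cocycle (Cocycle.mk η 2 rfl hη') hA 0 (zero_add 1)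
  let β : Cochain S.X₂ I 0 := β₀ - (Cochain.ofHom S.g).comp γ (zero_add 0)
  have hβ : δ 0 1 β = 0 := by
    simp only [β, δ_sub, δ_ofHom_comp, hγ]
    ext p q hpq
    simp [hη, z]
  refine ⟨Cocycle.homOf (Cocycle.mk β 1 rfl hβ), ?_⟩
  ext n
  simp [β, β₀, reassoc_of% (show S.f.f n ≫ S.g.f n = 0 by rw [← HomologicalComplex.comp_f, S.zero]; rfl)]

theorem s6611 (K L I : CochainComplex A ℤ) (α : K ⟶ L) [QuasiIso α] (hα : ∀ n : ℤ, Mono (α.f n))
    (a : ℤ) [I.IsStrictlyGE a] (hI : ∀ n : ℤ, Injective (I.X n)) (γ : K ⟶ I) :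
    ∃ β : L ⟶ I, α ≫ β = γ := by
  have : Mono α := HomologicalComplex.mono_of_mono_f α hα
  have := CochainComplex.isKInjective_of_injective I a
  let S := ShortComplex.mk α (cokernel.π α) (cokernel.condition α)
  have hS : S.ShortExact := { exact := ShortComplex.exact_cokernel α }
  exact exists_extension S hS (hS.acyclic_X₃ inferInstance) I γ

theorem homotopyCat_hom_zero (P K : CochainComplex A ℤ) (n b : ℤ) [P.IsStrictlyGE n] [P.IsStrictlyLE b]
    (hP : ∀ i : ℤ, Projective (P.X i)) (hK : ∀ i : ℤ, n ≤ i → IsZero (K.homology i)) [HasDerivedCategory.{w} A] :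
    (∀ φ : (HomotopyCategory.quotient A (ComplexShape.up ℤ)).obj P ⟶ (HomotopyCategory.quotient A (ComplexShape.up ℤ)).obj K, φ = 0) ∧
    (∀ φ : DerivedCategory.Q.obj P ⟶ DerivedCategory.Q.obj K, φ = 0) := by
  have := CochainComplex.isKProjective_of_projective P b
  have hle : K.IsLE (n-1) := (K.isLE_iff (n-1)).2 fun i hi =>
    (HomologicalComplex.exactAt_iff_isZero_homology _ _).2 (hK i (by omega))
  have hQ : ∀ φ : DerivedCategory.Q.obj P ⟶ DerivedCategory.Q.obj K, φ = 0 := fun φ => by
    obtain ⟨ψ, hψ⟩ := (CochainComplex.IsKProjective.Qh_map_bijective P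
      ((HomotopyCategory.quotient A _).obj (K.truncLE (n-1)))).2
      ((DerivedCategory.quotientCompQhIso A).hom.app P ≫ φ ≫ inv (DerivedCategory.Q.map (K.ιTruncLE (n-1))) ≫
        (DerivedCategory.quotientCompQhIso A).inv.app _)
    obtain ⟨f, rfl⟩ := (HomotopyCategory.quotient A _).map_surjective ψ
    have hf : f = 0 := by
      ext i
      by_cases hi : i < n
      · exact (P.isZero_of_isStrictlyGE n i hi).eq_of_src _ _
      · exact ((K.truncLE (n-1)).isZero_of_isStrictlyLE (n-1) i (by omega)).eq_of_tgt _ _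
    rw [hf, Functor.map_zero, Functor.map_zero] at hψ
    rw [← cancel_epi ((DerivedCategory.quotientCompQhIso A).hom.app P),
      ← cancel_mono (inv (DerivedCategory.Q.map (K.ιTruncLE (n-1))) ≫ (DerivedCategory.quotientCompQhIso A).inv.app _)]
    simpa using hψ.symm
  refine ⟨fun φ => ?_, hQ⟩
  apply (CochainComplex.IsKProjective.Qh_map_bijective P _).1
  rw [Functor.map_zero, ← cancel_epi ((DerivedCategory.quotientCompQhIso A).inv.app P),
    ← cancel_mono ((DerivedCategory.quotientCompQhIso A).hom.app K)]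
  simp only [Category.assoc, zero_comp, comp_zero]
  exact hQ _

theorem s6606 (P E L : CochainComplex A ℤ) (β : P ⟶ L) (α : E ⟶ L) (n b : ℤ) [P.IsStrictlyGE n] [P.IsStrictlyLE b]
    (hP : ∀ i : ℤ, Projective (P.X i))
    (hiso : ∀ i : ℤ, n < i → IsIso (HomologicalComplex.homologyMap α i)) (hepi : Epi (HomologicalComplex.homologyMap α n)) :
    ∃ γ : P ⟶ E, Nonempty (Homotopy (γ ≫ α) β) := by
  let _ := HasDerivedCategory.standard A
  have key : ∀ i, (IsIso (HomologicalComplex.homologyMap α i) → IsIso ((DerivedCategory.homologyFunctor A i).map (DerivedCategory.Q.map α))) ∧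
      (Epi (HomologicalComplex.homologyMap α i) → Epi ((DerivedCategory.homologyFunctor A i).map (DerivedCategory.Q.map α))) := fun i =>
    let e := Arrow.isoOfNatIso (DerivedCategory.homologyFunctorFactors A i) (Arrow.mk α)
    ⟨fun h => ((MorphismProperty.isomorphisms A).arrow_mk_iso_iff e).2 h,
     fun h => ((MorphismProperty.epimorphisms A).arrow_mk_iso_iff e).2 h⟩
  have hT := HomotopyCategory.mappingCone_triangleh_distinguished α
  have hC : ∀ i, n ≤ i → IsZero ((mappingCone α).homology i) := by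
    intro i hi
    let T := DerivedCategory.Qh.mapTriangle.obj (mappingCone.triangleh α)
    have hT' : T ∈ distTriang (DerivedCategory A) := DerivedCategory.Qh.map_distinguished _ hT
    have e1 : Epi ((DerivedCategory.homologyFunctor A i).map T.mor₁) := by
      change Epi ((DerivedCategory.homologyFunctor A i).map (DerivedCategory.Q.map α))
      rcases hi.lt_or_eq with h | rfl
      · have := (key i).1 (hiso i h); infer_instance
      · exact (key n).2 hepi
    have m1 : Mono ((DerivedCategory.homologyFunctor A (i+1)).map T.mor₁) := by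
      change Mono ((DerivedCategory.homologyFunctor A (i+1)).map (DerivedCategory.Q.map α))
      have := (key (i+1)).1 (hiso (i+1) (by omega)); infer_instance
    have z1 := (DerivedCategory.HomologySequence.epi_homologyMap_mor₁_iff T hT' i).1 e1
    have z2 := (DerivedCategory.HomologySequence.mono_homologyMap_mor₁_iff T hT' i (i+1) rfl).1 m1
    have := (DerivedCategory.HomologySequence.exact₃ T hT' i (i+1) rfl).isZero_of_both_zeros z1 z2
    exact this.of_iso ((DerivedCategory.homologyFunctorFactors A i).app (mappingCone α)).symm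
  obtain ⟨g, hg⟩ := Triangle.coyoneda_exact₂ _ hT ((HomotopyCategory.quotient A _).map β)
    ((homotopyCat_hom_zero P (mappingCone α) n b hP hC).1 _)
  obtain ⟨γ, rfl⟩ := (HomotopyCategory.quotient A _).map_surjective g
  refine ⟨γ, ⟨HomotopyCategory.homotopyOfEq _ _ ?_⟩⟩
  rw [Functor.map_comp]
  exact hg.symm

end

theorem s6622_aux {V : Type u} [Category.{v} V] [Preadditive V] [HasZeroObject V] [HasBinaryBiproducts V]
    (P : CochainComplex V ℤ → Prop) (hP0 : ∀ K, (∀ i, IsZero (K.X i)) → P K)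
    (hPs : ∀ K (a : ℤ), P K → P (K⟦a⟧))
    (hPc : ∀ K L (φ : K ⟶ L), P K → P L → P (mappingCone φ)) :
    ObjectProperty.IsTriangulated (fun K : HomotopyCategory V (ComplexShape.up ℤ) => P K.as) := by
  refine
    { exists_zero := ⟨(HomotopyCategory.quotient V _).obj (HomologicalComplex.zero), ?_, ?_⟩
      isStableUnderShiftBy := fun a => ⟨fun K hK => ?_⟩
      toIsTriangulatedClosed₂ := ⟨fun T hT h1 h3 => ?_⟩ }
  · rw [IsZero.iff_id_eq_zero, ← (HomotopyCategory.quotient V _).map_id]
    rw [show (𝟙 (HomologicalComplex.zero : CochainComplex V ℤ)) = 0 from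
      HomologicalComplex.hom_ext _ _ fun i => (isZero_zero V).eq_of_src _ _, Functor.map_zero]
  · exact hP0 _ fun i => isZero_zero V
  · obtain ⟨K', rfl⟩ := HomotopyCategory.quotient_obj_surjective K
    rw [ObjectProperty.prop_shift_iff, HomotopyCategory.shift_quotient_obj]
    exact hPs _ a hK
  · obtain ⟨X₁, e₁⟩ := HomotopyCategory.quotient_obj_surjective T.obj₁
    obtain ⟨X₃, e₃⟩ := HomotopyCategory.quotient_obj_surjective T.obj₃
    rw [← e₁] at h1
    rw [← e₃] at h3
    obtain ⟨f, hf⟩ := (HomotopyCategory.quotient V (ComplexShape.up ℤ)).map_surjective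
      (eqToHom e₃ ≫ T.mor₃ ≫ (eqToHom e₁.symm)⟦(1:ℤ)⟧' ≫
        ((HomotopyCategory.quotient V (ComplexShape.up ℤ)).commShiftIso (1:ℤ)).inv.app X₁)
    have hc := HomotopyCategory.mappingCone_triangleh_distinguished f
    have hr := rot_of_distTriang _ (rot_of_distTriang _ hT)
    let e := isoTriangleOfIso₁₂ _ _ hr hc (eqToIso e₃.symm)
      ((CategoryTheory.shiftFunctor _ (1:ℤ)).mapIso (eqToIso e₁.symm) ≪≫
        (((HomotopyCategory.quotient V (ComplexShape.up ℤ)).commShiftIso (1:ℤ)).app X₁).symm) (by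
      dsimp; simp [hf])
    let e₂ := Triangle.π₃.mapIso e
    refine ⟨(CategoryTheory.shiftFunctor _ (-1:ℤ)).obj ((HomotopyCategory.quotient V _).obj (mappingCone f)), ?_,
      ⟨((shiftEquiv _ (1:ℤ)).unitIso.app T.obj₂) ≪≫ (CategoryTheory.shiftFunctor _ (-1:ℤ)).mapIso e₂⟩⟩
    rw [HomotopyCategory.shift_quotient_obj]
    exact hPs _ _ (hPc _ _ f h3 (hPs _ _ h1))

theorem s6622 {V : Type u} [Category.{v} V] [Preadditive V] [HasZeroObject V] [HasBinaryBiproducts V] :
    (ObjectProperty.IsTriangulated (fun K : HomotopyCategory V (ComplexShape.up ℤ) => ∃ n : ℤ, CochainComplex.IsStrictlyLE K.as n)) ∧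
    (ObjectProperty.IsTriangulated (fun K : HomotopyCategory V (ComplexShape.up ℤ) =>
      ∃ a b : ℤ, CochainComplex.IsStrictlyGE K.as a ∧ CochainComplex.IsStrictlyLE K.as b)) := by
  refine ⟨s6622_aux (fun K => ∃ n : ℤ, CochainComplex.IsStrictlyLE K n) ?_ ?_ ?_,
    s6622_aux (fun K => ∃ a b : ℤ, CochainComplex.IsStrictlyGE K a ∧ CochainComplex.IsStrictlyLE K b) ?_ ?_ ?_⟩
  · exact fun K h => ⟨0, (K.isStrictlyLE_iff 0).2 fun i _ => h i⟩
  · rintro K a ⟨n, h⟩
    exact ⟨n - a, K.isStrictlyLE_shift n a (n-a) (by omega)⟩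
  · rintro K L φ ⟨n, h⟩ ⟨m, h'⟩
    refine ⟨max n m, ((mappingCone φ).isStrictlyLE_iff _).2 fun i hi => ?_⟩
    exact (mappingCone.isZero_X_iff φ i).2 ⟨K.isZero_of_isStrictlyLE n _ (by omega), L.isZero_of_isStrictlyLE m _ (by omega)⟩
  · exact fun K h => ⟨0, 0, (K.isStrictlyGE_iff 0).2 fun i _ => h i, (K.isStrictlyLE_iff 0).2 fun i _ => h i⟩
  · rintro K a ⟨p, q, h, h'⟩
    exact ⟨p - a, q - a, K.isStrictlyGE_shift p a (p-a) (by omega), K.isStrictlyLE_shift q a (q-a) (by omega)⟩
  · rintro K L φ ⟨p, q, h, h'⟩ ⟨p', q', g, g'⟩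
    refine ⟨min p p' - 1, max q q', ((mappingCone φ).isStrictlyGE_iff _).2 fun i hi => ?_,
      ((mappingCone φ).isStrictlyLE_iff _).2 fun i hi => ?_⟩
    · exact (mappingCone.isZero_X_iff φ i).2 ⟨K.isZero_of_isStrictlyGE p _ (by omega), L.isZero_of_isStrictlyGE p' _ (by omega)⟩
    · exact (mappingCone.isZero_X_iff φ i).2 ⟨K.isZero_of_isStrictlyLE q _ (by omega), L.isZero_of_isStrictlyLE q' _ (by omega)⟩

end Groth.L10
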