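import Groth.Agent.L10.KInjDerived
import Groth.Agent.L10.KInj
import Mathlib.Algebra.Homology.HomologicalComplexLimits

/-! Products and coproducts in homotopy and derived categories. -/

universe t w v u

open CategoryTheory CategoryTheory.Limits

set_option backward.defeqAttrib.useBackward true
set_option backward.isDefEq.respectTransparency false
namespace Groth.L10.HomotopyProd

variable {A : Type u} [Category.{v} A] [Preadditive A] {ι : Type t}

local notation "qK" => HomotopyCategory.quotient A (ComplexShape.up ℤ)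

theorem hom_to_product_bijective (K : ι → CochainComplex A ℤ) [HasProductsOfShape ι A]
    (Y : HomotopyCategory A (ComplexShape.up ℤ)) :
    Function.Bijective (fun (g : Y ⟶ (qK).obj (∏ᶜ K)) i => g ≫ (qK).map (Pi.π K i)) := by
  refine ⟨fun g g' h => ?_, fun f => ?_⟩
  · obtain ⟨g, rfl⟩ := (qK).map_surjective (X := Y.as) g
    obtain ⟨g', rfl⟩ := (qK).map_surjective (X := Y.as) g'
    have H : ∀ i, Nonempty (Homotopy (g ≫ Pi.π K i) (g' ≫ Pi.π K i)) := fun i =>
      ⟨HomotopyCategory.homotopyOfEq _ _ (by simpa only [Functor.map_comp] using congrFun h i)⟩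
    let hl := fun q => isLimitOfHasProductOfPreservesLimit (HomologicalComplex.eval A (ComplexShape.up ℤ) q) K
    let hh : ∀ p q, Y.as.X p ⟶ (∏ᶜ K).X q := fun p q => Fan.IsLimit.lift (hl q) fun i => ((H i).some.hom p q)
    have hh' : ∀ p q i, hh p q ≫ (Pi.π K i).f q = (H i).some.hom p q := fun p q i => Fan.IsLimit.fac (hl q) _ i
    refine HomotopyCategory.eq_of_homotopy _ _
      { hom := hh, zero := fun p q hpq => Fan.IsLimit.hom_ext (hl q) _ _ fun i => ?_, comm := fun p => ?_ }
    · exact (hh' p q i).trans (((H i).some.zero p q hpq).trans zero_comp.symm)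
    · refine Fan.IsLimit.hom_ext (hl p) _ _ fun i => ?_
      have := (H i).some.comm p
      simp only [HomologicalComplex.comp_f] at this
      refine this.trans ?_
      simp [dNext_eq _ (show (ComplexShape.up ℤ).Rel p (p+1) from rfl),
        prevD_eq _ (show (ComplexShape.up ℤ).Rel (p-1) p by simp), hh']
      rw [← (Pi.π K i).comm, reassoc_of% hh']
  · choose g hg using fun i => (qK).map_surjective (X := Y.as) (f i)
    refine ⟨(qK).map (Pi.lift g), funext fun i => ?_⟩
    refine ((qK).map_comp _ _).symm.trans ?_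
    rw [Pi.lift_π]
    exact hg i

theorem hom_from_coproduct_bijective (K : ι → CochainComplex A ℤ) [HasCoproductsOfShape ι A]
    (Y : HomotopyCategory A (ComplexShape.up ℤ)) :
    Function.Bijective (fun (g : (qK).obj (∐ K) ⟶ Y) i => (qK).map (Sigma.ι K i) ≫ g) := by
  refine ⟨fun g g' h => ?_, fun f => ?_⟩
  · obtain ⟨g, rfl⟩ := (qK).map_surjective (Y := Y.as) g
    obtain ⟨g', rfl⟩ := (qK).map_surjective (Y := Y.as) g'
    have H : ∀ i, Nonempty (Homotopy (Sigma.ι K i ≫ g) (Sigma.ι K i ≫ g')) := fun i =>
      ⟨HomotopyCategory.homotopyOfEq _ _ (by simpa only [Functor.map_comp] using congrFun h i)⟩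
    let hl := fun q => isColimitOfHasCoproductOfPreservesColimit (HomologicalComplex.eval A (ComplexShape.up ℤ) q) K
    let hh : ∀ p q, (∐ K).X p ⟶ Y.as.X q := fun p q => Cofan.IsColimit.desc (hl p) fun i => ((H i).some.hom p q)
    have hh' : ∀ p q i, (Sigma.ι K i).f p ≫ hh p q = (H i).some.hom p q := fun p q i => Cofan.IsColimit.fac (hl p) _ i
    refine HomotopyCategory.eq_of_homotopy _ _
      { hom := hh, zero := fun p q hpq => Cofan.IsColimit.hom_ext (hl p) _ _ fun i => ?_, comm := fun p => ?_ }
    · exact (hh' p q i).trans (((H i).some.zero p q hpq).trans comp_zero.symm)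
    · refine Cofan.IsColimit.hom_ext (hl p) _ _ fun i => ?_
      have := (H i).some.comm p
      simp only [HomologicalComplex.comp_f] at this
      refine this.trans ?_
      simp [dNext_eq _ (show (ComplexShape.up ℤ).Rel p (p+1) from rfl),
        prevD_eq _ (show (ComplexShape.up ℤ).Rel (p-1) p by simp), ← hh']
  · choose g hg using fun i => (qK).map_surjective (Y := Y.as) (f i)
    refine ⟨(qK).map (Sigma.desc g), funext fun i => ?_⟩
    refine ((qK).map_comp _ _).symm.trans ?_
    rw [Sigma.ι_desc]
    exact hg i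

end Groth.L10.HomotopyProd

namespace Groth.L10.DerivedProd

open KInjDerived

variable {A : Type u} [Category.{v} A] [Abelian A] [HasDerivedCategory.{w} A] {ι : Type t}

local notation "qK" => HomotopyCategory.quotient A (ComplexShape.up ℤ)

theorem hom_to_product_bijective (I : ι → CochainComplex A ℤ) [HasProductsOfShape ι A] [∀ i, (I i).IsKInjective]
    (Y : DerivedCategory A) :
    Function.Bijective (fun (g : Y ⟶ DerivedCategory.Qh.obj ((qK).obj (∏ᶜ I))) i =>
      g ≫ DerivedCategory.Qh.map ((qK).map (Pi.π I i))) := by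
  have hP : (∏ᶜ I).IsKInjective :=
    Groth.L10.s0480 I (fun i => inferInstance)
  let Y' := DerivedCategory.Qh.objPreimage Y
  let e : DerivedCategory.Qh.obj Y' ≅ Y := DerivedCategory.Qh.objObjPreimageIso Y
  refine ⟨fun g g' h => ?_, fun f => ?_⟩
  · obtain ⟨x, hx⟩ := (qh_bijective Y' ⟨_, hP⟩).surjective (e.hom ≫ g)
    obtain ⟨x', hx'⟩ := (qh_bijective Y' ⟨_, hP⟩).surjective (e.hom ≫ g')
    rw [← cancel_epi e.hom, ← hx, ← hx']
    congr 1
    refine (HomotopyProd.hom_to_product_bijective I Y').injective (funext fun i => ?_)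
    refine (qh_bijective Y' ⟨(qK).obj (I i), inferInstanceAs (I i).IsKInjective⟩).injective ?_
    rw [Functor.map_comp, Functor.map_comp, hx, hx', Category.assoc, Category.assoc]
    exact congrArg _ (congrFun h i)
  · choose x hx using fun i =>
      (qh_bijective Y' ⟨(qK).obj (I i), inferInstanceAs (I i).IsKInjective⟩).surjective (e.hom ≫ f i)
    obtain ⟨y, hy⟩ := (HomotopyProd.hom_to_product_bijective I Y').surjective x
    refine ⟨e.inv ≫ DerivedCategory.Qh.map y, funext fun i => ?_⟩
    rw [← cancel_epi e.hom, ← hx]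
    simp only [Category.assoc, Iso.hom_inv_id_assoc]
    rw [← Functor.map_comp]
    exact congrArg DerivedCategory.Qh.map (congrFun hy i)

theorem hasProductsOfShape [HasProductsOfShape ι A] [EnoughKInjectives A] :
    HasProductsOfShape ι (DerivedCategory A) := by
  have h : ∀ X : ι → DerivedCategory A, HasProduct X := fun X => by
    let R := fun i => (exists_rightResolution (A := A) (DerivedCategory.Qh.objPreimage (X i))).some
    let I : ι → CochainComplex A ℤ := fun i => (R i).X₁.obj.as
    have : ∀ i, (I i).IsKInjective := fun i => (R i).X₁.property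
    have : ∀ i, IsIso (DerivedCategory.Qh.map (R i).w) := fun i =>
      Localization.inverts DerivedCategory.Qh (HomotopyCategory.quasiIso A (ComplexShape.up ℤ)) _ (R i).hw
    let e : ∀ i, DerivedCategory.Qh.obj ((qK).obj (I i)) ≅ X i := fun i =>
      (asIso (DerivedCategory.Qh.map (R i).w)).symm ≪≫ DerivedCategory.Qh.objObjPreimageIso (X i)
    have hb := fun Y => hom_to_product_bijective I Y
    refine HasLimit.mk ⟨Fan.mk _ fun i => DerivedCategory.Qh.map ((qK).map (Pi.π I i)) ≫ (e i).hom,
      mkFanLimit _ (fun s => ((hb s.pt).surjective fun i => s.proj i ≫ (e i).inv).choose) ?_ ?_⟩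
    · intro s i
      have := congrFun ((hb s.pt).surjective fun i => s.proj i ≫ (e i).inv).choose_spec i
      simp only [fan_mk_proj, ← Category.assoc]
      rw [this, Category.assoc, Iso.inv_hom_id, Category.comp_id]
    · intro s m hm
      refine (hb s.pt).injective (funext fun i => ?_)
      rw [congrFun ((hb s.pt).surjective fun i => s.proj i ≫ (e i).inv).choose_spec i, ← hm i]
      simp
  exact ⟨fun F => hasLimit_of_iso (F := Discrete.functor fun j => F.obj ⟨j⟩) Discrete.natIsoFunctor.symm⟩

theorem hom_from_coproduct_bijective (K : ι → CochainComplex A ℤ) [HasCoproductsOfShape ι A] [EnoughKInjectives A]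
    (Y : DerivedCategory A) :
    Function.Bijective (fun (g : DerivedCategory.Qh.obj ((qK).obj (∐ K)) ⟶ Y) i =>
      DerivedCategory.Qh.map ((qK).map (Sigma.ι K i)) ≫ g) := by
  obtain ⟨R⟩ := exists_rightResolution (A := A) (DerivedCategory.Qh.objPreimage Y)
  have := Localization.inverts DerivedCategory.Qh (HomotopyCategory.quasiIso A (ComplexShape.up ℤ)) _ R.hw
  let e : DerivedCategory.Qh.obj R.X₁.obj ≅ Y :=
    (asIso (DerivedCategory.Qh.map R.w)).symm ≪≫ DerivedCategory.Qh.objObjPreimageIso Y
  refine ⟨fun g g' h => ?_, fun f => ?_⟩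
  · obtain ⟨x, hx⟩ := (qh_bijective _ R.X₁).surjective (g ≫ e.inv)
    obtain ⟨x', hx'⟩ := (qh_bijective _ R.X₁).surjective (g' ≫ e.inv)
    rw [← cancel_mono e.inv, ← hx, ← hx']
    congr 1
    refine (HomotopyProd.hom_from_coproduct_bijective K _).injective (funext fun i => ?_)
    refine (qh_bijective _ R.X₁).injective ?_
    rw [Functor.map_comp, Functor.map_comp, hx, hx', ← Category.assoc, ← Category.assoc]
    exact congrArg (· ≫ e.inv) (congrFun h i)
  · choose x hx using fun i => (qh_bijective ((qK).obj (K i)) R.X₁).surjective (f i ≫ e.inv)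
    obtain ⟨y, hy⟩ := (HomotopyProd.hom_from_coproduct_bijective K _).surjective x
    refine ⟨DerivedCategory.Qh.map y ≫ e.hom, funext fun i => ?_⟩
    rw [← cancel_mono e.inv, ← hx]
    simp only [Category.assoc, Iso.hom_inv_id, Category.comp_id]
    rw [← Functor.map_comp]
    exact congrArg DerivedCategory.Qh.map (congrFun hy i)

theorem hasCoproductsOfShape [HasCoproductsOfShape ι A] [EnoughKInjectives A] :
    HasCoproductsOfShape ι (DerivedCategory A) := by
  have h : ∀ X : ι → DerivedCategory A, HasCoproduct X := fun X => by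
    let K := fun i => (DerivedCategory.Qh.objPreimage (X i)).as
    let e : ∀ i, DerivedCategory.Qh.obj ((qK).obj (K i)) ≅ X i := fun i => DerivedCategory.Qh.objObjPreimageIso (X i)
    have hb := fun Y => hom_from_coproduct_bijective K Y
    refine HasColimit.mk ⟨Cofan.mk _ fun i => (e i).inv ≫ DerivedCategory.Qh.map ((qK).map (Sigma.ι K i)),
      mkCofanColimit _ (fun s => ((hb s.pt).surjective fun i => (e i).hom ≫ s.inj i).choose) ?_ ?_⟩
    · intro s i
      have := congrFun ((hb s.pt).surjective fun i => (e i).hom ≫ s.inj i).choose_spec i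
      simp only [cofan_mk_inj, Category.assoc]
      rw [this, Iso.inv_hom_id_assoc]
    · intro s m hm
      refine (hb s.pt).injective (funext fun i => ?_)
      rw [congrFun ((hb s.pt).surjective fun i => (e i).hom ≫ s.inj i).choose_spec i, ← hm i]
      simp
  exact ⟨fun F => hasColimit_of_iso (F := Discrete.functor fun j => F.obj ⟨j⟩) Discrete.natIsoFunctor⟩

end Groth.L10.DerivedProd
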