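import Groth.Agent.L10.SiteCoh
import Mathlib.CategoryTheory.Abelian.Injective.Ext
import Mathlib.CategoryTheory.Abelian.RightDerived
import Mathlib.CategoryTheory.Limits.FunctorCategory.EpiMono
import Mathlib.Algebra.Homology.ShortComplex.Ab
import Mathlib.CategoryTheory.Sites.Adjunction

/-! Right derived functors of `sheafToPresheaf` and of direct images. -/

universe v' u' u

open CategoryTheory CategoryTheory.Limits CategoryTheory.Abelian Opposite

set_option backward.defeqAttrib.useBackward true
set_option backward.isDefEq.respectTransparency false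
namespace Groth.L10.SiteCoh

variable {C : Type u} [SmallCategory C] {J : GrothendieckTopology C}

/-- Right derived functors of a composite with an exact functor. -/
noncomputable def rightDerivedCompIso {A : Type u'} [Category.{v'} A] [Abelian A] [HasInjectiveResolutions A]
    {B D : Type*} [Category B] [Abelian B] [Category D] [Abelian D] (F : A ⥤ B) [F.Additive] (G : B ⥤ D)
    [G.Additive] [PreservesFiniteLimits G] [PreservesFiniteColimits G] (n : ℕ) (X : A) :
    ((F ⋙ G).rightDerived n).obj X ≅ G.obj ((F.rightDerived n).obj X) :=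
  (injectiveResolution X).isoRightDerivedObj (F ⋙ G) n ≪≫
    (((F.mapHomologicalComplex _).obj (injectiveResolution X).cocomplex).sc n).mapHomologyIso G ≪≫
      (G.mapIso ((injectiveResolution X).isoRightDerivedObj F n)).symm

/-- Right derived functors of isomorphic functors. -/
noncomputable def rightDerivedCongr {A : Type u'} [Category.{v'} A] [Abelian A] [HasInjectiveResolutions A]
    {B : Type*} [Category B] [Abelian B] {F G : A ⥤ B} [F.Additive] [G.Additive] (e : F ≅ G) (n : ℕ) :
    F.rightDerived n ≅ G.rightDerived n where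
  hom := NatTrans.rightDerived e.hom n
  inv := NatTrans.rightDerived e.inv n
  hom_inv_id := by rw [← NatTrans.rightDerived_comp]; simp
  inv_hom_id := by rw [← NatTrans.rightDerived_comp]; simp

instance : (sheafToPresheaf J AddCommGrpCat.{u}).Additive where

variable (F : Sheaf J AddCommGrpCat.{u})

/-- `H^0(-, F) = F`. -/
noncomputable def cohZeroIso : F.obj ≅ Sheaf.cohomologyPresheaf.{u} F 0 :=
  NatIso.ofComponents (fun U => AddEquiv.toAddCommGrpIso (hu0 F U.unop).symm) (fun {U V} f => by
    ext s
    apply (hu0 F V.unop).injective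
    refine ((hu0 F V.unop).apply_symm_apply _).trans ?_
    change _ = hu0 F V.unop ((Ext.mk₀ (fsMap J f.unop)).comp ((hu0 F U.unop).symm s) (zero_add 0))
    rw [hu0_map, AddEquiv.apply_symm_apply]
    rfl)

variable {F} (R : InjectiveResolution F)

/-- The complex of presheaves underlying an injective resolution. -/
noncomputable abbrev pcx : CochainComplex (Cᵒᵖ ⥤ AddCommGrpCat.{u}) ℕ :=
  ((sheafToPresheaf J AddCommGrpCat.{u}).mapHomologicalComplex _).obj R.cocomplex

theorem comp_d_eq_zero {n : ℕ} (U : Cᵒᵖ) (x : ((pcx R).cycles n).obj U) :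
    (secEquiv J U.unop _).symm (((pcx R).iCycles n).app U x) ≫ R.cocomplex.d n (n+1) = 0 := by
  apply (secEquiv J U.unop _).injective
  rw [secEquiv_comp, AddEquiv.apply_symm_apply, map_zero]
  exact congr($(congr_app ((pcx R).iCycles_d n (n+1)) U) x)

theorem extMk_congr {X : Sheaf J AddCommGrpCat.{u}} (n : ℕ) {a b : X ⟶ R.cocomplex.X n}
    {ha : a ≫ R.cocomplex.d n (n+1) = 0} (h : a = b) :
    R.extMk a (n+1) rfl ha = R.extMk b (n+1) rfl (h ▸ ha) := by
  subst h; rfl

/-- The map from cocycles to cohomology. -/
noncomputable def toCoh (n : ℕ) : (pcx R).cycles n ⟶ Sheaf.cohomologyPresheaf.{u} F n where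
  app U := AddCommGrpCat.ofHom
    { toFun := fun x => R.extMk ((secEquiv J U.unop _).symm (((pcx R).iCycles n).app U x)) (n+1) rfl (comp_d_eq_zero R U x)
      map_zero' := (extMk_congr R n (by simp only [map_zero])).trans (R.extMk_zero (n+1) rfl)
      map_add' := fun x y => by
        simp only [map_add]
        exact (R.add_extMk _ _ _ _ _ _).symm }
  naturality {U V} f := by
    ext x
    have hs : (secEquiv J V.unop (R.cocomplex.X n)).symm (((pcx R).iCycles n).app V (((pcx R).cycles n).map f x)) =
        fsMap J f.unop ≫ (secEquiv J U.unop _).symm (((pcx R).iCycles n).app U x) := by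
      apply (secEquiv J V.unop _).injective
      rw [AddEquiv.apply_symm_apply, secEquiv_map, AddEquiv.apply_symm_apply]
      exact congr($(((pcx R).iCycles n).naturality f) x)
    refine Eq.trans ?_ (R.mk₀_comp_extMk _ (n+1) rfl (comp_d_eq_zero R U x) (fsMap J f.unop)).symm
    exact extMk_congr R n (ha := comp_d_eq_zero R V _) hs

/-- Higher right derived functors of `sheafToPresheaf` are the cohomology presheaves. -/
theorem nonempty_homology_iso (n : ℕ) :
    Nonempty ((pcx R).homology (n+1) ≅ Sheaf.cohomologyPresheaf.{u} F (n+1)) := by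
  let φ := toCoh R (n+1)
  have hz : (pcx R).toCycles n (n+1) ≫ φ = 0 := by
    ext U : 2
    refine AddCommGrpCat.hom_ext (AddMonoidHom.ext fun y => ?_)
    refine (R.extMk_eq_zero_iff _ (n+2) rfl (comp_d_eq_zero R U _) n rfl).2
      ⟨(secEquiv J U.unop _).symm y, (secEquiv J U.unop _).injective ?_⟩
    rw [secEquiv_comp, AddEquiv.apply_symm_apply, AddEquiv.apply_symm_apply]
    exact congr($(congr_app ((pcx R).toCycles_i n (n+1)).symm U) y)
  have hepi : Epi φ := by
    have : ∀ U, Epi (φ.app U) := fun U => by
      rw [AddCommGrpCat.epi_iff_surjective]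
      intro ξ
      obtain ⟨f, hf, rfl⟩ := R.extMk_surjective ξ (n+2) rfl
      have hk : ((ShortComplex.mk _ _ ((pcx R).iCycles_d (n+1) (n+2))).map
          ((evaluation _ _).obj U)).Exact :=
        (ShortComplex.exact_of_f_is_kernel _ ((pcx R).cyclesIsKernel (n+1) (n+2) (by simp))).map _
      rw [ShortComplex.ab_exact_iff] at hk
      obtain ⟨x, hx⟩ := hk (secEquiv J U.unop _ f) (by
        change (R.cocomplex.d (n+1) (n+2)).hom.app U _ = _
        rw [← secEquiv_comp, hf, map_zero])
      exact ⟨x, extMk_congr R _ (ha := comp_d_eq_zero R U x) ((secEquiv J U.unop _).injective (by rw [AddEquiv.apply_symm_apply]; exact hx))⟩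
    exact NatTrans.epi_of_epi_app _
  have hex : (ShortComplex.mk _ _ hz).Exact := by
    rw [ShortComplex.exact_iff_isZero_homology]
    refine Functor.isZero _ fun U => ?_
    refine IsZero.of_iso ?_ ((ShortComplex.mk _ _ hz).mapHomologyIso ((evaluation _ _).obj U)).symm
    rw [← ShortComplex.exact_iff_isZero_homology, ShortComplex.ab_exact_iff]
    intro x hx
    obtain ⟨g, hg⟩ := (R.extMk_eq_zero_iff _ (n+2) rfl (comp_d_eq_zero R U x) n rfl).1 hx
    refine ⟨secEquiv J U.unop _ g, ?_⟩
    have : Mono (((pcx R).iCycles (n+1)).app U) := inferInstance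
    apply (AddCommGrpCat.mono_iff_injective _).1 this
    refine (congr($(congr_app ((pcx R).toCycles_i n (n+1)) U) _)).trans ?_
    change (R.cocomplex.d n (n+1)).hom.app U _ = _
    rw [← secEquiv_comp, hg, AddEquiv.apply_symm_apply]
  exact ⟨((pcx R).homologyIsCokernel n (n+1) (by simp)).coconePointUniqueUpToIso hex.gIsCokernel⟩

theorem nonempty_rightDerived_iso (F : Sheaf J AddCommGrpCat.{u}) (n : ℕ) :
    Nonempty (((sheafToPresheaf J AddCommGrpCat.{u}).rightDerived n).obj F ≅
      Sheaf.cohomologyPresheaf.{u} F n) := by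
  cases n with
  | zero => exact ⟨(sheafToPresheaf J AddCommGrpCat.{u}).rightDerivedZeroIsoSelf.app F ≪≫ cohZeroIso F⟩
  | succ n =>
    obtain ⟨e⟩ := nonempty_homology_iso (injectiveResolution F) n
    exact ⟨(injectiveResolution F).isoRightDerivedObj _ (n+1) ≪≫ e⟩

variable {D : Type u} [SmallCategory D] (K : GrothendieckTopology D) (u : D ⥤ C) [u.IsContinuous K J]

/-- Higher direct images are the sheafified cohomology presheaves. -/
theorem nonempty_Rpush_iso (F : Sheaf J AddCommGrpCat.{u}) (n : ℕ) :
    Nonempty ((CohSite.Rpush J K u n).obj F ≅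
      (presheafToSheaf K AddCommGrpCat.{u}).obj (u.op ⋙ F.cohomologyPresheaf n)) := by
  let G : (Cᵒᵖ ⥤ AddCommGrpCat.{u}) ⥤ Sheaf K AddCommGrpCat.{u} :=
    (Functor.whiskeringLeft _ _ _).obj u.op ⋙ presheafToSheaf K _
  have : PreservesFiniteLimits G := comp_preservesFiniteLimits _ _
  have : PreservesFiniteColimits G := comp_preservesFiniteColimits _ _
  have : G.Additive := Functor.additive_of_preserves_binary_products G
  let e : CohSite.push J K u ≅ sheafToPresheaf J AddCommGrpCat.{u} ⋙ G :=
    NatIso.ofComponents (fun F => (asIso ((sheafificationAdjunction K AddCommGrpCat.{u}).counit.app ((CohSite.push J K u).obj F))).symm)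
      (fun {F G} f => by
        simp only [Iso.symm_hom, asIso_inv]
        rw [IsIso.comp_inv_eq, Category.assoc, IsIso.eq_inv_comp]
        exact ((sheafificationAdjunction K AddCommGrpCat.{u}).counit.naturality _).symm)
  obtain ⟨e'⟩ := nonempty_rightDerived_iso F n
  exact ⟨(rightDerivedCongr e n).app F ≪≫ rightDerivedCompIso _ G n F ≪≫ G.mapIso e'⟩

/-- Higher direct images vanish when the cohomology presheaf does. -/
theorem isZero_Rpush (F : Sheaf J AddCommGrpCat.{u}) (n : ℕ)
    (h : ∀ V, Subsingleton (Ext (fs J (u.obj V)) F n)) : IsZero ((CohSite.Rpush J K u n).obj F) := by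
  obtain ⟨e⟩ := nonempty_Rpush_iso K u F n
  refine IsZero.of_iso (Functor.map_isZero _ (Functor.isZero _ fun V => ?_)) e
  have : Subsingleton ((u.op ⋙ F.cohomologyPresheaf n).obj V) := h V.unop
  exact AddCommGrpCat.isZero_of_subsingleton _

/-- The free sheaf on a presheaf of sets only depends on its sheafification. -/
noncomputable def freeSheafifyIso (P : Cᵒᵖ ⥤ Type u) :
    (presheafToSheaf J AddCommGrpCat.{u}).obj (((presheafToSheaf J (Type u)).obj P).obj ⋙ AddCommGrpCat.free.{u}) ≅
      (presheafToSheaf J AddCommGrpCat.{u}).obj (P ⋙ AddCommGrpCat.free.{u}) :=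
  (presheafToSheafCompComposeAndSheafifyIso J AddCommGrpCat.free.{u}).app P

end Groth.L10.SiteCoh
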