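import Mathlib.CategoryTheory.Sites.SheafCohomology.Cech
import Mathlib.CategoryTheory.Limits.Shapes.ConcreteCategory
import Mathlib.Algebra.Category.Grp.Limits
import Mathlib.Algebra.Category.Grp.Abelian

/-! Elementwise description of Čech complexes. -/

universe u

open CategoryTheory CategoryTheory.Limits Opposite Simplicial

set_option backward.defeqAttrib.useBackward true
set_option backward.isDefEq.respectTransparency false
namespace Groth.L10.Cech

variable {E : Type u} [Category.{u} E] [HasFiniteProducts E] {C : Type u} [Category.{u} C]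
  (π : E ⥤ C) {ι : Type u} (Y : ι → E)

/-- The product of a tuple of members of a family. -/
noncomputable abbrev tup {n : ℕ} (a : Fin (n+1) → ι) : E := ∏ᶜ (Y ∘ a)

/-- The `j`-th face `Y_a ⟶ Y_(a ∘ δ j)`. -/
noncomputable abbrev face {n : ℕ} (j : Fin (n+2)) (a : Fin (n+2) → ι) : tup Y a ⟶ tup Y (a ∘ j.succAbove) :=
  Pi.lift fun k => Pi.π (Y ∘ a) (j.succAbove k)

/-- The Čech complex. -/
noncomputable abbrev cx (P : Cᵒᵖ ⥤ AddCommGrpCat.{u}) : CochainComplex AddCommGrpCat.{u} ℕ :=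
  (cechComplexFunctor Y).obj (π.op ⋙ P)

variable {π Y}

/-- The coordinate of a cochain at a tuple. -/
noncomputable def co {P : Cᵒᵖ ⥤ AddCommGrpCat.{u}} {n : ℕ} (a : Fin (n+1) → ι) :
    ((cx π Y P).X n : Type u) →+ P.obj (op (π.obj (tup Y a))) :=
  (Pi.π (fun i : Fin (n+1) → ι => P.obj (op (π.obj (tup Y i)))) a).hom

/-- Constructor for cochains. -/
noncomputable def mk {P : Cᵒᵖ ⥤ AddCommGrpCat.{u}} {n : ℕ}
    (x : ∀ a : Fin (n+1) → ι, P.obj (op (π.obj (tup Y a)))) : (cx π Y P).X n :=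
  (Concrete.productEquiv (fun i : Fin (n+1) → ι => P.obj (op (π.obj (tup Y i))))).symm x

theorem co_mk {P : Cᵒᵖ ⥤ AddCommGrpCat.{u}} {n : ℕ}
    (x : ∀ a : Fin (n+1) → ι, P.obj (op (π.obj (tup Y a)))) (a : Fin (n+1) → ι) : co a (mk x) = x a :=
  Concrete.productEquiv_symm_apply_π _ _ _

theorem co_ext {P : Cᵒᵖ ⥤ AddCommGrpCat.{u}} {n : ℕ} {x y : (cx π Y P).X n}
    (h : ∀ a, co a x = co a y) : x = y :=
  (Concrete.productEquiv (fun i : Fin (n+1) → ι => P.obj (op (π.obj (tup Y i))))).injective (funext fun a => (Concrete.productEquiv_apply_apply _ x a).trans ((h a).trans (Concrete.productEquiv_apply_apply _ y a).symm))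

theorem co_d {P : Cᵒᵖ ⥤ AddCommGrpCat.{u}} {n : ℕ} (a : Fin (n+2) → ι) (x : (cx π Y P).X n) :
    co a ((cx π Y P).d n (n+1) x) =
      ∑ j : Fin (n+2), (-1 : ℤ) ^ (j : ℕ) • P.map (π.map (face Y j a)).op (co (a ∘ j.succAbove) x) := by
  have h : ∀ j : Fin (n+2), co a (((FormalCoproduct.cosimplicialObjectFunctor (FormalCoproduct.mk _ Y).cech).obj (π.op ⋙ P)).δ j x) =
      P.map (π.map (face Y j a)).op (co (a ∘ j.succAbove) x) := fun j => by
    change ((((FormalCoproduct.cosimplicialObjectFunctor (FormalCoproduct.mk _ Y).cech).obj (π.op ⋙ P)).δ j) ≫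
      Pi.π (fun i : Fin (n+2) → ι => P.obj (op (π.obj (tup Y i)))) a) x = _
    simp [CosimplicialObject.δ]
    rfl
  have hd : (cx π Y P).d n (n+1) = AlgebraicTopology.AlternatingCofaceMapComplex.objD
      ((FormalCoproduct.cosimplicialObjectFunctor (FormalCoproduct.mk _ Y).cech).obj (π.op ⋙ P)) n := by
    let Z : CosimplicialObject AddCommGrpCat.{u} :=
      (FormalCoproduct.cosimplicialObjectFunctor (FormalCoproduct.mk _ Y).cech).obj (π.op ⋙ P)
    exact @CochainComplex.of_d AddCommGrpCat.{u} _ _ ℕ _ _ _ (fun m : ℕ => (Z.obj (SimplexCategory.mk m) : AddCommGrpCat.{u})) (AlgebraicTopology.AlternatingCofaceMapComplex.objD Z) n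
  rw [hd]
  rw [AlgebraicTopology.AlternatingCofaceMapComplex.objD]
  change co a ((AddCommGrpCat.homAddEquiv (∑ i : Fin (n+2), (-1 : ℤ) ^ (i : ℕ) •
    ((FormalCoproduct.cosimplicialObjectFunctor (FormalCoproduct.mk _ Y).cech).obj (π.op ⋙ P)).δ i)) x) = _
  simp only [map_sum, map_zsmul, AddMonoidHom.finsetSum_apply, AddMonoidHom.smul_apply]
  exact Finset.sum_congr rfl fun j _ => congrArg _ (h j)

/-- Naturality of coordinates. -/
theorem co_map {P Q : Cᵒᵖ ⥤ AddCommGrpCat.{u}} (φ : P ⟶ Q) {n : ℕ} (a : Fin (n+1) → ι) (x : (cx π Y P).X n) :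
    co a (((cechComplexFunctor Y).map (Functor.whiskerLeft π.op φ)).f n x) = φ.app (op (π.obj (tup Y a))) (co a x) := by
  change ((((cechComplexFunctor Y).map (Functor.whiskerLeft π.op φ)).f n) ≫
      Pi.π (fun i : Fin (n+1) → ι => Q.obj (op (π.obj (tup Y i)))) a) x = _
  simp [cechComplexFunctor, FormalCoproduct.cochainComplexFunctor, AlgebraicTopology.alternatingCofaceMapComplex,
    AlgebraicTopology.AlternatingCofaceMapComplex.map]
  rfl

end Groth.L10.Cech
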