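import Groth.Agent.L10.ClassRes
import Groth.Agent.L10.KInjDerived
import Groth.Agent.L10.DerivedAdj
import Mathlib.Algebra.Homology.DerivedCategory.Ext.EnoughInjectives
import Mathlib.Algebra.Homology.DerivedCategory.Ext.ExactSequences
import Mathlib.Algebra.Homology.DerivedCategory.Fractions
import Mathlib.CategoryTheory.Limits.Constructions.EpiMono

/-! Objects acyclic for a right adjoint: complexes of such objects compute morphisms into direct images
of K-injective complexes. -/

universe w v v' u u'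

open CategoryTheory CategoryTheory.Limits CategoryTheory.Abelian Opposite

set_option backward.defeqAttrib.useBackward true
set_option backward.isDefEq.respectTransparency false
namespace Groth.L10.AcycObj

variable {A : Type u} [Category.{v} A] [Abelian A] {B : Type u'} [Category.{v'} B] [Abelian B] [HasExt.{w} B]
  (F : A ⥤ B)

/-- `X` has no higher extensions into the images of injectives. -/
def Acyc (X : B) : Prop := ∀ (J : A) [Injective J] (q : ℕ), Subsingleton (Ext X (F.obj J) (q + 1))

theorem subsingleton_ext_coprod [EnoughInjectives B] {ι : Type*} (X : ι → B) [HasCoproduct X] (M : B)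
    (h : ∀ i q, Subsingleton (Ext (X i) M (q + 1))) (q : ℕ) : Subsingleton (Ext (∐ X) M (q + 1)) := by
  obtain ⟨P⟩ := EnoughInjectives.presentation M
  let S : ShortComplex B := ShortComplex.mk P.f (cokernel.π P.f) (cokernel.condition _)
  have hS : S.ShortExact := ShortComplex.ShortExact.mk (S.exact_of_g_is_cokernel (cokernelIsCokernel _))
  have : Injective S.X₂ := P.injective
  induction q generalizing M with
  | zero =>
    refine subsingleton_of_forall_eq 0 fun x => ?_
    obtain ⟨y, rfl⟩ := Ext.covariant_sequence_exact₁ _ hS x (Ext.eq_zero_of_injective _) (zero_add 1)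
    obtain ⟨s, rfl⟩ := (Ext.mk₀_bijective _ _).2 y
    have hl : ∀ i, ∃ t : X i ⟶ S.X₂, t ≫ S.g = Sigma.ι X i ≫ s := fun i => by
      have := h i 0
      obtain ⟨t, ht⟩ := Ext.covariant_sequence_exact₃ (X i) hS (Ext.mk₀ (Sigma.ι X i ≫ s)) (zero_add 1) (Subsingleton.elim _ _)
      obtain ⟨t, rfl⟩ := (Ext.mk₀_bijective _ _).2 t
      exact ⟨t, (Ext.mk₀_bijective _ _).1 ((Ext.mk₀_comp_mk₀ _ _).symm.trans ht)⟩
    choose t ht using hl
    have hs : s = Sigma.desc t ≫ S.g := Sigma.hom_ext _ _ fun i => by rw [Sigma.ι_desc_assoc, ht]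
    rw [hs, ← Ext.mk₀_comp_mk₀]
    refine (Ext.comp_assoc_of_second_deg_zero _ _ _ _).trans ?_
    exact (congrArg (fun r => (Ext.mk₀ _).comp r (zero_add 1)) hS.comp_extClass).trans (Ext.comp_zero _ _ _ _ _)
  | succ q ih =>
    refine subsingleton_of_forall_eq 0 fun x => ?_
    obtain ⟨y, rfl⟩ := Ext.covariant_sequence_exact₁ _ hS x (Ext.eq_zero_of_injective _) (n₀ := q + 1) rfl
    have h' : ∀ i q, Subsingleton (Ext (X i) S.X₃ (q + 1)) := fun i q => subsingleton_of_forall_eq 0 fun z => by
      have : Subsingleton (Ext (X i) S.X₁ (q + 1 + 1)) := h i (q + 1)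
      obtain ⟨z', rfl⟩ := Ext.covariant_sequence_exact₃ (X i) hS z (n₁ := q + 1 + 1) rfl (Subsingleton.elim _ _)
      rw [Ext.eq_zero_of_injective z', Ext.zero_comp]
    obtain ⟨P'⟩ := EnoughInjectives.presentation S.X₃
    have := ih S.X₃ h' P' (ShortComplex.ShortExact.mk (ShortComplex.exact_of_g_is_cokernel _ (cokernelIsCokernel _))) P'.injective
    rw [Subsingleton.elim (α := Ext (∐ X) S.X₃ (q+1)) y 0, Ext.zero_comp]

theorem Acyc.coprod [EnoughInjectives B] {ι : Type*} {X : ι → B} [HasCoproduct X] (h : ∀ i, Acyc F (X i)) :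
    Acyc F (∐ X) := fun J _ q => subsingleton_ext_coprod X _ (fun i q => h i J q) q

variable {F}

theorem Acyc.ext {S : ShortComplex B} (hS : S.ShortExact) (h₁ : Acyc F S.X₁) (h₃ : Acyc F S.X₃) : Acyc F S.X₂ :=
  fun J _ q => subsingleton_of_forall_eq 0 fun x => by
    have := h₁ J q
    have := h₃ J q
    obtain ⟨y, rfl⟩ := Ext.contravariant_sequence_exact₂ hS _ x (Subsingleton.elim _ _)
    rw [Subsingleton.elim y 0, Ext.comp_zero]

theorem Acyc.left {S : ShortComplex B} (hS : S.ShortExact) (h₂ : Acyc F S.X₂) (h₃ : Acyc F S.X₃) : Acyc F S.X₁ :=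
  fun J _ q => subsingleton_of_forall_eq 0 fun x => by
    have := h₂ J q
    have := h₃ J (q + 1)
    obtain ⟨y, rfl⟩ := Ext.contravariant_sequence_exact₁ hS _ x (n₁ := q + 1 + 1) (by omega) (Subsingleton.elim _ _)
    rw [Subsingleton.elim y 0, Ext.comp_zero]

theorem Acyc.biprod {X Y : B} (hX : Acyc F X) (hY : Acyc F Y) : Acyc F (X ⊞ Y) :=
  Acyc.ext (ShortComplex.Splitting.shortExact (ShortComplex.Splitting.ofHasBinaryBiproduct X Y)) hX hY

theorem Acyc.of_isZero {X : B} (hX : IsZero X) : Acyc F X := fun J _ q => by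
  refine subsingleton_of_forall_eq 0 fun x => ?_
  rw [← Ext.mk₀_id_comp x, hX.eq_of_src (𝟙 X) 0, Ext.mk₀_zero, Ext.zero_comp]

/-- The short complex `Zⁿ → Pⁿ → Zⁿ⁺¹`. -/
noncomputable abbrev cyc (P : CochainComplex B ℤ) (n : ℤ) : ShortComplex B :=
  ShortComplex.mk (P.iCycles n) (P.toCycles n (n + 1)) (by
    rw [← cancel_mono (P.iCycles (n + 1)), Category.assoc, HomologicalComplex.toCycles_i, zero_comp,
      HomologicalComplex.iCycles_d])

theorem cyc_shortExact (P : CochainComplex B ℤ) (n : ℤ) (h : P.ExactAt (n + 1)) : (cyc P n).ShortExact := by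
  have he : Epi (P.toCycles n (n + 1)) :=
    Preadditive.epi_of_isZero_cokernel' _ (P.homologyIsCokernel n (n + 1) (by simp)) h.isZero_homology
  refine ShortComplex.ShortExact.mk ?_
  refine ShortComplex.exact_of_f_is_kernel _ (KernelFork.IsLimit.ofι _ _
    (fun {T} k hk => P.liftCycles k (n + 1) (by simp) (by
      rw [← HomologicalComplex.toCycles_i P n (n + 1), reassoc_of% hk, zero_comp]))
    (fun k hk => P.liftCycles_i _ _ _ _)
    (fun k hk b hb => by rw [← cancel_mono (P.iCycles n), hb, HomologicalComplex.liftCycles_i]))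

theorem acyc_cycles (P : CochainComplex B ℤ) (hP : P.Acyclic) (b : ℤ) [P.IsStrictlyLE b]
    (hT : ∀ n, Acyc F (P.X n)) (n : ℤ) : Acyc F (P.cycles n) := by
  have key : ∀ k : ℕ, Acyc F (P.cycles (b + 1 - k)) := fun k => by
    induction k with
    | zero =>
      refine Acyc.of_isZero ?_
      have hz : IsZero (P.X (b + 1 - (0 : ℕ))) := P.isZero_of_isStrictlyLE b _ (by simp)
      exact IsZero.of_mono (P.iCycles _) hz
    | succ k ih =>
      have := cyc_shortExact P (b + 1 - (k + 1 : ℕ)) (hP _)
      refine Acyc.left this (hT _) ?_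
      change Acyc F (P.cycles (b + 1 - (k + 1 : ℕ) + 1))
      rw [show b + 1 - ((k + 1 : ℕ) : ℤ) + 1 = b + 1 - (k : ℤ) by omega]
      exact ih
  by_cases hn : n ≤ b + 1
  · obtain ⟨k, hk⟩ : ∃ k : ℕ, b + 1 - k = n := ⟨(b + 1 - n).toNat, by omega⟩
    exact hk ▸ key k
  · exact Acyc.of_isZero (IsZero.of_mono (P.iCycles _) (P.isZero_of_isStrictlyLE b n (by omega)))

variable [F.Additive] {G : B ⥤ A} [G.Additive] (adj : G ⊣ F)

omit [HasExt.{w} B] in
theorem exactAt_of_injective [EnoughInjectives A] (X : CochainComplex A ℤ) (m : ℤ)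
    (h : ∀ (J : A) (_ : Injective J) (a : X.X m ⟶ J), X.d (m - 1) m ≫ a = 0 → ∃ b, X.d m (m + 1) ≫ b = a) :
    X.ExactAt m := by
  rw [HomologicalComplex.exactAt_iff' X (m - 1) m (m + 1) (by simp) (by simp),
    ShortComplex.exact_iff_kernel_ι_comp_cokernel_π_zero]
  obtain ⟨P⟩ := EnoughInjectives.presentation (cokernel (X.d (m - 1) m))
  have := P.injective
  obtain ⟨b, hb⟩ := h P.J P.injective (cokernel.π _ ≫ P.f) (by simp)
  rw [← cancel_mono P.f, Category.assoc]
  change kernel.ι (X.d m (m + 1)) ≫ cokernel.π (X.d (m - 1) m) ≫ P.f = 0 ≫ P.f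
  rw [← hb, kernel.condition_assoc, zero_comp, zero_comp]

include adj in
/-- The left adjoint preserves exactness of bounded above complexes of acyclic objects. -/
theorem acyclic_map [EnoughInjectives A] (P : CochainComplex B ℤ) (hP : P.Acyclic) (b : ℤ) [P.IsStrictlyLE b]
    (hT : ∀ n, Acyc F (P.X n)) : ((G.mapHomologicalComplex (ComplexShape.up ℤ)).obj P).Acyclic := fun m => by
  refine exactAt_of_injective _ m fun J hJ a ha => ?_
  let a' := adj.homEquiv _ _ a
  have ha' : P.d (m - 1) m ≫ a' = 0 := by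
    rw [← adj.homEquiv_naturality_left]
    exact (congrArg (adj.homEquiv _ _) ha).trans (adj.homAddEquiv _ _).map_zero
  have h1 := cyc_shortExact P m (hP _)
  have h2 := cyc_shortExact P (m + 1) (hP _)
  have h0 : (cyc P m).f ≫ a' = 0 := by
    have h' := cyc_shortExact P (m - 1) (hP _)
    have : Epi (P.toCycles (m - 1) m) :=
      Preadditive.epi_of_isZero_cokernel' _ (P.homologyIsCokernel (m - 1) m (by simp)) (hP m).isZero_homology
    rw [← cancel_epi (P.toCycles (m - 1) m), HomologicalComplex.toCycles_i_assoc, ha', comp_zero]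
  have := h1.epi_g
  obtain ⟨c, hc⟩ : ∃ c, (cyc P m).g ≫ c = a' := ⟨h1.exact.desc a' h0, h1.exact.g_desc a' h0⟩
  have := acyc_cycles P hP b hT (m + 1 + 1) J 0
  obtain ⟨e, he⟩ := Ext.contravariant_sequence_exact₁ h2 _ (Ext.mk₀ c) (n₁ := 1) rfl (Subsingleton.elim _ _)
  obtain ⟨e, rfl⟩ := (Ext.mk₀_bijective _ _).2 e
  have he' : P.iCycles (m + 1) ≫ e = c := (Ext.mk₀_bijective _ _).1 ((Ext.mk₀_comp_mk₀ _ _).symm.trans he)
  refine ⟨(adj.homEquiv _ _).symm e, ?_⟩
  apply (adj.homEquiv _ _).injective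
  erw [adj.homEquiv_naturality_left]
  rw [Equiv.apply_symm_apply, ← HomologicalComplex.toCycles_i P m (m + 1), Category.assoc, he']
  exact hc

/-- Reindexed opposite of a complex. -/
def opCx {V : Type*} [Category V] [HasZeroMorphisms V] (M : CochainComplex V ℤ) : CochainComplex Vᵒᵖ ℤ where
  X n := op (M.X (-n))
  d i j := (M.d (-j) (-i)).op
  shape i j h := by
    rw [M.shape _ _ (fun e => h (by simp at e ⊢; omega))]
    rfl
  d_comp_d' i j k _ _ := by
    rw [← op_comp, M.d_comp_d]
    rfl

omit [F.Additive] in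
/-- Bounded above resolutions by acyclic objects. -/
theorem exists_resolution (hE : ∀ X : B, ∃ (Y : B) (p : Y ⟶ X), Acyc F Y ∧ Epi p)
    (M : CochainComplex B ℤ) (b : ℤ) [M.IsStrictlyLE b] :
    ∃ (P : CochainComplex B ℤ) (s : P ⟶ M), P.IsStrictlyLE b ∧ (∀ n, Acyc F (P.X n)) ∧ QuasiIso s := by
  have : (opCx M).IsStrictlyGE (-b) := by
    rw [CochainComplex.isStrictlyGE_iff]
    exact fun n hn => (M.isZero_of_isStrictlyLE b (-n) (by omega)).op
  have hI : ∀ X : Bᵒᵖ, ∃ (Y : Bᵒᵖ) (ι : X ⟶ Y), Acyc F Y.unop ∧ Mono ι := fun X => by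
    obtain ⟨Y, p, hY, hp⟩ := hE X.unop
    exact ⟨op Y, p.op, hY, op_mono_of_epi p⟩
  obtain ⟨L, α, hL, hIL, -, hq⟩ := ClassRes.exists_res (fun X : Bᵒᵖ => Acyc F X.unop) hI
    ⟨op (HasZeroObject.zero (C := B)).choose, (HasZeroObject.zero (C := B)).choose_spec.op, Acyc.of_isZero (HasZeroObject.zero (C := B)).choose_spec⟩ (opCx M) (-b)
  let P : CochainComplex B ℤ :=
    { X := fun n => (L.X (-n)).unop
      d := fun i j => (L.d (-j) (-i)).unop
      shape := fun i j h => by
        rw [L.shape _ _ (fun e => h (by simp at e ⊢; omega))]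
        rfl
      d_comp_d' := fun i j k _ _ => by
        rw [← unop_comp, L.d_comp_d]
        rfl }
  let M' : CochainComplex B ℤ :=
    { X := fun n => M.X (- -n)
      d := fun i j => M.d (- -i) (- -j)
      shape := fun i j h => M.shape _ _ (by simpa using h)
      d_comp_d' := fun i j k _ _ => M.d_comp_d _ _ _ }
  let s : P ⟶ M' :=
    { f := fun n => (α.f (-n)).unop
      comm' := fun i j _ => congrArg Quiver.Hom.unop (α.comm (-j) (-i)).symm }
  let e : M' ≅ M := HomologicalComplex.Hom.isoOfComponents (fun n => M.XIsoOfEq (neg_neg n)) (fun i j _ => by simp [M'])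
  have : QuasiIso s := by
    rw [quasiIso_iff]
    intro n
    rw [quasiIsoAt_iff' s (n - 1) n (n + 1) (by simp) (by simp), ← ShortComplex.quasiIso_opMap_iff]
    exact (quasiIsoAt_iff' α (-(n + 1)) (-n) (-(n - 1)) (by simp; omega) (by simp; omega)).1 inferInstance
  refine ⟨P, s ≫ e.hom, ?_, fun n => hIL (-n), inferInstance⟩
  rw [CochainComplex.isStrictlyLE_iff]
  exact fun n hn => (L.isZero_of_isStrictlyGE (-b) (-n) (by omega)).unop

end Groth.L10.AcycObj

namespace Groth.L10.AcycObj

open DerivedCategory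

variable {A : Type u} [Category.{v} A] [Abelian A] [EnoughInjectives A] {B : Type u'} [Category.{v'} B] [Abelian B] [HasExt.{w} B]
  {F : A ⥤ B} [F.Additive] {G : B ⥤ A} [G.Additive] (adj : G ⊣ F)
  (hE : ∀ X : B, ∃ (Y : B) (p : Y ⟶ X), Acyc F Y ∧ Epi p)

theorem quasiIso_iff_acyclic_cone {V : Type*} [Category V] [Abelian V] {K L : CochainComplex V ℤ} (φ : K ⟶ L) :
    QuasiIso φ ↔ HomologicalComplex.Acyclic (CochainComplex.mappingCone φ) := by
  rw [← HomologicalComplex.mem_quasiIso_iff, ← HomotopyCategory.quotient_map_mem_quasiIso_iff,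
    HomotopyCategory.quasiIso_eq_trW_subcategoryAcyclic,
    ← HomotopyCategory.quotient_obj_mem_subcategoryAcyclic_iff_acyclic]
  exact ObjectProperty.trW_iff_of_distinguished _ _ (HomotopyCategory.mappingCone_triangleh_distinguished φ)

local notation "qA" => HomotopyCategory.quotient A (ComplexShape.up ℤ)
local notation "qB" => HomotopyCategory.quotient B (ComplexShape.up ℤ)

include adj in
theorem quasiIso_map {P P' : CochainComplex B ℤ} (s : P' ⟶ P) [QuasiIso s] (b : ℤ) [P.IsStrictlyLE b]
    [P'.IsStrictlyLE b] (h : ∀ n, Acyc F (P.X n)) (h' : ∀ n, Acyc F (P'.X n)) :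
    QuasiIso ((G.mapHomologicalComplex (ComplexShape.up ℤ)).map s) := by
  have hC : (CochainComplex.mappingCone s).Acyclic :=
    (quasiIso_iff_acyclic_cone s).1 inferInstance
  have : CochainComplex.IsStrictlyLE (CochainComplex.mappingCone s) b := by
    rw [CochainComplex.isStrictlyLE_iff]
    intro n hn
    rw [IsZero.iff_id_eq_zero]
    refine CochainComplex.mappingCone.ext_to _ _ (n + 1) rfl ?_ ?_
    · exact (P'.isZero_of_isStrictlyLE b (n + 1) (by omega)).eq_of_tgt _ _
    · exact (P.isZero_of_isStrictlyLE b n hn).eq_of_tgt _ _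
  have hT : ∀ n, Acyc F ((CochainComplex.mappingCone s).X n) := fun n => by
    intro J _ q
    have := (Acyc.biprod (h' (n + 1)) (h n)) J q
    let e : (CochainComplex.mappingCone s).X n ≅ P'.X (n + 1) ⊞ P.X n :=
      { hom := biprod.lift ((CochainComplex.mappingCone.fst s).1.v n (n + 1) rfl)
            ((CochainComplex.mappingCone.snd s).v n n (add_zero n))
        inv := biprod.desc ((CochainComplex.mappingCone.inl s).v (n + 1) n (by omega))
            ((CochainComplex.mappingCone.inr s).f n)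
        hom_inv_id := by
          rw [biprod.lift_desc]
          exact CochainComplex.mappingCone.id_X s n (n + 1) rfl |>.trans rfl
        inv_hom_id := by
          refine biprod.hom_ext' _ _ (biprod.hom_ext _ _ ?_ ?_) (biprod.hom_ext _ _ ?_ ?_) <;> simp }
    refine subsingleton_of_forall_eq 0 fun x => ?_
    rw [← Ext.mk₀_id_comp x, ← e.hom_inv_id, ← Ext.mk₀_comp_mk₀, Ext.comp_assoc_of_second_deg_zero,
      Subsingleton.elim ((Ext.mk₀ e.inv).comp x (zero_add _)) 0, Ext.comp_zero]
  rw [quasiIso_iff_acyclic_cone]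
  exact fun n => (acyclic_map adj _ hC b hT n).of_iso (CochainComplex.mappingCone.mapHomologicalComplexIso s G)

include adj in
theorem precomp_bijective {P P' : CochainComplex B ℤ} (s : P' ⟶ P) [QuasiIso s] (b : ℤ) [P.IsStrictlyLE b]
    [P'.IsStrictlyLE b] (h : ∀ n, Acyc F (P.X n)) (h' : ∀ n, Acyc F (P'.X n)) (I : CochainComplex A ℤ) [hI : I.IsKInjective] :
    Function.Bijective (fun g : (qB).obj P ⟶ (F.mapHomotopyCategory (ComplexShape.up ℤ)).obj ((qA).obj I) => (qB).map s ≫ g) := by
  have := quasiIso_map adj s b h h'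
  let ad := DerivedAdj.homotopyAdj adj
  have hb := KInjDerived.precomp_bijective ((G.mapHomotopyCategory (ComplexShape.up ℤ)).map ((qB).map s))
    ((HomotopyCategory.quotient_map_mem_quasiIso_iff _).2 ((HomologicalComplex.mem_quasiIso_iff _).2 this))
    ⟨(qA).obj I, hI⟩
  have : (fun g : (qB).obj P ⟶ (F.mapHomotopyCategory (ComplexShape.up ℤ)).obj ((qA).obj I) => (qB).map s ≫ g) =
      (ad.homEquiv _ _) ∘ (fun g => (G.mapHomotopyCategory (ComplexShape.up ℤ)).map ((qB).map s) ≫ g) ∘ (ad.homEquiv _ _).symm := by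
    funext g
    simp only [Function.comp_apply, ad.homEquiv_naturality_left, Equiv.apply_symm_apply]
  rw [this]
  exact (ad.homEquiv _ _).bijective.comp (hb.comp (ad.homEquiv _ _).symm.bijective)

variable [HasDerivedCategory.{w} B]

include adj hE in
/-- Maps out of bounded above acyclic complexes into direct images of K-injectives agree in `K(B)` and `D(B)`. -/
theorem qh_bijective (P : CochainComplex B ℤ) (b : ℤ) [P.IsStrictlyLE b] (h : ∀ n, Acyc F (P.X n))
    (I : CochainComplex A ℤ) [I.IsKInjective] :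
    Function.Bijective (Qh.map : ((qB).obj P ⟶ (F.mapHomotopyCategory (ComplexShape.up ℤ)).obj ((qA).obj I)) → _) := by
  have refine₁ : ∀ (X : HomotopyCategory B (ComplexShape.up ℤ)) (r : X ⟶ (qB).obj P),
      HomotopyCategory.quasiIso B (ComplexShape.up ℤ) r →
      ∃ (P' : CochainComplex B ℤ) (s : P' ⟶ P) (v : (qB).obj P' ⟶ X), P'.IsStrictlyLE b ∧ (∀ n, Acyc F (P'.X n)) ∧
        QuasiIso s ∧ v ≫ r = (qB).map s := fun X r hr => by
    obtain ⟨r', hr'⟩ := (qB).map_surjective (X := X.as) (Y := P) r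
    have : QuasiIso r' := (HomologicalComplex.mem_quasiIso_iff _).1
      ((HomotopyCategory.quotient_map_mem_quasiIso_iff _).1 (by erw [hr']; exact hr))
    have : CochainComplex.IsLE X.as b := by
      rw [CochainComplex.isLE_iff]
      intro n hn
      rw [HomologicalComplex.exactAt_iff_isZero_homology]
      exact ((P.exactAt_of_isLE b n hn).isZero_homology).of_iso (isoOfQuasiIsoAt r' n)
    obtain ⟨P', u', hP', hT', hu⟩ := exists_resolution hE (CochainComplex.truncLE X.as b) b
    refine ⟨P', u' ≫ CochainComplex.ιTruncLE X.as b ≫ r', (qB).map (u' ≫ CochainComplex.ιTruncLE X.as b), hP', hT', inferInstance, ?_⟩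
    rw [← Category.assoc, Functor.map_comp _ (u' ≫ CochainComplex.ιTruncLE X.as b) r', hr']
  refine ⟨fun g g' hg => ?_, fun f => ?_⟩
  · obtain ⟨X, r, hr, he⟩ := (MorphismProperty.map_eq_iff_precomp Qh (HomotopyCategory.quasiIso B (ComplexShape.up ℤ)) g g').1 hg
    obtain ⟨P', s, v, hP', hT', hs, hvs⟩ := refine₁ X r hr
    refine (precomp_bijective adj s b h hT' I).injective ?_
    change (qB).map s ≫ g = (qB).map s ≫ g'
    rw [← hvs, Category.assoc, Category.assoc, he]
  · obtain ⟨φ, hφ⟩ := Localization.exists_rightFraction Qh (HomotopyCategory.quasiIso B (ComplexShape.up ℤ)) f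
    obtain ⟨P', s, v, hP', hT', hs, hvs⟩ := refine₁ φ.X' φ.s φ.hs
    obtain ⟨g, hg⟩ := (precomp_bijective adj s b h hT' I).surjective (v ≫ φ.f)
    refine ⟨g, ?_⟩
    have := Localization.inverts Qh (HomotopyCategory.quasiIso B (ComplexShape.up ℤ)) φ.s φ.hs
    have := Localization.inverts Qh (HomotopyCategory.quasiIso B (ComplexShape.up ℤ)) _
      ((HomotopyCategory.quotient_map_mem_quasiIso_iff _).2 ((HomologicalComplex.mem_quasiIso_iff _).2 hs))
    rw [← cancel_epi (Qh.map ((qB).map s)), ← Functor.map_comp]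
    refine (congrArg Qh.map hg).trans ?_
    rw [hφ, MorphismProperty.RightFraction.map, ← hvs, Functor.map_comp, Functor.map_comp, Category.assoc,
      IsIso.hom_inv_id_assoc]

theorem single_acyc (X : B) (hX : Acyc F X) (m n : ℤ) :
    Acyc F (((HomologicalComplex.single B (ComplexShape.up ℤ) m).obj X).X n) := by
  by_cases h : n = m
  · subst h
    intro J _ q
    have := hX J q
    let e := HomologicalComplex.singleObjXSelf (ComplexShape.up ℤ) n X
    refine subsingleton_of_forall_eq 0 fun x => ?_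
    rw [← Ext.mk₀_id_comp x, ← e.hom_inv_id, ← Ext.mk₀_comp_mk₀, Ext.comp_assoc_of_second_deg_zero,
      Subsingleton.elim ((Ext.mk₀ e.inv).comp x (zero_add _)) 0, Ext.comp_zero]
  · exact Acyc.of_isZero (HomologicalComplex.isZero_single_obj_X _ _ _ _ h)

include hE in
omit [F.Additive] [HasDerivedCategory.{w} B] in
/-- Bijectivity on homotopy classes out of acyclic objects detects quasi-isomorphisms. -/
theorem quasiIso_of_test {X Y : CochainComplex B ℤ} (φ : X ⟶ Y)
    (h : ∀ (P : B), Acyc F P → ∀ m : ℤ, Function.Bijective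
      (fun g : (qB).obj ((HomologicalComplex.single B (ComplexShape.up ℤ) m).obj P) ⟶ (qB).obj X => g ≫ (qB).map φ)) :
    QuasiIso φ := by
  rw [quasiIso_iff]
  intro m
  rw [quasiIsoAt_iff_isIso_homologyMap]
  have hE' : Epi (HomologicalComplex.homologyMap φ m) := by
    rw [HomologicalComplex.epi_homologyMap_iff_up_to_refinements _ (m - 1) m (m + 1) (by simp) (by simp)]
    intro T y hy
    obtain ⟨P, p, hP, hp⟩ := hE T
    let yh : (HomologicalComplex.single B (ComplexShape.up ℤ) m).obj P ⟶ Y :=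
      HomologicalComplex.mkHomFromSingle (p ≫ y) (fun j hj => by
        obtain rfl : m + 1 = j := hj
        rw [Category.assoc, hy, comp_zero])
    obtain ⟨g, hg⟩ := (h P hP m).surjective ((qB).map yh)
    obtain ⟨x, rfl⟩ := (qB).map_surjective g
    have H := HomotopyCategory.homotopyOfEq yh (x ≫ φ) (by rw [Functor.map_comp]; exact hg.symm)
    refine ⟨P, p, hp, (HomologicalComplex.singleObjXSelf (ComplexShape.up ℤ) m P).inv ≫ x.f m, ?_,
      (HomologicalComplex.singleObjXSelf (ComplexShape.up ℤ) m P).inv ≫ H.hom m (m - 1), ?_⟩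
    · rw [Category.assoc, x.comm, HomologicalComplex.single_obj_d, zero_comp, comp_zero]
    · have h0 := H.comm m
      rw [dNext_eq _ (show (ComplexShape.up ℤ).Rel m (m + 1) from rfl),
        prevD_eq _ (show (ComplexShape.up ℤ).Rel (m - 1) m by simp), HomologicalComplex.single_obj_d, zero_comp, zero_add,
        HomologicalComplex.mkHomFromSingle_f, HomologicalComplex.comp_f] at h0
      rw [← cancel_epi (HomologicalComplex.singleObjXSelf (ComplexShape.up ℤ) m P).hom, h0]
      simp [add_comm]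
  have hM : Mono (HomologicalComplex.homologyMap φ m) := by
    rw [HomologicalComplex.mono_homologyMap_iff_up_to_refinements _ (m - 1) m (m + 1) (by simp) (by simp)]
    intro T x hx y hy
    obtain ⟨P, p, hP, hp⟩ := hE T
    let xh : (HomologicalComplex.single B (ComplexShape.up ℤ) m).obj P ⟶ X :=
      HomologicalComplex.mkHomFromSingle (p ≫ x) (fun j hj => by
        obtain rfl : m + 1 = j := hj
        rw [Category.assoc, hx, comp_zero])
    let hh : ∀ i j, (ComplexShape.up ℤ).Rel j i →
        (((HomologicalComplex.single B (ComplexShape.up ℤ) m).obj P).X i ⟶ Y.X j) := fun i j hij =>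
      if hi : i = m then
        (HomologicalComplex.singleObjXIsoOfEq (ComplexShape.up ℤ) m P i hi).hom ≫ p ≫ y ≫
          (Y.XIsoOfEq (show m - 1 = j by simp at hij; omega)).hom
      else 0
    have heq : xh ≫ φ = Homotopy.nullHomotopicMap' hh := by
      refine HomologicalComplex.from_single_hom_ext ?_
      rw [HomologicalComplex.comp_f, HomologicalComplex.mkHomFromSingle_f,
        Homotopy.nullHomotopicMap'_f (show (ComplexShape.up ℤ).Rel (m - 1) m by simp) (show (ComplexShape.up ℤ).Rel m (m + 1) from rfl),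
        HomologicalComplex.single_obj_d, zero_comp, zero_add]
      simp [hh, hy, HomologicalComplex.singleObjXSelf]
    have h0 : (qB).map xh = 0 := by
      refine (h P hP m).injective ?_
      change (qB).map xh ≫ (qB).map φ = 0 ≫ (qB).map φ
      rw [← Functor.map_comp, zero_comp, heq, ← Functor.map_zero (qB)]
      exact HomotopyCategory.eq_of_homotopy _ _ (Homotopy.nullHomotopy' hh)
    have H := HomotopyCategory.homotopyOfEq xh 0 (by rw [h0, Functor.map_zero])
    refine ⟨P, p, hp, (HomologicalComplex.singleObjXSelf (ComplexShape.up ℤ) m P).inv ≫ H.hom m (m - 1), ?_⟩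
    have h0 := H.comm m
    rw [dNext_eq _ (show (ComplexShape.up ℤ).Rel m (m + 1) from rfl),
      prevD_eq _ (show (ComplexShape.up ℤ).Rel (m - 1) m by simp), HomologicalComplex.single_obj_d, zero_comp, zero_add,
      HomologicalComplex.mkHomFromSingle_f, HomologicalComplex.zero_f, add_zero] at h0
    rw [← cancel_epi (HomologicalComplex.singleObjXSelf (ComplexShape.up ℤ) m P).hom, h0]
    simp
  exact isIso_of_mono_of_epi _

end Groth.L10.AcycObj
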