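import Groth.Prelude.Def_WeakSerre
import Groth.Agent.L10.DerTrunc
import Mathlib.Algebra.Homology.ShortComplex.PreservesHomology

/-! Five term criterion and derived categories with cohomology in a weak Serre subcategory. -/

universe w w' v v' u u'

open CategoryTheory CategoryTheory.Limits CategoryTheory.Pretriangulated

set_option backward.defeqAttrib.useBackward true
set_option backward.isDefEq.respectTransparency false
namespace Groth.L10.WSerreLib

variable {C : Type u} [Category.{v} C] [Abelian C]

theorem prop_middle (P : ObjectProperty C) [WSerre.IsWeakSerre P] (S : ComposableArrows C 4) (hS : S.Exact)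
    (h0 : P (S.obj 0)) (h1 : P (S.obj 1)) (h3 : P (S.obj 3)) (h4 : P (S.obj 4)) : P (S.obj 2) := by
  let a : S.obj 0 ⟶ S.obj 1 := S.map' 0 1
  let b : S.obj 1 ⟶ S.obj 2 := S.map' 1 2
  let c : S.obj 2 ⟶ S.obj 3 := S.map' 2 3
  let d : S.obj 3 ⟶ S.obj 4 := S.map' 3 4
  have hab : a ≫ b = 0 := hS.toIsComplex.zero 0
  have hbc : b ≫ c = 0 := hS.toIsComplex.zero 1
  have hcd : c ≫ d = 0 := hS.toIsComplex.zero 2
  have e1 : (ShortComplex.mk a b hab).Exact := hS.exact 0
  have e2 : (ShortComplex.mk b c hbc).Exact := hS.exact 1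
  have e3 : (ShortComplex.mk c d hcd).Exact := hS.exact 2
  let l : cokernel a ⟶ S.obj 2 := cokernel.desc a b hab
  let r : S.obj 2 ⟶ kernel d := kernel.lift d c hcd
  have : Mono l := e1.mono_cokernelDesc
  have : Epi r := e3.epi_kernelLift
  have hlr : l ≫ r = 0 := by
    rw [← cancel_epi (cokernel.π a), ← cancel_mono (kernel.ι d)]
    simp [l, r, hbc]
  have hex : (ShortComplex.mk l r hlr).Exact := by
    rw [ShortComplex.exact_iff_exact_up_to_refinements]
    intro T x hx
    have hxc : x ≫ c = 0 := by
      have := congrArg (· ≫ kernel.ι d) hx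
      simpa [r] using this
    obtain ⟨T', π, hπ, y, hy⟩ := e2.exact_up_to_refinements x hxc
    exact ⟨T', π, hπ, y ≫ cokernel.π a, by rw [hy]; simp [l]⟩
  refine P.prop_X₂_of_shortExact { exact := hex, mono_f := ‹Mono l›, epi_g := ‹Epi r› } ?_ ?_
  · exact P.prop_of_isColimit_cokernelCofork (k := CokernelCofork.ofπ (cokernel.π a) (cokernel.condition a)) (cokernelIsCokernel a) h0 h1
  · exact P.prop_of_isLimit_kernelFork (k := KernelFork.ofι (kernel.ι d) (kernel.condition d)) (kernelIsKernel d) h3 h4

variable [HasDerivedCategory.{w} C]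

theorem cohIn_isTriangulated (P : ObjectProperty C) [WSerre.IsWeakSerre P] :
    (WSerre.cohIn P).IsTriangulated ∧ (WSerre.cohIn P).IsStableUnderRetracts := by
  obtain ⟨Z, hZ, hPZ⟩ := P.exists_prop_of_containsZero
  exact Groth.L10.s0989 P ⟨Z, hZ, hPZ⟩ (prop_middle P)

variable {D : Type u'} [Category.{v'} D] [Abelian D] [HasDerivedCategory.{w'} D]

/-- Exact functors commute with cohomology. -/
theorem homology_map_iso (F : C ⥤ D) [F.Additive] [PreservesFiniteLimits F] [PreservesFiniteColimits F]
    (X : DerivedCategory C) (q : ℤ) :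
    Nonempty ((DerivedCategory.homologyFunctor D q).obj (F.mapDerivedCategory.obj X) ≅
      F.obj ((DerivedCategory.homologyFunctor C q).obj X)) := by
  let K := DerivedCategory.Q.objPreimage X
  let e : DerivedCategory.Q.obj K ≅ X := DerivedCategory.Q.objObjPreimageIso X
  exact ⟨(DerivedCategory.homologyFunctor D q).mapIso (F.mapDerivedCategory.mapIso e.symm ≪≫ F.mapDerivedCategoryFactors.app K) ≪≫
    (DerivedCategory.homologyFunctorFactors D q).app ((F.mapHomologicalComplex (ComplexShape.up ℤ)).obj K) ≪≫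
    (K.sc q).mapHomologyIso F ≪≫
    F.mapIso (((DerivedCategory.homologyFunctorFactors C q).app K).symm ≪≫ (DerivedCategory.homologyFunctor C q).mapIso e)⟩

theorem cohIn_mapDerivedCategory (F : C ⥤ D) [F.Additive] [PreservesFiniteLimits F] [PreservesFiniteColimits F]
    (P : ObjectProperty C) (P' : ObjectProperty D) [P'.IsClosedUnderIsomorphisms]
    (h : ∀ X, P X → P' (F.obj X)) (X : DerivedCategory C) (hX : WSerre.cohIn P X) :
    WSerre.cohIn P' (F.mapDerivedCategory.obj X) := fun q => by
  obtain ⟨e⟩ := homology_map_iso F X q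
  exact P'.prop_of_iso e.symm (h _ (hX q))

end Groth.L10.WSerreLib
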