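import Groth.Agent.L10.DerivedAdj
import Groth.Agent.L10.WSerreLib

/-! Dévissage by truncation for properties and derived adjoints. -/

universe w w' v v' u u'

open CategoryTheory CategoryTheory.Limits CategoryTheory.Pretriangulated CategoryTheory.Triangulated

set_option backward.defeqAttrib.useBackward true
set_option backward.isDefEq.respectTransparency false
namespace Groth.L10.WayOut

open DerivedCategory

variable {A : Type u} [Category.{v} A] [Abelian A] [HasDerivedCategory.{w} A]

local notation "tt" => DerivedCategory.TStructure.t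
local notation "H" => DerivedCategory.homologyFunctor A

/-- A triangulated property holding on all cohomology objects holds on a bounded object. -/
theorem prop_of_bounded (Q : ObjectProperty (DerivedCategory A)) [Q.IsTriangulated] [Q.IsClosedUnderIsomorphisms]
    (P : ObjectProperty A) [P.IsClosedUnderIsomorphisms]
    (h : ∀ M, P M → Q ((singleFunctor A 0).obj M)) (a : ℤ) :
    ∀ (k : ℕ) (Y : DerivedCategory A), Y.IsGE a → Y.IsLE (a + k - 1) →
      (∀ i : ℤ, a ≤ i → i ≤ a + k - 1 → P ((H i).obj Y)) → Q Y := by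
  intro k
  induction k with
  | zero =>
    intro Y h1 h2 _
    have hz : IsZero Y := (tt).isZero Y (a + (0:ℕ) - 1) a (by omega)
    obtain ⟨Z, hZ, hQZ⟩ := Q.exists_prop_of_containsZero
    exact Q.prop_of_iso (hZ.iso hz) hQZ
  | succ k ih =>
    intro Y h1 h2 hP'
    refine Q.ext_of_isTriangulatedClosed₂ _ ((tt).triangleLTGE_distinguished (a + k) Y) (ih _ ?_ ?_ ?_) ?_
    · rw [DerivedCategory.isGE_iff]
      intro i hi
      have := isIso_H_ι (a+k) i (by omega) Y
      exact (DerivedCategory.isZero_of_isGE Y a i hi).of_iso (asIso ((H i).map (((tt).truncLTι (a+k)).app Y)))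
    · exact (tt).isLE_truncLT_obj _ _ _ (by omega)
    · intro i hi hi'
      have := isIso_H_ι (a+k) i (by omega) Y
      exact P.prop_of_iso (asIso ((H i).map (((tt).truncLTι (a+k)).app Y))).symm (hP' i hi (by omega))
    · change Q (((tt).truncGE (a + k)).obj Y)
      have : DerivedCategory.IsGE (((tt).truncGE (a + k)).obj Y) (a + k) := inferInstance
      have : DerivedCategory.IsLE (((tt).truncGE (a + k)).obj Y) (a + k) := by
        rw [DerivedCategory.isLE_iff]
        intro i hi
        have := isIso_H_π (a+k) i (by omega) Y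
        exact (DerivedCategory.isZero_of_isLE Y (a + (k+1:ℕ) - 1) i (by omega)).of_iso
          (asIso ((H i).map (((tt).truncGEπ (a+k)).app Y))).symm
      obtain ⟨e⟩ := exists_iso_single_H (((tt).truncGE (a + k)).obj Y) (a + k)
      refine Q.prop_of_iso (e ≪≫ ?_).symm (Q.le_shift (-(a + k : ℤ)) _ (h ((H (a + k)).obj Y) (hP' _ (by omega) (by omega))))
      have := isIso_H_π (a+k) (a+k) le_rfl Y
      exact ((singleFunctor A (a+k)).mapIso (asIso ((H (a+k)).map (((tt).truncGEπ (a+k)).app Y))).symm) ≪≫
        (((DerivedCategory.singleFunctors A).shiftIso (-(a + k : ℤ)) (a + k) 0 (by omega)).app _).symm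

variable {B : Type u'} [Category.{v'} B] [Abelian B] [HasDerivedCategory.{w'} B]

/-- A left t-exact triangulated functor preserves cohomology conditions on bounded below objects. -/
theorem cohIn_map (R : DerivedCategory A ⥤ DerivedCategory B) [R.CommShift ℤ] [R.IsTriangulated]
    (hR : ∀ (Y : DerivedCategory A) (n : ℤ), Y.IsGE n → (R.obj Y).IsGE n)
    (P : ObjectProperty A) [P.IsClosedUnderIsomorphisms] (P' : ObjectProperty B) [WSerre.IsWeakSerre P']
    (h : ∀ M, P M → WSerre.cohIn P' (R.obj ((singleFunctor A 0).obj M)))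
    (X : DerivedCategory A) (a : ℤ) [X.IsGE a] (hX : WSerre.cohIn P X) : WSerre.cohIn P' (R.obj X) := by
  intro q
  have := (WSerreLib.cohIn_isTriangulated P').1
  have : (WSerre.cohIn P').IsClosedUnderIsomorphisms :=
    ⟨fun e he i => P'.prop_of_iso ((DerivedCategory.homologyFunctor B i).mapIso e) (he i)⟩
  let n := max (q + 2) (a + 1)
  have hge : DerivedCategory.IsGE (((tt).truncGE n).obj X) n := inferInstance
  have hR0 := hR _ n hge
  have hm : IsIso ((DerivedCategory.homologyFunctor B q).map (R.map (((tt).truncLTι n).app X))) :=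
    isIso_H_mor₁ _ (R.map_distinguished _ ((tt).triangleLTGE_distinguished n X)) q
      (DerivedCategory.isZero_of_isGE (R.obj (((tt).truncGE n).obj X)) n (q-1) (by omega))
      (DerivedCategory.isZero_of_isGE (R.obj (((tt).truncGE n).obj X)) n q (by omega))
  refine P'.prop_of_iso (asIso ((DerivedCategory.homologyFunctor B q).map (R.map (((tt).truncLTι n).app X)))) ?_
  refine prop_of_bounded ((WSerre.cohIn P').inverseImage R) P h a (n - a).toNat _ ?_
    ((tt).isLE_truncLT_obj _ _ _ (by omega)) (fun i hi hi' => ?_) q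
  · rw [DerivedCategory.isGE_iff]
    intro i hi
    have := isIso_H_ι n i (by omega) X
    exact (DerivedCategory.isZero_of_isGE X a i hi).of_iso (asIso ((H i).map (((tt).truncLTι n).app X)))
  · have := isIso_H_ι n i (by omega) X
    exact P.prop_of_iso (asIso ((H i).map (((tt).truncLTι n).app X))).symm (hX i)

section Adjoint

variable {w : B ⥤ A} [w.Additive] [PreservesFiniteLimits w] [PreservesFiniteColimits w]
  {R : DerivedCategory A ⥤ DerivedCategory B} (adj : w.mapDerivedCategory ⊣ R)
  (P : ObjectProperty A) [P.IsClosedUnderIsomorphisms] (P' : ObjectProperty B) [WSerre.IsWeakSerre P']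
  (ha : ∀ M, P' M → P (w.obj M)) (hc : ∀ M, P M → ∃ M', P' M' ∧ Nonempty (w.obj M' ≅ M))
  (hu : ∀ M, P' M → IsIso (adj.unit.app ((singleFunctor B 0).obj M)))

include ha hu in
theorem s9069_left (Y : DerivedCategory B) (hY : WSerre.cohInPlus P' Y) :
    WSerre.cohInPlus P (w.mapDerivedCategory.obj Y) ∧ IsIso (adj.unit.app Y) := by
  obtain ⟨hY, n, hn⟩ := hY
  have : Y.IsGE n := hn
  exact ⟨⟨WSerreLib.cohIn_mapDerivedCategory w P' P ha Y hY, n, DerivedAdj.isGE_map Y n⟩,
    DerivedAdj.isIso_unit_app adj Y n fun q => hu _ (hY q)⟩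

omit [P.IsClosedUnderIsomorphisms] in
include hc hu in
theorem counit_single (M : A) (hM : P M) : IsIso (adj.counit.app ((singleFunctor A 0).obj M)) := by
  obtain ⟨M', hM', ⟨e⟩⟩ := hc M hM
  have := hu M' hM'
  refine (NatTrans.isIso_app_iff_of_iso adj.counit
    ((w.mapDerivedCategorySingleFunctor 0).app M' ≪≫ (singleFunctor A 0).mapIso e)).1 ?_
  exact IsIso.of_isIso_fac_left (adj.left_triangle_components _)

include hc hu in
theorem s9069_right (X : DerivedCategory A) (hX : WSerre.cohInPlus P X) :
    WSerre.cohInPlus P' (R.obj X) ∧ IsIso (adj.counit.app X) := by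
  obtain ⟨hX, n, hn⟩ := hX
  have : X.IsGE n := hn
  let := adj.rightAdjointCommShift ℤ
  have := adj.commShift_of_leftAdjoint (A := ℤ)
  have := adj.isTriangulated_rightAdjoint
  refine ⟨⟨cohIn_map R (fun Z m _ => DerivedAdj.isGE_rightAdjoint adj Z m) P P' (fun M hM => ?_) X n hX,
    n, DerivedAdj.isGE_rightAdjoint adj X n⟩,
    DerivedAdj.isIso_counit_app adj X n fun q => counit_single adj P P' hc hu _ (hX q)⟩
  obtain ⟨M', hM', ⟨e⟩⟩ := hc M hM
  have := hu M' hM'
  let g : (singleFunctor B 0).obj M' ≅ R.obj ((singleFunctor A 0).obj M) :=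
    asIso (adj.unit.app ((singleFunctor B 0).obj M')) ≪≫
      R.mapIso ((w.mapDerivedCategorySingleFunctor 0).app M' ≪≫ (singleFunctor A 0).mapIso e)
  intro q
  refine P'.prop_of_iso ((DerivedCategory.homologyFunctor B q).mapIso g) ?_
  by_cases h0 : q = 0
  · subst h0
    exact P'.prop_of_iso ((singleFunctorCompHomologyFunctorIso B 0).app M').symm hM'
  · obtain ⟨Z, hZ, hPZ⟩ := P'.exists_prop_of_containsZero
    have hz : IsZero ((DerivedCategory.homologyFunctor B q).obj ((singleFunctor B 0).obj M')) := by
      rcases lt_or_gt_of_ne h0 with h | h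
      · exact DerivedCategory.isZero_of_isGE _ 0 q h
      · exact DerivedCategory.isZero_of_isLE _ 0 q h
    exact P'.prop_of_iso (hZ.iso hz) hPZ

end Adjoint

end Groth.L10.WayOut
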