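import Groth.Agent.L10.RDerCohIn
import Groth.Agent.L10.WayOut
import Groth.Prelude.Def_SiteCmp

/-! Equivalences of derived categories with cohomology conditions along flat morphisms of ringed sites. -/

universe w w' v v' u u'

open CategoryTheory CategoryTheory.Limits CategoryTheory.Pretriangulated DerivedCategory

set_option backward.defeqAttrib.useBackward true
set_option backward.isDefEq.respectTransparency false
namespace Groth.L10.UnitIso

variable {A : Type u} [Category.{v} A] [Abelian A] [HasDerivedCategory.{w} A]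
  {B : Type u'} [Category.{v'} B] [Abelian B] [HasDerivedCategory.{w'} B]

local notation "tt" => DerivedCategory.TStructure.t

/-- Exact functors commute with cohomology, naturally. -/
noncomputable def homologyNatIso (F : A ⥤ B) [F.Additive] [PreservesFiniteLimits F] [PreservesFiniteColimits F] (q : ℤ) :
    F.mapDerivedCategory ⋙ homologyFunctor B q ≅ homologyFunctor A q ⋙ F :=
  let W := HomologicalComplex.quasiIso A (ComplexShape.up ℤ)
  let F₁ := F.mapHomologicalComplex (ComplexShape.up ℤ) ⋙ HomologicalComplex.homologyFunctor B (ComplexShape.up ℤ) q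
  let F₂ := HomologicalComplex.homologyFunctor A (ComplexShape.up ℤ) q ⋙ F
  have : Localization.Lifting Q W F₁ (F.mapDerivedCategory ⋙ homologyFunctor B q) :=
    ⟨(Functor.associator _ _ _).symm ≪≫ Functor.isoWhiskerRight F.mapDerivedCategoryFactors _ ≪≫
      Functor.associator _ _ _ ≪≫ Functor.isoWhiskerLeft _ (homologyFunctorFactors B q)⟩
  have : Localization.Lifting Q W F₂ (homologyFunctor A q ⋙ F) :=
    ⟨(Functor.associator _ _ _).symm ≪≫ Functor.isoWhiskerRight (homologyFunctorFactors A q) F⟩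
  Localization.liftNatIso Q W F₁ F₂ _ _ (NatIso.ofComponents (fun K => (K.sc q).mapHomologyIso F)
    (fun f => ShortComplex.mapHomologyIso_hom_naturality ((HomologicalComplex.shortComplexFunctor A _ q).map f) F))

theorem isIso_H_map (F : A ⥤ B) [F.Additive] [PreservesFiniteLimits F] [PreservesFiniteColimits F]
    {X Y : DerivedCategory A} (g : X ⟶ Y) (q : ℤ) [IsIso ((homologyFunctor A q).map g)] :
    IsIso ((homologyFunctor B q).map (F.mapDerivedCategory.map g)) :=
  ((MorphismProperty.isomorphisms B).arrow_mk_iso_iff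
    (Arrow.isoMk ((homologyNatIso F q).app X) ((homologyNatIso F q).app Y)
      ((homologyNatIso F q).hom.naturality g).symm)).2 (inferInstanceAs (IsIso (F.map ((homologyFunctor A q).map g))))

/-- Uniqueness of upper truncations. -/
theorem exists_iso_truncGE {X Z : DerivedCategory A} (a : ℤ) (g : X ⟶ Z) [Z.IsGE a]
    (h : ∀ i, a ≤ i → IsIso ((homologyFunctor A i).map g)) :
    ∃ e : ((tt).truncGE a).obj X ⟶ Z, IsIso e ∧ ((tt).truncGEπ a).app X ≫ e = g := by
  have : (tt).IsGE Z a := ‹Z.IsGE a›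
  refine ⟨(tt).descTruncGE g a, ?_, (tt).π_descTruncGE g a⟩
  rw [DerivedCategory.isIso_iff]
  intro i
  by_cases hi : a ≤ i
  · have := h i hi
    have := isIso_H_π a i hi X
    exact IsIso.of_isIso_fac_left (f := (homologyFunctor A i).map (((tt).truncGEπ a).app X)) (h := (homologyFunctor A i).map g)
      (by rw [← Functor.map_comp, (tt).π_descTruncGE g a])
  · exact ⟨0, (isZero_H_GE a i (by omega) X).eq_of_src _ _, (DerivedCategory.isZero_of_isGE Z a i (by omega)).eq_of_src _ _⟩

theorem cohIn_truncGE (P : ObjectProperty A) [P.IsClosedUnderIsomorphisms] [P.ContainsZero] (a : ℤ)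
    (X : DerivedCategory A) (hX : WSerre.cohIn P X) : WSerre.cohIn P (((tt).truncGE a).obj X) := fun i => by
  by_cases hi : a ≤ i
  · have := isIso_H_π a i hi X
    exact P.prop_of_iso (asIso ((homologyFunctor A i).map (((tt).truncGEπ a).app X))) (hX i)
  · obtain ⟨Z, hZ, hPZ⟩ := P.exists_prop_of_containsZero
    exact P.prop_of_iso (hZ.iso (isZero_H_GE a i (by omega) X)) hPZ

end Groth.L10.UnitIso

namespace Groth.L10.UnitIso

open SiteCmp

universe u₁

attribute [local instance] HasDerivedCategory.standard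

variable {C : Type u₁} [SmallCategory C] {J : GrothendieckTopology C} {O_C : Sheaf J CommRingCat.{u₁}}
  {D : Type u₁} [SmallCategory D] {K : GrothendieckTopology D} {O_D : Sheaf K CommRingCat.{u₁}}
  (f : ModSite.RMor O_C O_D) [PreservesFiniteLimits f.pull] [SiteCmp.HasRpushD f]
  (adj : SiteCmp.pullD f ⊣ SiteCmp.RpushD f)
  (A : ObjectProperty (ModSite.Mod O_C)) [WSerre.IsWeakSerre A]
  (A' : ObjectProperty (ModSite.Mod O_D)) [WSerre.IsWeakSerre A']
  (h2a : ∀ F' : ModSite.Mod O_D, A' F' → A (f.pull.obj F'))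
  (h2c : ∀ F : ModSite.Mod O_C, A F → ∃ F' : ModSite.Mod O_D, A' F' ∧ Nonempty (f.pull.obj F' ≅ F))
  (h3 : ∀ F' : ModSite.Mod O_D, A' F' → IsIso (adj.unit.app (SiteCmp.inD O_D F')))

include h2c h3 in
/-- Higher direct images of objects of `A` vanish and the direct image lies in `A'`. -/
theorem rpush_props [HasInjectiveResolutions (ModSite.Mod O_C)] (F : ModSite.Mod O_C) (hF : A F) (p : ℕ) :
    A' ((f.Rpush p).obj F) ∧ ((0 : ℤ) < p → IsZero ((f.Rpush p).obj F)) := by
  obtain ⟨_, _, _⟩ := ModRDer.insts O_C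
  obtain ⟨F', hF', ⟨e⟩⟩ := h2c F hF
  have := h3 F' hF'
  let α := (SiteCmp.pushKh f).totalRightDerivedUnit DerivedCategory.Qh
    (HomotopyCategory.quasiIso (ModSite.Mod O_C) (ComplexShape.up ℤ))
  let g : inD O_D F' ≅ (SiteCmp.RpushD f).obj (inD O_C F) :=
    asIso (adj.unit.app (inD O_D F')) ≪≫
      (SiteCmp.RpushD f).mapIso ((f.pull.mapDerivedCategorySingleFunctor 0).app F' ≪≫ (singleFunctor _ 0).mapIso e)
  obtain ⟨e'⟩ := (RDerTri.isGE_single α F).2 p
  let k : (homologyFunctor (ModSite.Mod O_D) (p : ℤ)).obj (inD O_D F') ≅ (f.Rpush p).obj F :=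
    (homologyFunctor _ (p : ℤ)).mapIso g ≪≫ e'
  refine ⟨A'.prop_of_iso k ?_, fun hp => (DerivedCategory.isZero_of_isLE (inD O_D F') 0 (p : ℤ) hp).of_iso k.symm⟩
  by_cases h0 : p = 0
  · subst h0
    exact A'.prop_of_iso ((singleFunctorCompHomologyFunctorIso _ 0).app F').symm hF'
  · obtain ⟨Z, hZ, hPZ⟩ := A'.exists_prop_of_containsZero
    exact A'.prop_of_iso (hZ.iso (DerivedCategory.isZero_of_isLE (inD O_D F') 0 (p : ℤ) (by omega))) hPZ

include h2a h2c h3 in
/-- The equivalence, given stability of derived direct images under truncations. -/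
theorem main (hstab : ∀ (X : DerivedCategory (ModSite.Mod O_C)), WSerre.cohIn A X → ∀ (n : ℕ) (j : ℤ),
      0 - (n : ℤ) ≤ j → IsIso ((homologyFunctor (ModSite.Mod O_D) j).map
        ((SiteCmp.RpushD f).map ((DerivedCategory.TStructure.t.truncGEπ (-(n : ℤ))).app X)))) :
    (∀ Y : DerivedCategory (ModSite.Mod O_D), WSerre.cohIn A' Y →
      WSerre.cohIn A ((SiteCmp.pullD f).obj Y) ∧ IsIso (adj.unit.app Y)) ∧
    (∀ X : DerivedCategory (ModSite.Mod O_C), WSerre.cohIn A X →
      WSerre.cohIn A' ((SiteCmp.RpushD f).obj X) ∧ IsIso (adj.counit.app X)) := by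
  obtain ⟨_, _, _⟩ := ModRDer.insts O_C
  constructor
  · intro Y hY
    have hwY : WSerre.cohIn A ((SiteCmp.pullD f).obj Y) :=
      WSerreLib.cohIn_mapDerivedCategory f.pull A' A h2a Y hY
    refine ⟨hwY, ?_⟩
    rw [DerivedCategory.isIso_iff]
    intro j
    let n := (-j).toNat
    let π : Y ⟶ (DerivedCategory.TStructure.t.truncGE (-(n : ℤ))).obj Y := (DerivedCategory.TStructure.t.truncGEπ (-(n : ℤ))).app Y
    have := (WayOut.s9069_left adj A A' h2a h3 _ ⟨cohIn_truncGE A' (-(n : ℤ)) Y hY, -(n : ℤ),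
      (inferInstance : DerivedCategory.IsGE ((DerivedCategory.TStructure.t.truncGE (-(n : ℤ))).obj Y) (-(n : ℤ)))⟩).2
    have := DerivedAdj.isGE_map (w := f.pull) ((DerivedCategory.TStructure.t.truncGE (-(n : ℤ))).obj Y) (-(n : ℤ))
    obtain ⟨e, he, hfac⟩ := exists_iso_truncGE (-(n : ℤ)) ((SiteCmp.pullD f).map π) fun i hi => by
      have := isIso_H_π (-(n : ℤ)) i hi Y
      exact isIso_H_map f.pull _ i
    have hR : IsIso ((homologyFunctor (ModSite.Mod O_D) j).map ((SiteCmp.RpushD f).map ((SiteCmp.pullD f).map π))) := by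
      rw [← hfac, Functor.map_comp, Functor.map_comp]
      have := hstab _ hwY n j (by omega)
      exact IsIso.comp_isIso
    have := isIso_H_π (-(n : ℤ)) j (by omega) Y
    refine IsIso.of_isIso_fac_right (f := (homologyFunctor (ModSite.Mod O_D) j).map ((SiteCmp.RpushD f).map ((SiteCmp.pullD f).map π)))
      (h := (homologyFunctor (ModSite.Mod O_D) j).map π ≫ (homologyFunctor _ j).map (adj.unit.app ((DerivedCategory.TStructure.t.truncGE (-(n : ℤ))).obj Y))) ?_
    exact (Functor.map_comp _ _ _).symm.trans ((congrArg _ (adj.unit.naturality π).symm).trans (Functor.map_comp _ _ _))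
  · intro X hX
    let α := (SiteCmp.pushKh f).totalRightDerivedUnit DerivedCategory.Qh
      (HomotopyCategory.quasiIso (ModSite.Mod O_C) (ComplexShape.up ℤ))
    refine ⟨ModRDer.cohIn_RF f α A A' (fun F hF p => (rpush_props f adj A A' h2c h3 F hF p).1) 0 X hX (hstab X hX), ?_⟩
    rw [DerivedCategory.isIso_iff]
    intro j
    let n := (-j).toNat
    let π : X ⟶ (DerivedCategory.TStructure.t.truncGE (-(n : ℤ))).obj X := (DerivedCategory.TStructure.t.truncGEπ (-(n : ℤ))).app X
    have := (WayOut.s9069_right adj A A' h2c h3 _ ⟨cohIn_truncGE A (-(n : ℤ)) X hX, -(n : ℤ),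
      (inferInstance : DerivedCategory.IsGE ((DerivedCategory.TStructure.t.truncGE (-(n : ℤ))).obj X) (-(n : ℤ)))⟩).2
    have := hstab X hX n j (by omega)
    have := isIso_H_map f.pull ((SiteCmp.RpushD f).map π) j
    have := isIso_H_π (-(n : ℤ)) j (by omega) X
    refine IsIso.of_isIso_fac_right (f := (homologyFunctor (ModSite.Mod O_C) j).map π)
      (h := (homologyFunctor (ModSite.Mod O_C) j).map ((SiteCmp.pullD f).map ((SiteCmp.RpushD f).map π)) ≫
        (homologyFunctor _ j).map (adj.counit.app ((DerivedCategory.TStructure.t.truncGE (-(n : ℤ))).obj X))) ?_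
    exact (Functor.map_comp _ _ _).symm.trans ((congrArg _ (adj.counit.naturality π).symm).trans (Functor.map_comp _ _ _))

end Groth.L10.UnitIso
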