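import Mathlib.Algebra.Category.Grp.AB
import Mathlib.Algebra.Category.Grp.Abelian
import Mathlib.Algebra.Category.Grp.Colimits
import Mathlib.Algebra.Category.Grp.FilteredColimits
import Mathlib.Algebra.Category.Grp.Limits
import Mathlib.CategoryTheory.Sites.Over
import Mathlib.CategoryTheory.Sites.LeftExact
import Mathlib.CategoryTheory.Sites.Abelian
import Mathlib.CategoryTheory.Preadditive.Injective.Basic

/-! Restriction to a slice preserves injective sheaves. -/

universe u

open CategoryTheory CategoryTheory.Limits Opposite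

set_option backward.defeqAttrib.useBackward true
set_option backward.isDefEq.respectTransparency false
namespace Groth.L10.InjOverRes

variable {C : Type u} [SmallCategory C] (J : GrothendieckTopology C) (X : C)

/-- Extension by zero on presheaves. -/
noncomputable def jObj (P : (Over X)ᵒᵖ ⥤ AddCommGrpCat.{u}) : Cᵒᵖ ⥤ AddCommGrpCat.{u} where
  obj Z := ∐ fun s : Z.unop ⟶ X => P.obj (op (Over.mk s))
  map {Z W} g := Sigma.desc fun s =>
    P.map (Over.homMk g.unop : Over.mk (g.unop ≫ s) ⟶ Over.mk s).op ≫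
      Sigma.ι (fun t : W.unop ⟶ X => P.obj (op (Over.mk t))) (g.unop ≫ s)
  map_id Z := Sigma.hom_ext _ _ fun s => by
    rw [Sigma.ι_desc, Category.comp_id]
    have h : ∀ (t : Z.unop ⟶ X) (g : Over.mk t ⟶ Over.mk s) (_ : g.left = 𝟙 _) (_ : t = s),
        P.map g.op ≫ Sigma.ι (fun t : Z.unop ⟶ X => P.obj (op (Over.mk t))) t =
          Sigma.ι (fun t : Z.unop ⟶ X => P.obj (op (Over.mk t))) s := by
      rintro t g hg rfl
      obtain rfl : g = 𝟙 _ := Over.OverMorphism.ext hg
      rw [op_id, CategoryTheory.Functor.map_id, Category.id_comp]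
    exact h _ _ rfl (Category.id_comp _)
  map_comp {Z W T} g g' := Sigma.hom_ext _ _ fun s => by
    simp only [Sigma.ι_desc_assoc, Category.assoc, Sigma.ι_desc]
    have h : ∀ (t t' : T.unop ⟶ X) (a : Over.mk t ⟶ Over.mk s) (b : Over.mk t' ⟶ Over.mk s) (_ : a.left = b.left) (_ : t = t'),
        P.map a.op ≫ Sigma.ι (fun t : T.unop ⟶ X => P.obj (op (Over.mk t))) t =
          P.map b.op ≫ Sigma.ι (fun t : T.unop ⟶ X => P.obj (op (Over.mk t))) t' := by
      rintro t t' a b hab rfl
      rw [show a = b from Over.OverMorphism.ext hab]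
    rw [← Functor.map_comp_assoc, ← op_comp]
    refine h _ _ _ _ ?_ ?_ <;> simp

/-- Functoriality of extension by zero. -/
noncomputable def jMap {P Q : (Over X)ᵒᵖ ⥤ AddCommGrpCat.{u}} (φ : P ⟶ Q) : jObj X P ⟶ jObj X Q where
  app Z := Limits.Sigma.map fun s => φ.app _
  naturality {Z W} g := Sigma.hom_ext _ _ fun s => by
    dsimp [jObj]
    simp [φ.naturality_assoc]

theorem mono_jMap {P Q : (Over X)ᵒᵖ ⥤ AddCommGrpCat.{u}} (φ : P ⟶ Q) [Mono φ] : Mono (jMap X φ) := by
  have : ∀ Z, Mono ((jMap X φ).app Z) := fun Z => by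
    let α : (Discrete.functor fun s : Z.unop ⟶ X => P.obj (op (Over.mk s))) ⟶
        (Discrete.functor fun s : Z.unop ⟶ X => Q.obj (op (Over.mk s))) := Discrete.natTrans fun s => φ.app _
    have : ∀ s, Mono (α.app s) := fun s => inferInstanceAs (Mono (φ.app _))
    have := NatTrans.mono_of_mono_app α
    exact inferInstanceAs (Mono (colim.map α))
  exact NatTrans.mono_of_mono_app _

/-- Extending a map into a restriction. -/
noncomputable def jLift {P : (Over X)ᵒᵖ ⥤ AddCommGrpCat.{u}} {R : Cᵒᵖ ⥤ AddCommGrpCat.{u}}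
    (g : P ⟶ (Over.forget X).op ⋙ R) : jObj X P ⟶ R where
  app Z := Sigma.desc fun s => g.app (op (Over.mk s))
  naturality {Z W} m := Sigma.hom_ext _ _ fun s => by
    dsimp [jObj]
    simp only [Sigma.ι_desc_assoc, Sigma.ι_desc, Category.assoc]
    exact g.naturality _

/-- Restriction to a slice preserves injective sheaves. -/
theorem injective_overPullback (I : Sheaf J AddCommGrpCat.{u}) [Injective I] :
    Injective ((J.overPullback AddCommGrpCat.{u} X).obj I) := ⟨by
  intro A B g i _
  have : Mono i.hom := inferInstanceAs (Mono ((sheafToPresheaf _ _).map i))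
  have := mono_jMap X i.hom
  let adj := sheafificationAdjunction J AddCommGrpCat.{u}
  let g' := (adj.homEquiv _ _).symm (jLift X g.hom : jObj X A.obj ⟶ I.obj)
  obtain ⟨k, hk⟩ := Injective.factors g' ((presheafToSheaf J AddCommGrpCat.{u}).map (jMap X i.hom))
  let k' : jObj X B.obj ⟶ I.obj := adj.homEquiv _ _ k
  have hk' : jMap X i.hom ≫ k' = jLift X g.hom := by
    refine ((adj.homEquiv_naturality_left _ _).symm).trans ?_
    rw [hk, Equiv.apply_symm_apply]
  let ψ : ∀ T : (Over X)ᵒᵖ, B.obj.obj T ⟶ ((J.overPullback AddCommGrpCat.{u} X).obj I).obj.obj T := fun T =>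
    Sigma.ι (fun t : T.unop.left ⟶ X => B.obj.obj (op (Over.mk t))) T.unop.hom ≫ k'.app (op T.unop.left)
  refine ⟨⟨{ app := ψ, naturality := ?_ }⟩, ?_⟩
  · intro T T' m
    have hn := k'.naturality m.unop.left.op
    have := congrArg (Sigma.ι (fun t : T.unop.left ⟶ X => B.obj.obj (op (Over.mk t))) T.unop.hom ≫ ·) hn
    dsimp [jObj] at this ⊢
    simp only [Sigma.ι_desc_assoc, Category.assoc] at this
    refine Eq.trans ?_ (this.trans ?_)
    · have h : ∀ (t : T'.unop.left ⟶ X) (a : Over.mk t ⟶ T.unop) (_ : a.left = m.unop.left) (_ : t = T'.unop.hom),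
          B.obj.map m ≫ Sigma.ι (fun t : T'.unop.left ⟶ X => B.obj.obj (op (Over.mk t))) T'.unop.hom =
            B.obj.map a.op ≫ Sigma.ι (fun t : T'.unop.left ⟶ X => B.obj.obj (op (Over.mk t))) t := by
        rintro t a ha rfl
        congr 2
        exact Quiver.Hom.unop_inj (Over.OverMorphism.ext ha.symm)
      rw [← Category.assoc, ← Category.assoc]
      congr 1
      exact h (m.unop.left ≫ T.unop.hom) _ rfl (Over.w m.unop)
    · rw [Category.assoc]
  · ext1
    ext T : 2
    have := congrArg (Sigma.ι (fun t : T.unop.left ⟶ X => A.obj.obj (op (Over.mk t))) T.unop.hom ≫ ·)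
      (NatTrans.congr_app hk' (op T.unop.left))
    dsimp [jMap, jLift] at this ⊢
    simp only [Sigma.ι_map_assoc, Sigma.ι_desc] at this
    exact this⟩

end Groth.L10.InjOverRes
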