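import Groth.Prelude.Def_DerLim
import Mathlib.CategoryTheory.Abelian.GrothendieckAxioms.Basic
import Mathlib.CategoryTheory.Functor.OfSequence
import Mathlib.Algebra.Homology.ShortComplex.ShortExact
import Mathlib.CategoryTheory.Limits.IsConnected
import Mathlib.CategoryTheory.Filtered.Connected
import Mathlib.CategoryTheory.Abelian.Basic

/-! Countable sums and sequential colimits. -/

universe v u

open CategoryTheory CategoryTheory.Limits

set_option backward.defeqAttrib.useBackward true
set_option backward.isDefEq.respectTransparency false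

namespace Groth.L10.SeqColim

variable {A : Type u} [Category.{v} A] [Abelian A] (F : ℕ → A)

/-- The finite partial sums. -/
noncomputable abbrev part (n : ℕ) : A := ∐ fun k : Fin (n + 1) => F k

/-- The transition maps of the partial sums. -/
noncomputable def partMap (n : ℕ) : part F n ⟶ part F (n + 1) :=
  Sigma.desc fun k => Sigma.ι (fun k : Fin (n + 2) => F k) k.castSucc

/-- The sequence of partial sums. -/
noncomputable def partSeq : ℕ ⥤ A := Functor.ofSequence (partMap F)

theorem partSeq_step (n : ℕ) : (partSeq F).map (homOfLE (Nat.le_succ n)) = partMap F n :=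
  Functor.ofSequence_map_homOfLE_succ _ n

/-- A cocone on the partial sums from a family of maps. -/
noncomputable def descCocone {X : A} (g : ∀ n, F n ⟶ X) : Cocone (partSeq F) where
  pt := X
  ι := NatTrans.ofSequence (fun n => Sigma.desc fun k : Fin (n + 1) => g k) fun n => by
    rw [partSeq_step]
    refine Sigma.hom_ext _ _ fun k => ?_
    dsimp [partMap]
    simp

section

variable [HasColimitsOfShape ℕ A]

/-- The inclusion of a term in the colimit of the partial sums. -/
noncomputable def inj (k : ℕ) : F k ⟶ colimit (partSeq F) :=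
  Sigma.ι (fun j : Fin (k + 1) => F j) (Fin.last k) ≫ colimit.ι (partSeq F) k

theorem ι_colimit (k : ℕ) : ∀ (d : ℕ) (h : k < k + d + 1),
    Sigma.ι (fun j : Fin (k + d + 1) => F j) ⟨k, h⟩ ≫ colimit.ι (partSeq F) (k + d) = inj F k := by
  intro d
  induction d with
  | zero => intro h; rfl
  | succ d ih =>
    intro h
    have hw := colimit.w (partSeq F) (homOfLE (Nat.le_succ (k + d)))
    rw [partSeq_step] at hw
    rw [← ih (by omega)]
    refine Eq.trans ?_ (congrArg (Sigma.ι (fun j : Fin (k + d + 1) => F j) ⟨k, by omega⟩ ≫ ·) hw)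
    rw [← Category.assoc]
    congr 1
    simp [partMap]
    rfl

/-- The colimit of the partial sums is the sum. -/
noncomputable def isColimit : IsColimit (Cofan.mk (colimit (partSeq F)) (inj F)) :=
  mkCofanColimit _ (fun s => colimit.desc _ (descCocone F s.inj))
    (fun s k => by simp [inj, descCocone, Cofan.inj])
    fun s m hm => by
      refine colimit.hom_ext (F := partSeq F) fun n => ?_
      refine Sigma.hom_ext _ _ fun k => ?_
      obtain ⟨k, hk⟩ := k
      obtain ⟨d, rfl⟩ : ∃ d, n = k + d := ⟨n - k, by omega⟩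
      rw [← Category.assoc, ι_colimit F k d hk]
      refine (hm k).trans ?_
      simp [descCocone]

theorem hasCoproduct : HasCoproduct F := ⟨⟨⟨_, isColimit F⟩⟩⟩

end

variable [HasCoproduct F]

/-- Projections. -/
noncomputable def proj (k : ℕ) : (∐ F) ⟶ F k :=
  Sigma.desc fun j => if h : j = k then eqToHom (by rw [h]) else 0

theorem ι_proj_self (k : ℕ) : Sigma.ι F k ≫ proj F k = 𝟙 _ := by simp [proj]

theorem ι_proj_ne {j k : ℕ} (h : j ≠ k) : Sigma.ι F j ≫ proj F k = 0 := by simp [proj, h]

/-- The partial version of `1 - shift`. -/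
noncomputable def hPart (f : ∀ n, F n ⟶ F (n + 1)) (n : ℕ) : part F n ⟶ ∐ F :=
  Sigma.desc fun k => Sigma.ι F k.1 - f k.1 ≫ Sigma.ι F (k.1 + 1)

theorem mono_hPart (f : ∀ n, F n ⟶ F (n + 1)) (n : ℕ) : Mono (hPart F f n) := by
  refine Preadditive.mono_of_cancel_zero _ fun {W} x hx => ?_
  let p : ∀ k : Fin (n + 1), part F n ⟶ F k := fun k =>
    Sigma.desc fun j => if h : j = k then eqToHom (by rw [h]) else 0
  have hid : 𝟙 (part F n) = ∑ k, p k ≫ Sigma.ι (fun j : Fin (n + 1) => F j) k := by
    refine Sigma.hom_ext _ _ fun j => ?_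
    rw [Preadditive.comp_sum, Finset.sum_eq_single j]
    · simp [p]
    · intro k _ hk
      simp [p, hk.symm]
    · simp
  have hk : ∀ (k : ℕ) (h : k < n + 1), x ≫ p ⟨k, h⟩ = 0 := by
    intro k
    induction k with
    | zero =>
      intro h
      have h0 : hPart F f n ≫ proj F 0 = p ⟨0, h⟩ := Sigma.hom_ext _ _ fun j => by
        obtain ⟨j, hj⟩ := j
        rcases eq_or_ne j 0 with rfl | hj0
        · simp [hPart, p, ι_proj_self, ι_proj_ne]
        · simp [hPart, p, hj0, ι_proj_ne]
      rw [← h0, reassoc_of% hx, zero_comp]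
    | succ k ih =>
      intro h
      have h0 : hPart F f n ≫ proj F (k + 1) = p ⟨k + 1, h⟩ - p ⟨k, by omega⟩ ≫ f k := Sigma.hom_ext _ _ fun j => by
        obtain ⟨j, hj⟩ := j
        rcases eq_or_ne j (k + 1) with rfl | hj0
        · simp [hPart, p, ι_proj_self, ι_proj_ne]
        · rcases eq_or_ne j k with rfl | hj1
          · simp [hPart, p, ι_proj_self, ι_proj_ne]
          · simp [hPart, p, hj0, hj1, ι_proj_ne]
      have := congrArg (· ≫ proj F (k + 1)) hx
      simp only [Category.assoc, h0, zero_comp, Preadditive.comp_sub, reassoc_of% (ih (by omega)), sub_zero] at this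
      exact this
  rw [← Category.comp_id x, hid, Preadditive.comp_sum]
  refine Finset.sum_eq_zero fun k _ => ?_
  rw [← Category.assoc, hk k.1 k.2, zero_comp]

variable [HasColimitsOfShape ℕ A] [HasExactColimitsOfShape ℕ A]

theorem mono_one_sub_shift (f : ∀ n, F n ⟶ F (n + 1)) : Mono (𝟙 (∐ F) - DerLim.shiftMap F f) := by
  let α : partSeq F ⟶ (Functor.const ℕ).obj (∐ F) := NatTrans.ofSequence (hPart F f) fun n => by
    rw [partSeq_step]
    refine Sigma.hom_ext _ _ fun k => ?_
    dsimp [partMap, hPart]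
    simp
  have : ∀ n, Mono (α.app n) := fun n => mono_hPart F f n
  have := NatTrans.mono_of_mono_app α
  have : IsConnected ℕ := IsFiltered.isConnected ℕ
  have : Mono (colim.map α) := inferInstance
  let e : colimit ((Functor.const ℕ).obj (∐ F)) ≅ ∐ F :=
    (colimit.isColimit _).coconePointUniqueUpToIso (isColimitConstCocone ℕ (∐ F))
  let c : colimit (partSeq F) ≅ ∐ F := (isColimit F).coconePointUniqueUpToIso (coproductIsCoproduct F)
  have hc : c.hom ≫ (𝟙 (∐ F) - DerLim.shiftMap F f) = colim.map α ≫ e.hom := colimit.hom_ext fun n => Sigma.hom_ext _ _ fun k => by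
    obtain ⟨k, hk⟩ := k
    obtain ⟨d, rfl⟩ : ∃ d, n = k + d := ⟨n - k, by omega⟩
    have h1 : inj F k ≫ c.hom = Sigma.ι F k :=
      IsColimit.comp_coconePointUniqueUpToIso_hom (isColimit F) (coproductIsCoproduct F) ⟨k⟩
    have h2 : colimit.ι ((Functor.const ℕ).obj (∐ F)) (k + d) ≫ e.hom = 𝟙 _ :=
      IsColimit.comp_coconePointUniqueUpToIso_hom (colimit.isColimit _) (isColimitConstCocone ℕ (∐ F)) (k + d)
    rw [reassoc_of% (ι_colimit F k d hk), reassoc_of% h1, colim_map, ι_colimMap_assoc, h2]
    simp [α, hPart, DerLim.shiftMap]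
  have : Mono (c.hom ≫ (𝟙 (∐ F) - DerLim.shiftMap F f)) := by
    rw [hc]
    exact mono_comp _ _
  have hcs : 𝟙 (∐ F) - DerLim.shiftMap F f = c.inv ≫ c.hom ≫ (𝟙 (∐ F) - DerLim.shiftMap F f) := by simp
  rw [hcs]
  exact mono_comp _ _

omit [HasCoproduct F] in
/-- The short exact sequence of a sequential colimit. -/
theorem shortExact (F : ℕ ⥤ A) [HasCoproduct F.obj] :
    ∃ w : (𝟙 (∐ F.obj) - DerLim.shiftMap F.obj (fun n => F.map (homOfLE (Nat.le_succ n)))) ≫
        Sigma.desc (fun n => colimit.ι F n) = 0,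
      (ShortComplex.mk _ _ w).ShortExact := by
  have w : (𝟙 (∐ F.obj) - DerLim.shiftMap F.obj (fun n => F.map (homOfLE (Nat.le_succ n)))) ≫
      Sigma.desc (fun n => colimit.ι F n) = 0 := Sigma.hom_ext _ _ fun n => by
    simp [DerLim.shiftMap]
  have key : ∀ {W : A} (k : (∐ F.obj) ⟶ W), (𝟙 (∐ F.obj) - DerLim.shiftMap F.obj (fun n => F.map (homOfLE (Nat.le_succ n)))) ≫ k = 0 →
      ∀ n, F.map (homOfLE (Nat.le_succ n)) ≫ Sigma.ι F.obj (n + 1) ≫ k = Sigma.ι F.obj n ≫ k := fun {W} k hk n => by
    have := congrArg (Sigma.ι F.obj n ≫ ·) hk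
    simp [DerLim.shiftMap, sub_eq_zero] at this
    exact this.symm
  have hl : IsColimit (CokernelCofork.ofπ _ w) := CokernelCofork.IsColimit.ofπ _ _
    (fun k hk => colimit.desc F ⟨_, NatTrans.ofSequence (fun n => Sigma.ι F.obj n ≫ k) (fun n => by
      simpa using key k hk n)⟩)
    (fun k hk => Sigma.hom_ext _ _ fun n => by simp)
    (fun k hk m hm => colimit.hom_ext fun n => by
      rw [colimit.ι_desc]
      dsimp
      have := congrArg (Sigma.ι F.obj n ≫ ·) hm
      simpa using this)
  refine ⟨w, { exact := ShortComplex.exact_of_g_is_cokernel _ hl, mono_f := mono_one_sub_shift _ _, epi_g := ?_ }⟩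
  exact Cofork.IsColimit.epi hl

end Groth.L10.SeqColim
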