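import Groth.Agent.L10.ModRDer
import Mathlib.CategoryTheory.Generator.Basic

/-! The extension by zero of the structure sheaf is the free module on the object. -/

universe u

open CategoryTheory CategoryTheory.Limits Opposite

set_option backward.defeqAttrib.useBackward true
set_option backward.isDefEq.respectTransparency false
namespace Groth.L10.FreeOn

open Groth.L10

variable {C : Type u} [SmallCategory C] {J : GrothendieckTopology C} (O : Sheaf J CommRingCat.{u}) (U : C)

/-- Sections over `C/U` are sections on `U`. -/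
noncomputable def overSections (M : ModSite.Mod O) :
    ((ModSite.restr O U).obj M).sections ≃ (ModSite.toAb M).obj.obj (op U) where
  toFun s := s.val (op (Over.mk (𝟙 U)))
  invFun x := ⟨fun X => (ModSite.toAb M).obj.map X.unop.hom.op x, fun {X Y} g => by
    change (ModSite.toAb M).obj.map g.unop.left.op ((ModSite.toAb M).obj.map X.unop.hom.op x) = _
    beta_reduce
    rw [← Over.w g.unop, op_comp, CategoryTheory.Functor.map_comp]
    rfl⟩
  left_inv s := Subtype.ext (funext fun X => s.property (Over.homMk X.unop.hom : X.unop ⟶ Over.mk (𝟙 U)).op)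
  right_inv x := by
    change (ModSite.toAb M).obj.map (𝟙 U).op x = x
    rw [op_id, CategoryTheory.Functor.map_id]
    rfl

/-- Maps out of `freeOn` are sections. -/
noncomputable def sec (M : ModSite.Mod O) : (ModSite.freeOn O U ⟶ M) ≃ (ModSite.toAb M).obj.obj (op U) :=
  ((ModSite.extZeroAdj O U).homEquiv _ _).trans
    (((ModSite.restr O U).obj M).unitHomEquiv.trans (overSections O U M))

theorem sec_comp {M N : ModSite.Mod O} (a : ModSite.freeOn O U ⟶ M) (φ : M ⟶ N) :
    sec O U N (a ≫ φ) = ((SheafOfModules.toSheaf.{u} (ModSite.ringSh O)).map φ).hom.app (op U) (sec O U M a) := by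
  simp only [sec, Equiv.trans_apply]
  rw [(ModSite.extZeroAdj O U).homEquiv_naturality_right, SheafOfModules.unitHomEquiv_comp_apply]
  rfl

/-- Comparison of maps out of the two free modules. -/
noncomputable def cmpEquiv (M : ModSite.Mod O) : (ModSite.freeOn O U ⟶ M) ≃ (SiteCover.P O U ⟶ M) :=
  (sec O U M).trans (SiteCover.sec O U M).symm

theorem cmpEquiv_comp {M N : ModSite.Mod O} (a : ModSite.freeOn O U ⟶ M) (φ : M ⟶ N) :
    cmpEquiv O U N (a ≫ φ) = cmpEquiv O U M a ≫ φ := by
  apply (SiteCover.sec O U N).injective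
  simp only [cmpEquiv, Equiv.trans_apply, Equiv.apply_symm_apply]
  rw [sec_comp, SiteCover.sec_comp, Equiv.apply_symm_apply]

/-- `j_{U!}O_U` is the free module on `U`. -/
noncomputable def iso : ModSite.freeOn O U ≅ SiteCover.P O U where
  hom := (cmpEquiv O U _).symm (𝟙 _)
  inv := cmpEquiv O U _ (𝟙 _)
  hom_inv_id := by
    apply (cmpEquiv O U _).injective
    rw [cmpEquiv_comp, Equiv.apply_symm_apply, Category.id_comp]
  inv_hom_id := by
    rw [← cmpEquiv_comp, Category.id_comp, Equiv.apply_symm_apply]

theorem isSeparating (G : Set C)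
    (hG : ∀ X : C, ∃ (ι : Type u) (Y : ι → C) (f : ∀ i, Y i ⟶ X), Sieve.ofArrows Y f ∈ J X ∧ ∀ i, Y i ∈ G) :
    (ObjectProperty.ofObj fun X : G => ModSite.freeOn O (X : C)).IsSeparating := by
  intro M N a b h
  let cov := SiteCover.cover O G hG (fun _ => Set.univ) fun V T hT =>
    ⟨Σ W : C, { g : W ⟶ V.1 // T.arrows g }, fun x => x.1, fun x => x.2.1, fun x => x.2.2, by
      convert hT using 1
      ext W g
      constructor
      · rintro ⟨Z, q, g', ⟨i⟩, rfl⟩
        exact T.downward_closed i.2.2 q
      · intro hg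
        exact ⟨W, 𝟙 W, g, Presieve.ofArrows.mk (Y := fun x : Σ W : C, { g : W ⟶ V.1 // T.arrows g } => x.1)
          (f := fun x => x.2.1) ⟨W, g, hg⟩, Category.id_comp g⟩, fun _ => Set.mem_univ _⟩
  refine sub_eq_zero.1 (cov.sep _ fun V q => ?_)
  rw [Preadditive.comp_sub, sub_eq_zero, ← cancel_epi (iso O V.1).hom]
  simpa only [Category.assoc] using h _ (ObjectProperty.ofObj_apply _ V) ((iso O V.1).hom ≫ q)

end Groth.L10.FreeOn
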