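import Groth.Agent.L10.AcycObj
import Groth.Agent.L10.DerTrunc
import Mathlib.CategoryTheory.Abelian.Injective.Extend
import Mathlib.CategoryTheory.Abelian.RightDerived
import Mathlib.Algebra.Homology.HomotopyCategory.Triangulated

/-! Unbounded right derived functors: triangles, shifts, values on single objects. -/

universe w w' v v' u u'

open CategoryTheory CategoryTheory.Limits CategoryTheory.Pretriangulated DerivedCategory

set_option backward.defeqAttrib.useBackward true
set_option backward.isDefEq.respectTransparency false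
namespace Groth.L10.RDerTri

variable {A : Type u} [Category.{v} A] [Abelian A] [HasDerivedCategory.{w} A] [KInjDerived.EnoughKInjectives A]
  {B : Type u'} [Category.{v'} B] [Abelian B] [HasDerivedCategory.{w'} B] {F : A ⥤ B} [F.Additive]
  {RF : DerivedCategory A ⥤ DerivedCategory B}
  (α : F.mapHomotopyCategory (ComplexShape.up ℤ) ⋙ Qh ⟶ Qh ⋙ RF)
  [RF.IsRightDerivedFunctor α (HomotopyCategory.quasiIso A (ComplexShape.up ℤ))]

local notation "qA" => HomotopyCategory.quotient A (ComplexShape.up ℤ)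
local notation "qB" => HomotopyCategory.quotient B (ComplexShape.up ℤ)
local notation "Fh" => F.mapHomotopyCategory (ComplexShape.up ℤ) ⋙ Qh

theorem exists_rep (X : DerivedCategory A) :
    ∃ (I : CochainComplex A ℤ) (_ : I.IsKInjective), Nonempty (Qh.obj ((qA).obj I) ≅ X) := by
  obtain ⟨I, f, hI, hf⟩ := KInjDerived.EnoughKInjectives.exists_res (Q.objPreimage X)
  exact ⟨I, hI, ⟨(quotientCompQhIso A).app I ≪≫ (asIso (Q.map f)).symm ≪≫ Q.objObjPreimageIso X⟩⟩

include α in
/-- A right derived functor sends distinguished triangles to distinguished triangles (for some connecting map). -/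
theorem exists_triangle (T : Triangle (DerivedCategory A)) (hT : T ∈ distTriang _) :
    ∃ δ, Triangle.mk (RF.map T.mor₁) (RF.map T.mor₂) δ ∈ distTriang _ := by
  obtain ⟨I, hI, ⟨e₁⟩⟩ := exists_rep T.obj₁
  obtain ⟨I', hI', ⟨e₂⟩⟩ := exists_rep T.obj₂
  obtain ⟨f, hf⟩ := (KInjDerived.qh_bijective ((qA).obj I) ⟨(qA).obj I', hI'⟩).surjective (e₁.hom ≫ T.mor₁ ≫ e₂.inv)
  obtain ⟨φ, rfl⟩ := (qA).map_surjective f
  let T0 := CochainComplex.mappingCone.triangleh φ
  have hT0 : T0 ∈ distTriang _ := HomotopyCategory.mappingCone_triangleh_distinguished φ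
  have hT0' : Qh.mapTriangle.obj T0 ∈ distTriang _ := Qh.map_distinguished T0 hT0
  have hsq : Qh.map ((qA).map φ) ≫ e₂.hom = e₁.hom ≫ T.mor₁ := by
    rw [hf]
    simp
  obtain ⟨g, hg₂, hg₃⟩ := complete_distinguished_triangle_morphism _ _ hT0' hT e₁.hom e₂.hom hsq
  have hgi : IsIso g := isIso₃_of_isIso₁₂ (Triangle.homMk _ _ e₁.hom e₂.hom g hsq hg₂ hg₃) hT0' hT
    (inferInstanceAs (IsIso e₁.hom)) (inferInstanceAs (IsIso e₂.hom))
  have hC : CochainComplex.IsKInjective T0.obj₃.as := by
    have h₁ : CochainComplex.IsKInjective T0.obj₁.as := hI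
    have h₂ : CochainComplex.IsKInjective T0.obj₂.as := hI'
    rw [CochainComplex.isKInjective_iff_rightOrthogonal] at h₁ h₂ ⊢
    exact ObjectProperty.ext_of_isTriangulatedClosed₃ _ T0 hT0 h₁ h₂
  have i1 : IsIso (α.app T0.obj₁) := KInjDerived.isIso_app_quotient α I
  have i2 : IsIso (α.app T0.obj₂) := KInjDerived.isIso_app_quotient α I'
  have i3 : IsIso (α.app T0.obj₃) := KInjDerived.isIso_app_of_isKInjective α T0.obj₃ hC
  let E₁ : (Fh).obj T0.obj₁ ≅ RF.obj T.obj₁ := asIso (α.app T0.obj₁) ≪≫ RF.mapIso e₁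
  let E₂ : (Fh).obj T0.obj₂ ≅ RF.obj T.obj₂ := asIso (α.app T0.obj₂) ≪≫ RF.mapIso e₂
  let E₃ : (Fh).obj T0.obj₃ ≅ RF.obj T.obj₃ := asIso (α.app T0.obj₃) ≪≫ RF.mapIso (asIso g)
  refine ⟨E₃.inv ≫ ((Fh).mapTriangle.obj T0).mor₃ ≫ E₁.hom⟦(1 : ℤ)⟧', ?_⟩
  refine isomorphic_distinguished _ ((Fh).map_distinguished T0 hT0) _ (Iso.symm (Triangle.isoMk _ _ E₁ E₂ E₃ ?_ ?_ ?_))
  · change (Fh).map T0.mor₁ ≫ α.app T0.obj₂ ≫ RF.map e₂.hom = (α.app T0.obj₁ ≫ RF.map e₁.hom) ≫ RF.map T.mor₁
    rw [← Category.assoc, α.naturality, Category.assoc, Category.assoc, Functor.comp_map, ← Functor.map_comp, ← Functor.map_comp]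
    exact congrArg (fun z => α.app T0.obj₁ ≫ RF.map z) hsq
  · change (Fh).map T0.mor₂ ≫ α.app T0.obj₃ ≫ RF.map g = (α.app T0.obj₂ ≫ RF.map e₂.hom) ≫ RF.map T.mor₂
    rw [← Category.assoc, α.naturality, Category.assoc, Category.assoc, Functor.comp_map, ← Functor.map_comp, ← Functor.map_comp]
    exact congrArg (fun z => α.app T0.obj₂ ≫ RF.map z) hg₂
  · simp

include α in
theorem nonempty_obj_shift (Y : DerivedCategory A) (k : ℤ) : Nonempty (RF.obj (Y⟦k⟧) ≅ (RF.obj Y)⟦k⟧) := by
  obtain ⟨I, hI, ⟨e⟩⟩ := exists_rep Y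
  have := KInjDerived.isIso_app_quotient α I
  have : CochainComplex.IsKInjective ((((qA).obj I))⟦k⟧).as := by
    have h : CochainComplex.IsKInjective (I⟦k⟧) := inferInstance
    exact (CochainComplex.isKInjective_iff_rightOrthogonal _).2
      (ObjectProperty.prop_of_iso _ (((qA).commShiftIso k).app I) ((CochainComplex.isKInjective_iff_rightOrthogonal _).1 h))
  have := KInjDerived.isIso_app_of_isKInjective α (((qA).obj I)⟦k⟧) this
  exact ⟨(RF.mapIso ((Qh.commShiftIso k).app _ ≪≫ (shiftFunctor _ k).mapIso e)).symm ≪≫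
    (asIso (α.app (((qA).obj I)⟦k⟧))).symm ≪≫ ((Fh).commShiftIso k).app _ ≪≫
    (shiftFunctor _ k).mapIso (asIso (α.app ((qA).obj I)) ≪≫ RF.mapIso e)⟩

variable [HasInjectiveResolutions A]

include α in
theorem isGE_single (M : A) : (RF.obj ((singleFunctor A 0).obj M)).IsGE 0 ∧
    ∀ p : ℕ, Nonempty ((homologyFunctor B (p : ℤ)).obj (RF.obj ((singleFunctor A 0).obj M)) ≅ (F.rightDerived p).obj M) := by
  let R := injectiveResolution M
  have : CochainComplex.IsKInjective R.cochainComplex :=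
    inferInstanceAs (CochainComplex.IsKInjective (R.cocomplex.extend ComplexShape.embeddingUpNat))
  have := KInjDerived.isIso_app_quotient α R.cochainComplex
  let G := F.mapHomologicalComplex (ComplexShape.up ℤ)
  let e : Qh.obj ((qB).obj (G.obj R.cochainComplex)) ≅ RF.obj ((singleFunctor A 0).obj M) :=
    asIso (α.app ((qA).obj R.cochainComplex)) ≪≫ RF.mapIso ((quotientCompQhIso A).app _ ≪≫ (asIso (Q.map R.ι')).symm)
  let S := (F.mapHomologicalComplex (ComplexShape.up ℕ)).obj R.cocomplex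
  let φ : (G.obj R.cochainComplex).restriction ComplexShape.embeddingUpNat ⟶ S :=
    { f := fun k => F.map (R.cocomplex.extendXIso ComplexShape.embeddingUpNat rfl).hom
      comm' := fun i j _ => by
        change F.map (R.cocomplex.extendXIso _ rfl).hom ≫ F.map (R.cocomplex.d i j) =
          F.map (R.cochainComplex.d _ _) ≫ F.map (R.cocomplex.extendXIso _ rfl).hom
        rw [← F.map_comp, ← F.map_comp]
        refine congrArg F.map ?_
        rw [R.cochainComplex_d _ _ i j (by simp) (by simp)]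
        simp [InjectiveResolution.cochainComplexXIso, InjectiveResolution.cochainComplex] }
  have hlift : ComplexShape.embeddingUpNat.HasLift φ := fun j hj i' hij' => by
    refine IsZero.eq_of_src (F.map_isZero ?_) _ _
    exact HomologicalComplex.isZero_extend_X _ _ _ (hj.notMem hij')
  let c := ComplexShape.embeddingUpNat.liftExtend φ hlift
  have : ∀ n, IsIso (c.f n) := fun n => by
    by_cases hn : ∃ i, ComplexShape.embeddingUpNat.f i = n
    · obtain ⟨i, hi⟩ := hn
      rw [ComplexShape.embeddingUpNat.isIso_liftExtend_f_iff _ _ hi]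
      exact inferInstanceAs (IsIso (F.map _))
    · exact ⟨0, (F.map_isZero (HomologicalComplex.isZero_extend_X _ _ n (by simpa using hn))).eq_of_src _ _,
        (HomologicalComplex.isZero_extend_X _ _ n (by simpa using hn)).eq_of_src _ _⟩
  have : IsIso c := HomologicalComplex.Hom.isIso_of_components c
  let H : ∀ n : ℤ, (homologyFunctor B n).obj (RF.obj ((singleFunctor A 0).obj M)) ≅
      (S.extend ComplexShape.embeddingUpNat).homology n := fun n =>
    ((homologyFunctor B n).mapIso (((quotientCompQhIso B).app _).symm ≪≫ e)).symm ≪≫ (homologyFunctorFactors B n).app _ ≪≫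
      (HomologicalComplex.homologyFunctor B (ComplexShape.up ℤ) n).mapIso (asIso c)
  constructor
  · rw [DerivedCategory.isGE_iff]
    intro n hn
    refine IsZero.of_iso ?_ (H n)
    rw [← HomologicalComplex.exactAt_iff_isZero_homology]
    exact HomologicalComplex.extend_exactAt _ _ _ (fun j => by simp; omega)
  · exact fun p => ⟨H p ≪≫ S.extendHomologyIso ComplexShape.embeddingUpNat (by simp) ≪≫ (R.isoRightDerivedObj F p).symm⟩

omit [HasInjectiveResolutions A] in
variable [EnoughInjectives A] [HasExt.{w'} B] {G : B ⥤ A} [G.Additive] (adj : G ⊣ F)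
  (hE : ∀ X : B, ∃ (Y : B) (p : Y ⟶ X), AcycObj.Acyc F Y ∧ Epi p) in
include α adj hE in
/-- Transfer of vanishing along the adjunction, for acyclic test objects. -/
theorem hom_eq_zero (Qo : B) (hQ : AcycObj.Acyc F Qo) (k : ℤ) (Y : DerivedCategory A)
    (h : ∀ g : (singleFunctor A k).obj (G.obj Qo) ⟶ Y, g = 0) (g : (singleFunctor B k).obj Qo ⟶ RF.obj Y) : g = 0 := by
  obtain ⟨I, hI, ⟨e⟩⟩ := exists_rep Y
  have := KInjDerived.isIso_app_quotient α I
  let E : (Fh).obj ((qA).obj I) ≅ RF.obj Y := asIso (α.app ((qA).obj I)) ≪≫ RF.mapIso e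
  let sB := (CochainComplex.singleFunctor B k).obj Qo
  have : CochainComplex.IsStrictlyLE sB k := by
    rw [CochainComplex.isStrictlyLE_iff]
    exact fun n hn => HomologicalComplex.isZero_single_obj_X _ _ _ _ (by omega)
  obtain ⟨x, hx⟩ := (AcycObj.qh_bijective adj hE sB k (AcycObj.single_acyc Qo hQ k) I).surjective
    (((quotientCompQhIso B).app sB).hom ≫ g ≫ E.inv)
  let ad := DerivedAdj.homotopyAdj adj
  let σ : (G.mapHomotopyCategory (ComplexShape.up ℤ)).obj ((qB).obj sB) ≅ (qA).obj ((CochainComplex.singleFunctor A k).obj (G.obj Qo)) :=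
    (qA).mapIso ((HomologicalComplex.singleMapHomologicalComplex G (ComplexShape.up ℤ) k).app Qo)
  have hy : σ.inv ≫ (ad.homEquiv _ _).symm x = 0 := by
    refine (KInjDerived.qh_bijective _ ⟨(qA).obj I, hI⟩).injective ?_
    rw [Functor.map_zero, ← cancel_mono e.hom, zero_comp, ← cancel_epi ((quotientCompQhIso A).app _).inv, comp_zero]
    exact h _
  have hx0 : x = 0 := by
    apply (ad.homEquiv _ _).symm.injective
    rw [← cancel_epi σ.inv, hy]
    exact (comp_zero.symm.trans (congrArg (σ.inv ≫ ·) ((ad.homAddEquiv _ _).symm.map_zero).symm))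
  rw [← cancel_mono E.inv, ← cancel_epi ((quotientCompQhIso B).app sB).hom, ← hx, hx0, Functor.map_zero, zero_comp, comp_zero]

end Groth.L10.RDerTri
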