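import Groth.Agent.L10.ModRDer
import Groth.Agent.L10.WSerreLib
import Mathlib.Algebra.Homology.Factorizations.CM5a

/-! Cohomology of derived images of bounded below objects. -/

universe w w' v v' u u'

open CategoryTheory CategoryTheory.Limits CategoryTheory.Pretriangulated DerivedCategory

set_option backward.defeqAttrib.useBackward true
set_option backward.isDefEq.respectTransparency false
namespace Groth.L10.RDerBound

variable {A : Type u} [Category.{v} A] [Abelian A] [HasDerivedCategory.{w} A] [KInjDerived.EnoughKInjectives A]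
  [HasInjectiveResolutions A] [EnoughInjectives A]
  {B : Type u'} [Category.{v'} B] [Abelian B] [HasDerivedCategory.{w'} B] {F : A ⥤ B} [F.Additive]
  {RF : DerivedCategory A ⥤ DerivedCategory B}
  (α : F.mapHomotopyCategory (ComplexShape.up ℤ) ⋙ Qh ⟶ Qh ⋙ RF)
  [RF.IsRightDerivedFunctor α (HomotopyCategory.quasiIso A (ComplexShape.up ℤ))]

local notation "tt" => DerivedCategory.TStructure.t

include α in
theorem isGE_obj (Y : DerivedCategory A) (n : ℤ) [Y.IsGE n] : (RF.obj Y).IsGE n := by
  obtain ⟨K, _, ⟨e⟩⟩ := DerivedCategory.exists_iso_Q_obj_of_isGE Y n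
  obtain ⟨I, i, _, hI, _⟩ := CochainComplex.Plus.modelCategoryQuillen.exists_quasiIso_injective K n
  have : ∀ m, Injective (I.X m) := hI
  have := CochainComplex.isKInjective_of_injective I n
  have := KInjDerived.isIso_app_quotient α I
  let G := F.mapHomologicalComplex (ComplexShape.up ℤ)
  have : CochainComplex.IsStrictlyGE (G.obj I) n :=
    (CochainComplex.isStrictlyGE_iff _ _).2 fun m hm => F.map_isZero (I.isZero_of_isStrictlyGE n m hm)
  let e' : Q.obj (G.obj I) ≅ RF.obj Y :=
    ((quotientCompQhIso B).app (G.obj I)).symm ≪≫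
      asIso (α.app ((HomotopyCategory.quotient A (ComplexShape.up ℤ)).obj I)) ≪≫
      RF.mapIso ((quotientCompQhIso A).app I ≪≫ (asIso (Q.map i)).symm ≪≫ e.symm)
  have h : (tt).IsGE (Q.obj (G.obj I)) n := (DerivedCategory.isGE_Q_obj_iff _ n).2 inferInstance
  exact (tt).isGE_of_iso e' n

theorem prop_obj₂ (P : ObjectProperty B) [WSerre.IsWeakSerre P] (T : Triangle (DerivedCategory B))
    (hT : T ∈ distTriang _) (j : ℤ) (h0 : P ((homologyFunctor B (j - 1)).obj T.obj₃))
    (h1 : P ((homologyFunctor B j).obj T.obj₁)) (h3 : P ((homologyFunctor B j).obj T.obj₃))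
    (h4 : P ((homologyFunctor B (j + 1)).obj T.obj₁)) : P ((homologyFunctor B j).obj T.obj₂) := by
  let S := ComposableArrows.mk₄ (HomologySequence.δ T (j - 1) j (by omega)) ((homologyFunctor B j).map T.mor₁)
    ((homologyFunctor B j).map T.mor₂) (HomologySequence.δ T j (j + 1) (by omega))
  refine WSerreLib.prop_middle P S ?_ h0 h1 h3 h4
  exact
    { zero := fun i hi =>
        match i with
        | 0 => HomologySequence.δ_comp T hT (j - 1) j (by omega)
        | 1 => (HomologySequence.exact₂ T hT j) |> fun _ => by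
            change (homologyFunctor B j).map T.mor₁ ≫ (homologyFunctor B j).map T.mor₂ = 0
            rw [← Functor.map_comp, comp_distTriang_mor_zero₁₂ _ hT, Functor.map_zero]
        | 2 => HomologySequence.comp_δ T hT j (j + 1) (by omega)
        | i + 3 => by omega
      exact := fun i hi =>
        match i with
        | 0 => HomologySequence.exact₁ T hT (j - 1) j (by omega)
        | 1 => HomologySequence.exact₂ T hT j
        | 2 => HomologySequence.exact₃ T hT j (j + 1) (by omega)
        | i + 3 => by omega }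

variable (P : ObjectProperty A) [P.IsClosedUnderIsomorphisms] (P' : ObjectProperty B) [WSerre.IsWeakSerre P']
  (h : ∀ M, P M → ∀ p : ℕ, P' ((F.rightDerived p).obj M))

include α h in
theorem prop_H_of_isGE : ∀ (m : ℕ) (j : ℤ) (Y : DerivedCategory A), Y.IsGE (j + 2 - m) → WSerre.cohIn P Y →
    P' ((homologyFunctor B j).obj (RF.obj Y)) := by
  intro m
  induction m with
  | zero =>
    intro j Y hY _
    have := isGE_obj α Y (j + 2 - (0 : ℕ))
    obtain ⟨Z, hZ, hPZ⟩ := P'.exists_prop_of_containsZero
    exact P'.prop_of_iso (hZ.iso (DerivedCategory.isZero_of_isGE _ (j + 2 - (0 : ℕ)) j (by omega))) hPZ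
  | succ m ih =>
    intro j Y hY hP
    let a := j + 2 - (m + 1 : ℕ)
    let L := ((tt).truncLT (a + 1)).obj Y
    let R := ((tt).truncGE (a + 1)).obj Y
    have hLle : L.IsLE a := (tt).isLE_truncLT_obj _ _ _ (by omega)
    have hLge : L.IsGE a := by
      rw [DerivedCategory.isGE_iff]
      intro i hi
      have := isIso_H_ι (a + 1) i (by omega) Y
      exact (DerivedCategory.isZero_of_isGE Y a i hi).of_iso (asIso ((homologyFunctor A i).map (((tt).truncLTι (a + 1)).app Y)))
    obtain ⟨e⟩ := exists_iso_single_H L a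
    have := isIso_H_ι (a + 1) a (by omega) Y
    let e' : L ≅ (singleFunctor A a).obj ((homologyFunctor A a).obj Y) :=
      e ≪≫ (singleFunctor A a).mapIso (asIso ((homologyFunctor A a).map (((tt).truncLTι (a + 1)).app Y)))
    obtain ⟨h0, hp⟩ := RDerTri.isGE_single α ((homologyFunctor A a).obj Y)
    obtain ⟨es⟩ := RDerTri.nonempty_obj_shift α ((singleFunctor A 0).obj ((homologyFunctor A a).obj Y)) (-a)
    have hL : ∀ i, P' ((homologyFunctor B i).obj (RF.obj L)) := fun i => by
      let eI : (homologyFunctor B i).obj (RF.obj L) ≅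
          (homologyFunctor B (i - a)).obj (RF.obj ((singleFunctor A 0).obj ((homologyFunctor A a).obj Y))) :=
        (homologyFunctor B i).mapIso (RF.mapIso (e' ≪≫ ((singleFunctors A).shiftIso (-a) a 0 (by omega)).symm.app _) ≪≫ es) ≪≫
          hShiftIso _ (-a) i (i - a) (by omega)
      refine P'.prop_of_iso eI.symm ?_
      by_cases hi : i - a < 0
      · obtain ⟨Z, hZ, hPZ⟩ := P'.exists_prop_of_containsZero
        exact P'.prop_of_iso (hZ.iso (DerivedCategory.isZero_of_isGE _ 0 (i - a) hi)) hPZ
      · obtain ⟨p, hp'⟩ : ∃ p : ℕ, (p : ℤ) = i - a := ⟨(i - a).toNat, by omega⟩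
        rw [← hp']
        exact P'.prop_of_iso (hp p).some.symm (h _ (hP a) p)
    have hR : R.IsGE (a + 1) := inferInstance
    have hRP : WSerre.cohIn P R := fun i => by
      by_cases hi : a + 1 ≤ i
      · have := isIso_H_π (a + 1) i hi Y
        exact P.prop_of_iso (asIso ((homologyFunctor A i).map (((tt).truncGEπ (a + 1)).app Y))) (hP i)
      · have hz : IsZero ((homologyFunctor A i).obj Y) ∨ i = a := by
          by_cases h' : i = a
          · exact Or.inr h'
          · exact Or.inl (DerivedCategory.isZero_of_isGE Y a i (by omega))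
        have hz' : IsZero ((homologyFunctor A (a - 1)).obj Y) := DerivedCategory.isZero_of_isGE Y a (a - 1) (by omega)
        exact P.prop_of_iso (hz'.iso (isZero_H_GE (a + 1) i (by omega) Y)) (hP (a - 1))
    obtain ⟨δ, hT⟩ := RDerTri.exists_triangle α _ ((tt).triangleLTGE_distinguished (a + 1) Y)
    refine prop_obj₂ P' _ hT j ?_ (hL j) ?_ (hL (j + 1))
    · exact ih (j - 1) R ((tt).isGE_of_ge R (j - 1 + 2 - m) (a + 1) (by simp only [a]; omega)) hRP
    · exact ih j R ((tt).isGE_of_ge R (j + 2 - m) (a + 1) (by simp only [a]; omega)) hRP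

include α h in
/-- Bounded below objects with cohomology in `P` go to objects with cohomology in `P'`. -/
theorem cohIn_obj_of_isGE (Y : DerivedCategory A) (a : ℤ) [Y.IsGE a] (hY : WSerre.cohIn P Y) :
    WSerre.cohIn P' (RF.obj Y) := fun j => by
  refine prop_H_of_isGE α P P' h (j + 2 - a).toNat j Y ?_ hY
  exact (tt).isGE_of_ge Y _ a (by omega)

end Groth.L10.RDerBound

namespace Groth.L10.ModRDer

open Groth.L10

universe u₁

variable {C : Type u₁} [SmallCategory C] {J : GrothendieckTopology C} {O_C : Sheaf J CommRingCat.{u₁}}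
  {D : Type u₁} [SmallCategory D] {K : GrothendieckTopology D} {O_D : Sheaf K CommRingCat.{u₁}}
  (f : ModSite.RMor O_C O_D) [HasDerivedCategory.{u₁ + 1} (ModSite.Mod O_C)] [HasDerivedCategory.{u₁ + 1} (ModSite.Mod O_D)]
  [HasInjectiveResolutions (ModSite.Mod O_C)] {RF : DerivedCategory (ModSite.Mod O_C) ⥤ DerivedCategory (ModSite.Mod O_D)}
  (α : f.push.mapHomotopyCategory (ComplexShape.up ℤ) ⋙ Qh ⟶ Qh ⋙ RF)
  [RF.IsRightDerivedFunctor α (HomotopyCategory.quasiIso (ModSite.Mod O_C) (ComplexShape.up ℤ))]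

include α in
/-- Derived direct images preserve cohomology conditions, given stability of truncations. -/
theorem cohIn_RF (A : ObjectProperty (ModSite.Mod O_C)) [WSerre.IsWeakSerre A]
    (A' : ObjectProperty (ModSite.Mod O_D)) [WSerre.IsWeakSerre A']
    (h3 : ∀ F : ModSite.Mod O_C, A F → ∀ p : ℕ, A' ((f.Rpush p).obj F)) (N : ℤ)
    (X : DerivedCategory (ModSite.Mod O_C)) (hX : WSerre.cohIn A X)
    (hiso : ∀ (n : ℕ) (j : ℤ), N - (n : ℤ) ≤ j → IsIso ((homologyFunctor (ModSite.Mod O_D) j).map
      (RF.map ((DerivedCategory.TStructure.t.truncGEπ (-(n : ℤ))).app X)))) :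
    WSerre.cohIn A' (RF.obj X) := fun j => by
  obtain ⟨_, _, _⟩ := insts O_C
  let n := (N - j).toNat
  have := hiso n j (by omega)
  refine A'.prop_of_iso (asIso ((homologyFunctor (ModSite.Mod O_D) j).map
    (RF.map ((DerivedCategory.TStructure.t.truncGEπ (-(n : ℤ))).app X)))).symm ?_
  refine RDerBound.cohIn_obj_of_isGE α A A' h3 _ (-(n : ℤ)) (fun i => ?_) j
  by_cases hi : -(n : ℤ) ≤ i
  · have := isIso_H_π (-(n : ℤ)) i hi X
    exact A.prop_of_iso (asIso ((homologyFunctor _ i).map ((DerivedCategory.TStructure.t.truncGEπ (-(n : ℤ))).app X))) (hX i)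
  · obtain ⟨Z, hZ, hPZ⟩ := A.exists_prop_of_containsZero
    exact A.prop_of_iso (hZ.iso (isZero_H_GE (-(n : ℤ)) i (by omega) X)) hPZ

end Groth.L10.ModRDer
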