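import Groth.Agent.L10.SiteFr
import Mathlib.CategoryTheory.Sites.Pullback
import Mathlib.CategoryTheory.Limits.Preserves.Shapes.BinaryProducts
import Mathlib.CategoryTheory.Limits.Preserves.Shapes.Terminal
import Mathlib.Algebra.Homology.ShortComplex.ExactFunctor
import Mathlib.CategoryTheory.Sites.Abelian
import Mathlib.Algebra.Group.MinimalAxioms

/-! Exactness of the inverse image of abelian sheaves from exactness on sheaves of sets. -/

universe u

open CategoryTheory CategoryTheory.Limits Opposite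

set_option backward.defeqAttrib.useBackward true
set_option backward.isDefEq.respectTransparency false
namespace Groth.L10.SiteFr

variable {C D : Type u} [SmallCategory C] [SmallCategory D] {J : GrothendieckTopology C}
  (K : GrothendieckTopology D) (u : D ⥤ C) [u.IsContinuous K J]

/-- The inverse image of sheaves of sets. -/
noncomputable abbrev pullT : Sheaf K (Type u) ⥤ Sheaf J (Type u) := u.sheafPullback (Type u) K J

/-- Transpose a map into an underlying sheaf of sets. -/
noncomputable def untr {X : Sheaf K (Type u)} {F : Sheaf J AddCommGrpCat.{u}}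
    (x : (pullT K u).obj X ⟶ (U J).obj F) : X ⟶ (U K).obj ((CohSite.push J K u).obj F) :=
  (u.sheafAdjunctionContinuous (Type u) K J).homEquiv X ((U J).obj F) x

/-- Inverse of `untr`. -/
noncomputable def tr {X : Sheaf K (Type u)} {F : Sheaf J AddCommGrpCat.{u}}
    (y : X ⟶ (U K).obj ((CohSite.push J K u).obj F)) : (pullT K u).obj X ⟶ (U J).obj F :=
  ((u.sheafAdjunctionContinuous (Type u) K J).homEquiv X ((U J).obj F)).symm y

theorem tr_untr {X : Sheaf K (Type u)} {F : Sheaf J AddCommGrpCat.{u}} (x : (pullT K u).obj X ⟶ (U J).obj F) :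
    tr K u (untr K u x) = x := Equiv.symm_apply_apply _ _

theorem untr_tr {X : Sheaf K (Type u)} {F : Sheaf J AddCommGrpCat.{u}} (y : X ⟶ (U K).obj ((CohSite.push J K u).obj F)) :
    untr K u (tr K u y) = y := Equiv.apply_symm_apply _ _

theorem untr_comp {X X' : Sheaf K (Type u)} {F : Sheaf J AddCommGrpCat.{u}} (c : X' ⟶ X)
    (x : (pullT K u).obj X ⟶ (U J).obj F) : untr K u ((pullT K u).map c ≫ x) = c ≫ untr K u x :=
  Adjunction.homEquiv_naturality_left _ _ _

theorem tr_comp {X X' : Sheaf K (Type u)} {F : Sheaf J AddCommGrpCat.{u}} (c : X' ⟶ X)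
    (y : X ⟶ (U K).obj ((CohSite.push J K u).obj F)) : tr K u (c ≫ y) = (pullT K u).map c ≫ tr K u y :=
  Adjunction.homEquiv_naturality_left_symm _ _ _

theorem untr_addHom {X : Sheaf K (Type u)} {F : Sheaf J AddCommGrpCat.{u}} (x y : (pullT K u).obj X ⟶ (U J).obj F) :
    untr K u (addHom x y) = addHom (untr K u x) (untr K u y) := by
  rw [untr, untr, untr, Adjunction.homEquiv_unit, Adjunction.homEquiv_unit, Adjunction.homEquiv_unit]
  exact val_ext (J := K) (F := (CohSite.push J K u).obj F) fun V z => rfl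

theorem tr_addHom {X : Sheaf K (Type u)} {F : Sheaf J AddCommGrpCat.{u}} (x y : X ⟶ (U K).obj ((CohSite.push J K u).obj F)) :
    tr K u (addHom x y) = addHom (tr K u x) (tr K u y) := by
  conv_lhs => rw [← untr_tr K u x, ← untr_tr K u y, ← untr_addHom, tr_untr]

theorem hom_ext_rep {Y Z : Sheaf J (Type u)} {x y : Y ⟶ Z} (h : ∀ (V : C) (c : rep J V ⟶ Y), c ≫ x = c ≫ y) : x = y :=
  hom_ext' fun V z => by
    have := congrArg (repEquiv V.unop Z) (h V.unop ((repEquiv V.unop Y).symm z))
    rw [repEquiv_comp, repEquiv_comp, Equiv.apply_symm_apply] at this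
    exact this

variable [PreservesFiniteLimits (pullT (J := J) K u)]

/-- The pairing into the inverse image of a product. -/
noncomputable def lift2 {Q : Sheaf J (Type u)} {X Y : Sheaf K (Type u)} (f : Q ⟶ (pullT K u).obj X)
    (g : Q ⟶ (pullT K u).obj Y) : Q ⟶ (pullT K u).obj (X ⨯ Y) :=
  prod.lift f g ≫ inv (prodComparison (pullT K u) X Y)

theorem lift2_fst {Q : Sheaf J (Type u)} {X Y : Sheaf K (Type u)} (f : Q ⟶ (pullT K u).obj X)
    (g : Q ⟶ (pullT K u).obj Y) : lift2 K u f g ≫ (pullT K u).map prod.fst = f := by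
  rw [lift2, Category.assoc, inv_prodComparison_map_fst, prod.lift_fst]

theorem lift2_snd {Q : Sheaf J (Type u)} {X Y : Sheaf K (Type u)} (f : Q ⟶ (pullT K u).obj X)
    (g : Q ⟶ (pullT K u).obj Y) : lift2 K u f g ≫ (pullT K u).map prod.snd = g := by
  rw [lift2, Category.assoc, inv_prodComparison_map_snd, prod.lift_snd]

theorem pull_prod_hom_ext {Q : Sheaf J (Type u)} {X Y : Sheaf K (Type u)} {f g : Q ⟶ (pullT K u).obj (X ⨯ Y)}
    (h₁ : f ≫ (pullT K u).map prod.fst = g ≫ (pullT K u).map prod.fst)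
    (h₂ : f ≫ (pullT K u).map prod.snd = g ≫ (pullT K u).map prod.snd) : f = g := by
  rw [← cancel_mono (prodComparison (pullT K u) X Y)]
  refine Limits.prod.hom_ext ?_ ?_
  · rw [Category.assoc, Category.assoc, prodComparison_fst]; exact h₁
  · rw [Category.assoc, Category.assoc, prodComparison_snd]; exact h₂

theorem exists_lift2 {Q : Sheaf J (Type u)} {X Y : Sheaf K (Type u)} (f : Q ⟶ (pullT K u).obj X)
    (g : Q ⟶ (pullT K u).obj Y) : ∃ t : Q ⟶ (pullT K u).obj (X ⨯ Y),
      f = t ≫ (pullT K u).map prod.fst ∧ g = t ≫ (pullT K u).map prod.snd :=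
  ⟨lift2 K u f g, (lift2_fst K u f g).symm, (lift2_snd K u f g).symm⟩

/-- Addition on maps into the inverse image of an abelian sheaf. -/
noncomputable def addH {A : Sheaf K AddCommGrpCat.{u}} {Q : Sheaf J (Type u)}
    (f g : Q ⟶ (pullT K u).obj ((U K).obj A)) : Q ⟶ (pullT K u).obj ((U K).obj A) :=
  lift2 K u f g ≫ (pullT K u).map (addHom prod.fst prod.snd)

theorem addH_map {A : Sheaf K AddCommGrpCat.{u}} {Q : Sheaf J (Type u)} {X : Sheaf K (Type u)}
    (t : Q ⟶ (pullT K u).obj X) (a b : X ⟶ (U K).obj A) :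
    addH K u (t ≫ (pullT K u).map a) (t ≫ (pullT K u).map b) = t ≫ (pullT K u).map (addHom a b) := by
  have h : lift2 K u (t ≫ (pullT K u).map a) (t ≫ (pullT K u).map b) = t ≫ (pullT K u).map (prod.lift a b) :=
    pull_prod_hom_ext K u (by rw [lift2_fst, Category.assoc, ← Functor.map_comp, prod.lift_fst])
      (by rw [lift2_snd, Category.assoc, ← Functor.map_comp, prod.lift_snd])
  rw [addH, h, Category.assoc, ← Functor.map_comp, comp_addHom, prod.lift_fst, prod.lift_snd]

theorem comp_addH {A : Sheaf K AddCommGrpCat.{u}} {Q Q' : Sheaf J (Type u)} (c : Q' ⟶ Q)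
    (f g : Q ⟶ (pullT K u).obj ((U K).obj A)) : c ≫ addH K u f g = addH K u (c ≫ f) (c ≫ g) := by
  obtain ⟨t, rfl, rfl⟩ := exists_lift2 K u f g
  rw [← Category.assoc, ← Category.assoc, addH_map, addH_map, Category.assoc]

theorem addH_comp {A B : Sheaf K AddCommGrpCat.{u}} {Q : Sheaf J (Type u)}
    (f g : Q ⟶ (pullT K u).obj ((U K).obj A)) (ψ : A ⟶ B) :
    addH K u f g ≫ (pullT K u).map ((U K).map ψ) =
      addH K u (f ≫ (pullT K u).map ((U K).map ψ)) (g ≫ (pullT K u).map ((U K).map ψ)) := by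
  obtain ⟨t, rfl, rfl⟩ := exists_lift2 K u f g
  simp only [Category.assoc, ← Functor.map_comp, addH_map, addHom_comp]

/-- The constant zero map. -/
def zeroHom (X : Sheaf K (Type u)) (A : Sheaf K AddCommGrpCat.{u}) : X ⟶ (U K).obj A :=
  ⟨{ app := fun V => ↾fun _ => (0 : A.obj.obj V)
     naturality := fun V W g => ConcreteCategory.hom_ext _ _ fun x => (map_zero (A.obj.map g).hom).symm }⟩

/-- Pointwise negation. -/
def negHom {X : Sheaf K (Type u)} {A : Sheaf K AddCommGrpCat.{u}} (a : X ⟶ (U K).obj A) : X ⟶ (U K).obj A :=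
  ⟨{ app := fun V => ↾fun x => - val a V x
     naturality := fun V W g => ConcreteCategory.hom_ext _ _ fun x => by
       change - val a W (X.obj.map g x) = A.obj.map g (- val a V x)
       rw [map_neg, val_natural] }⟩

/-- Points of the inverse image of an abelian sheaf. -/
def Pt (A : Sheaf K AddCommGrpCat.{u}) (Q : Sheaf J (Type u)) : Type u := Q ⟶ (pullT K u).obj ((U K).obj A)

noncomputable instance (A : Sheaf K AddCommGrpCat.{u}) (Q : Sheaf J (Type u)) : AddCommGroup (Pt K u A Q) :=
  let H := pullT (J := J) K u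
  let T := PreservesTerminal.iso H
  letI : Zero (Pt K u A Q) := ⟨(terminal.from Q ≫ T.inv) ≫ H.map (zeroHom K (⊤_ _) A)⟩
  letI : Add (Pt K u A Q) := ⟨addH K u⟩
  letI : Neg (Pt K u A Q) := ⟨fun f => f ≫ H.map (negHom K (𝟙 _))⟩
  have zero_eq : ∀ {X : Sheaf K (Type u)} (t : Q ⟶ H.obj X),
      (terminal.from Q ≫ T.inv) ≫ H.map (zeroHom K (⊤_ _) A) = t ≫ H.map (zeroHom K X A) := fun {X} t => by
    have : zeroHom K X A = terminal.from X ≫ zeroHom K (⊤_ _) A := rfl
    rw [this, H.map_comp, ← Category.assoc t]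
    congr 1
    rw [← cancel_mono T.hom]
    exact Subsingleton.elim _ _
  let G : AddGroup (Pt K u A Q) := AddGroup.ofLeftAxioms
    (fun f g h => by
      let t := lift2 K u f (lift2 K u g h)
      have hf : f = t ≫ H.map prod.fst := (lift2_fst K u _ _).symm
      have hg : g = t ≫ H.map (prod.snd ≫ prod.fst) := by rw [H.map_comp, ← Category.assoc, lift2_snd, lift2_fst]
      have hh : h = t ≫ H.map (prod.snd ≫ prod.snd) := by rw [H.map_comp, ← Category.assoc, lift2_snd, lift2_snd]
      change addH K u (addH K u f g) h = addH K u f (addH K u g h)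
      rw [hf, hg, hh, addH_map, addH_map, addH_map, addH_map]
      congr 2
      exact val_ext fun V x => add_assoc _ _ _)
    (fun f => by
      change addH K u ((terminal.from Q ≫ T.inv) ≫ H.map (zeroHom K (⊤_ _) A)) f = f
      rw [zero_eq f]
      conv_lhs => arg 4; rw [← Category.comp_id f, ← H.map_id]
      rw [addH_map]
      conv_rhs => rw [← Category.comp_id f, ← H.map_id]
      congr 2
      exact val_ext fun V x => zero_add _)
    (fun f => by
      change addH K u (f ≫ H.map (negHom K (𝟙 _))) f = (terminal.from Q ≫ T.inv) ≫ H.map (zeroHom K (⊤_ _) A)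
      rw [zero_eq f]
      conv_lhs => arg 4; rw [← Category.comp_id f, ← H.map_id]
      rw [addH_map]
      congr 2
      exact val_ext fun V x => neg_add_cancel _)
  { G with
    add_comm := fun f g => by
      let t := lift2 K u f g
      have hf : f = t ≫ H.map prod.fst := (lift2_fst K u _ _).symm
      have hg : g = t ≫ H.map prod.snd := (lift2_snd K u _ _).symm
      change @HAdd.hAdd (Pt K u A Q) (Pt K u A Q) (Pt K u A Q) (@instHAdd _ ⟨addH K u⟩) f g = @HAdd.hAdd (Pt K u A Q) (Pt K u A Q) (Pt K u A Q) (@instHAdd _ ⟨addH K u⟩) g f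
      change addH K u f g = addH K u g f
      rw [hf, hg, addH_map, addH_map]
      congr 2
      exact val_ext fun V x => add_comm _ _ }

theorem Pt_add {A : Sheaf K AddCommGrpCat.{u}} {Q : Sheaf J (Type u)} (f g : Pt K u A Q) :
    f + g = addH K u f g := rfl

/-- The presheaf of points. -/
noncomputable def gPsh (A : Sheaf K AddCommGrpCat.{u}) : Cᵒᵖ ⥤ AddCommGrpCat.{u} where
  obj V := AddCommGrpCat.of (Pt K u A (rep J V.unop))
  map g := AddCommGrpCat.ofHom (AddMonoidHom.mk'
    (fun v => (repMap J g.unop ≫ (v : _ ⟶ (pullT K u).obj ((U K).obj A)) : Pt K u A _))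
    fun f h => comp_addH K u (repMap J g.unop) f h)
  map_id V := AddCommGrpCat.hom_ext (AddMonoidHom.ext fun (v : rep J V.unop ⟶ (pullT K u).obj ((U K).obj A)) => by
    change repMap J (𝟙 V.unop) ≫ v = v
    rw [repMap, CategoryTheory.Functor.map_id, CategoryTheory.Functor.map_id, Category.id_comp])
  map_comp {V W Z} g h := AddCommGrpCat.hom_ext (AddMonoidHom.ext fun (v : rep J V.unop ⟶ (pullT K u).obj ((U K).obj A)) => by
    change repMap J (h.unop ≫ g.unop) ≫ v = repMap J h.unop ≫ repMap J g.unop ≫ v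
    simp only [repMap, Functor.map_comp, Category.assoc])

/-- Points are sections. -/
noncomputable def gPshIso (A : Sheaf K AddCommGrpCat.{u}) :
    gPsh (J := J) K u A ⋙ forget AddCommGrpCat.{u} ≅ ((pullT (J := J) K u).obj ((U K).obj A)).obj :=
  NatIso.ofComponents (fun V => (repEquiv V.unop _).toIso) fun {V W} g =>
    ConcreteCategory.hom_ext _ _ fun v => repEquiv_map g.unop v

theorem isSheaf_gPsh (A : Sheaf K AddCommGrpCat.{u}) : Presheaf.IsSheaf J (gPsh (J := J) K u A) := by
  rw [Presheaf.isSheaf_iff_isSheaf_forget J _ (forget AddCommGrpCat.{u}), Presheaf.isSheaf_of_iso_iff (gPshIso K u A)]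
  exact ((pullT (J := J) K u).obj ((U K).obj A)).property

/-- The inverse image of an abelian sheaf, built from sheaves of sets. -/
noncomputable def gSh (A : Sheaf K AddCommGrpCat.{u}) : Sheaf J AddCommGrpCat.{u} := ⟨gPsh K u A, isSheaf_gPsh K u A⟩

/-- Functoriality of `gSh`. -/
noncomputable def gMap {A B : Sheaf K AddCommGrpCat.{u}} (ψ : A ⟶ B) : gSh (J := J) K u A ⟶ gSh K u B :=
  ⟨{ app := fun V => AddCommGrpCat.ofHom (AddMonoidHom.mk'
        (fun v => ((v : _ ⟶ _) ≫ (pullT (J := J) K u).map ((U K).map ψ) : Pt K u B (rep J V.unop)))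
        fun f g => addH_comp K u f g ψ)
     naturality := fun V W g => AddCommGrpCat.hom_ext (AddMonoidHom.ext fun (v : rep J V.unop ⟶ (pullT K u).obj ((U K).obj A)) => by
       change (repMap J g.unop ≫ v) ≫ (pullT K u).map ((U K).map ψ) = repMap J g.unop ≫ v ≫ (pullT K u).map ((U K).map ψ)
       rw [Category.assoc]) }⟩

theorem mono_gMap {A B : Sheaf K AddCommGrpCat.{u}} (ψ : A ⟶ B) [Mono ψ] : Mono (gMap (J := J) K u ψ) := by
  have : Mono ((U K).map ψ) := inferInstance
  have : Mono ((pullT (J := J) K u).map ((U K).map ψ)) := inferInstance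
  have : ∀ V, Mono ((gMap (J := J) K u ψ).hom.app V) := fun V => (AddCommGrpCat.mono_iff_injective _).2
    fun (a : rep J V.unop ⟶ (pullT K u).obj ((U K).obj A)) (b : rep J V.unop ⟶ (pullT K u).obj ((U K).obj A)) h => by
      change a ≫ (pullT K u).map ((U K).map ψ) = b ≫ (pullT K u).map ((U K).map ψ) at h
      exact (cancel_mono _).1 h
  have := NatTrans.mono_of_mono_app (gMap (J := J) K u ψ).hom
  exact (sheafToPresheaf J AddCommGrpCat.{u}).mono_of_mono_map (f := gMap K u ψ) this

theorem addH_tr {A : Sheaf K AddCommGrpCat.{u}} {F : Sheaf J AddCommGrpCat.{u}} {Q : Sheaf J (Type u)}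
    (f g : Q ⟶ (pullT (J := J) K u).obj ((U K).obj A)) (ψ : A ⟶ (CohSite.push J K u).obj F) :
    addH K u f g ≫ tr K u ((U K).map ψ) = addHom (f ≫ tr K u ((U K).map ψ)) (g ≫ tr K u ((U K).map ψ)) := by
  obtain ⟨t, rfl, rfl⟩ := exists_lift2 K u f g
  rw [addH_map, Category.assoc, Category.assoc, Category.assoc, ← tr_comp, ← tr_comp, ← tr_comp, addHom_comp,
    tr_addHom, comp_addHom]

/-- The transpose of a map into a direct image. -/
noncomputable def hat {A : Sheaf K AddCommGrpCat.{u}} {F : Sheaf J AddCommGrpCat.{u}}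
    (ψ : A ⟶ (CohSite.push J K u).obj F) : gSh (J := J) K u A ⟶ F :=
  ⟨{ app := fun V => AddCommGrpCat.ofHom (AddMonoidHom.mk'
        (fun v => secRep V.unop ((v : rep J V.unop ⟶ _) ≫ tr K u ((U K).map ψ)))
        fun f g => (congrArg (secRep V.unop) (addH_tr K u f g ψ)).trans (secRep_addHom _ _))
     naturality := fun V W g => AddCommGrpCat.hom_ext (AddMonoidHom.ext fun (v : rep J V.unop ⟶ (pullT K u).obj ((U K).obj A)) => by
       change secRep W.unop ((repMap J g.unop ≫ v) ≫ tr K u ((U K).map ψ)) = F.obj.map g (secRep V.unop (v ≫ tr K u ((U K).map ψ)))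
       rw [Category.assoc]
       exact repEquiv_map g.unop _) }⟩

/-- Direct images preserve injective objects. -/
theorem push_injective_of_exact (I : Sheaf J AddCommGrpCat.{u}) [Injective I] :
    Injective ((CohSite.push J K u).obj I) := ⟨fun {A B} ψ i hi => by
  have := mono_gMap (J := J) K u i
  obtain ⟨Φ, hΦ⟩ := Injective.factors (hat K u ψ) (gMap (J := J) K u i)
  let φ : (pullT (J := J) K u).obj ((U K).obj B) ⟶ (U J).obj I := (gPshIso K u B).symm.hom |> fun θ =>
    ⟨θ ≫ Functor.whiskerRight Φ.hom (forget AddCommGrpCat.{u})⟩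
  have hφ : ∀ (V : C) (c : rep J V ⟶ (pullT K u).obj ((U K).obj B)), secRep V (c ≫ φ) = Φ.hom.app (op V) c :=
    fun V c => congrArg (Φ.hom.app (op V)) ((repEquiv V ((pullT K u).obj ((U K).obj B))).symm_apply_apply c)
  have hadd : ∀ (X : Sheaf K (Type u)) (a b : X ⟶ (U K).obj B),
      addHom a b ≫ untr K u φ = addHom (a ≫ untr K u φ) (b ≫ untr K u φ) := fun X a b => by
    rw [← untr_comp, ← untr_comp, ← untr_comp, ← untr_addHom]
    refine congrArg (untr K u) (hom_ext_rep fun V c => ?_)
    apply (repEquiv V _).injective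
    change secRep V (c ≫ (pullT K u).map (addHom a b) ≫ φ) = secRep V (c ≫ addHom _ _)
    rw [comp_addHom, secRep_addHom, ← Category.assoc, hφ, ← Category.assoc c, hφ, ← Category.assoc c, hφ, ← addH_map]
    exact map_add (Φ.hom.app (op V)).hom _ _
  refine ⟨ofAdditive (untr K u φ) hadd, (U K).map_injective ?_⟩
  rw [Functor.map_comp, U_map_ofAdditive, ← untr_comp]
  refine (congrArg (untr K u) (hom_ext_rep fun V c => ?_)).trans (untr_tr K u _)
  apply (repEquiv V _).injective
  change secRep V (c ≫ (pullT K u).map ((U K).map i) ≫ φ) = secRep V (c ≫ tr K u ((U K).map ψ))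
  rw [← Category.assoc, hφ]
  exact congr($(hΦ).hom.app (op V) c)⟩

theorem pull_preservesFiniteLimits_of_exact :
    PreservesFiniteLimits (u.sheafPullback AddCommGrpCat.{u} K J) := by
  let L := u.sheafPullback AddCommGrpCat.{u} K J
  let adj := u.sheafAdjunctionContinuous AddCommGrpCat.{u} K J
  have : L.Additive := adj.left_adjoint_additive
  have := adj.leftAdjoint_preservesColimits
  have hfc : PreservesFiniteColimits L := inferInstance
  have hM : ∀ {A B : Sheaf K AddCommGrpCat.{u}} (i : A ⟶ B) [Mono i], Mono (L.map i) := fun {A B} i _ => by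
    refine Preadditive.mono_of_cancel_zero _ fun {Z} z hz => ?_
    have := push_injective_of_exact (J := J) K u (Injective.under (L.obj A))
    obtain ⟨g, hg⟩ := Injective.factors (adj.homEquiv A _ (Injective.ι (L.obj A))) i
    have h1 : L.map i ≫ (adj.homEquiv B _).symm g = Injective.ι (L.obj A) := by
      rw [← adj.homEquiv_naturality_left_symm, hg, Equiv.symm_apply_apply]
    rw [← cancel_mono (Injective.ι (L.obj A)), ← h1, reassoc_of% hz, zero_comp, zero_comp]
  have h := L.preservesFiniteColimits_tfae.out 3 0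
  have h' := h.1 hfc
  refine (L.preservesFiniteLimits_tfae.out 0 3).1 fun S hS => ?_
  have := hS.mono_f
  exact ⟨(h' S hS).1, hM S.f⟩

end Groth.L10.SiteFr
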