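import Groth.Agent.L00.RDerLES
import Mathlib.CategoryTheory.Abelian.RightDerived
import Mathlib.Algebra.Homology.HomologySequence
import Mathlib.Algebra.Homology.HomologicalComplexAbelian

/-! Right derived functors of the degree zero cohomology of an exact complex-valued functor. -/

universe w v u v' u'

open CategoryTheory CategoryTheory.Limits CategoryTheory.Pretriangulated

set_option backward.defeqAttrib.useBackward true
set_option backward.isDefEq.respectTransparency false
namespace Groth.L10.RDerComplex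
open Groth.L17.GrothSS

variable {C : Type u} [Category.{v} C] [Abelian C] [EnoughInjectives C] {D : Type u'} [Category.{v'} D] [Abelian D]
  (S : C ⥤ D) [S.Additive]

/-- A connecting map for right derived functors, exact on both sides. -/
theorem exists_δ {T : ShortComplex C} (hT : T.ShortExact) (n : ℕ) :
    ∃ (δ : (S.rightDerived n).obj T.X₃ ⟶ (S.rightDerived (n + 1)).obj T.X₁)
      (w : (S.rightDerived n).map T.g ≫ δ = 0) (w' : δ ≫ (S.rightDerived (n + 1)).map T.f = 0),
      (ShortComplex.mk _ _ w).Exact ∧ (ShortComplex.mk _ _ w').Exact := by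
  let _ := HasDerivedCategory.standard C
  obtain ⟨d, hd⟩ := exists_plusTriangle hT
  let F := HomotopyCategory.homologyFunctor D (.up ℤ) 0
  let Tr := (RK S).mapTriangle.obj (Triangle.mk ((DerivedCategory.Plus.singleFunctor C 0).map T.f)
    ((DerivedCategory.Plus.singleFunctor C 0).map T.g) d)
  have hTr : Tr ∈ distinguishedTriangles := (RK S).map_distinguished _ hd
  have e3 := F.homologySequence_exact₃ _ hTr (n : ℤ) ((n + 1 : ℕ) : ℤ) (by omega)
  have e1 := F.homologySequence_exact₁ _ hTr (n : ℤ) ((n + 1 : ℕ) : ℤ) (by omega)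
  let a : (S.rightDerived n).obj T.X₃ ⟶ (S.rightDerived (n + 1)).obj T.X₁ :=
    (hhSingleZeroIso S T.X₃ n).inv ≫ F.homologySequenceδ Tr (n : ℤ) ((n + 1 : ℕ) : ℤ) (by omega) ≫
      (hhSingleZeroIso S T.X₁ (n + 1)).hom
  have hg := Groth.L00.RDerLES.hhSingleZeroIso_naturality S T.g n
  have hf := Groth.L00.RDerLES.hhSingleZeroIso_naturality S T.f (n + 1)
  refine ⟨a, ?_, ?_, ?_, ?_⟩
  · rw [← cancel_epi (hhSingleZeroIso S T.X₂ n).hom, ← reassoc_of% hg, comp_zero]
    simp only [a, Iso.hom_inv_id_assoc]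
    exact (Category.assoc _ _ _).symm.trans ((congrArg (· ≫ _) (F.comp_homologySequenceδ Tr hTr _ _ (by omega))).trans zero_comp)
  · simp only [a, Category.assoc]
    rw [← hf]
    have := F.homologySequenceδ_comp Tr hTr (n : ℤ) ((n + 1 : ℕ) : ℤ) (by omega)
    erw [reassoc_of% this]
    simp
  · refine (ShortComplex.exact_iff_of_iso ?_).1 e3
    refine ShortComplex.isoMk (hhSingleZeroIso S _ n) (hhSingleZeroIso S _ n) (hhSingleZeroIso S _ (n + 1)) ?_ ?_
    · exact hg.symm
    · exact Iso.hom_inv_id_assoc _ _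
  · refine (ShortComplex.exact_iff_of_iso ?_).1 e1
    refine ShortComplex.isoMk (hhSingleZeroIso S _ n) (hhSingleZeroIso S _ (n + 1)) (hhSingleZeroIso S _ (n + 1)) ?_ ?_
    · exact Iso.hom_inv_id_assoc _ _
    · exact hf.symm

omit [EnoughInjectives C] [S.Additive] in
theorem nonempty_cokernel_iso {A B E : D} {g : A ⟶ B} {δ : B ⟶ E} (w : g ≫ δ = 0)
    (h : (ShortComplex.mk g δ w).Exact) (he : Epi δ) : Nonempty (cokernel g ≅ E) := by
  have : Epi (ShortComplex.mk g δ w).g := he
  exact ⟨(cokernelIsCokernel g).coconePointUniqueUpToIso h.gIsCokernel⟩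

variable (Γ : C ⥤ CochainComplex D ℕ) [Γ.Additive]

omit [EnoughInjectives C] [S.Additive] in
/-- Degree zero cohomology of an exact complex valued functor is left exact. -/
theorem preservesFiniteLimits_homologyZero (hΓ : ∀ T : ShortComplex C, T.ShortExact → (T.map Γ).ShortExact) :
    PreservesFiniteLimits (Γ ⋙ HomologicalComplex.homologyFunctor D (ComplexShape.up ℕ) 0) := by
  let H := Γ ⋙ HomologicalComplex.homologyFunctor D (ComplexShape.up ℕ) 0
  have h := H.preservesFiniteLimits_tfae.out 0 3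
  refine h.1 fun T hT => ⟨(hΓ T hT).homology_exact₂ 0, ?_⟩
  have : Mono ((Γ.map T.f).f 0) :=
    ((hΓ T hT).map_of_exact (HomologicalComplex.eval D (ComplexShape.up ℕ) 0)).mono_f
  exact HomologicalComplex.mono_homologyMap_of_mono_of_not_rel (Γ.map T.f) 0 (by simp)

omit [S.Additive] in
/-- Higher cohomology of an exact complex valued functor killing injectives is derived from degree zero. -/
theorem nonempty_rightDerived_homology
    (hΓ : ∀ T : ShortComplex C, T.ShortExact → (T.map Γ).ShortExact)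
    (hI : ∀ I : C, Injective I → ∀ p : ℕ, IsZero ((Γ.obj I).homology (p + 1))) (n : ℕ) (X : C) :
    Nonempty (((Γ ⋙ HomologicalComplex.homologyFunctor D (ComplexShape.up ℕ) 0).rightDerived n).obj X ≅ (Γ.obj X).homology n) := by
  let H := Γ ⋙ HomologicalComplex.homologyFunctor D (ComplexShape.up ℕ) 0
  have : PreservesFiniteLimits H := preservesFiniteLimits_homologyZero Γ hΓ
  induction n generalizing X with
  | zero => exact ⟨H.rightDerivedZeroIsoSelf.app X⟩
  | succ n ih =>
    let T : ShortComplex C := ShortComplex.mk (Injective.ι X) (cokernel.π _) (cokernel.condition _)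
    have hT : T.ShortExact := { exact := ShortComplex.exact_cokernel _ }
    obtain ⟨δ, w, w', h3, h1⟩ := exists_δ H hT n
    have he : Epi δ := h1.epi_f ((H.isZero_rightDerived_obj_injective_succ n T.X₂).eq_of_tgt _ _)
    obtain ⟨eR⟩ := nonempty_cokernel_iso w h3 he
    have he' : Epi ((hΓ T hT).δ n (n + 1) rfl) :=
      ((hΓ T hT).homology_exact₁ n (n + 1) rfl).epi_f ((hI T.X₂ inferInstance n).eq_of_tgt _ _)
    obtain ⟨eΓ⟩ := nonempty_cokernel_iso _ ((hΓ T hT).homology_exact₃ n (n + 1) rfl) he'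
    rcases n with _ | n
    · exact ⟨eR.symm ≪≫ cokernel.mapIso _ _ (H.rightDerivedZeroIsoSelf.app T.X₂) (H.rightDerivedZeroIsoSelf.app T.X₃)
        (H.rightDerivedZeroIsoSelf.hom.naturality T.g) ≪≫ eΓ⟩
    · obtain ⟨e⟩ := ih T.X₃
      have hz : (H.rightDerived (n + 1)).map T.g = 0 := (H.isZero_rightDerived_obj_injective_succ n T.X₂).eq_of_src _ _
      have hz' : HomologicalComplex.homologyMap (T.map Γ).g (n + 1) = 0 := (hI T.X₂ inferInstance n).eq_of_src _ _
      exact ⟨eR.symm ≪≫ cokernelIsoOfEq hz ≪≫ cokernelZeroIsoTarget ≪≫ e ≪≫ cokernelZeroIsoTarget.symm ≪≫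
        (cokernelIsoOfEq hz').symm ≪≫ eΓ⟩

end Groth.L10.RDerComplex
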