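import Groth.Agent.L10.KInjTransfer
import Mathlib.Algebra.Homology.DerivedCategory.KInjective
import Mathlib.Algebra.Homology.DerivedCategory.SingleTriangle
import Mathlib.Algebra.Homology.Embedding.CochainComplex
import Mathlib.Algebra.Homology.Refinements
import Mathlib.Algebra.Homology.Single

/-! Injective amplitude in Grothendieck abelian categories. -/

universe w w' v u

open CategoryTheory CategoryTheory.Limits HomologicalComplex

set_option backward.defeqAttrib.useBackward true
set_option backward.isDefEq.respectTransparency false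
namespace Groth.L10.InjAmpGen

variable {C : Type u} [Category.{v} C] [Abelian C]

local notation "up" => ComplexShape.up ℤ

theorem injective_image {X Y : C} (f : X ⟶ Y) [Injective X] [Injective (kernel f)] :
    Injective (Abelian.image f) := by
  let s : X ⟶ kernel f := Injective.factorThru (𝟙 _) (kernel.ι f)
  have hs : kernel.ι f ≫ s = 𝟙 _ := Injective.comp_factorThru _ _
  let r : Retract (Abelian.coimage f) X :=
    { i := cokernel.desc (kernel.ι f) (𝟙 X - s ≫ kernel.ι f) (by simp [reassoc_of% hs])
      r := cokernel.π (kernel.ι f)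
      retract := by ext; simp [cokernel.condition] }
  have : Injective (Abelian.coimage f) := r.injective
  exact Injective.of_iso (Abelian.coimageIsoImage f) inferInstance

theorem injective_cokernel {X Y : C} (f : X ⟶ Y) [Injective Y] [Injective (Abelian.image f)] :
    Injective (cokernel f) := by
  let s : Y ⟶ Abelian.image f := Injective.factorThru (𝟙 _) (Abelian.image.ι f)
  have hs : Abelian.image.ι f ≫ s = 𝟙 _ := Injective.comp_factorThru _ _
  let r : Retract (cokernel f) Y :=
    { i := cokernel.desc f (𝟙 Y - s ≫ Abelian.image.ι f)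
        ((congrArg (· ≫ (𝟙 Y - s ≫ Abelian.image.ι f)) (Abelian.image.fac f).symm).trans (by rw [Category.assoc, Preadditive.comp_sub, reassoc_of% hs, Category.comp_id, sub_self, comp_zero]))
      r := cokernel.π f
      retract := by
        ext
        simp only [cokernel.π_desc_assoc, Preadditive.sub_comp, Category.id_comp, Category.assoc]
        have : Abelian.image.ι f ≫ cokernel.π f = 0 := kernel.condition _
        simp [this] }
  exact r.injective

variable [HasDerivedCategory.{w'} C]

theorem exists_Q_map {K I : CochainComplex C ℤ} [I.IsKInjective]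
    (φ : DerivedCategory.Q.obj K ⟶ DerivedCategory.Q.obj I) : ∃ ψ : K ⟶ I, DerivedCategory.Q.map ψ = φ := by
  obtain ⟨g, hg⟩ := (CochainComplex.IsKInjective.Qh_map_bijective ((HomotopyCategory.quotient C up).obj K) I).surjective
    ((DerivedCategory.quotientCompQhIso C).hom.app K ≫ φ ≫ (DerivedCategory.quotientCompQhIso C).inv.app I)
  obtain ⟨ψ, rfl⟩ := (HomotopyCategory.quotient C up).map_surjective g
  refine ⟨ψ, ?_⟩
  have := (DerivedCategory.quotientCompQhIso C).hom.naturality ψ
  rw [← cancel_epi ((DerivedCategory.quotientCompQhIso C).hom.app K), ← this, Functor.comp_map, hg]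
  simp

theorem nonempty_homotopy {K I : CochainComplex C ℤ} [I.IsKInjective] (ψ : K ⟶ I)
    (h : DerivedCategory.Q.map ψ = 0) : Nonempty (Homotopy ψ 0) := by
  refine ⟨HomotopyCategory.homotopyOfEq _ _ ((CochainComplex.IsKInjective.Qh_map_bijective _ I).injective ?_)⟩
  have := (DerivedCategory.quotientCompQhIso C).hom.naturality ψ
  rw [← cancel_mono ((DerivedCategory.quotientCompQhIso C).hom.app I)]
  simp only [Functor.comp_map] at this
  rw [this, h]
  simp

variable (X : DerivedCategory C) (a b : ℤ)

/-- Vanishing of `Hom(F, X[i])` outside `[a, b]`. -/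
def Vanish : Prop := ∀ (F : C) (i : ℤ), (i < a ∨ b < i) →
  ∀ φ : (DerivedCategory.singleFunctor C 0).obj F ⟶ (shiftFunctor (DerivedCategory C) i).obj X, φ = 0

variable {X a b}

theorem vanish_of_complex (I : CochainComplex C ℤ) (hinj : ∀ i, Injective (I.X i))
    (hz : ∀ i, (i < a ∨ b < i) → IsZero (I.X i)) (e : DerivedCategory.Q.obj I ≅ X) : Vanish X a b := by
  have : I.IsStrictlyGE a := (CochainComplex.isStrictlyGE_iff _ _).2 fun i hi => hz i (Or.inl hi)
  have := hinj
  have : I.IsKInjective := CochainComplex.isKInjective_of_injective I a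
  intro F i hi φ
  let ε : DerivedCategory.Q.obj (I⟦i⟧) ≅ X⟦i⟧ :=
    (DerivedCategory.Q.commShiftIso i).app I ≪≫ (shiftFunctor _ i).mapIso e
  let θ : (DerivedCategory.singleFunctor C 0).obj F ≅ DerivedCategory.Q.obj ((CochainComplex.singleFunctor C 0).obj F) :=
    (DerivedCategory.singleFunctorIsoCompQ C 0).app F
  obtain ⟨ψ, hψ⟩ := exists_Q_map (θ.inv ≫ φ ≫ ε.inv)
  have h0 : ψ = 0 := by
    ext j
    by_cases hj : j = 0
    · subst hj
      refine IsZero.eq_of_tgt ?_ _ _
      simpa using hz i hi
    · exact (HomologicalComplex.isZero_single_obj_X _ _ _ _ hj).eq_of_src _ _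
  rw [h0, Functor.map_zero] at hψ
  have h := θ.hom ≫= (hψ.symm =≫ ε.hom)
  simpa using h

variable (hv : Vanish X a b) {J : CochainComplex C ℤ} [J.IsKInjective] (e : DerivedCategory.Q.obj J ≅ X)

include hv e in
theorem exists_cob {F : C} (m n : ℤ) (hmn : m + 1 = n) (hn : n < a ∨ b < n) (f : F ⟶ J.X n)
    (hf : f ≫ J.d n (n + 1) = 0) : ∃ g : F ⟶ J.X m, g ≫ J.d m n = f := by
  let ψ : (HomologicalComplex.single C up n).obj F ⟶ J :=
    HomologicalComplex.mkHomFromSingle f fun k hk => by
      obtain rfl : n + 1 = k := hk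
      exact hf
  have hψ : DerivedCategory.Q.map ψ = 0 := by
    let θ : (DerivedCategory.singleFunctor C n).obj F ≅ DerivedCategory.Q.obj ((CochainComplex.singleFunctor C n).obj F) :=
      (DerivedCategory.singleFunctorIsoCompQ C n).app F
    let σ := ((DerivedCategory.singleFunctors C).shiftIso n 0 n (by simp)).app F
    have h0 := hv F n hn (σ.inv ≫ (θ.hom ≫ DerivedCategory.Q.map ψ ≫ e.hom)⟦n⟧')
    have h2 : (θ.hom ≫ DerivedCategory.Q.map ψ ≫ e.hom)⟦n⟧' = 0 := by
      have h := σ.hom ≫= h0
      simp only [Iso.hom_inv_id_assoc, comp_zero] at h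
      exact h
    have h1 : θ.hom ≫ DerivedCategory.Q.map ψ ≫ e.hom = 0 :=
      (shiftFunctor (DerivedCategory C) n).map_injective (h2.trans (Functor.map_zero _ _ _).symm)
    have h3 := θ.inv ≫= (h1 =≫ e.inv)
    simp only [Category.assoc, Iso.hom_inv_id, Category.comp_id, Iso.inv_hom_id_assoc, zero_comp, comp_zero] at h3
    exact h3
  obtain ⟨h⟩ := nonempty_homotopy ψ hψ
  refine ⟨(HomologicalComplex.singleObjXSelf up n F).inv ≫ h.hom n m, ?_⟩
  have hc := h.comm n
  rw [dNext_eq _ (i' := n + 1) rfl, prevD_eq _ (j' := m) hmn, HomologicalComplex.zero_f, add_zero] at hc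
  simp only [HomologicalComplex.single_obj_d, zero_comp, zero_add] at hc
  rw [Category.assoc, ← hc]
  simp [ψ]

include hv e in
theorem exactAt (n : ℤ) (hn : n < a ∨ b < n) : J.ExactAt n := by
  rw [HomologicalComplex.exactAt_iff' J (n - 1) n (n + 1) (by simp) (by simp),
    ShortComplex.exact_iff_exact_up_to_refinements]
  intro T x hx
  obtain ⟨g, hg⟩ := exists_cob hv e (n - 1) n (by omega) hn x hx
  exact ⟨T, 𝟙 _, inferInstance, g, by simp [hg]⟩

include hv e in
theorem injective_kernel (n m : ℤ) (hnm : n + 1 = m) (hm : m < a ∨ b < m) [hJ : Injective (J.X n)] :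
    Injective (kernel (J.d n m)) where
  factors {M N} g ι _ := by
    let h : N ⟶ J.X n := Injective.factorThru (g ≫ kernel.ι _) ι
    have hh : ι ≫ h = g ≫ kernel.ι _ := Injective.comp_factorThru _ _
    let f : cokernel ι ⟶ J.X m := cokernel.desc ι (h ≫ J.d n m) (by rw [reassoc_of% hh]; simp)
    obtain ⟨k, hk⟩ := exists_cob hv e n m hnm hm f (by ext; simp [f])
    refine ⟨kernel.lift _ (h - cokernel.π ι ≫ k) (by simp [hk, f]), ?_⟩
    ext
    simp [hh]

include hv e in
theorem exists_complex (hab : a ≤ b) (hJ : ∀ n, Injective (J.X n)) :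
    ∃ I : CochainComplex C ℤ, (∀ i, Injective (I.X i)) ∧ (∀ i, (i < a ∨ b < i) → IsZero (I.X i)) ∧
      Nonempty (DerivedCategory.Q.obj I ≅ X) := by
  have := hJ
  have hGE : J.IsGE a := (CochainComplex.isGE_iff _ _).2 fun i hi => exactAt hv e i (Or.inl hi)
  let J₁ := J.truncGE a
  have hJ₁ : ∀ i, Injective (J₁.X i) := fun i => by
    rcases lt_trichotomy i a with hi | hi | hi
    · exact (J₁.isZero_of_isStrictlyGE a i hi).injective
    · subst hi
      have h1 : Injective (kernel (J.d (i - 2) (i - 1))) :=
        injective_kernel hv e (i - 2) (i - 1) (by omega) (Or.inl (by omega))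
      have h2 : Injective (kernel (J.d (i - 1) i)) := by
        have hex := (HomologicalComplex.exactAt_iff' J (i - 2) (i - 1) i (by simp; omega) (by simp)).1
          (exactAt hv e (i - 1) (Or.inl (by omega)))
        have := injective_image (J.d (i - 2) (i - 1))
        let l : Abelian.image (J.d (i - 2) (i - 1)) ⟶ kernel (J.d (i - 1) i) :=
          kernel.lift _ (Abelian.image.ι _) (by
            rw [← cancel_epi (Abelian.factorThruImage (J.d (i - 2) (i - 1))), reassoc_of% (Abelian.image.fac (J.d (i - 2) (i - 1))), J.d_comp_d, comp_zero])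
        have : Mono l := mono_of_mono_fac (kernel.lift_ι _ _ _)
        have : Epi (Abelian.factorThruImage (J.d (i - 2) (i - 1)) ≫ l) := by
          have he := (ShortComplex.exact_iff_epi_kernel_lift _).1 hex
          have heq : Abelian.factorThruImage (J.d (i - 2) (i - 1)) ≫ l = kernel.lift (J.d (i - 1) i) (J.d (i - 2) (i - 1)) (J.d_comp_d _ _ _) := by
            ext
            simp [l]
          rw [heq]
          exact he
        have : Epi l := epi_of_epi (Abelian.factorThruImage (J.d (i - 2) (i - 1))) l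
        have : IsIso l := isIso_of_mono_of_epi l
        exact Injective.of_iso (asIso l) (injective_image _)
      have := injective_image (J.d (i - 1) i)
      have := injective_cokernel (J.d (i - 1) i)
      exact Injective.of_iso ((cokernelIsCokernel _).coconePointUniqueUpToIso
        (J.opcyclesIsCokernel (i - 1) i (by simp)) ≪≫ (J.truncGEXIsoOpcycles i).symm) this
    · exact Injective.of_iso (J.truncGEXIso a i hi).symm inferInstance
  have hK₁ : J₁.IsKInjective := CochainComplex.isKInjective_of_injective J₁ a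
  let e₁ : DerivedCategory.Q.obj J₁ ≅ X := (asIso (DerivedCategory.Q.map (J.πTruncGE a))).symm ≪≫ e
  have hLE : J₁.IsLE b := (CochainComplex.isLE_iff _ _).2 fun i hi => exactAt hv e₁ i (Or.inr hi)
  refine ⟨J₁.truncLE b, fun i => ?_, fun i hi => ?_, ⟨asIso (DerivedCategory.Q.map (J₁.ιTruncLE b)) ≪≫ e₁⟩⟩
  · rcases lt_trichotomy i b with hi | hi | hi
    · exact Injective.of_iso (J₁.truncLEXIso b i hi).symm inferInstance
    · subst hi
      have : Injective (kernel (J₁.d i (i + 1))) := injective_kernel hv e₁ i (i + 1) rfl (Or.inr (by omega))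
      exact Injective.of_iso ((kernelIsKernel _).conePointUniqueUpToIso
        (J₁.cyclesIsKernel i (i + 1) (by simp)) ≪≫ (J₁.truncLEXIsoCycles i).symm) this
    · exact ((J₁.truncLE b).isZero_of_isStrictlyLE b i hi).injective
  · rcases hi with hi | hi
    · rcases lt_or_ge i b with hib | hib
      · exact (J₁.isZero_of_isStrictlyGE a i hi).of_iso (J₁.truncLEXIso b i hib)
      · omega
    · exact (J₁.truncLE b).isZero_of_isStrictlyLE b i hi

omit hv e in
theorem iff_exists_complex [IsGrothendieckAbelian.{w} C] (hab : a ≤ b) :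
    Vanish X a b ↔ ∃ I : CochainComplex C ℤ, (∀ i, Injective (I.X i)) ∧
      (∀ i, (i < a ∨ b < i) → IsZero (I.X i)) ∧ Nonempty (DerivedCategory.Q.obj I ≅ X) := by
  refine ⟨fun h => ?_, fun ⟨I, h1, h2, ⟨e'⟩⟩ => vanish_of_complex I h1 h2 e'⟩
  obtain ⟨J', f, hJ', hf, hinj⟩ := Groth.L10.KInjTransfer.exists_resolution (DerivedCategory.Q.objPreimage X)
  exact exists_complex h ((asIso (DerivedCategory.Q.map f)).symm ≪≫ DerivedCategory.Q.objObjPreimageIso X) hab hinj

end Groth.L10.InjAmpGen
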