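import Groth.Prelude.Def_CohCx
import Mathlib.CategoryTheory.Triangulated.Pretriangulated
import Mathlib.CategoryTheory.Preadditive.AdditiveFunctor

/-! The Milnor sequence of maps into a derived limit, by two consequences. -/

universe w v u

open CategoryTheory CategoryTheory.Limits CategoryTheory.Pretriangulated

set_option autoImplicit false
set_option backward.defeqAttrib.useBackward true
set_option backward.isDefEq.respectTransparency false
namespace Groth.L10.RlimVia

variable {T : Type u} [Category.{v} T] [Preadditive T] [HasZeroObject T] [HasShift T ℤ]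
  [∀ n : ℤ, (shiftFunctor T n).Additive] [Pretriangulated T]
  (K : ℕ → T) (t : ∀ n, K (n + 1) ⟶ K n) [HasProduct K] (L : T) (a : ∀ n, L ⟶ K n)

/-- Maps into a shift are maps out of the opposite shift. -/
noncomputable def adj (m : ℤ) : shiftFunctor T (-m) ⊣ shiftFunctor T m := (shiftEquiv T m).symm.toAdjunction

theorem exists_lift_and_unique (hL : CohCx.IsRlimVia K t L a) (S : T) (m : ℤ) :
    (∀ x : ∀ n, S ⟶ (shiftFunctor T m).obj (K n), (∀ n, x (n + 1) ≫ (shiftFunctor T m).map (t n) = x n) →
      ∃ y : S ⟶ (shiftFunctor T m).obj L, ∀ n, y ≫ (shiftFunctor T m).map (a n) = x n) ∧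
    (CohCx.LimOneIsZero (fun n => S ⟶ (shiftFunctor T (m - 1)).obj (K n))
        (fun n => Preadditive.rightComp _ ((shiftFunctor T (m - 1)).map (t n))) →
      ∀ y : S ⟶ (shiftFunctor T m).obj L, (∀ n, y ≫ (shiftFunctor T m).map (a n) = 0) → y = 0) := by
  obtain ⟨c, hc⟩ := hL
  refine ⟨fun x hx => ?_, fun hlim y hy => ?_⟩
  · let g : ∀ n, (shiftFunctor T (-m)).obj S ⟶ K n := fun n => ((adj m).homEquiv _ _).symm (x n)
    have hg : ∀ n, g (n + 1) ≫ t n = g n := fun n => by
      rw [← (adj m).homEquiv_naturality_right_symm, hx]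
    obtain ⟨y', hy'⟩ := Triangle.coyoneda_exact₂ _ hc (Pi.lift g) (by
      change Pi.lift g ≫ Pi.lift (fun n => Pi.π K n - Pi.π K (n + 1) ≫ t n) = 0
      refine Pi.hom_ext _ _ fun n => ?_
      simp [Preadditive.comp_sub, hg])
    refine ⟨(adj m).homEquiv _ _ y', fun n => ?_⟩
    rw [← (adj m).homEquiv_naturality_right]
    apply ((adj m).homEquiv _ _).symm.injective
    rw [Equiv.symm_apply_apply]
    change y' ≫ a n = g n
    have := congrArg (· ≫ Pi.π K n) hy'
    simpa using this.symm
  · let y' := ((adj m).homEquiv _ _).symm y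
    have h₁ : y' ≫ Pi.lift a = 0 := Pi.hom_ext _ _ fun n => by
      rw [Category.assoc, Pi.lift_π, zero_comp, ← (adj m).homEquiv_naturality_right_symm, hy]
      have := (adj (T := T) m).left_adjoint_additive
      exact ((adj m).homAddEquiv S (K n)).symm.map_zero
    obtain ⟨g, hg⟩ := Triangle.coyoneda_exact₁ _ hc ((shiftFunctor T (1 : ℤ)).map y')
      (by rw [← Functor.map_comp]; exact (congrArg _ h₁).trans ((shiftFunctor T (1 : ℤ)).map_zero _ _) )
    let e : (shiftFunctor T (1 : ℤ)).obj ((shiftFunctor T (-m)).obj S) ≅ (shiftFunctor T (-(m-1))).obj S :=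
      ((shiftFunctorAdd' T (-m) 1 (-(m-1)) (by omega)).app S).symm
    obtain ⟨b, hb⟩ := hlim fun n => (adj (m-1)).homEquiv _ _ (e.inv ≫ g ≫ Pi.π K n)
    let b' : ∀ n, (shiftFunctor T (1 : ℤ)).obj ((shiftFunctor T (-m)).obj S) ⟶ K n := fun n =>
      e.hom ≫ ((adj (m-1)).homEquiv _ _).symm (b n)
    have hb' : g = Pi.lift b' ≫ Pi.lift (fun n => Pi.π K n - Pi.π K (n + 1) ≫ t n) := Pi.hom_ext _ _ fun n => by
      have := congrArg ((adj (m-1)).homEquiv _ _).symm (congrFun hb n)
      have hadd := (adj (T := T) (m-1)).left_adjoint_additive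
      change ((adj (m-1)).homAddEquiv S (K n)).symm (b n - b (n + 1) ≫ (shiftFunctor T (m - 1)).map (t n)) = _ at this
      rw [map_sub, Equiv.symm_apply_apply] at this
      rw [Category.assoc, Pi.lift_π, Preadditive.comp_sub, Pi.lift_π, ← Category.assoc, Pi.lift_π,
        ← cancel_epi e.inv]
      simp only [b', Preadditive.comp_sub, Category.assoc, Iso.inv_hom_id_assoc]
      rw [← (adj (m-1)).homEquiv_naturality_right_symm]
      exact this.symm
    have : (shiftFunctor T (1 : ℤ)).map y' = 0 := by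
      rw [hg, hb', Category.assoc]
      exact (congrArg (Pi.lift b' ≫ ·) (comp_distTriang_mor_zero₂₃ _ hc)).trans comp_zero
    have h0 : y' = 0 := (shiftFunctor T (1 : ℤ)).map_injective (this.trans ((shiftFunctor T (1 : ℤ)).map_zero _ _).symm)
    apply ((adj m).homEquiv _ _).symm.injective
    have := (adj (T := T) m).left_adjoint_additive
    exact h0.trans ((adj m).homAddEquiv S L).symm.map_zero.symm

end Groth.L10.RlimVia
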