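import Groth.Prelude.Def_EGA4b
import Groth.Agent.L01.NormalDomain
import Groth.Agent.S0555
import Mathlib.RingTheory.IntegralClosure.IntegrallyClosed
import Mathlib.RingTheory.Finiteness.Basic
import Mathlib.RingTheory.AlgebraicIndependent.Transcendental

/-!
Rings of sections outside a closed set: finiteness from a finite normalisation (EGA IV 5.11).
-/

set_option autoImplicit false
set_option linter.all false

universe u v

namespace Groth.L10.Hull

/-- a normal Noetherian domain is the intersection of its localizations at height-one primes -/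
theorem mem_range_of_height_one {C : Type u} [CommRing C] [IsDomain C] [IsNoetherianRing C]
    [IsIntegrallyClosed C] {K : Type v} [Field K] [Algebra C K] [IsFractionRing C K] (x : K)
    (h : ∀ (P : Ideal C) [P.IsPrime], P.height = 1 →
      ∃ s : C, s ∉ P ∧ ∃ a : C, algebraMap C K a = algebraMap C K s * x) :
    x ∈ Set.range (algebraMap C K) := by
  obtain ⟨c, b, hb, hx⟩ := IsFractionRing.div_surjective (A := C) x
  have hb0 : b ≠ 0 := nonZeroDivisors.ne_zero hb
  by_cases hcb : c ∈ Ideal.span {b}
  · obtain ⟨a, rfl⟩ := Ideal.mem_span_singleton'.1 hcb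
    exact ⟨a, by rw [← hx, map_mul, mul_div_assoc, div_self (by simpa using hb0), mul_one]⟩
  · exfalso
    let z : C ⧸ Ideal.span {b} := Ideal.Quotient.mk _ c
    have hz : z ≠ 0 := fun hz => hcb (Ideal.Quotient.eq_zero_iff_mem.1 hz)
    haveI : Nontrivial (Submodule.span C {z}) := Submodule.nontrivial_iff_ne_bot.2 (by simpa using hz)
    obtain ⟨P, hP⟩ := associatedPrimes.nonempty C (Submodule.span C {z})
    haveI := hP.1
    have hPC : P ∈ associatedPrimes C (C ⧸ Ideal.span {b}) :=
      associatedPrimes.subset_of_injective (Submodule.injective_subtype _) hP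
    obtain ⟨s, hs, a, ha⟩ := h P (Groth.L01.height_eq_one_of_mem_associatedPrimes hb0 hPC)
    refine hs (hP.annihilator_le ?_)
    rw [Submodule.annihilator_top, Submodule.mem_annihilator_span_singleton]
    refine Ideal.Quotient.eq_zero_iff_mem.2 (Ideal.mem_span_singleton'.2 ⟨a, ?_⟩)
    apply IsFractionRing.injective C K
    show _ = algebraMap C K (s * c)
    rw [map_mul, map_mul, ha, ← hx, mul_assoc, div_mul_cancel₀ _ (by simpa using hb0)]

variable (D : Type u) [CommRing D] [IsDomain D]

/-- the elements of the fraction field regular at a set of primes -/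
noncomputable def hullAt (T : Set (PrimeSpectrum D)) : Subalgebra D (FractionRing D) where
  carrier := {x | ∀ p ∈ T, ∃ s : D, s ∉ p.asIdeal ∧ ∃ a : D,
    algebraMap D (FractionRing D) a = algebraMap D (FractionRing D) s * x}
  mul_mem' := by
    intro x y hx hy p hp
    obtain ⟨s, hs, a, ha⟩ := hx p hp
    obtain ⟨t, ht, b, hb⟩ := hy p hp
    exact ⟨s * t, fun h => (p.isPrime.mem_or_mem h).elim hs ht, a * b, by rw [map_mul, map_mul, ha, hb]; ring⟩
  add_mem' := by
    intro x y hx hy p hp
    obtain ⟨s, hs, a, ha⟩ := hx p hp
    obtain ⟨t, ht, b, hb⟩ := hy p hp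
    refine ⟨s * t, fun h => (p.isPrime.mem_or_mem h).elim hs ht, a * t + b * s, ?_⟩
    rw [map_add, map_mul, map_mul, map_mul, ha, hb]; ring
  algebraMap_mem' r := fun p _ => ⟨1, fun h => p.isPrime.ne_top ((Ideal.eq_top_iff_one _).2 h), r, by
    rw [map_one, one_mul]⟩

theorem mem_hullAt {T : Set (PrimeSpectrum D)} {x : FractionRing D} :
    x ∈ hullAt D T ↔ ∀ p ∈ T, ∃ s : D, s ∉ p.asIdeal ∧ ∃ a : D,
      algebraMap D (FractionRing D) a = algebraMap D (FractionRing D) s * x := Iff.rfl

variable [IsNoetherianRing D]

/-- height-one primes of a finite normalisation contract to height-one primes -/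
theorem height_comap_of_finite_normalization (hD : CAlg.IsUniversallyCatenary D)
    [Module.Finite D (integralClosure D (FractionRing D))]
    (P : Ideal (integralClosure D (FractionRing D))) [P.IsPrime] (hP : P.height = 1) :
    (P.comap (algebraMap D (integralClosure D (FractionRing D)))).height = 1 := by
  let C := integralClosure D (FractionRing D)
  let p := P.comap (algebraMap D C)
  haveI : P.LiesOver p := ⟨rfl⟩
  haveI : FaithfulSMul D C := (faithfulSMul_iff_algebraMap_injective D C).2 fun a b h =>
    IsFractionRing.injective D (FractionRing D) (congrArg Subtype.val h)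
  have h := Groth.Agent.S0555.result D hD C p P
  haveI : Algebra.IsIntegral D C := Algebra.IsIntegral.of_finite D C
  haveI : Algebra.IsAlgebraic D C := Algebra.IsIntegral.isAlgebraic
  haveI : Algebra.IsIntegral (D ⧸ p) (C ⧸ P) := inferInstance
  haveI : Nontrivial (D ⧸ p) := Ideal.Quotient.nontrivial_iff.2 (Ideal.IsPrime.ne_top inferInstance)
  haveI : Algebra.IsAlgebraic (D ⧸ p) (C ⧸ P) := Algebra.IsIntegral.isAlgebraic
  rw [trdeg_eq_zero, trdeg_eq_zero, add_zero, add_zero, hP] at h
  exact_mod_cast h.symm

/-- regular at all height-one primes implies in the (finite) normalisation -/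
theorem hullAt_le_integralClosure (hD : CAlg.IsUniversallyCatenary D)
    [Module.Finite D (integralClosure D (FractionRing D))] {T : Set (PrimeSpectrum D)}
    (hT : ∀ p : PrimeSpectrum D, p.asIdeal.height = 1 → p ∈ T) :
    hullAt D T ≤ integralClosure D (FractionRing D) := by
  intro x hx
  let C := integralClosure D (FractionRing D)
  haveI : IsNoetherianRing C := isNoetherianRing_iff.2 (isNoetherian_of_tower D inferInstance)
  haveI : Algebra.IsAlgebraic D (FractionRing D) := IsLocalization.isAlgebraic _ (nonZeroDivisors D)
  haveI : IsFractionRing C (FractionRing D) :=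
    integralClosure.isFractionRing_of_algebraic (A := D) (fun y hy =>
      IsFractionRing.injective D (FractionRing D) (by rw [hy, map_zero]))
  haveI : IsIntegrallyClosed C :=
    integralClosure.isIntegrallyClosedOfFiniteExtension (R := D) (K := FractionRing D) (L := FractionRing D)
  obtain ⟨c, hc⟩ := mem_range_of_height_one (C := C) x fun P _ hP => by
    obtain ⟨s, hs, a, ha⟩ := hx ⟨P.comap (algebraMap D C), inferInstance⟩
      (hT _ (height_comap_of_finite_normalization D hD P hP))
    exact ⟨algebraMap D C s, hs, algebraMap D C a, ha⟩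
  rw [← hc]
  exact c.2

theorem finite_hullAt (hD : CAlg.IsUniversallyCatenary D)
    (hfin : Module.Finite D (integralClosure D (FractionRing D))) {T : Set (PrimeSpectrum D)}
    (hT : ∀ p : PrimeSpectrum D, p.asIdeal.height = 1 → p ∈ T) :
    Module.Finite D (hullAt D T) := by
  have hle := hullAt_le_integralClosure D hD hT
  exact Module.Finite.of_injective (Subalgebra.inclusion hle).toLinearMap
    (Subalgebra.inclusion_injective hle)

end Groth.L10.Hull
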