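import Groth.Prelude.Def_EGA4c
import Groth.Agent.L04.Koszul.Punctured
import Groth.Agent.L04.LC.Codim
import Groth.Agent.L03.Reflexive
import Groth.Agent.L10.HullFinite
import Groth.Agent.L06.NormalAscent
import Groth.Agent.S5152

/-!
Coherence of the direct image from the complement of `V(J)` as finiteness of `H^1_J`, and its dévissage.
-/

set_option autoImplicit false
set_option linter.all false

universe u

open CategoryTheory AlgebraicGeometry Opposite

namespace Groth.L10.H1Finite

variable {A : Type u} [CommRing A] [IsNoetherianRing A] (J : Ideal A)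

theorem sections_finite_iff (M : Type u) [AddCommGroup M] [Module A M] :
    EGA4.IsCoherentPushCompl A J M ↔
      Module.Finite A ((modulesSpecToSheaf.obj (tilde (R := CommRingCat.of A) (ModuleCat.of A M))).presheaf.obj
        (op (LocCoh.puncturedOpen A J)) : Type u) := by
  unfold EGA4.IsCoherentPushCompl
  let N := ((ModuleCat.restrictScalars ((Spec (CommRingCat.of A)).ringCatSheaf.obj.map
    (homOfLE (le_top : EGA4.openCompl A J ≤ ⊤)).op).hom).obj
      ((EGA4.tildeOf A M).val.obj (op (EGA4.openCompl A J))))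
  let Γ₀ := (Spec (CommRingCat.of A)).ringCatSheaf.obj.obj (op (⊤ : (Spec (CommRingCat.of A)).Opens))
  let N' := ((modulesSpecToSheaf.obj (tilde (R := CommRingCat.of A) (ModuleCat.of A M))).presheaf.obj
    (op (LocCoh.puncturedOpen A J)) : Type u)
  let σ : A →+* Γ₀ := (Scheme.ΓSpecIso (CommRingCat.of A)).inv.hom
  have hσ : Function.Surjective σ :=
    (Scheme.ΓSpecIso (CommRingCat.of A)).symm.commRingCatIsoToRingEquiv.surjective
  let e : N' →ₛₗ[σ] N :=
    { toFun := id
      map_add' := fun _ _ => rfl
      map_smul' := fun a x => rfl }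
  constructor
  · intro h
    constructor
    obtain ⟨s, hs⟩ := h.fg_top
    refine ⟨s, eq_top_iff.2 fun x _ => ?_⟩
    have hx : (x : N) ∈ Submodule.span Γ₀ (s : Set N) := by rw [hs]; trivial
    induction hx using Submodule.span_induction with
    | mem y hy => exact Submodule.subset_span hy
    | zero => exact zero_mem _
    | add a b _ _ ha hb => exact add_mem (ha trivial) (hb trivial)
    | smul c y _ hy =>
      obtain ⟨a, rfl⟩ := hσ c
      exact Submodule.smul_mem _ a (hy trivial)
  · intro h
    haveI : RingHomSurjective σ := ⟨hσ⟩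
    exact Module.Finite.of_surjective e Function.surjective_id

theorem isCoherentPushCompl_iff (M : Type u) [AddCommGroup M] [Module A M] [Module.Finite A M] :
    EGA4.IsCoherentPushCompl A J M ↔ Module.Finite A (LocCoh.H J 1 M) := by
  rw [sections_finite_iff]
  obtain ⟨-, ⟨e⟩⟩ := Groth.L04.Koszul.Cech.exists_toOpen_punctured J (ModuleCat.of A M)
  let f := (tilde.toOpen (R := CommRingCat.of A) (ModuleCat.of A M) (LocCoh.puncturedOpen A J)).hom
  haveI : Module.Finite A (LinearMap.range f) := Module.Finite.range f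
  exact ⟨fun h => Module.Finite.equiv e, fun h =>
    haveI := Module.Finite.equiv e.symm
    Module.Finite.of_submodule_quotient (LinearMap.range f)⟩

section Ses

variable {M N Q : Type u} [AddCommGroup M] [Module A M] [AddCommGroup N] [Module A N]
  [AddCommGroup Q] [Module A Q]

theorem finite_of_exact {P₁ P₂ P₃ : Type u} [AddCommGroup P₁] [Module A P₁] [AddCommGroup P₂] [Module A P₂]
    [AddCommGroup P₃] [Module A P₃] (u : P₁ →ₗ[A] P₂) (v : P₂ →ₗ[A] P₃) (h : Function.Exact u v)
    [Module.Finite A P₁] [Module.Finite A P₃] : Module.Finite A P₂ := by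
  haveI : Module.Finite A (LinearMap.ker v) := by
    rw [LinearMap.exact_iff.1 h]
    exact Module.Finite.range u
  haveI : Module.Finite A (P₂ ⧸ LinearMap.ker v) := Module.Finite.equiv v.quotKerEquivRange.symm
  exact Module.Finite.of_submodule_quotient (LinearMap.ker v)

theorem finite_H1_sub (f : M →ₗ[A] N) (hf : Function.Injective f) [Module.Finite A N]
    [Module.Finite A (LocCoh.H J 1 N)] : Module.Finite A (LocCoh.H J 1 M) := by
  have hS := Groth.L04.LC.quotient_shortExact f hf
  haveI := Groth.L04.LC.H_finite_zero J (N ⧸ LinearMap.range f)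
  exact @finite_of_exact A _ _ (LocCoh.H J 0 (N ⧸ LinearMap.range f)) (LocCoh.H J 1 M) (LocCoh.H J 1 N)
    _ _ _ _ _ _ (Groth.L04.LC.Hδ J hS 0) _ (Groth.L04.LC.H_exact₁ J hS 0) _ _

theorem finite_H1_mid (f : M →ₗ[A] N) (g : N →ₗ[A] Q) (hf : Function.Injective f) (hg : Function.Surjective g)
    (hfg : Function.Exact f g) [Module.Finite A (LocCoh.H J 1 M)] [Module.Finite A (LocCoh.H J 1 Q)] :
    Module.Finite A (LocCoh.H J 1 N) :=
  @finite_of_exact A _ _ (LocCoh.H J 1 M) (LocCoh.H J 1 N) (LocCoh.H J 1 Q) _ _ _ _ _ _ _ _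
    (Groth.L04.LC.H_exact₂ J (Groth.L04.LC.ses_shortExact f g hf hg hfg) 1) _ _

end Ses

theorem finite_H1_pi (N : Type u) [AddCommGroup N] [Module A N] [Module.Finite A (LocCoh.H J 1 N)] :
    ∀ n : ℕ, Module.Finite A (LocCoh.H J 1 (Fin n → N)) := by
  intro n
  induction n with
  | zero =>
    haveI : Subsingleton (LocCoh.H J 1 (Fin 0 → N)) :=
      Groth.L04.LC.subsingleton_H_pos_of_isPowerTorsion J Nat.one_pos _
        fun m => ⟨0, fun a _ => Subsingleton.elim _ _⟩
    infer_instance
  | succ n ih =>
    haveI := ih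
    let g : (Fin (n + 1) → N) →ₗ[A] (Fin n → N) := LinearMap.funLeft A N Fin.succ
    let f : N →ₗ[A] (Fin (n + 1) → N) := LinearMap.single A (fun _ => N) 0
    refine finite_H1_mid J f g (fun a b hab => Pi.single_injective (0 : Fin (n + 1)) (by exact hab))
      (LinearMap.funLeft_surjective_of_injective A N _ (Fin.succ_injective n)) ?_
    intro y
    constructor
    · intro hy
      refine ⟨y 0, funext fun i => ?_⟩
      refine Fin.cases ?_ (fun k => ?_) i
      · simp [f]
      · simpa [f, g, LinearMap.funLeft] using (congrFun hy k).symm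
    · rintro ⟨x, rfl⟩
      funext k
      simp [f, g, LinearMap.funLeft, Fin.succ_ne_zero]

/-- torsion free over a prime quotient -/
theorem finite_H1_of_torsionFree (p : Ideal A) [p.IsPrime] (N : Type u) [AddCommGroup N] [Module A N]
    [Module.Finite A N] (hp : ∀ a ∈ p, ∀ x : N, a • x = 0) (hreg : ∀ a ∉ p, ∀ x : N, a • x = 0 → x = 0)
    [Module.Finite A (LocCoh.H J 1 (A ⧸ p))] : Module.Finite A (LocCoh.H J 1 N) := by
  have htor : Module.IsTorsionBySet A N (p : Set A) := fun x a => hp a a.2 x
  letI := htor.module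
  haveI : IsScalarTower A (A ⧸ p) N := htor.isScalarTower
  haveI : Module.Finite (A ⧸ p) N := Module.Finite.of_restrictScalars_finite A _ _
  haveI : Module.IsTorsionFree (A ⧸ p) N := ⟨fun r hr => by
    obtain ⟨a, rfl⟩ := Ideal.Quotient.mk_surjective r
    intro x y hxy
    have ha : a ∉ p := fun h => hr.ne_zero (Ideal.Quotient.eq_zero_iff_mem.2 h)
    refine sub_eq_zero.1 (hreg a ha _ ?_)
    rw [smul_sub, sub_eq_zero]
    exact hxy⟩
  obtain ⟨n, f, hf⟩ := Groth.L03.Reflexive.exists_embedding (R := A ⧸ p) N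
  haveI := finite_H1_pi J (A ⧸ p) n
  exact finite_H1_sub J (f.restrictScalars A) hf

theorem subset_singleton_of_injective {p : Ideal A} {M N : Type u} [AddCommGroup M] [Module A M]
    [AddCommGroup N] [Module A N] (f : M →ₗ[A] N) (hf : Function.Injective f)
    (h : associatedPrimes A N ⊆ {p}) : associatedPrimes A M ⊆ {p} :=
  (associatedPrimes.subset_of_injective hf).trans h

theorem regular_of_ass_subset {p : Ideal A} {M : Type u} [AddCommGroup M] [Module A M]
    (h : associatedPrimes A M ⊆ {p}) {a : A} (ha : a ∉ p) {x : M} (hx : a • x = 0) : x = 0 := by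
  by_contra hx0
  haveI : Nontrivial (Submodule.span A {x}) := Submodule.nontrivial_iff_ne_bot.2 (by simpa using hx0)
  obtain ⟨q, hq⟩ := associatedPrimes.nonempty A (Submodule.span A {x})
  have hqp : q = p := h (associatedPrimes.subset_of_injective (Submodule.injective_subtype _) hq)
  refine ha (hqp ▸ hq.annihilator_le ?_)
  rw [Submodule.annihilator_top, Submodule.mem_annihilator_span_singleton]
  exact hx

/-- coprimary modules -/
theorem finite_H1_of_coprimary (p : Ideal A) [p.IsPrime] [Module.Finite A (LocCoh.H J 1 (A ⧸ p))] :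
    ∀ (k : ℕ) (N : Type u) [AddCommGroup N] [Module A N] [Module.Finite A N],
      associatedPrimes A N ⊆ {p} → (∀ a ∈ p ^ k, ∀ x : N, a • x = 0) → Module.Finite A (LocCoh.H J 1 N) := by
  intro k
  induction k with
  | zero =>
    intro N _ _ _ _ hk
    haveI : Subsingleton (LocCoh.H J 1 N) :=
      Groth.L04.LC.subsingleton_H_pos_of_isPowerTorsion J Nat.one_pos _ fun m => ⟨0, fun a _ => by
        rw [show m = 0 by simpa using hk 1 (by simp) m, smul_zero]⟩
    infer_instance
  | succ k ih =>
    intro N _ _ _ hass hk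
    let N₁ := Submodule.torsionBySet A N (p : Set A)
    haveI : Module.Finite A (LocCoh.H J 1 N₁) := finite_H1_of_torsionFree J p N₁
      (fun a ha x => Subtype.ext ((Submodule.mem_torsionBySet_iff _ _).1 x.2 ⟨a, ha⟩))
      (fun a ha x hx => Subtype.ext (regular_of_ass_subset hass ha (congrArg Subtype.val hx)))
    obtain ⟨w, hw⟩ := Submodule.fg_iff_exists_fin_generating_family.1 (IsNoetherian.noetherian p)
    obtain ⟨b, hb⟩ := hw
    let μ : N →ₗ[A] (Fin w → N) := LinearMap.pi fun i => b i • LinearMap.id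
    have hker : N₁ = LinearMap.ker μ := by
      ext x
      rw [Submodule.mem_torsionBySet_iff, LinearMap.mem_ker]
      constructor
      · intro h
        funext i
        exact h ⟨b i, hb ▸ Submodule.subset_span ⟨i, rfl⟩⟩
      · rintro h ⟨a, ha⟩
        rw [← hb] at ha
        have : Submodule.span A (Set.range b) ≤ LinearMap.ker ((LinearMap.lsmul A N).flip x) := by
          rw [Submodule.span_le]
          rintro _ ⟨i, rfl⟩
          exact congrFun h i
        exact this ha
    let Q := N ⧸ N₁
    let μ' : Q →ₗ[A] (Fin w → N) := N₁.liftQ μ hker.le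
    have hμ' : Function.Injective μ' := LinearMap.ker_eq_bot.1 (Submodule.ker_liftQ_eq_bot _ _ _ hker.ge)
    have hpi : associatedPrimes A Q ⊆ {p} := by
      intro q hq
      haveI := hq.1
      obtain ⟨-, g, hg⟩ := (isAssociatedPrime_iff_exists_injective_linearMap q Q).1 hq
      by_contra hne
      have hinj := hμ'.comp hg
      have h1 : μ' (g (Ideal.Quotient.mk q 1)) ≠ 0 := fun h0 => by
        have := hinj (h0.trans ((μ'.comp g).map_zero).symm)
        exact q.ne_top_iff_one.1 (Ideal.IsPrime.ne_top inferInstance) (Ideal.Quotient.eq_zero_iff_mem.1 this)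
      obtain ⟨i, hi⟩ : ∃ i, μ' (g (Ideal.Quotient.mk q 1)) i ≠ 0 := by
        by_contra hall
        exact h1 (funext fun i => not_not.1 fun h => hall ⟨i, h⟩)
      by_cases hqp : q ≤ p
      · obtain ⟨a, ha, haq⟩ := SetLike.exists_of_lt (lt_of_le_of_ne hqp hne)
        obtain ⟨c, hc⟩ : ∃ c, a ^ c ∈ p ^ k := ⟨k, Ideal.pow_mem_pow ha k⟩
        have hz : (a ^ c) • μ' (g (Ideal.Quotient.mk q 1)) = 0 := by
          obtain ⟨x, hx⟩ := Submodule.Quotient.mk_surjective N₁ (g (Ideal.Quotient.mk q 1))
          rw [← hx]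
          funext j
          show a ^ c • b j • x = 0
          rw [smul_smul]
          exact hk _ (by rw [pow_succ]; exact Ideal.mul_mem_mul hc (hb ▸ Submodule.subset_span ⟨j, rfl⟩)) x
        have h2 : (μ'.comp g) (a ^ c • Ideal.Quotient.mk q 1) = 0 := by rw [map_smul]; exact hz
        have h3 := hinj (h2.trans (μ'.comp g).map_zero.symm)
        refine haq (Ideal.IsPrime.mem_of_pow_mem inferInstance c (Ideal.Quotient.eq_zero_iff_mem.1 ?_))
        rw [← mul_one (a ^ c), map_mul]
        exact h3
      · obtain ⟨a, ha, hap⟩ := SetLike.not_le_iff_exists.1 hqp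
        refine hi (regular_of_ass_subset hass hap ?_)
        have h2 : a • Ideal.Quotient.mk q 1 = 0 := by
          show Ideal.Quotient.mk q (a * 1) = 0
          rw [mul_one]; exact Ideal.Quotient.eq_zero_iff_mem.2 ha
        have := congrFun (congrArg (μ'.comp g) h2) i
        rwa [map_smul, map_zero] at this
    haveI : Module.Finite A (LocCoh.H J 1 Q) := ih Q hpi fun a ha y => by
      obtain ⟨x, rfl⟩ := Submodule.Quotient.mk_surjective N₁ y
      rw [← Submodule.Quotient.mk_smul, Submodule.Quotient.mk_eq_zero, Submodule.mem_torsionBySet_iff]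
      rintro ⟨c, hc⟩
      rw [smul_smul]
      exact hk _ (by rw [pow_succ']; exact Ideal.mul_mem_mul hc ha) x
    exact finite_H1_mid J N₁.subtype N₁.mkQ (Submodule.injective_subtype _) (Submodule.mkQ_surjective _)
      (LinearMap.exact_subtype_mkQ _)

/-- `H^1_J M` is finite as soon as it is for `A/p`, `p` associated to `M` -/
theorem finite_H1_of_ass : ∀ (n : ℕ) (M : Type u) [AddCommGroup M] [Module A M] [Module.Finite A M],
    (associatedPrimes A M).ncard ≤ n →
    (∀ p ∈ associatedPrimes A M, ¬ J ≤ p → Module.Finite A (LocCoh.H J 1 (A ⧸ p))) →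
      Module.Finite A (LocCoh.H J 1 M) := by
  intro n
  induction n with
  | zero =>
    intro M _ _ _ hn _
    have he : associatedPrimes A M = ∅ :=
      (Set.ncard_eq_zero (associatedPrimes.finite A M)).1 (Nat.le_zero.1 hn)
    haveI : Subsingleton M := by
      by_contra hM
      rw [not_subsingleton_iff_nontrivial] at hM
      exact Set.Nonempty.ne_empty (associatedPrimes.nonempty A M) he
    haveI : Subsingleton (LocCoh.H J 1 M) :=
      Groth.L04.LC.subsingleton_H_pos_of_isPowerTorsion J Nat.one_pos _ fun m => ⟨0, fun a _ => Subsingleton.elim _ _⟩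
    infer_instance
  | succ n ih =>
    intro M _ _ _ hn h
    rcases subsingleton_or_nontrivial M with hM | hM
    · exact ih M (by simp [associatedPrimes.eq_empty_of_subsingleton]) h
    obtain ⟨p, hp, hmax⟩ := (associatedPrimes.finite A M).exists_maximal (associatedPrimes.nonempty A M)
    haveI := hp.1
    haveI : Module.Finite A (LocCoh.H J 1 (A ⧸ p)) := by
      by_cases hJp : J ≤ p
      · haveI : Subsingleton (LocCoh.H J 1 (A ⧸ p)) :=
          Groth.L04.LC.subsingleton_H_pos_of_isPowerTorsion J Nat.one_pos _ fun m => ⟨1, fun a ha => by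
            rw [pow_one] at ha
            obtain ⟨m, rfl⟩ := Ideal.Quotient.mk_surjective m
            show Ideal.Quotient.mk p (a * m) = 0
            exact Ideal.Quotient.eq_zero_iff_mem.2 (p.mul_mem_right _ (hJp ha))⟩
        infer_instance
      · exact h p hp hJp
    let N := DRing.torsionSub p M
    have hassN : associatedPrimes A N ⊆ {p} := by
      intro q hq
      have hqM := associatedPrimes.subset_of_injective N.injective_subtype hq
      obtain ⟨-, g, hg⟩ := (isAssociatedPrime_iff_exists_injective_linearMap q N).1 hq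
      obtain ⟨m, hm⟩ := (g (Ideal.Quotient.mk q 1)).2
      haveI := hq.1
      have hpq : p ≤ q := fun a ha => hq.1.mem_of_pow_mem m (by
        apply Ideal.Quotient.eq_zero_iff_mem.1
        apply hg
        rw [map_zero, show Ideal.Quotient.mk q (a ^ m) = a ^ m • Ideal.Quotient.mk q 1 by
          show _ = Ideal.Quotient.mk q (a ^ m * 1); rw [mul_one], map_smul]
        exact Subtype.ext (hm _ (Ideal.pow_mem_pow ha m)))
      exact le_antisymm (hmax hqM hpq) hpq
    obtain ⟨k, hk⟩ := Groth.L04.LC.exists_pow_smul_eq_zero_of_finite p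
      (H := N) (Groth.L04.LC.isPowerTorsion_torsionSub p M)
    haveI : Module.Finite A (LocCoh.H J 1 N) := finite_H1_of_coprimary J p k N hassN hk
    have hsub : associatedPrimes A (M ⧸ N) ⊆ associatedPrimes A M \ {p} := by
      intro q hq
      haveI := hq.1
      obtain ⟨-, g, hg⟩ := (isAssociatedPrime_iff_exists_injective_linearMap q (M ⧸ N)).1 hq
      have key : ∀ y : M, (∀ a ∈ p, a • y ∈ N) → y ∈ N := by
        intro y hy
        refine ⟨k + 1, fun a ha => ?_⟩
        rw [pow_succ] at ha
        induction ha using Submodule.mul_induction_on' with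
        | mem_mul_mem u hu v hv =>
          rw [mul_smul]
          exact congrArg Subtype.val (hk u hu ⟨v • y, hy v hv⟩)
        | add u _ v _ hu hv => rw [add_smul, hu, hv, add_zero]
      obtain ⟨x, hx⟩ := Submodule.Quotient.mk_surjective N (g (Ideal.Quotient.mk q 1))
      have hiff : ∀ a : A, a • x ∈ N ↔ a ∈ q := by
        intro a
        rw [← Submodule.Quotient.mk_eq_zero (p := N), Submodule.Quotient.mk_smul, hx, ← map_smul,
          map_eq_zero_iff g hg, ← Ideal.Quotient.eq_zero_iff_mem]
        show Ideal.Quotient.mk q (a * 1) = 0 ↔ _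
        rw [mul_one]
      have hpq : ¬ p ≤ q := fun hle => by
        have := key x fun a ha => (hiff a).2 (hle ha)
        exact hq.1.ne_top ((Ideal.eq_top_iff_one q).2 ((hiff 1).1 (by rwa [one_smul])))
      refine ⟨?_, fun he => hpq he.ge⟩
      obtain ⟨c, hc, hcq⟩ := SetLike.not_le_iff_exists.1 hpq
      refine isAssociatedPrime_iff.2 ⟨inferInstance, c ^ k • x, ?_⟩
      ext a
      rw [Submodule.mem_colon_singleton, Submodule.mem_bot]
      constructor
      · intro ha
        rw [smul_smul, mul_comm, mul_smul]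
        exact congrArg Subtype.val (hk _ (Ideal.pow_mem_pow hc k) ⟨a • x, (hiff a).2 ha⟩)
      · intro ha
        have : a * c ^ k ∈ q := (hiff _).1 (by rw [mul_smul, ha]; exact zero_mem N)
        exact (hq.1.mem_or_mem this).resolve_right fun h => hcq (hq.1.mem_of_pow_mem k h)
    haveI : Module.Finite A (LocCoh.H J 1 (M ⧸ N)) := ih (M ⧸ N) (by
      have h1 := Set.ncard_le_ncard hsub ((associatedPrimes.finite A M).subset Set.diff_subset)
      rw [Set.ncard_diff_singleton_of_mem hp] at h1
      omega) fun q hq => h q (hsub hq).1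
    exact finite_H1_mid J N.subtype N.mkQ N.injective_subtype (Submodule.mkQ_surjective _)
      (LinearMap.exact_subtype_mkQ _)

theorem finite_H1_quot_iff (p : Ideal A) :
    Module.Finite (A ⧸ p) (LocCoh.H (J.map (Ideal.Quotient.mk p)) 1 (A ⧸ p)) ↔
      Module.Finite A (LocCoh.H J 1 (A ⧸ p)) := by
  obtain ⟨φ, hφ⟩ := Groth.L04.LC.exists_H_restrict_equiv (R' := A ⧸ p) J 1 (A ⧸ p)
  constructor
  · intro h
    letI : Module A (LocCoh.H (J.map (Ideal.Quotient.mk p)) 1 (A ⧸ p)) := Module.compHom _ (Ideal.Quotient.mk p)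
    haveI : IsScalarTower A (A ⧸ p) (LocCoh.H (J.map (Ideal.Quotient.mk p)) 1 (A ⧸ p)) :=
      IsScalarTower.of_algebraMap_smul fun _ _ => rfl
    haveI : Module.Finite A (LocCoh.H (J.map (Ideal.Quotient.mk p)) 1 (A ⧸ p)) := Module.Finite.trans (A ⧸ p) _
    exact Module.Finite.equiv ({ φ with map_smul' := fun a x => hφ a x } :
      LocCoh.H (J.map (Ideal.Quotient.mk p)) 1 (A ⧸ p) ≃ₗ[A] LocCoh.H J 1 (A ⧸ p))
  · intro h
    letI : Module A (LocCoh.H (J.map (Ideal.Quotient.mk p)) 1 (A ⧸ p)) := Module.compHom _ (Ideal.Quotient.mk p)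
    haveI : IsScalarTower A (A ⧸ p) (LocCoh.H (J.map (Ideal.Quotient.mk p)) 1 (A ⧸ p)) :=
      IsScalarTower.of_algebraMap_smul fun _ _ => rfl
    haveI : Module.Finite A (LocCoh.H (J.map (Ideal.Quotient.mk p)) 1 (A ⧸ p)) :=
      Module.Finite.equiv ({ φ with map_smul' := fun a x => hφ a x } :
        LocCoh.H (J.map (Ideal.Quotient.mk p)) 1 (A ⧸ p) ≃ₗ[A] LocCoh.H J 1 (A ⧸ p)).symm
    exact Module.Finite.of_restrictScalars_finite A (A ⧸ p) _

theorem isCoherentPushCompl_iff_ass (M : Type u) [AddCommGroup M] [Module A M] [Module.Finite A M] :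
    EGA4.IsCoherentPushCompl A J M ↔
      ∀ p ∈ associatedPrimes A M, ¬ J ≤ p → EGA4.IsCoherentPushCompl (A ⧸ p) (J.map (Ideal.Quotient.mk p)) (A ⧸ p) := by
  rw [isCoherentPushCompl_iff]
  constructor
  · intro h p hp _
    rw [isCoherentPushCompl_iff, finite_H1_quot_iff]
    obtain ⟨-, g, hg⟩ := (isAssociatedPrime_iff_exists_injective_linearMap p M).1 hp
    exact finite_H1_sub J g hg
  · intro h
    refine finite_H1_of_ass J _ M le_rfl fun p hp hJ => ?_
    have h1 := h p hp hJ
    rwa [isCoherentPushCompl_iff, finite_H1_quot_iff] at h1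

/-- necessity: codimension at least two at the associated points off `V(J)` -/
theorem two_le_height_of_finite (M : Type u) [AddCommGroup M] [Module A M] [Module.Finite A M]
    (h : Module.Finite A (LocCoh.H J 1 M)) :
    ∀ p ∈ associatedPrimes A M, ¬ J ≤ p → (2 : ℕ∞) ≤ (J.map (Ideal.Quotient.mk p)).height := by
  intro p hp hJ
  haveI := hp.1
  have hsup : (J ⊔ p).map (Ideal.Quotient.mk p) = J.map (Ideal.Quotient.mk p) := by
    rw [Ideal.map_sup, Ideal.map_quotient_self, sup_bot_eq]
  by_contra hlt
  rw [not_le] at hlt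
  obtain ⟨d, hd⟩ := ENat.ne_top_iff_exists.1 hlt.ne_top
  have hd2 : d < 2 := by rw [← hd] at hlt; exact_mod_cast hlt
  rw [← hsup] at hd
  obtain ⟨q, hq, hpq, hJq, hqh⟩ := Groth.L04.LC.exists_prime_height_le (a := J) p hd.symm
  haveI := hq
  haveI : (q.map (Ideal.Quotient.mk p)).IsPrime :=
    Ideal.map_isPrime_of_surjective Ideal.Quotient.mk_surjective (Ideal.mk_ker.le.trans hpq)
  interval_cases d
  · rw [Nat.cast_zero, Ideal.height_eq_zero_iff, IsDomain.minimalPrimes_eq_singleton_bot] at hqh
    exact hJ (hJq.trans ((Ideal.map_eq_bot_iff_le_ker _).1 hqh |>.trans Ideal.mk_ker.le))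
  · have hfin : ∀ i ≤ 1, Module.Finite A (LocCoh.H J i M) := fun i hi => by
      interval_cases i
      · exact Groth.L04.LC.H_finite_zero J M
      · exact h
    have hc := Groth.L04.LC.coverHyp_of_finite J M (n := 1) (j := 0) Nat.one_pos hfin
      ⟨p, hp.1⟩ ⟨q, hq⟩ hJ hJq hpq (by exact_mod_cast hqh)
    obtain ⟨-, x, hx⟩ := isAssociatedPrime_iff.1 hp
    have hxp : x ∈ DRing.torsionSub p M := ⟨1, fun a ha => by
      rw [pow_one, hx, Submodule.mem_colon_singleton] at ha
      exact (Submodule.mem_bot A).1 ha⟩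
    obtain ⟨z, hz⟩ := (Groth.L04.LC.H0Equiv p (ModuleCat.of A M)).surjective ⟨x, hxp⟩
    obtain ⟨s, hs, hsz⟩ := hc z
    refine hs (show s ∈ p from ?_)
    rw [hx, Submodule.mem_colon_singleton, Submodule.mem_bot]
    have h1 := congrArg (Groth.L04.LC.H0Equiv p (ModuleCat.of A M)) hsz
    rw [map_smul, map_zero, hz] at h1
    exact congrArg Subtype.val h1

/-- normalisation argument -/
theorem finite_H1_of_finite_normalization {D : Type u} [CommRing D] [IsDomain D] [IsNoetherianRing D]
    (hD : CAlg.IsUniversallyCatenary D) [Module.Finite D (integralClosure D (FractionRing D))]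
    (J : Ideal D) (hJ : (2 : ℕ∞) ≤ J.height) : Module.Finite D (LocCoh.H J 1 D) := by
  let C := integralClosure D (FractionRing D)
  haveI : IsNoetherianRing C := isNoetherianRing_iff.2 (isNoetherian_of_tower D inferInstance)
  haveI : IsIntegrallyClosed C :=
    integralClosure.isIntegrallyClosedOfFiniteExtension (R := D) (K := FractionRing D) (L := FractionRing D)
  have h2 : (2 : ℕ∞) ≤ LocCoh.idealDepth (J.map (algebraMap D C)) C := by
    rw [Groth.Agent.S5152.result]
    refine le_iInf₂ fun P hP => ?_
    let CP := Localization.AtPrime P.asIdeal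
    have hle : P.asIdeal.primeCompl ≤ nonZeroDivisors C := Ideal.primeCompl_le_nonZeroDivisors _
    haveI : IsIntegrallyClosed CP := isIntegrallyClosed_of_isLocalization CP P.asIdeal.primeCompl hle
    haveI : IsNoetherianRing CP := IsLocalization.isNoetherianRing P.asIdeal.primeCompl CP inferInstance
    have hdim : ¬ ringKrullDim CP ≤ 1 := by
      rw [IsLocalization.AtPrime.ringKrullDim_eq_height P.asIdeal CP]
      intro hle
      have hle1 : P.asIdeal.height ≤ 1 := by exact_mod_cast hle
      have hJP : J ≤ P.asIdeal.comap (algebraMap D C) := Ideal.map_le_iff_le_comap.1 hP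
      have hne : J ≠ ⊥ := fun h => by
        rw [h, Ideal.height_bot] at hJ
        exact absurd hJ (by decide)
      rcases (ENat.le_one_iff_eq_zero_or_eq_one).1 hle1 with h0 | h1
      · rw [Ideal.height_eq_zero_iff, IsDomain.minimalPrimes_eq_singleton_bot] at h0
        rw [Set.mem_singleton_iff.1 h0] at hJP
        refine hne (le_bot_iff.1 (hJP.trans (le_of_eq ?_)))
        exact Ideal.comap_bot_of_injective (algebraMap D C) fun a b h =>
          IsFractionRing.injective D (FractionRing D) (congrArg Subtype.val h)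
      · have h3 := hJ.trans (Ideal.height_mono hJP)
        rw [Groth.L10.Hull.height_comap_of_finite_normalization D hD P.asIdeal h1] at h3
        exact absurd h3 (by decide)
    have h3 := Groth.L06.NormalAscent.two_le_depth_of_normal (A := CP) (fun h => hdim h)
    have e : LocalizedModule P.asIdeal.primeCompl C ≃ₗ[CP] CP := LinearEquiv.refl _ _
    calc (2 : ℕ∞) ≤ LocCoh.depth CP CP := h3
      _ = _ := (Groth.L04.idealDepth_congr e).symm
  have h1 : Subsingleton (LocCoh.H (J.map (algebraMap D C)) 1 C) :=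
    (Groth.L04.LC.le_idealDepth_iff_H (I := J.map (algebraMap D C)) C 2).1 h2 1 Nat.one_lt_two
  haveI : Subsingleton (LocCoh.H J 1 C) := (Groth.L04.LC.subsingleton_H_map_iff (R' := C) J 1 C).1 h1
  exact finite_H1_sub J (Algebra.linearMap D C) fun a b h =>
    IsFractionRing.injective D (FractionRing D) (congrArg Subtype.val h)

end Groth.L10.H1Finite
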