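import Groth.Prelude.Def_CohDer
import Mathlib.CategoryTheory.Triangulated.Subcategory
import Mathlib.CategoryTheory.Adjunction.Additive
import Mathlib.CategoryTheory.Triangulated.Yoneda

universe v u
open CategoryTheory CategoryTheory.Limits CategoryTheory.Pretriangulated DirectSum ZeroObject

set_option backward.defeqAttrib.useBackward true
set_option backward.isDefEq.respectTransparency false
namespace Groth.L10

section
variable {D : Type u} [Category.{v} D] [Preadditive D] {ι : Type v} (X : ι → D) [HasCoproduct X]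

@[simp]
theorem homSum_of [DecidableEq ι] (K : D) (i : ι) (f : K ⟶ X i) :
    CohDer.homSumToHomCoprod K X (DirectSum.of _ i f) = f ≫ Sigma.ι X i := by
  classical
  simp only [CohDer.homSumToHomCoprod]
  exact (DirectSum.toAddMonoid_of (fun i => Preadditive.rightComp K (Sigma.ι X i)) i f :)

theorem homSum_map {K K' : D} (f : K' ⟶ K) (x : DirectSum ι fun i => K ⟶ X i) :
    CohDer.homSumToHomCoprod K' X (DirectSum.map (fun i => Preadditive.leftComp (X i) f) x) =
      f ≫ CohDer.homSumToHomCoprod K X x := by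
  classical
  induction x using DirectSum.induction_on with
  | zero => simp
  | of i g => simp [Preadditive.leftComp]
  | add a b ha hb => simp [ha, hb, Preadditive.comp_add]

theorem exists_map_eq {K K' : D} (f : K' ⟶ K) (x : DirectSum ι fun i => K' ⟶ X i)
    (h : ∀ i, ∃ g, f ≫ g = x i) :
    ∃ y : DirectSum ι fun i => K ⟶ X i, DirectSum.map (fun i => Preadditive.leftComp (X i) f) y = x := by
  classical
  choose g hg using h
  refine ⟨∑ i ∈ DFinsupp.support x, DirectSum.of _ i (g i), ?_⟩
  rw [map_sum]
  conv_rhs => rw [← DirectSum.sum_support_of x]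
  refine Finset.sum_congr rfl fun i _ => ?_
  rw [DirectSum.map_of]
  congr 1
  exact hg i

end

variable {D : Type u} [Category.{v} D] [Preadditive D] [HasCoproducts.{v} D]

theorem isCompactObject_of_adj {K : D} (F G : D ⥤ D) [G.Additive] (adj : F ⊣ G)
    [∀ ι : Type v, PreservesColimitsOfShape (Discrete ι) G] (h : CohDer.IsCompactObject K) :
    CohDer.IsCompactObject (F.obj K) := by
  intro ι X
  classical
  have := adj.left_adjoint_additive
  let e : (F.obj K ⟶ ∐ X) ≃ (K ⟶ ∐ fun i => G.obj (X i)) :=
    (adj.homEquiv _ _).trans ((PreservesCoproduct.iso G X).homToEquiv)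
  let m : DirectSum ι (fun i => F.obj K ⟶ X i) →+ DirectSum ι (fun i => K ⟶ G.obj (X i)) :=
    DirectSum.map fun i => (adj.homAddEquiv K (X i)).toAddMonoidHom
  have hm : Function.Bijective m :=
    ⟨(DirectSum.map_injective _).2 fun i => (adj.homAddEquiv K (X i)).injective,
      (DirectSum.map_surjective _).2 fun i => (adj.homAddEquiv K (X i)).surjective⟩
  have key : ∀ x, e (CohDer.homSumToHomCoprod (F.obj K) X x) = CohDer.homSumToHomCoprod K _ (m x) := by
    have he : ∀ a b, e (a + b) = e a + e b := fun a b => by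
      simp [e, Adjunction.homEquiv_unit, Preadditive.comp_add, Preadditive.add_comp]
    have he0 : e 0 = 0 := by simpa using he 0 0
    intro x
    induction x using DirectSum.induction_on with
    | zero => simp [he0]
    | of i g =>
      simp only [homSum_of, m, DirectSum.map_of]
      have hh : G.map (Sigma.ι X i) ≫ (PreservesCoproduct.iso G X).hom = Sigma.ι (fun i => G.obj (X i)) i := by
        rw [← Iso.eq_comp_inv, PreservesCoproduct.inv_hom]; simp
      simp [e, Adjunction.homEquiv_unit, Adjunction.homAddEquiv, hh]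
    | add a b ha hb => simp [he, ha, hb]
  exact (Function.Bijective.of_comp_iff' e.bijective _).1 (by
    rw [show ⇑e ∘ ⇑(CohDer.homSumToHomCoprod (F.obj K) X) = ⇑(CohDer.homSumToHomCoprod K _) ∘ m from funext key]
    exact (h ι _).comp hm)

theorem s0475 [Limits.HasZeroObject D] [HasShift D ℤ]
    [∀ n : ℤ, (shiftFunctor D n).Additive] [Pretriangulated D] :
    ObjectProperty.IsTriangulated (fun K : D => CohDer.IsCompactObject K) := by
  have : ObjectProperty.IsClosedUnderIsomorphisms (fun K : D => CohDer.IsCompactObject K) := ⟨fun {K L} e hK ι X => by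
    classical
    have hb := hK ι X
    refine ⟨fun a b hab => ?_, fun g => ?_⟩
    · have : DirectSum.map (fun i => Preadditive.leftComp (X i) e.hom) a =
          DirectSum.map (fun i => Preadditive.leftComp (X i) e.hom) b :=
        hb.1 (by rw [homSum_map, homSum_map, hab])
      exact (DirectSum.map_injective _).2 (fun i x y hxy => (cancel_epi e.hom).1 hxy) this
    · obtain ⟨x, hx⟩ := hb.2 (e.hom ≫ g)
      exact ⟨DirectSum.map (fun i => Preadditive.leftComp (X i) e.inv) x, by simp [homSum_map, hx]⟩⟩
  refine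
    { exists_zero := ⟨0, isZero_zero D, fun ι X => ⟨fun a b _ => ?_, fun g => ⟨0, (isZero_zero D).eq_of_src _ _⟩⟩⟩
      isStableUnderShiftBy := fun a => ⟨fun K hK => ?_⟩
      toIsTriangulatedClosed₂ := .mk' fun T hT h1 h3 => ?_ }
  · ext i
  · exact isCompactObject_of_adj (shiftFunctor D a) (shiftFunctor D (-a)) (shiftEquiv D a).toAdjunction hK
  · intro ι X
    classical
    have shiftC : ∀ (a : ℤ) (K : D), CohDer.IsCompactObject K → CohDer.IsCompactObject (K⟦a⟧) :=
      fun a K hK => isCompactObject_of_adj (shiftFunctor D a) (shiftFunctor D (-a)) (shiftEquiv D a).toAdjunction hK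
    let M := fun {K K' : D} (f : K' ⟶ K) => DirectSum.map (fun i => Preadditive.leftComp (X i) f)
    have hM : ∀ {K K' : D} (f : K' ⟶ K) (x) (i : ι), M f x i = f ≫ x i := fun f x i => DirectSum.map_apply _ i x
    refine ⟨(injective_iff_map_eq_zero _).2 fun x hx => ?_, fun φ => ?_⟩
    · have hx1 : M T.mor₁ x = 0 := (h1 ι X).1 (by simp [M, homSum_map, hx])
      obtain ⟨y, hy⟩ := exists_map_eq X T.mor₂ x fun i => by
        obtain ⟨g, hg⟩ := Triangle.yoneda_exact₂ T hT (x i) (by
          simpa [hM] using congr($hx1 i))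
        exact ⟨g, hg.symm⟩
      have h23 : T.mor₂ ≫ CohDer.homSumToHomCoprod _ X y = 0 := by rw [← homSum_map, hy, hx]
      obtain ⟨χ, hχ⟩ := Triangle.yoneda_exact₃ T hT _ h23
      obtain ⟨z, rfl⟩ := (shiftC 1 _ h1 ι X).2 χ
      have : y = M T.mor₃ z := (h3 ι X).1 (by simp [M, homSum_map, hχ])
      rw [← hy, this]
      ext i
      simp [M, Preadditive.leftComp, ← Category.assoc, comp_distTriang_mor_zero₂₃ _ hT]
    · obtain ⟨a, ha⟩ := (h1 ι X).2 (T.mor₁ ≫ φ)
      have hT' := inv_rot_of_distTriang _ hT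
      have hz : T.invRotate.mor₁ ≫ T.mor₁ = 0 := comp_distTriang_mor_zero₁₂ _ hT'
      have ha0 : M T.invRotate.mor₁ a = 0 := (shiftC (-1) _ h3 ι X).1 (by
        refine (homSum_map X T.invRotate.mor₁ a).trans ?_
        erw [ha, map_zero, ← Category.assoc, hz, zero_comp])
      obtain ⟨b, hb⟩ := exists_map_eq X T.mor₁ a fun i => by
        obtain ⟨g, hg⟩ := Triangle.yoneda_exact₂ _ hT' (a i) ((hM _ a i).symm.trans congr($ha0 i))
        exact ⟨g, hg.symm⟩
      obtain ⟨ψ, hψ⟩ := Triangle.yoneda_exact₂ T hT (φ - CohDer.homSumToHomCoprod _ X b) (by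
        rw [Preadditive.comp_sub, ← homSum_map, hb, ha, sub_self])
      obtain ⟨c, rfl⟩ := (h3 ι X).2 ψ
      exact ⟨b + M T.mor₂ c, by simp [M, homSum_map, ← hψ]⟩

end Groth.L10
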