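import Groth.Agent.L10.HomotopyProd
import Groth.Agent.L10.Compact
import Mathlib.Algebra.Homology.DerivedCategory.KProjective
import Mathlib.Algebra.Category.ModuleCat.Projective
import Mathlib.Algebra.Category.ModuleCat.AB
import Mathlib.CategoryTheory.Localization.LocallySmall
import Mathlib.Algebra.Category.ModuleCat.Subobject
import Mathlib.Algebra.Homology.ShortComplex.ModuleCat

/-! The derived category of modules is compactly generated. -/

universe w v u

open CategoryTheory CategoryTheory.Limits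

set_option backward.defeqAttrib.useBackward true
set_option backward.isDefEq.respectTransparency false
namespace Groth.L10.DerivedModGen

/-- A derived category with small morphisms, for Grothendieck abelian categories. -/
@[instance_reducible]
noncomputable def smallDerived (C : Type u) [Category.{v} C] [Abelian C] [IsGrothendieckAbelian.{v} C] :
    HasDerivedCategory.{v} C :=
  letI := HasDerivedCategory.standard C
  haveI : LocallySmall.{v} (DerivedCategory C) :=
    ⟨fun _ _ => small_of_injective (f := (KInjDerived.equiv (A := C)).inverse.map)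
      (KInjDerived.equiv (A := C)).inverse.map_injective⟩
  MorphismProperty.hasLocalizationOfLocallySmall _ DerivedCategory.Q

variable (R : Type v) [Ring R]

local notation "qK" => HomotopyCategory.quotient (ModuleCat R) (ComplexShape.up ℤ)

/-- The free module of rank one in degree `n`. -/
noncomputable def gen (n : ℤ) : CochainComplex (ModuleCat.{v} R) ℤ :=
  (HomologicalComplex.single _ _ n).obj (ModuleCat.of R R)

instance (n : ℤ) : (gen R n).IsKProjective := by
  have : (gen R n).IsStrictlyLE n := (CochainComplex.isStrictlyLE_iff _ _).2 fun i hi =>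
    HomologicalComplex.isZero_single_obj_X _ _ _ _ (by omega)
  have : ∀ k, Projective ((gen R n).X k) := fun k => by
    by_cases h : k = n
    · exact Projective.of_iso (HomologicalComplex.singleObjXIsoOfEq (ComplexShape.up ℤ) n (ModuleCat.of R R) k h).symm inferInstance
    · exact (HomologicalComplex.isZero_single_obj_X _ _ _ _ h).projective
  exact CochainComplex.isKProjective_of_projective _ n

variable {R}

theorem exists_finset_eq {ι : Type v} [DecidableEq ι] (K : ι → CochainComplex (ModuleCat.{v} R) ℤ) (n : ℤ)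
    (z : gen R n ⟶ ∐ K) :
    ∃ s : Finset ι, z = ∑ i ∈ s, z ≫ Sigma.desc (Pi.single i (𝟙 (K i))) ≫ Sigma.ι K i := by
  let P : (∐ K).X n → Prop := fun x => ∃ s : Finset ι, ∀ s', s ⊆ s' →
    x = ∑ i ∈ s', (Sigma.desc (Pi.single i (𝟙 (K i))) ≫ Sigma.ι K i).f n x
  let hl := isColimitOfHasCoproductOfPreservesColimit (HomologicalComplex.eval (ModuleCat.{v} R) (ComplexShape.up ℤ) n) K
  let S : Submodule R ((∐ K).X n) := ⨆ i, LinearMap.range ((Sigma.ι K i).f n).hom
  have hS : S = ⊤ := by
    have h0 : ModuleCat.ofHom S.mkQ = 0 := Cofan.IsColimit.hom_ext hl _ _ fun i => by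
      ext y
      refine (Submodule.Quotient.mk_eq_zero S).2 ?_
      exact Submodule.mem_iSup_of_mem i ⟨y, rfl⟩
    rw [← S.ker_mkQ]
    ext y
    simpa using congr($(h0).hom y)
  have hP : ∀ x, P x := fun x => by
    refine Submodule.iSup_induction (motive := P) _ (hS ▸ Submodule.mem_top : x ∈ S) ?_ ⟨∅, fun s' _ => by simp⟩ ?_
    · rintro j _ ⟨y, rfl⟩
      refine ⟨{j}, fun s' hs' => ?_⟩
      rw [Finset.sum_eq_single j (fun i _ hij => ?_) (fun h => absurd (hs' (Finset.mem_singleton_self j)) h)]
      · change _ = ((Sigma.ι K j).f n ≫ (Sigma.desc (Pi.single j (𝟙 (K j))) ≫ Sigma.ι K j).f n) y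
        rw [← HomologicalComplex.comp_f, Sigma.ι_desc_assoc, Pi.single_eq_same, Category.id_comp]
      · change ((Sigma.ι K j).f n ≫ (Sigma.desc (Pi.single i (𝟙 (K i))) ≫ Sigma.ι K i).f n) y = 0
        rw [← HomologicalComplex.comp_f, Sigma.ι_desc_assoc, Pi.single_eq_of_ne (Ne.symm hij), zero_comp]
        rfl
    · rintro a b ⟨s, hs⟩ ⟨t, ht⟩
      refine ⟨s ∪ t, fun s' h => ?_⟩
      simp only [map_add, Finset.sum_add_distrib]
      rw [← hs s' (Finset.union_subset_left h), ← ht s' (Finset.union_subset_right h)]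
  obtain ⟨s, hs⟩ := hP (((HomologicalComplex.singleObjXSelf (ComplexShape.up ℤ) n (ModuleCat.of R R)).inv ≫ z.f n) (1 : R))
  refine ⟨s, HomologicalComplex.from_single_hom_ext ?_⟩
  rw [← cancel_epi (HomologicalComplex.singleObjXSelf (ComplexShape.up ℤ) n (ModuleCat.of R R)).inv]
  refine ModuleCat.hom_ext (LinearMap.ext_ring ?_)
  refine (hs s le_rfl).trans ?_
  have hsum : ∀ (g : ι → (gen R n ⟶ ∐ K)), (∑ i ∈ s, g i).f n = ∑ i ∈ s, (g i).f n :=
    fun g => (HomologicalComplex.eval (ModuleCat.{v} R) (ComplexShape.up ℤ) n).map_sum g s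
  simp only [hsum, Preadditive.comp_sum, ModuleCat.hom_sum, LinearMap.sum_apply]
  rfl

variable [HasDerivedCategory.{v} (ModuleCat.{v} R)] [HasCoproducts.{v} (DerivedCategory (ModuleCat.{v} R))]

variable (R) in
/-- The generators of the derived category. -/
noncomputable def E (n : ULift.{v} ℤ) : DerivedCategory (ModuleCat.{v} R) :=
  DerivedCategory.Qh.obj ((qK).obj (gen R n.down))

theorem compact (n : ULift.{v} ℤ) : CohDer.IsCompactObject (E R n) := by
  classical
  intro ι X
  let pr : ∀ i, ∐ X ⟶ X i := fun i => Sigma.desc (Pi.single i (𝟙 (X i)))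
  have hpr : ∀ (x : DirectSum ι fun i => E R n ⟶ X i) i, CohDer.homSumToHomCoprod (E R n) X x ≫ pr i = x i := by
    intro x i
    induction x using DirectSum.induction_on with
    | zero => simp
    | of j g =>
      rw [Groth.L10.homSum_of, Category.assoc, Sigma.ι_desc]
      by_cases h : j = i
      · subst h; simp
      · rw [Pi.single_eq_of_ne h, comp_zero, DirectSum.of_eq_of_ne _ _ _ (Ne.symm h)]
    | add a b ha hb => simp [ha, hb]
  refine ⟨fun a b hab => DFinsupp.ext fun i => by rw [← hpr a i, hab, hpr b i], fun f => ?_⟩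
  let K := fun i => (DerivedCategory.Qh.objPreimage (X i)).as
  let e : ∀ i, DerivedCategory.Qh.obj ((qK).obj (K i)) ≅ X i := fun i => DerivedCategory.Qh.objObjPreimageIso (X i)
  let φ : ∐ X ⟶ DerivedCategory.Qh.obj ((qK).obj (∐ K)) :=
    Sigma.desc fun i => (e i).inv ≫ DerivedCategory.Qh.map ((qK).map (Sigma.ι K i))
  obtain ⟨ψ, hψ⟩ := (DerivedProd.hom_from_coproduct_bijective K (∐ X)).surjective fun i => (e i).hom ≫ Sigma.ι X i
  have hψ' : ∀ i, DerivedCategory.Qh.map ((qK).map (Sigma.ι K i)) ≫ ψ = (e i).hom ≫ Sigma.ι X i := congrFun hψ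
  have hφψ : φ ≫ ψ = 𝟙 _ := Sigma.hom_ext _ _ fun i => by simp [φ, hψ']
  obtain ⟨g, hg⟩ := (CochainComplex.IsKProjective.Qh_map_bijective (gen R n.down) ((qK).obj (∐ K))).surjective (f ≫ φ)
  obtain ⟨z, rfl⟩ := (qK).map_surjective g
  obtain ⟨s, hs⟩ := exists_finset_eq K n.down z
  refine ⟨∑ i ∈ s, DirectSum.of _ i (DerivedCategory.Qh.map ((qK).map (z ≫ Sigma.desc (Pi.single i (𝟙 (K i))))) ≫ (e i).hom), ?_⟩
  have hf : f = DerivedCategory.Qh.map ((qK).map z) ≫ ψ := by rw [hg, Category.assoc, hφψ, Category.comp_id]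
  have hz : DerivedCategory.Qh.map ((qK).map z) = ∑ i ∈ s, DerivedCategory.Qh.map ((qK).map
      (z ≫ Sigma.desc (Pi.single i (𝟙 (K i))))) ≫ DerivedCategory.Qh.map ((qK).map (Sigma.ι K i)) := by
    refine (congrArg (fun a => DerivedCategory.Qh.map ((qK).map a)) hs).trans ?_
    simp only [Functor.map_sum, Functor.map_comp, Category.assoc]
  rw [hf, hz, map_sum]
  simp only [Preadditive.sum_comp, Groth.L10.homSum_of]
  refine Finset.sum_congr rfl fun i _ => ?_
  simp [hψ']

theorem generates : CohDer.Generates (E R) := by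
  intro X hX
  let K := (DerivedCategory.Qh.objPreimage X).as
  let e : DerivedCategory.Qh.obj ((qK).obj K) ≅ X := DerivedCategory.Qh.objObjPreimageIso X
  have hK : ∀ m : ℤ, K.ExactAt m := fun m => by
    rw [HomologicalComplex.exactAt_iff' K (m - 1) m (m + 1) (by simp) (by simp),
      ShortComplex.moduleCat_exact_iff]
    intro x hx
    let φ : ModuleCat.of R R ⟶ K.X m := ModuleCat.ofHom (LinearMap.toSpanSingleton R (K.X m) x)
    have hφ : ∀ k, (ComplexShape.up ℤ).Rel m k → φ ≫ K.d m k = 0 := fun k hk => by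
      obtain rfl : m + 1 = k := hk
      refine ModuleCat.hom_ext (LinearMap.ext_ring ?_)
      simpa [φ] using hx
    let t : gen R m ⟶ K := HomologicalComplex.mkHomFromSingle φ hφ
    have h0 : DerivedCategory.Qh.map ((qK).map t) = 0 := by
      have := hX ⟨m⟩ 0 (DerivedCategory.Qh.map ((qK).map t) ≫ e.hom ≫ ((shiftFunctorZero _ ℤ).app X).inv)
      rw [← Category.assoc, Preadditive.IsIso.comp_right_eq_zero, Preadditive.IsIso.comp_right_eq_zero] at this
      exact this
    have h1 : (qK).map t = (qK).map 0 :=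
      (CochainComplex.IsKProjective.Qh_map_bijective (gen R m) ((qK).obj K)).injective (by simpa using h0)
    let H := HomotopyCategory.homotopyOfEq _ _ h1
    have hc : t.f m = H.hom m (m - 1) ≫ K.d (m - 1) m := by
      have := H.comm m
      rw [dNext_eq _ (show (ComplexShape.up ℤ).Rel m (m + 1) from rfl),
        prevD_eq _ (show (ComplexShape.up ℤ).Rel (m - 1) m by simp), HomologicalComplex.zero_f, add_zero] at this
      rw [show (gen R m).d m (m + 1) = 0 from (HomologicalComplex.isZero_single_obj_X _ _ _ _ (by omega)).eq_of_tgt _ _] at this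
      simpa using this
    refine ⟨((HomologicalComplex.singleObjXSelf (ComplexShape.up ℤ) m (ModuleCat.of R R)).inv ≫ H.hom m (m - 1)) (1 : R), ?_⟩
    change ((HomologicalComplex.singleObjXSelf (ComplexShape.up ℤ) m (ModuleCat.of R R)).inv ≫ H.hom m (m - 1) ≫ K.d (m - 1) m) (1 : R) = x
    rw [← hc, HomologicalComplex.mkHomFromSingle_f, Iso.inv_hom_id_assoc]
    simp [φ]
  refine IsZero.of_iso ?_ e.symm
  rw [IsZero.iff_id_eq_zero, ← DerivedCategory.Qh.map_id]
  have : QuasiIso (0 : K ⟶ K) := ⟨fun i => quasiIsoAt_iff_exactAt' _ _ (hK i) |>.2 (hK i)⟩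
  have hiso : IsIso (DerivedCategory.Qh.map ((qK).map (0 : K ⟶ K))) := by
    rw [show DerivedCategory.Qh.map ((qK).map (0 : K ⟶ K)) = (DerivedCategory.quotientCompQhIso _).hom.app K ≫
      DerivedCategory.Q.map (0 : K ⟶ K) ≫ (DerivedCategory.quotientCompQhIso _).inv.app K by simp]
    infer_instance
  simp only [Functor.map_zero] at hiso
  rw [DerivedCategory.Qh.map_id]
  exact (cancel_mono (0 : DerivedCategory.Qh.obj ((qK).obj K) ⟶ DerivedCategory.Qh.obj ((qK).obj K))).1 (by simp)

theorem isCompactlyGenerated : CohDer.IsCompactlyGenerated (DerivedCategory (ModuleCat.{v} R)) :=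
  ⟨ULift.{v} ℤ, E R, compact, generates⟩

end Groth.L10.DerivedModGen
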