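import Groth.Agent.L10.Compact
import Groth.Prelude.Def_DerLim

/-! Presentation of objects as homotopy colimits, given compact generators. -/

universe v u
open CategoryTheory CategoryTheory.Limits CategoryTheory.Pretriangulated DirectSum

set_option backward.defeqAttrib.useBackward true
set_option backward.isDefEq.respectTransparency false
namespace Groth.L10.HocolimGen

variable {D : Type u} [Category.{v} D] [Preadditive D] [HasCoproducts.{v} D] [HasZeroObject D] [HasShift D ℤ]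
  [∀ n : ℤ, (shiftFunctor D n).Additive]

theorem compact_shift' {K : D} (hK : CohDer.IsCompactObject K) (a : ℤ) : CohDer.IsCompactObject (K⟦a⟧) :=
  isCompactObject_of_adj (shiftFunctor D a) (shiftFunctor D (-a)) (shiftEquiv D a).toAdjunction hK

section
variable (K : ℕ → D) (f : ∀ n, K n ⟶ K (n + 1)) [HasCoproduct K]

/-- Finite sums of maps into the summands. -/
noncomputable def homSum (C : D) : (DirectSum ℕ fun n => C ⟶ K n) →+ (C ⟶ ∐ K) :=
  DirectSum.toAddMonoid fun n => Preadditive.rightComp C (Sigma.ι K n)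

@[simp]
theorem homSum_of' (C : D) (n : ℕ) (g : C ⟶ K n) : homSum K C (DirectSum.of _ n g) = g ≫ Sigma.ι K n :=
  DirectSum.toAddMonoid_of _ _ _

/-- `Hom(C, ∐ K)` for compact `C`, with a countable index type. -/
theorem countable_bij {C : D} (hC : CohDer.IsCompactObject C) :
    ∀ φ : C ⟶ ∐ K, ∃ x : DirectSum ℕ fun n => C ⟶ K n, homSum K C x = φ := by
  classical
  intro φ
  let K' : ULift.{v} ℕ → D := fun n => K n.down
  let e : (∐ K) ≅ ∐ K' :=
    { hom := Sigma.desc fun n => Sigma.ι K' ⟨n⟩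
      inv := Sigma.desc fun n => Sigma.ι K n.down }
  obtain ⟨x, hx⟩ := (hC _ K').2 (φ ≫ e.hom)
  have h : ∀ y, ∃ z : DirectSum ℕ fun n => C ⟶ K n,
      homSum K C z = CohDer.homSumToHomCoprod C K' y ≫ e.inv := fun y => by
    induction y using DirectSum.induction_on with
    | zero => exact ⟨0, by simp⟩
    | of k g => exact ⟨DirectSum.of _ k.down g, by simp [e, K', homSum_of]⟩
    | add a b ha hb =>
      obtain ⟨za, ha⟩ := ha
      obtain ⟨zb, hb⟩ := hb
      exact ⟨za + zb, by simp [ha, hb]⟩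
  obtain ⟨z, hz⟩ := h x
  exact ⟨z, by rw [hz, hx, Category.assoc, e.hom_inv_id, Category.comp_id]⟩

theorem sub_shift_injective {C : D} (hC : CohDer.IsCompactObject C) (φ : C ⟶ ∐ K)
    (h : φ ≫ (𝟙 _ - DerLim.shiftMap K f) = 0) : φ = 0 := by
  classical
  obtain ⟨x, rfl⟩ := countable_bij K hC φ
  let p : ∀ n, (∐ K) ⟶ K n := fun n => Sigma.desc fun j => if hjn : j = n then eqToHom (by rw [hjn]) else 0
  have hp : ∀ (x : DirectSum ℕ fun n => C ⟶ K n) n, homSum K C x ≫ p n = x n := by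
    intro x n
    induction x using DirectSum.induction_on with
    | zero => simp
    | of k g =>
      rcases eq_or_ne k n with rfl | hk
      · simp [p]
      · simp [p, hk, DirectSum.of_eq_of_ne _ _ _ hk.symm]
    | add a b ha hb => simp [ha, hb]
  have h0 : (𝟙 _ - DerLim.shiftMap K f) ≫ p 0 = p 0 := Sigma.hom_ext _ _ fun j => by
    rcases eq_or_ne j 0 with rfl | hj
    · simp [p, DerLim.shiftMap]
    · simp [p, DerLim.shiftMap, hj]
  have h1 : ∀ n, (𝟙 _ - DerLim.shiftMap K f) ≫ p (n + 1) = p (n + 1) - p n ≫ f n := fun n => Sigma.hom_ext _ _ fun j => by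
    rcases eq_or_ne j (n + 1) with rfl | hj
    · simp [p, DerLim.shiftMap]
    · rcases eq_or_ne j n with rfl | hj'
      · simp [p, DerLim.shiftMap]
      · simp [p, DerLim.shiftMap, hj, hj']
  have hx : ∀ n, x n = 0 := by
    intro n
    induction n with
    | zero => rw [← hp, ← h0, reassoc_of% h, zero_comp]
    | succ n ih =>
      have h2 : homSum K C x ≫ (𝟙 _ - DerLim.shiftMap K f) ≫ p (n + 1) = 0 := by
        rw [reassoc_of% h, zero_comp]
      rwa [h1, Preadditive.comp_sub, hp, ← Category.assoc, hp, ih, zero_comp, sub_zero] at h2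
  rw [show x = 0 from DFinsupp.ext hx, map_zero]

end

variable [Pretriangulated D] [HasColimitsOfShape (Discrete ℕ) D]

theorem exists_presentation {ι : Type v} (E : ι → D) (hc : ∀ i, CohDer.IsCompactObject (E i)) (hg : CohDer.Generates E) (X : D) :
    ∃ (K : ℕ → D) (f : ∀ n, K n ⟶ K (n + 1)) (i : ∀ n, K n ⟶ X),
      DerLim.IsHocolim K f X i ∧
      (∃ (κ : Type v) (a : κ → ι) (m : κ → ℤ), Nonempty (K 0 ≅ ∐ (fun k => (shiftFunctor D (m k)).obj (E (a k))))) ∧
      ∀ n, ∃ (κ : Type v) (a : κ → ι) (m : κ → ℤ) (y : (∐ fun k => (shiftFunctor D (m k)).obj (E (a k))) ⟶ K n)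
        (z : K (n + 1) ⟶ (shiftFunctor D (1 : ℤ)).obj (∐ fun k => (shiftFunctor D (m k)).obj (E (a k)))),
        Triangle.mk y (f n) z ∈ distinguishedTriangles := by
  classical
  have step : ∀ s : Σ K : D, (K ⟶ X), ∃ (s' : Σ K : D, (K ⟶ X)) (f : s.1 ⟶ s'.1), f ≫ s'.2 = s.2 ∧
      (∀ (j : ι) (k : ℤ) (ψ : (E j)⟦k⟧ ⟶ s.1), ψ ≫ s.2 = 0 → ψ ≫ f = 0) ∧
      ∃ (κ : Type v) (a : κ → ι) (m : κ → ℤ) (y : (∐ fun k => (shiftFunctor D (m k)).obj (E (a k))) ⟶ s.1)
        (z : s'.1 ⟶ (shiftFunctor D (1 : ℤ)).obj (∐ fun k => (shiftFunctor D (m k)).obj (E (a k)))),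
        Triangle.mk y f z ∈ distinguishedTriangles := by
    rintro ⟨K, i⟩
    let κ : Type v := Σ j : ι, Σ k : ℤ, {ψ : (E j)⟦k⟧ ⟶ K // ψ ≫ i = 0}
    let y : (∐ fun q : κ => (shiftFunctor D q.2.1).obj (E q.1)) ⟶ K := Sigma.desc fun q => q.2.2.1
    obtain ⟨K', f, z, hT⟩ := distinguished_cocone_triangle y
    have hy : y ≫ i = 0 := Sigma.hom_ext _ _ fun q => by simpa [y] using q.2.2.2
    obtain ⟨i', hi'⟩ := Triangle.yoneda_exact₂ _ hT i hy
    refine ⟨⟨K', i'⟩, f, hi'.symm, fun j k ψ hψ => ?_, κ, fun q => q.1, fun q => q.2.1, y, z, hT⟩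
    have h1 : Sigma.ι (fun q : κ => (shiftFunctor D q.2.1).obj (E q.1)) ⟨j, k, ψ, hψ⟩ ≫ y = ψ := by simp [y]
    have h2 := comp_distTriang_mor_zero₁₂ _ hT
    dsimp at h2
    rw [← h1, Category.assoc, h2, comp_zero]
  choose next tr htr hkill hdist using step
  let κ₀ : Type v := Σ j : ι, Σ k : ℤ, ((E j)⟦k⟧ ⟶ X)
  let i₀ : (∐ fun q : κ₀ => (shiftFunctor D q.2.1).obj (E q.1)) ⟶ X := Sigma.desc fun q => q.2.2
  let S : ℕ → Σ K : D, (K ⟶ X) := fun n => Nat.rec ⟨_, i₀⟩ (fun _ s => next s) n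
  let K : ℕ → D := fun n => (S n).1
  let f : ∀ n, K n ⟶ K (n + 1) := fun n => tr (S n)
  let i : ∀ n, K n ⟶ X := fun n => (S n).2
  have hfi : ∀ n, f n ≫ i (n + 1) = i n := fun n => htr (S n)
  refine ⟨K, f, i, ?_, ⟨κ₀, fun q => q.1, fun q => q.2.1, ⟨Iso.refl _⟩⟩, fun n => hdist (S n)⟩
  obtain ⟨L, π, c, hT⟩ := distinguished_cocone_triangle (𝟙 (∐ K) - DerLim.shiftMap K f)
  have hdi : (𝟙 (∐ K) - DerLim.shiftMap K f) ≫ Sigma.desc i = 0 := Sigma.hom_ext _ _ fun n => by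
    simp [DerLim.shiftMap, hfi]
  obtain ⟨θ, hθ⟩ := Triangle.yoneda_exact₂ _ hT _ hdi
  dsimp at θ hθ
  have hπ : ∀ n, f n ≫ Sigma.ι K (n + 1) ≫ π = Sigma.ι K n ≫ π := fun n => by
    have h0 := comp_distTriang_mor_zero₁₂ _ hT
    dsimp at h0
    have := congrArg (Sigma.ι K n ≫ ·) h0
    simp [DerLim.shiftMap, sub_eq_zero] at this
    exact this.symm
  have hπθ : ∀ n, Sigma.ι K n ≫ π ≫ θ = i n := fun n => by rw [← hθ]; simp
  have push : ∀ (C : D) (N : ℕ) (ψ : C ⟶ K N) (N' : ℕ), N ≤ N' →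
      ∃ ψ' : C ⟶ K N', ψ' ≫ Sigma.ι K N' ≫ π = ψ ≫ Sigma.ι K N ≫ π := fun C N ψ N' h => by
    induction N', h using Nat.le_induction with
    | base => exact ⟨ψ, rfl⟩
    | succ N' _ ih =>
      obtain ⟨ψ', hψ'⟩ := ih
      exact ⟨ψ' ≫ f N', by rw [Category.assoc, hπ, hψ']⟩
  have surj : ∀ (j : ι) (k : ℤ) (φ : (E j)⟦k⟧ ⟶ X), ∃ φ', φ' ≫ θ = φ := fun j k φ => by
    refine ⟨Sigma.ι (fun q : κ₀ => (shiftFunctor D q.2.1).obj (E q.1)) ⟨j, k, φ⟩ ≫ Sigma.ι K 0 ≫ π, ?_⟩
    rw [Category.assoc, Category.assoc, hπθ]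
    simp [i, S, i₀]
  have inj : ∀ (j : ι) (k : ℤ) (φ : (E j)⟦k⟧ ⟶ L), φ ≫ θ = 0 → φ = 0 := by
    intro j k φ hφ
    have hC := compact_shift' (hc j) k
    let adj := (shiftEquiv D (1 : ℤ)).symm.toAdjunction
    have hφc : φ ≫ c = 0 := by
      have h1 : (adj.homEquiv _ _).symm (φ ≫ c) = 0 := by
        refine sub_shift_injective K f (compact_shift' hC (-1)) _ ?_
        refine (adj.homEquiv_naturality_right_symm (φ ≫ c) (𝟙 (∐ K) - DerLim.shiftMap K f)).symm.trans ?_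
        have h2 := comp_distTriang_mor_zero₂₃ _ (rot_of_distTriang _ hT)
        dsimp [Triangle.rotate] at h2
        rw [Preadditive.comp_neg, neg_eq_zero] at h2
        change (adj.homEquiv _ _).symm ((φ ≫ c) ≫ (shiftFunctor D (1 : ℤ)).map _) = 0
        rw [Category.assoc, h2, comp_zero]
        simp [Adjunction.homEquiv_counit]
      have h3 := congrArg (adj.homEquiv _ _) h1
      rw [Equiv.apply_symm_apply] at h3
      rw [h3]
      simp [Adjunction.homEquiv_unit]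
    obtain ⟨χ, hχ⟩ := Triangle.coyoneda_exact₃ _ hT φ hφc
    dsimp at χ hχ
    obtain ⟨x, rfl⟩ := countable_bij K hC χ
    have hN : ∃ (N : ℕ) (ψ : (E j)⟦k⟧ ⟶ K N), ψ ≫ Sigma.ι K N ≫ π = φ := by
      rw [hχ]
      clear hχ hφc hφ φ
      induction x using DirectSum.induction_on with
      | zero => exact ⟨0, 0, by simp⟩
      | of n g => exact ⟨n, g, by simp⟩
      | add a b ha hb =>
        obtain ⟨N₁, ψ₁, h₁⟩ := ha
        obtain ⟨N₂, ψ₂, h₂⟩ := hb
        obtain ⟨ψ₁', h₁'⟩ := push _ N₁ ψ₁ (max N₁ N₂) (le_max_left _ _)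
        obtain ⟨ψ₂', h₂'⟩ := push _ N₂ ψ₂ (max N₁ N₂) (le_max_right _ _)
        exact ⟨_, ψ₁' + ψ₂', by simp [Preadditive.add_comp, h₁', h₂', h₁, h₂]⟩
    obtain ⟨N, ψ, hψ⟩ := hN
    have h4 : ψ ≫ i N = 0 := by
      rw [← hπθ, ← hφ, ← hψ]
      simp
    rw [← hψ, ← hπ, reassoc_of% (hkill (S N) j k ψ h4 : ψ ≫ f N = 0), zero_comp]
  have hiso : IsIso θ := by
    obtain ⟨Z, q, δ, hT'⟩ := distinguished_cocone_triangle θ
    refine (Triangle.isZero₃_iff_isIso₁ _ hT').1 (hg Z fun j n φ => ?_)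
    let adjn := (shiftEquiv D n).symm.toAdjunction
    have key : ∀ g : (E j)⟦(-n)⟧ ⟶ Z, g = 0 := by
      intro g
      let adj := (shiftEquiv D (1 : ℤ)).symm.toAdjunction
      have hgd : g ≫ δ = 0 := by
        let e := (shiftFunctorAdd' D (-n) (-1) (-n + -1) rfl).app (E j)
        have h1 : e.hom ≫ (adj.homEquiv _ _).symm (g ≫ δ) = 0 := by
          refine inj j _ _ ?_
          rw [Category.assoc]
          refine (congrArg (e.hom ≫ ·) (adj.homEquiv_naturality_right_symm (g ≫ δ) θ).symm).trans ?_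
          have h2 := comp_distTriang_mor_zero₂₃ _ (rot_of_distTriang _ hT')
          dsimp [Triangle.rotate] at h2
          rw [Preadditive.comp_neg, neg_eq_zero] at h2
          change e.hom ≫ (adj.homEquiv _ _).symm ((g ≫ δ) ≫ (shiftFunctor D (1 : ℤ)).map θ) = 0
          rw [Category.assoc, h2, comp_zero]
          simp [Adjunction.homEquiv_counit]
        have h3 : (adj.homEquiv _ _).symm (g ≫ δ) = 0 := by rwa [← cancel_epi e.hom, comp_zero]
        have h4 := congrArg (adj.homEquiv _ _) h3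
        rw [Equiv.apply_symm_apply] at h4
        rw [h4]
        simp [Adjunction.homEquiv_unit]
      obtain ⟨χ, hχ⟩ := Triangle.coyoneda_exact₃ _ hT' g hgd
      obtain ⟨φ', rfl⟩ := surj j _ χ
      have h5 := comp_distTriang_mor_zero₁₂ _ hT'
      dsimp at h5 hχ
      rw [hχ, Category.assoc, h5, comp_zero]
    have h6 := congrArg (adjn.homEquiv _ _) (key ((adjn.homEquiv _ _).symm φ))
    rw [Equiv.apply_symm_apply] at h6
    rw [h6]
    simp [Adjunction.homEquiv_unit]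
  refine ⟨inv θ ≫ c, isomorphic_distinguished _ hT _ ?_⟩
  exact Triangle.isoMk _ _ (Iso.refl _) (Iso.refl _) (asIso θ).symm (by simp) (by dsimp; rw [hθ]; simp) (by simp)

end Groth.L10.HocolimGen
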