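import Groth.Agent.L10.Brown
import Groth.Agent.L10.HocolimGen
import Groth.Prelude.Def_CohDer
import Mathlib.CategoryTheory.Triangulated.Opposite.Functor
import Mathlib.CategoryTheory.Adjunction.PartialAdjoint
import Mathlib.CategoryTheory.Limits.Preserves.Opposites
import Mathlib.CategoryTheory.Preadditive.Yoneda.Limits

/-! Consequences of Brown representability: adjoints, compactly generated categories. -/

universe v u u'

open CategoryTheory CategoryTheory.Limits CategoryTheory.Pretriangulated CategoryTheory.Pretriangulated.Opposite Opposite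

set_option backward.defeqAttrib.useBackward true
set_option backward.isDefEq.respectTransparency false
set_option linter.unusedSectionVars false
namespace Groth.L10.Brown

variable {D : Type u} [Category.{v} D] [Preadditive D] [HasZeroObject D] [HasShift D ℤ]
  [∀ n : ℤ, (shiftFunctor D n).Additive] [Pretriangulated D] [HasCoproducts.{v} D]

/-- Brown representability holds. -/
def HasBrown (D : Type u) [Category.{v} D] [Preadditive D] [HasZeroObject D] [HasShift D ℤ]
    [∀ n : ℤ, (shiftFunctor D n).Additive] [Pretriangulated D] : Prop :=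
  ∀ (H : Dᵒᵖ ⥤ AddCommGrpCat.{v}) [H.IsHomological] [∀ κ : Type v, PreservesLimitsOfShape (Discrete κ) H],
    (H ⋙ forget AddCommGrpCat.{v}).IsRepresentable

theorem isLeftAdjoint_of_hasBrown (hB : HasBrown D) {D' : Type u'} [Category.{v} D'] [Preadditive D']
    [HasZeroObject D'] [HasShift D' ℤ] [∀ n : ℤ, (shiftFunctor D' n).Additive] [Pretriangulated D']
    (F : D ⥤ D') [F.CommShift ℤ] [F.IsTriangulated] [∀ κ : Type v, PreservesColimitsOfShape (Discrete κ) F] :
    F.IsLeftAdjoint := by
  refine Functor.isLeftAdjoint_of_rightAdjointObjIsDefined_eq_top (funext fun Y => ?_)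
  simp only [Pi.top_apply, Prop.top_eq_true, eq_iff_iff, iff_true]
  change (F.op ⋙ yoneda.obj Y).IsRepresentable
  have : ∀ κ : Type v, PreservesLimitsOfShape (Discrete κ) F.op := fun κ =>
    haveI : PreservesColimitsOfShape (Discrete κ)ᵒᵖ F :=
      preservesColimitsOfShape_of_equiv (Discrete.opposite κ).symm F
    preservesLimitsOfShape_op _ F
  exact hB (F.op ⋙ preadditiveYoneda.obj Y)

theorem hasBrown_of_perfect [HasColimitsOfShape (Discrete ℕ) D] {ι : Type v} (E : ι → D)
    (h1 : ∀ X : D, ¬ IsZero X → ∃ (i : ι) (f : E i ⟶ X), f ≠ 0) (h2 : Perfect E) : HasBrown D :=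
  fun H _ _ => isRepresentable H E h1 h2

theorem perfect_of_compact [HasColimitsOfShape (Discrete ℕ) D] {ι : Type v} (E : ι → D)
    (hc : ∀ i, CohDer.IsCompactObject (E i)) : Perfect E := by
  classical
  intro X i α
  obtain ⟨x, rfl⟩ := HocolimGen.countable_bij X (hc i) α
  let inc : ∀ n, E i ⟶ ∐ fun _ : ℕ => E i := Sigma.ι (fun _ : ℕ => E i)
  refine ⟨fun _ => i, fun n => x n, ∑ n ∈ DFinsupp.support x, inc n, ?_⟩
  conv_lhs => rw [← DirectSum.sum_support_of x, map_sum]
  rw [Preadditive.sum_comp]
  exact Finset.sum_congr rfl fun n _ => by simp [inc, HocolimGen.homSum_of']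

theorem hasBrown_of_compactlyGenerated (hD : CohDer.IsCompactlyGenerated D) : HasBrown D := by
  have : HasColimitsOfShape (Discrete ℕ) D :=
    hasColimitsOfShape_of_equivalence (Discrete.equivalence (Equiv.ulift.{v} : ULift.{v} ℕ ≃ ℕ))
  obtain ⟨ι, E, hc, hg⟩ := hD
  refine hasBrown_of_perfect (fun k : ι × ULift.{v} ℤ => (E k.1)⟦k.2.down⟧) (fun X hX => ?_)
    (perfect_shift (perfect_of_compact E hc))
  by_contra h
  push Not at h
  refine hX (hg X fun i n f => ?_)
  have h0 : f⟦(-n : ℤ)⟧' ≫ (shiftShiftNeg X n).hom = 0 := h (i, ⟨-n⟩) _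
  apply (shiftFunctor D (-n : ℤ)).map_injective
  rw [Functor.map_zero, ← cancel_mono (shiftShiftNeg X n).hom, h0, zero_comp]

end Groth.L10.Brown
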