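import Groth.Agent.L10.KInjRes.Resolution
import Mathlib.CategoryTheory.Preadditive.Injective.Preserves
import Mathlib.CategoryTheory.Abelian.GrothendieckCategory.Basic
import Mathlib.CategoryTheory.Adjunction.Limits
import Mathlib.CategoryTheory.Preadditive.Yoneda.Injective

/-! K-injective resolutions in Grothendieck categories of any universe level, via `ShrinkHoms`. -/

universe w v v' u u'

open CategoryTheory CategoryTheory.Limits

set_option backward.defeqAttrib.useBackward true
set_option backward.isDefEq.respectTransparency false
namespace Groth.L10.KInjTransfer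

variable {A : Type u} [Category.{v} A] [Abelian A] {B : Type u'} [Category.{v'} B] [Abelian B]

local notation "up" => ComplexShape.up ℤ

/-- A right adjoint of an exact functor preserves K-injectivity. -/
theorem isKInjective_map {L : A ⥤ B} {R : B ⥤ A} (adj : L ⊣ R) [L.Additive] [R.Additive]
    [PreservesFiniteLimits L] [PreservesFiniteColimits L] (I : CochainComplex B ℤ) [I.IsKInjective] :
    CochainComplex.IsKInjective ((R.mapHomologicalComplex up).obj I) where
  nonempty_homotopy_zero {K} f hK := by
    let ε : (L.mapHomologicalComplex up).obj ((R.mapHomologicalComplex up).obj I) ⟶ I :=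
      { f := fun i => adj.counit.app (I.X i)
        comm' := fun i j _ => (adj.counit.naturality (I.d i j)).symm }
    let η : K ⟶ (R.mapHomologicalComplex up).obj ((L.mapHomologicalComplex up).obj K) :=
      { f := fun i => adj.unit.app (K.X i)
        comm' := fun i j _ => (adj.unit.naturality (K.d i j)).symm }
    have hLK : ((L.mapHomologicalComplex up).obj K).Acyclic := fun i =>
      (HomologicalComplex.exactAt_iff _ i).2 (((HomologicalComplex.exactAt_iff _ i).1 (hK i)).map L)
    obtain ⟨h⟩ := CochainComplex.IsKInjective.nonempty_homotopy_zero ((L.mapHomologicalComplex up).map f ≫ ε) hLK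
    refine ⟨(Homotopy.ofEq ?_).trans (((R.mapHomotopy h).compLeft η).trans (Homotopy.ofEq (by simp)))⟩
    ext i
    simp [η, ε]

theorem exists_resolution [IsGrothendieckAbelian.{w} A] (M : CochainComplex A ℤ) :
    ∃ (I : CochainComplex A ℤ) (f : M ⟶ I), I.IsKInjective ∧ QuasiIso f ∧ ∀ n, Injective (I.X n) := by
  let e := ShrinkHoms.equivalence.{w} A
  have : e.functor.Additive := Functor.additive_of_preserves_binary_products _
  have : e.inverse.Additive := Functor.additive_of_preserves_binary_products _
  let M' := (e.functor.mapHomologicalComplex up).obj M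
  let η : M ⟶ (e.inverse.mapHomologicalComplex up).obj M' :=
    { f := fun i => e.unit.app (M.X i)
      comm' := fun i j _ => (e.unit.naturality (M.d i j)).symm }
  have : ∀ i, IsIso (η.f i) := fun i => inferInstanceAs (IsIso (e.unit.app (M.X i)))
  have : IsIso η := HomologicalComplex.Hom.isIso_of_components η
  refine ⟨(e.inverse.mapHomologicalComplex up).obj (KInjRes.res M'),
    η ≫ (e.inverse.mapHomologicalComplex up).map (KInjRes.resι M'), isKInjective_map e.toAdjunction _, inferInstance,
    fun n => ?_⟩
  exact Injective.injective_of_adjoint e.toAdjunction ((KInjRes.res M').X n)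

end Groth.L10.KInjTransfer
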