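import Groth.Agent.L10.ResStep
import Mathlib.Algebra.Homology.CochainComplexOpposite

/-! Dual of `ResStep.exists_step`: lifting a resolution along a map of bounded below complexes. -/

universe v u

open CategoryTheory CategoryTheory.Limits Opposite

set_option backward.defeqAttrib.useBackward true
set_option backward.isDefEq.respectTransparency false
namespace Groth.L10.RightStep

variable {A : Type u} [Category.{v} A] [Abelian A]

abbrev opC (K : CochainComplex A ℤ) : CochainComplex Aᵒᵖ ℤ := (CochainComplex.opEquivalence A).functor.obj (op K)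

theorem opC_d (K : CochainComplex A ℤ) (i j : ℤ) : (opC K).d i j = (K.d (-j) (-i)).op := rfl

/-- The complex in `A` attached to a complex in `Aᵒᵖ`. -/
def unopC (L : CochainComplex Aᵒᵖ ℤ) : CochainComplex A ℤ where
  X n := (L.X (-n)).unop
  d i j := (L.d (-j) (-i)).unop
  shape i j h := by rw [L.shape _ _ (fun h' => h (by simp at h' ⊢; omega))]; rfl
  d_comp_d' i j k _ _ := by rw [← unop_comp, L.d_comp_d]; rfl

/-- A map `L ⟶ opC K` gives a map `K ⟶ unopC L`. -/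
noncomputable def fromOpC {L : CochainComplex Aᵒᵖ ℤ} {K : CochainComplex A ℤ} (φ : L ⟶ opC K) : K ⟶ unopC L where
  f n := (K.XIsoOfEq (neg_neg n)).inv ≫ (φ.f (-n)).unop
  comm' i j _ := by
    have h := congrArg Quiver.Hom.unop (φ.comm (-j) (-i))
    rw [opC_d, unop_comp, unop_comp, Quiver.Hom.unop_op] at h
    rw [Category.assoc]
    change _ ≫ _ ≫ (L.d (-j) (-i)).unop = _
    rw [← h, HomologicalComplex.XIsoOfEq_inv_comp_d_assoc, HomologicalComplex.d_comp_XIsoOfEq_inv_assoc]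

/-- A map `opC K ⟶ L` gives a map `unopC L ⟶ K`. -/
noncomputable def toOpC {L : CochainComplex Aᵒᵖ ℤ} {K : CochainComplex A ℤ} (φ : opC K ⟶ L) : unopC L ⟶ K where
  f n := (φ.f (-n)).unop ≫ (K.XIsoOfEq (neg_neg n)).hom
  comm' i j _ := by
    have h := congrArg Quiver.Hom.unop (φ.comm (-j) (-i))
    rw [opC_d, unop_comp, unop_comp, Quiver.Hom.unop_op] at h
    rw [Category.assoc, HomologicalComplex.XIsoOfEq_hom_comp_d]
    change _ = (L.d (-j) (-i)).unop ≫ _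
    rw [reassoc_of% h, HomologicalComplex.d_comp_XIsoOfEq_hom]

theorem quasiIso_fromOpC {L : CochainComplex Aᵒᵖ ℤ} {K : CochainComplex A ℤ} (φ : L ⟶ opC K) [QuasiIso φ] :
    QuasiIso (fromOpC φ) := by
  refine ⟨fun n => ?_⟩
  rw [quasiIsoAt_iff' _ (n - 1) n (n + 1) (by simp) (by simp), ← ShortComplex.quasiIso_opMap_iff]
  have hq' : QuasiIsoAt φ (-n) := inferInstance
  rw [quasiIsoAt_iff' φ (-(n + 1)) (-n) (-(n - 1)) (by simp; omega) (by simp; omega)] at hq'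
  refine ShortComplex.quasiIso_of_arrow_mk_iso
    ((HomologicalComplex.shortComplexFunctor' Aᵒᵖ (.up ℤ) (-(n + 1)) (-n) (-(n - 1))).map φ) _
    (Arrow.isoMk (ShortComplex.isoMk (Iso.refl _) (Iso.refl _) (Iso.refl _) (by simp [unopC]) (by simp [unopC])) ?_ ?_)
  · refine ShortComplex.isoMk (K.XIsoOfEq (neg_neg (n + 1))).symm.op (K.XIsoOfEq (neg_neg n)).symm.op
      (K.XIsoOfEq (neg_neg (n - 1))).symm.op ?_ ?_
    · simp [opC_d, ← op_comp]
    · simp [opC_d, ← op_comp]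
  · ext <;> simp [fromOpC]

/-- A split epimorphism decomposes its source. -/
noncomputable def splitIso {X Y : A} (p : X ⟶ Y) (s : Y ⟶ X) (h : s ≫ p = 𝟙 Y) : X ≅ Y ⊞ kernel p where
  hom := biprod.lift p (kernel.lift p (𝟙 X - p ≫ s) (by simp [h]))
  inv := biprod.desc s (kernel.ι p)
  hom_inv_id := by simp [biprod.lift_desc]
  inv_hom_id := by
    refine biprod.hom_ext' _ _ ?_ ?_ <;> refine biprod.hom_ext _ _ ?_ ?_
    · simp [h]
    · rw [← cancel_mono (kernel.ι p)]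
      simp [Preadditive.comp_sub, reassoc_of% h]
    · simp
    · rw [← cancel_mono (kernel.ι p)]
      simp [Preadditive.comp_sub]

/-- Dual of `ResStep.exists_step`. -/
theorem exists_step (I : A → Prop) (hI0 : ∃ Z : A, IsZero Z ∧ I Z)
    (hI : ∀ X : A, ∃ (Y : A) (ι : X ⟶ Y), I Y ∧ Mono ι) {L K : CochainComplex A ℤ} (f : L ⟶ K) (a : ℤ)
    [L.IsStrictlyGE a] [K.IsStrictlyGE a] :
    ∃ (K' : CochainComplex A ℤ) (π : L ⟶ K') (p : K' ⟶ K), π ≫ p = f ∧ K'.IsStrictlyGE a ∧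
      (∀ n, Mono (π.f n)) ∧ QuasiIso π ∧
      ∀ n, ∃ s : K.X n ⟶ K'.X n, s ≫ p.f n = 𝟙 _ ∧ ∃ R : A, I R ∧ Nonempty (K'.X n ≅ K.X n ⊞ R) ∧
        Nonempty (kernel (p.f n) ≅ R) := by
  have hK : (opC K).IsStrictlyLE (-a) := (CochainComplex.isStrictlyLE_iff _ _).2 fun i hi =>
    (K.isZero_of_isStrictlyGE a (-i) (by omega)).op
  have hL : (opC L).IsStrictlyLE (-a) := (CochainComplex.isStrictlyLE_iff _ _).2 fun i hi =>
    (L.isZero_of_isStrictlyGE a (-i) (by omega)).op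
  obtain ⟨Z, hZ, hIZ⟩ := hI0
  have hP : ∀ X : Aᵒᵖ, ∃ (Y : Aᵒᵖ) (π : Y ⟶ X), I Y.unop ∧ Epi π := fun X => by
    obtain ⟨Y, ι, hY, hι⟩ := hI X.unop
    exact ⟨op Y, ι.op, hY, inferInstance⟩
  obtain ⟨M, incl, π, hcomp, hLE, hepi, hq, hsplit⟩ := Groth.L10.ResStep.exists_step (fun Y : Aᵒᵖ => I Y.unop)
    ⟨op Z, hZ.op, hIZ⟩ hP ((CochainComplex.opEquivalence A).functor.map f.op : opC K ⟶ opC L) (-a)
  refine ⟨unopC M, fromOpC π, toOpC incl, ?_, (CochainComplex.isStrictlyGE_iff _ _).2 fun i hi =>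
    (M.isZero_of_isStrictlyLE (-a) (-i) (by omega)).unop, fun n => ?_, quasiIso_fromOpC π, fun n => ?_⟩
  · ext n
    have h := congrArg (fun (ψ : opC K ⟶ opC L) => (ψ.f (-n)).unop) hcomp
    simp only [HomologicalComplex.comp_f, unop_comp] at h
    change ((L.XIsoOfEq (neg_neg n)).inv ≫ (π.f (-n)).unop) ≫ (incl.f (-n)).unop ≫ (K.XIsoOfEq (neg_neg n)).hom = _
    rw [Category.assoc, reassoc_of% h]
    change (L.XIsoOfEq (neg_neg n)).inv ≫ f.f (- -n) ≫ (K.XIsoOfEq (neg_neg n)).hom = _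
    rw [HomologicalComplex.XIsoOfEq_hom_naturality, Iso.inv_hom_id_assoc]
  · have := hepi (-n)
    exact mono_comp _ _
  · obtain ⟨r, hr, R, hR, ⟨e₁⟩, ⟨e₂⟩⟩ := hsplit (-n)
    refine ⟨(K.XIsoOfEq (neg_neg n)).inv ≫ r.unop, ?_, R.unop, hR, ?_, ?_⟩
    · change _ ≫ (incl.f (-n)).unop ≫ _ = _
      rw [Category.assoc, ← reassoc_of% (unop_comp (f := incl.f (-n)) (g := r)), hr, unop_id, Category.id_comp,
        Iso.inv_hom_id]
    · let e : kernel ((toOpC incl).f n) ≅ R.unop :=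
        kernelCompMono _ _ ≪≫ kernelUnopUnop (incl.f (-n)) ≪≫ e₂.unop.symm
      have hs : ((K.XIsoOfEq (neg_neg n)).inv ≫ r.unop) ≫ (toOpC incl).f n = 𝟙 _ := by
        change _ ≫ (incl.f (-n)).unop ≫ _ = _
        rw [Category.assoc, ← reassoc_of% (unop_comp (f := incl.f (-n)) (g := r)), hr, unop_id, Category.id_comp,
          Iso.inv_hom_id]
      exact ⟨splitIso _ _ hs ≪≫ biprod.mapIso (Iso.refl _) e⟩
    · exact ⟨kernelCompMono _ _ ≪≫ kernelUnopUnop (incl.f (-n)) ≪≫ e₂.unop.symm⟩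

end Groth.L10.RightStep
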