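import Groth.Agent.L09.CohColim.LocalPreserves
import Groth.Prelude.Def_CohTop
import Mathlib.Topology.Spectral.Prespectral
import Mathlib.Topology.QuasiSeparated

/-!
Cohomology of abelian sheaves on compact opens of a prespectral quasi-separated space commutes with filtered
colimits.
-/

set_option autoImplicit false
set_option linter.style.haveILetI false
universe u

open CategoryTheory CategoryTheory.Limits Opposite TopologicalSpace ToposFin Groth.L09.Topos Groth.L09.CohColim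
open Groth.L10.SiteCoh (fs freeSheafifyIso)

namespace Groth.L10.TopColim

variable {X : TopCat.{u}}

local notation "JX" => Opens.grothendieckTopology X

theorem isQCSite_of_isCompact {U : Opens X} (hU : IsCompact (U : Set X)) : IsQCSite (Opens.grothendieckTopology X) U := by
  intro S hS
  choose V f hf hx using fun x : (U : Set X) => hS x.1 x.2
  obtain ⟨t, ht⟩ := hU.elim_finite_subcover (fun x => (V x : Set X)) (fun x => (V x).isOpen)
    (fun x hxU => Set.mem_iUnion.2 ⟨⟨x, hxU⟩, hx ⟨x, hxU⟩⟩)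
  let e := Fintype.equivFin t
  refine ⟨Fintype.card t, fun k => V (e.symm k).1, fun k => f (e.symm k).1, fun k => hf _, fun x hxU => ?_⟩
  obtain ⟨i, hi, hxi⟩ := Set.mem_iUnion₂.1 (ht hxU)
  refine ⟨V i, f i, ?_, hxi⟩
  refine (Sieve.mem_ofArrows_iff _ _ _).2 ⟨e ⟨i, hi⟩, homOfLE ?_, Subsingleton.elim _ _⟩
  rw [e.symm_apply_apply]

theorem exists_le_of_hom {U M : Opens X} (s : eps JX U ⟶ eps JX M) :
    ∃ h : U ≤ M, s = epsMap JX (homOfLE h) := by
  have hm := reprSieve_mem s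
  have h : U ≤ M := fun x hx => by
    obtain ⟨V, f, ⟨v, -⟩, hxV⟩ := hm x hx
    exact v.le hxV
  refine ⟨h, epsEquiv.injective (sep (eps JX M) hm fun V f hf => ?_)⟩
  obtain ⟨v, hv⟩ := hf
  rw [← epsEquiv_map, ← epsEquiv_map, hv, ← epsMap_comp]
  exact congrArg (fun q => epsEquiv (epsMap JX q)) (Subsingleton.elim _ _)

variable (X) in
/-- Sheaves attached to compact opens. -/
def compactSet : Set (Sh JX) :=
  {K | ∃ U : Opens X, IsCompact (U : Set X) ∧ Nonempty (K ≅ eps JX U)}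

theorem goodSet_compact [PrespectralSpace X] [QuasiSeparatedSpace X] : GoodSet (compactSet X) where
  qc := by
    rintro K ⟨U, hU, ⟨e⟩⟩
    exact isQC_of_iso e.symm ((isQCSite_iff U).1 (isQCSite_of_isCompact hU))
  gen Y := by
    obtain ⟨ι, F, π, hF, hπ⟩ := genBy_eps Y
    choose U hU using hF
    let κ : ι → Type u := fun i => {W : Opens X // IsCompact (W : Set X) ∧ W ≤ U i}
    have hc : ∀ i, Covers (fun W : κ i => epsMap JX (homOfLE W.2.2) ≫ eqToHom (hU i).symm) := fun i => by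
      refine covers_comp_iso (covers_ofArrows (J := JX) (fun W : κ i => homOfLE W.2.2) ?_) (eqToIso (hU i).symm)
      intro x hx
      obtain ⟨V, hV, hxV, hVU⟩ := PrespectralSpace.isTopologicalBasis.exists_subset_of_mem_open hx (U i).isOpen
      exact ⟨⟨V, hV.1⟩, homOfLE hVU,
        (Sieve.mem_ofArrows_iff _ _ _).2 ⟨⟨⟨V, hV.1⟩, hV.2, hVU⟩, 𝟙 _, Subsingleton.elim _ _⟩, hxV⟩
    refine ⟨Σ i, κ i, fun p => eps JX p.2.1, fun p => (epsMap JX (homOfLE p.2.2.2) ≫ eqToHom (hU p.1).symm) ≫ π p.1,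
      fun p => ⟨p.2.1, p.2.2.1, ⟨Iso.refl _⟩⟩, covers_comp hπ hc⟩
  pb := by
    rintro K L M f g ⟨U, hU, ⟨a⟩⟩ ⟨V, hV, ⟨b⟩⟩ ⟨W, hW, ⟨c⟩⟩
    obtain ⟨hUW, hs⟩ := exists_le_of_hom (a.inv ≫ f ≫ c.hom)
    obtain ⟨hVW, ht⟩ := exists_le_of_hom (b.inv ≫ g ≫ c.hom)
    have sq0 : IsPullback (homOfLE (inf_le_left : U ⊓ V ≤ U)) (homOfLE (inf_le_right : U ⊓ V ≤ V))
        (homOfLE hUW) (homOfLE hVW) :=
      IsPullback.of_isLimit' ⟨Subsingleton.elim _ _⟩ (PullbackCone.IsLimit.mk _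
        (fun t => homOfLE (le_inf t.fst.le t.snd.le)) (fun _ => Subsingleton.elim _ _) (fun _ => Subsingleton.elim _ _)
        (fun _ _ _ _ => Subsingleton.elim _ _))
    have sq := (sq0.map yoneda).map (presheafToSheaf JX (Type u))
    refine ⟨eps JX (U ⊓ V), epsMap JX (homOfLE inf_le_left) ≫ a.inv, epsMap JX (homOfLE inf_le_right) ≫ b.inv,
      ⟨U ⊓ V, QuasiSeparatedSpace.inter_isCompact _ _ U.isOpen hU V.isOpen hV, ⟨Iso.refl _⟩⟩, ?_⟩
    exact IsPullback.of_iso sq (Iso.refl _) a.symm b.symm c.symm (by simp) (by simp)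
      (show epsMap JX (homOfLE hUW) ≫ c.inv = a.inv ≫ f by rw [← hs]; simp)
      (show epsMap JX (homOfLE hVW) ≫ c.inv = b.inv ≫ g by rw [← ht]; simp)

theorem preservesColimitsOfShape_H [PrespectralSpace X] [QuasiSeparatedSpace X] {U : Opens X}
    (hU : IsCompact (U : Set X)) (Λ : Type u) [SmallCategory Λ] [IsFiltered Λ] (n : ℕ) :
    PreservesColimitsOfShape Λ ((Sheaf.cohomologyPresheafFunctor JX n).flip.obj (op U)) :=
  (preservesColimitsOfShape_of_commutes (Λ := Λ) (fs JX U) n fun D c hc =>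
    (commutes_HK goodSet_compact ⟨U, hU, ⟨Iso.refl _⟩⟩ n D c hc).of_iso (freeSheafifyIso (yoneda.obj U)) :)

end Groth.L10.TopColim
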