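import Mathlib.CategoryTheory.Abelian.GrothendieckCategory.EnoughInjectives
import Mathlib.CategoryTheory.Filtered.Basic
import Mathlib.CategoryTheory.Abelian.Basic
import Mathlib.CategoryTheory.Generator.Basic

/-! Baer's criterion in a Grothendieck abelian category, for a separating family. -/

universe w v u

open CategoryTheory CategoryTheory.Limits

set_option backward.defeqAttrib.useBackward true
set_option backward.isDefEq.respectTransparency false
namespace Groth.L10.Baer

variable {C : Type u} [Category.{v} C] [Abelian C] [IsGrothendieckAbelian.{v} C]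

variable {A B I : C}

/-- A wrapper for index types. -/
structure Idx (α : Type v) : Type v where
  /-- The underlying element. -/
  val : α

/-- Subobjects of `B ⊞ I` which are graphs of partial maps from `B` to `I`. -/
def IsGraph (T : Subobject (B ⊞ I)) : Prop := Mono (T.arrow ≫ biprod.fst)

theorem exists_isGraph_ge_chain (c : Set (Subobject (B ⊞ I))) (hc : c ⊆ {T | IsGraph T}) (hch : IsChain (· ≤ ·) c)
    (hne : c.Nonempty) : ∃ U, IsGraph U ∧ ∀ T ∈ c, T ≤ U := by
  have : Small.{v} c := inferInstance
  let J := Idx (Shrink.{v} c)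
  let : Preorder J := Preorder.lift fun j => ((equivShrink c).symm j.val).1
  have : IsFiltered J := by
    have : Nonempty J := ⟨⟨equivShrink c ⟨_, hne.some_mem⟩⟩⟩
    have : IsDirectedOrder J := ⟨fun a b => by
      rcases hch.total ((equivShrink c).symm a.val).2 ((equivShrink c).symm b.val).2 with h | h
      · exact ⟨b, h, le_rfl⟩
      · exact ⟨a, le_rfl, h⟩⟩
    infer_instance
  let T : J → Subobject (B ⊞ I) := fun j => ((equivShrink c).symm j.val).1
  let F : J ⥤ MonoOver (B ⊞ I) :=
    { obj := fun j => MonoOver.mk (T j).arrow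
      map := fun {i j} h => MonoOver.homMk (Subobject.ofLE _ _ (show T i ≤ T j from (leOfHom h : i ≤ j))) }
  have : ∀ j, Mono ((T j).arrow ≫ biprod.fst) := fun j => hc ((equivShrink c).symm j.val).2
  let F' : J ⥤ MonoOver B :=
    { obj := fun j => MonoOver.mk ((T j).arrow ≫ biprod.fst)
      map := fun {i j} h => MonoOver.homMk (Subobject.ofLE _ _ (show T i ≤ T j from (leOfHom h : i ≤ j))) }
  let D := F ⋙ MonoOver.forget _ ⋙ Over.forget _
  let f : colimit D ⟶ B ⊞ I := colimit.desc D (Cocone.mk _
    { app := fun j => (T j).arrow, naturality := fun i j h => by simp [D, F, MonoOver.forget] })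
  have hf : ∀ j, colimit.ι D j ≫ f = (T j).arrow := fun j => by simp [f]
  have : Mono f := IsGrothendieckAbelian.mono_of_isColimit_monoOver F (colimit.isColimit D) f hf
  have hf' : Mono (f ≫ biprod.fst) := by
    exact IsGrothendieckAbelian.mono_of_isColimit_monoOver F' (colimit.isColimit D) _
      fun j => by
        change colimit.ι D j ≫ f ≫ biprod.fst = (T j).arrow ≫ biprod.fst
        rw [reassoc_of% (hf j)]
  refine ⟨Subobject.mk f, ?_, fun S hS => ?_⟩
  · change Mono ((Subobject.mk f).arrow ≫ biprod.fst)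
    rw [← Subobject.underlyingIso_hom_comp_eq_mk, Category.assoc]
    infer_instance
  · obtain ⟨j, hj⟩ : ∃ j, T j = S := ⟨⟨equivShrink c ⟨S, hS⟩⟩, by simp [T]⟩
    rw [← hj]
    exact Subobject.le_mk_of_comm (colimit.ι D j) (hf j)

theorem injective_of_baer {ι : Type*} (G : ι → C) (hG : ObjectProperty.IsSeparating (.ofObj G)) (I : C)
    (h : ∀ (k : ι) (S : C) (i : S ⟶ G k) [Mono i] (φ : S ⟶ I), ∃ ψ : G k ⟶ I, i ≫ ψ = φ) :
    Injective I := by
  refine ⟨fun {A B} φ i _ => ?_⟩
  have : Mono (biprod.lift i φ) := mono_of_mono_fac (biprod.lift_fst i φ)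
  let T₀ := Subobject.mk (biprod.lift i φ)
  have hT₀ : IsGraph T₀ := by
    change Mono (T₀.arrow ≫ biprod.fst)
    rw [show T₀.arrow = (Subobject.underlyingIso _).hom ≫ biprod.lift i φ from
      (Subobject.underlyingIso_hom_comp_eq_mk _).symm, Category.assoc, biprod.lift_fst]
    infer_instance
  obtain ⟨T, hT₀T, hT⟩ := zorn_le_nonempty₀ {T : Subobject (B ⊞ I) | IsGraph T}
    (fun c hc hch y hy => exists_isGraph_ge_chain c hc hch ⟨y, hy⟩) T₀ hT₀
  have hm : Mono (T.arrow ≫ biprod.fst) := hT.1
  suffices IsIso (T.arrow ≫ biprod.fst) by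
    refine ⟨inv (T.arrow ≫ biprod.fst) ≫ T.arrow ≫ biprod.snd, ?_⟩
    have h1 := Subobject.ofMkLE_arrow hT₀T
    have h2 : i = Subobject.ofMkLE _ _ hT₀T ≫ T.arrow ≫ biprod.fst := by rw [reassoc_of% h1, biprod.lift_fst]
    rw [h2, Category.assoc, IsIso.hom_inv_id_assoc, reassoc_of% h1, biprod.lift_snd]
  refine ObjectProperty.IsDetecting.isIso_iff_of_mono hG.isDetecting (T.arrow ≫ biprod.fst) |>.2 ?_
  intro X hX
  obtain ⟨k⟩ := hX
  intro g
  let p := T.arrow ≫ biprod.fst
  obtain ⟨χ, hχ⟩ := h k (pullback p g) (pullback.snd p g) (pullback.fst p g ≫ T.arrow ≫ biprod.snd)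
  let t : (T : C) ⊞ G k ⟶ B ⊞ I := biprod.desc T.arrow (biprod.lift g χ)
  have hm' : IsGraph (imageSubobject t) := by
    change Mono _
    refine Preadditive.mono_of_cancel_zero _ fun {W} y hy => ?_
    rw [← cancel_epi (pullback.fst y (factorThruImageSubobject t)), comp_zero,
      ← cancel_mono (imageSubobject t).arrow, zero_comp, Category.assoc]
    have hz1 : (pullback.fst y (factorThruImageSubobject t)) ≫ y ≫ (imageSubobject t).arrow =
        pullback.snd y (factorThruImageSubobject t) ≫ t := by
      rw [pullback.condition_assoc, imageSubobject_arrow_comp]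
    rw [hz1]
    let z := pullback.snd y (factorThruImageSubobject t)
    have hz : z ≫ t ≫ biprod.fst = 0 := by
      rw [← Category.assoc, ← hz1, Category.assoc, Category.assoc, hy, comp_zero]
    have hsplit : z = (z ≫ biprod.fst) ≫ biprod.inl + (z ≫ biprod.snd) ≫ biprod.inr := by
      apply biprod.hom_ext <;> simp
    have hz' : (-(z ≫ biprod.fst)) ≫ p = (z ≫ biprod.snd) ≫ g := by
      rw [hsplit] at hz
      simp [t, Preadditive.add_comp, Preadditive.comp_add] at hz
      rw [Preadditive.neg_comp, neg_eq_iff_add_eq_zero]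
      simpa [p] using hz
    refine biprod.hom_ext _ _ (by simpa using hz) ?_
    have h3 := congr(pullback.lift _ _ hz' ≫ $hχ)
    simp only [pullback.lift_snd_assoc, pullback.lift_fst_assoc, Preadditive.neg_comp, Category.assoc] at h3
    change (z ≫ t) ≫ biprod.snd = 0 ≫ biprod.snd
    rw [hsplit]
    simp [t, Preadditive.add_comp, h3]
  have hle : T ≤ imageSubobject t :=
    Subobject.le_of_comm (biprod.inl ≫ factorThruImageSubobject t) (by simp [t])
  have hge := hT.2 hm' hle
  refine ⟨biprod.inr ≫ factorThruImageSubobject t ≫ Subobject.ofLE _ _ hge, ?_⟩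
  simp [t]

end Groth.L10.Baer
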