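import Groth.Agent.L10.Baer
import Groth.Prelude.Def_CohCx
import Mathlib.Algebra.Category.Grp.AB
import Mathlib.CategoryTheory.Abelian.GrothendieckCategory.Basic
import Mathlib.Topology.Sheaves.Abelian
universe u
open CategoryTheory CategoryTheory.Limits Opposite
namespace Groth.L10.Baer
theorem isSeparating_freeSheaf {C : Type u} [SmallCategory C] (J : GrothendieckTopology C) :
    ObjectProperty.IsSeparating (.ofObj (CohCx.freeSheaf J)) := by
  intro F G f g hfg
  refine (sheafToPresheaf J AddCommGrpCat.{u}).map_injective ?_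
  ext X s
  let e := ((sheafificationAdjunction J AddCommGrpCat.{u}).homEquiv (yoneda.obj X.unop ⋙ AddCommGrpCat.free.{u}) F)
  let a : yoneda.obj X.unop ⋙ AddCommGrpCat.free.{u} ⟶ F.obj :=
    ((AddCommGrpCat.adj.{u}.whiskerRight Cᵒᵖ).homEquiv _ _).symm (yonedaEquiv.symm s)
  have h := congrArg ((sheafificationAdjunction J AddCommGrpCat.{u}).homEquiv _ _) (hfg _ (ObjectProperty.ofObj_apply _ X.unop) (e.symm a))
  rw [Adjunction.homEquiv_naturality_right, Adjunction.homEquiv_naturality_right] at h
  simp only [e, Equiv.apply_symm_apply] at h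
  have h' := congrArg ((AddCommGrpCat.adj.{u}.whiskerRight Cᵒᵖ).homEquiv _ _) h
  rw [Adjunction.homEquiv_naturality_right, Adjunction.homEquiv_naturality_right] at h'
  simp only [a, Equiv.apply_symm_apply] at h'
  simpa [yonedaEquiv] using congrArg yonedaEquiv h'
end Groth.L10.Baer
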