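import Groth.Prelude.Def_W4c6blochformula0cycCech
import Mathlib.Algebra.BigOperators.Group.Finset.Sigma
import Mathlib.Algebra.BigOperators.Fin
import Mathlib.Algebra.BigOperators.GroupWithZero.Action

/-! The algebraic partition of unity contracting homotopy on ordered Čech cochains. -/

universe u

open CategoryTheory Opposite TopologicalSpace W4c6blochformula0cyc

namespace Groth.L10.BlochCech

variable {X : Type u} [TopologicalSpace X] (F : (Opens X)ᵒᵖ ⥤ AddCommGrpCat.{u})

theorem res_res {V W Z : Opens X} (h : W ≤ V) (h' : Z ≤ W) (f : F.obj (op V)) :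
    res F h' (res F h f) = res F (h'.trans h) f := by
  simp only [res]
  rw [← ConcreteCategory.comp_apply, ← F.map_comp]
  rfl

variable {ι : Type u} [Fintype ι] (U : ι → Opens X)

omit [Fintype ι] in
theorem res_congr {n : ℕ} (f : Cochain F U n) {a b : Fin n → ι} (hab : a = b) {V : Opens X}
    (h : V ≤ cechOpen U a) (h' : V ≤ cechOpen U b) : res F h (f a) = res F h' (f b) := by
  subst hab
  rfl

variable (E : ∀ (V : Opens X) (α : ι), F.obj (op (V ⊓ U α)) →+ F.obj (op V))

theorem key
    (h2 : ∀ (m : ℕ) (t : Fin (m + 1) → ι) (f : F.obj (op (cechOpen U t))),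
      ∑ α, E (cechOpen U t) α (res F inf_le_left f) = f)
    (h3 : ∀ (m : ℕ) (t : Fin (m + 1) → ι) (α β : ι) (g : F.obj (op (cechOpen U t ⊓ U α))),
      res F inf_le_left (E (cechOpen U t) α g) =
        E (cechOpen U t ⊓ U β) α (res F (inf_le_inf_right (U α) inf_le_left) g))
    (n : ℕ) (f : Cochain F U (n + 2)) :
    homotopy F U E (n + 2) (delta F U (n + 2) f) + delta F U (n + 1) (homotopy F U E (n + 1) f) = f := by
  funext t
  have hres : ∀ (s : Fin (n + 1) → ι) (α β : ι) (W : Opens X) (_ : W = cechOpen U s ⊓ U β) (h : W ≤ cechOpen U s)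
      (g : F.obj (op (cechOpen U s ⊓ U α))),
      res F h (E (cechOpen U s) α g) = E W α (res F (inf_le_inf_right (U α) h) g) := by
    intro s α β W e h g
    subst e
    exact h3 n s α β g
  simp only [homotopy, delta, AddMonoidHom.coe_mk, ZeroHom.coe_mk, Pi.add_apply, map_sum, map_zsmul]
  rw [Finset.sum_comm (s := (Finset.univ : Finset ι))]
  rw [Fin.sum_univ_succ, add_assoc, ← Finset.sum_add_distrib]
  refine (add_eq_left.2 (Finset.sum_eq_zero fun j _ => ?_)).trans ?_
  · rw [Finset.smul_sum, ← Finset.sum_add_distrib]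
    refine Finset.sum_eq_zero fun α _ => ?_
    rw [hres (t ∘ j.succAbove) α (t j) (cechOpen U t) ?_ (cechOpen_le_comp U t j) _, res_res, res_res, Fin.val_succ,
      pow_succ, mul_neg_one, neg_smul, neg_add_eq_zero]
    · congr 2
      exact res_congr F U f (funext fun k => by refine Fin.cases ?_ (fun l => ?_) k <;> simp) _ _
    · refine le_antisymm (le_inf (cechOpen_le_comp U t j) (iInf_le _ j)) (le_iInf fun k => ?_)
      rcases Fin.eq_self_or_eq_succAbove j k with rfl | ⟨l, rfl⟩
      · exact inf_le_right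
      · exact inf_le_left.trans (iInf_le (fun i => U ((t ∘ j.succAbove) i)) l)
  · refine Eq.trans (Finset.sum_congr rfl fun α _ => ?_) (h2 (n + 1) t (f t))
    rw [Fin.val_zero, pow_zero, one_zsmul, res_res]
    exact congrArg _ (res_congr F U f (funext fun k => by simp) _ _)

omit [Fintype ι] in
theorem switch_two (A : X → AddCommGrpCat.{u}) (S : ι → Set X) (V : Opens X) (α β : ι)
    (g : (prodPresheaf A).obj (op (V ⊓ U α))) :
    res (prodPresheaf A) inf_le_left (switchExt A U S V α g) =
      switchExt A U S (V ⊓ U β) α (res (prodPresheaf A) (inf_le_inf_right (U α) inf_le_left) g) := by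
  classical
  funext y
  simp only [switchExt, res]
  erw [AddMonoidHom.pi_apply, AddMonoidHom.pi_apply]
  by_cases h : y.1 ∈ U α ∧ y.1 ∈ S α
  · erw [dif_pos h, dif_pos h]
    rfl
  · erw [dif_neg h, dif_neg h]
    rfl

theorem switch_sum (A : X → AddCommGrpCat.{u}) (S : ι → Set X)
    (hSU : ∀ α, S α ⊆ (U α : Set X)) (hS : ∀ x : X, ∃! α, x ∈ S α) (V : Opens X) (f : (prodPresheaf A).obj (op V)) :
    ∑ α, switchExt A U S V α (res (prodPresheaf A) inf_le_left f) = f := by
  classical
  funext y
  obtain ⟨α, hα, hu⟩ := hS y.1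
  refine (Finset.sum_apply y Finset.univ _).trans ?_
  rw [Finset.sum_eq_single α (fun β _ hβ => ?_) (fun h => absurd (Finset.mem_univ α) h)]
  · simp only [switchExt]
    erw [AddMonoidHom.pi_apply, dif_pos ⟨hSU α hα, hα⟩]
    rfl
  · simp only [switchExt]
    erw [AddMonoidHom.pi_apply, dif_neg fun h => hβ (hu β h.2)]
    rfl

end Groth.L10.BlochCech
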