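import Groth.Prelude.Def_CohSite
import Mathlib.Algebra.Homology.DerivedCategory.Ext.ExactSequences
import Mathlib.CategoryTheory.Abelian.GrothendieckCategory.EnoughInjectives
import Mathlib.CategoryTheory.Sites.EpiMono

/-! Basic API for cohomology `H^n(U, F)` of abelian sheaves on a small site. -/

universe u

open CategoryTheory CategoryTheory.Limits CategoryTheory.Abelian Opposite

set_option backward.defeqAttrib.useBackward true
set_option backward.isDefEq.respectTransparency false
namespace Groth.L10.SiteCoh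

variable {C : Type u} [SmallCategory C] (J : GrothendieckTopology C)

/-- The free abelian presheaf on the presheaf represented by `U`. -/
noncomputable abbrev fp (U : C) : Cᵒᵖ ⥤ AddCommGrpCat.{u} := yoneda.obj U ⋙ AddCommGrpCat.free.{u}

/-- The free abelian sheaf on the presheaf represented by `U`. -/
noncomputable abbrev fs (U : C) : Sheaf J AddCommGrpCat.{u} :=
  (presheafToSheaf J AddCommGrpCat.{u}).obj (fp U)

noncomputable abbrev fpMap {U V : C} (f : V ⟶ U) : fp V ⟶ fp U :=
  Functor.whiskerRight (yoneda.map f) AddCommGrpCat.free.{u}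

noncomputable abbrev fsMap {U V : C} (f : V ⟶ U) : fs J V ⟶ fs J U :=
  (presheafToSheaf J AddCommGrpCat.{u}).map (fpMap f)

/-- Morphisms from the free presheaf on `U` are sections over `U`. -/
noncomputable def fpEquiv (U : C) (P : Cᵒᵖ ⥤ AddCommGrpCat.{u}) : (fp U ⟶ P) ≃+ P.obj (op U) where
  toFun g := g.app (op U) (FreeAbelianGroup.of (𝟙 U))
  invFun s :=
    { app := fun V => AddCommGrpCat.ofHom (FreeAbelianGroup.lift fun f => P.map f.op s)
      naturality := fun V W a => by
        refine AddCommGrpCat.hom_ext (FreeAbelianGroup.lift_ext _ _ fun f => ?_)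
        simp [AddCommGrpCat.free, fp] }
  left_inv g := by
    refine NatTrans.ext (funext fun V => AddCommGrpCat.hom_ext (FreeAbelianGroup.lift_ext _ _ fun f => ?_))
    have := congr($(g.naturality f.op) (FreeAbelianGroup.of (𝟙 U)))
    simpa [AddCommGrpCat.free, fp] using this.symm
  right_inv s := by simp
  map_add' g g' := rfl

theorem fpEquiv_comp {U : C} {P Q : Cᵒᵖ ⥤ AddCommGrpCat.{u}} (g : fp U ⟶ P) (φ : P ⟶ Q) :
    fpEquiv U Q (g ≫ φ) = φ.app (op U) (fpEquiv U P g) := rfl

theorem fpEquiv_map {U V : C} (f : V ⟶ U) {P : Cᵒᵖ ⥤ AddCommGrpCat.{u}} (g : fp U ⟶ P) :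
    fpEquiv V P (fpMap f ≫ g) = P.map f.op (fpEquiv U P g) := by
  have := congr($(g.naturality f.op) (FreeAbelianGroup.of (𝟙 U)))
  simp [AddCommGrpCat.free, fp, fpEquiv, fpMap] at this ⊢
  exact this

/-- Morphisms from the free sheaf on `U` are sections over `U`. -/
noncomputable def secEquiv (U : C) (F : Sheaf J AddCommGrpCat.{u}) :
    (fs J U ⟶ F) ≃+ F.obj.obj (op U) :=
  ((sheafificationAdjunction J AddCommGrpCat.{u}).homAddEquiv (fp U) F).trans (fpEquiv U F.obj)

variable {J}

theorem secEquiv_comp {U : C} {F G : Sheaf J AddCommGrpCat.{u}} (g : fs J U ⟶ F) (φ : F ⟶ G) :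
    secEquiv J U G (g ≫ φ) = φ.hom.app (op U) (secEquiv J U F g) := by
  simp only [secEquiv, AddEquiv.trans_apply, Adjunction.homAddEquiv_apply,
    Adjunction.homEquiv_naturality_right]
  rfl

theorem secEquiv_map {U V : C} (f : V ⟶ U) {F : Sheaf J AddCommGrpCat.{u}} (g : fs J U ⟶ F) :
    secEquiv J V F (fsMap J f ≫ g) = F.obj.map f.op (secEquiv J U F g) := by
  simp only [secEquiv, AddEquiv.trans_apply, Adjunction.homAddEquiv_apply,
    Adjunction.homEquiv_naturality_left]
  exact fpEquiv_map _ _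

instance fsMap_mono {U V : C} (f : V ⟶ U) [Mono f] : Mono (fsMap J f) := by
  have : ∀ W, Mono ((fpMap f).app W) := fun W => by
    change Mono (AddCommGrpCat.free.map ((yoneda.map f).app W))
    infer_instance
  have : Mono (fpMap f) := NatTrans.mono_of_mono_app _
  exact (presheafToSheaf J AddCommGrpCat.{u}).map_mono _

/-- Restriction along a monomorphism is surjective on sections of an injective sheaf. -/
theorem surjective_map_of_injective (F : Sheaf J AddCommGrpCat.{u}) [Injective F] {U V : C}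
    (f : V ⟶ U) [Mono f] : Function.Surjective (F.obj.map f.op) := fun s => by
  refine ⟨secEquiv J U F (Injective.factorThru ((secEquiv J V F).symm s) (fsMap J f)), ?_⟩
  rw [← secEquiv_map, Injective.comp_factorThru, AddEquiv.apply_symm_apply]

/-! ### Cohomology over an object -/

theorem res_apply (F : Sheaf J AddCommGrpCat.{u}) (n : ℕ) {U V : C} (f : V ⟶ U) (x : CohSite.HU F n U) :
    CohSite.res F n f x = (Ext.mk₀ (fsMap J f)).comp x (zero_add n) := rfl

theorem functor_map_apply {F G : Sheaf J AddCommGrpCat.{u}} (φ : F ⟶ G) (n : ℕ) (U : C)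
    (x : CohSite.HU F n U) :
    ((Sheaf.cohomologyPresheafFunctor J n).map φ).app (op U) x =
      (x : Ext (fs J U) F n).comp (Ext.mk₀ φ) (add_zero n) := rfl

/-- `H^0(U, F) = F(U)`. -/
noncomputable def hu0 (F : Sheaf J AddCommGrpCat.{u}) (U : C) :
    Ext (fs J U) F 0 ≃+ F.obj.obj (op U) :=
  Ext.addEquiv₀.trans (secEquiv J U F)

theorem hu0_mk₀ (F : Sheaf J AddCommGrpCat.{u}) (U : C) (g : fs J U ⟶ F) :
    hu0 F U (Ext.mk₀ g) = secEquiv J U F g := by
  rw [hu0, AddEquiv.trans_apply]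
  congr 1
  exact Ext.addEquiv₀.apply_eq_iff_eq_symm_apply.2 rfl

theorem hu0_comp {F G : Sheaf J AddCommGrpCat.{u}} (U : C) (x : Ext (fs J U) F 0) (φ : F ⟶ G) :
    hu0 G U (x.comp (Ext.mk₀ φ) (add_zero 0)) = φ.hom.app (op U) (hu0 F U x) := by
  obtain ⟨g, rfl⟩ := (Ext.mk₀_bijective _ _).2 x
  rw [Ext.mk₀_comp_mk₀, hu0_mk₀, hu0_mk₀, secEquiv_comp]

theorem hu0_map {F : Sheaf J AddCommGrpCat.{u}} {U V : C} (f : V ⟶ U) (x : Ext (fs J U) F 0) :
    hu0 F V ((Ext.mk₀ (fsMap J f)).comp x (zero_add 0)) = F.obj.map f.op (hu0 F U x) := by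
  obtain ⟨g, rfl⟩ := (Ext.mk₀_bijective _ _).2 x
  rw [Ext.mk₀_comp_mk₀, hu0_mk₀, hu0_mk₀, secEquiv_map]

/-- An injective hull sequence of an object. -/
noncomputable abbrev hull {A : Type*} [Category A] [Abelian A] [EnoughInjectives A] (F : A) :
    ShortComplex A :=
  ShortComplex.mk (Injective.ι F) (cokernel.π _) (cokernel.condition _)

theorem hull_shortExact {A : Type*} [Category A] [Abelian A] [EnoughInjectives A] (F : A) :
    (hull F).ShortExact :=
  { exact := ShortComplex.exact_cokernel _ }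

/-- If `S` is short exact and `S.g` is surjective on sections over `U`, then `H¹(U, S.X₁) → H¹(U, S.X₂)`
is injective. -/
theorem eq_zero_of_surjective_sections {S : ShortComplex (Sheaf J AddCommGrpCat.{u})} (hS : S.ShortExact)
    (U : C) (hs : Function.Surjective (S.g.hom.app (op U))) (x : Ext (fs J U) S.X₁ 1)
    (hx : x.comp (Ext.mk₀ S.f) (add_zero 1) = 0) : x = 0 := by
  obtain ⟨y, rfl⟩ := Ext.covariant_sequence_exact₁ _ hS x hx (zero_add 1)
  obtain ⟨s, hs'⟩ := hs (hu0 _ U y)
  have : y = ((hu0 _ U).symm s).comp (Ext.mk₀ S.g) (add_zero 0) := (hu0 _ U).injective (by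
    rw [hu0_comp, AddEquiv.apply_symm_apply, hs'])
  rw [this, Ext.comp_assoc_of_second_deg_zero, hS.comp_extClass, Ext.comp_zero]

/-- Vanishing criterion: a class of sheaves whose injective hull quotients stay in the class and
which has surjectivity on sections at `U` is acyclic at `U`. -/
theorem subsingleton_of_class (P : Sheaf J AddCommGrpCat.{u} → Prop) (U : C)
    (hsur : ∀ (S : ShortComplex (Sheaf J AddCommGrpCat.{u})), S.ShortExact → P S.X₁ →
      Function.Surjective (S.g.hom.app (op U)))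
    (hquot : ∀ (S : ShortComplex (Sheaf J AddCommGrpCat.{u})), S.ShortExact → P S.X₁ → Injective S.X₂ → P S.X₃)
    (F : Sheaf J AddCommGrpCat.{u}) (hF : P F) (n : ℕ) : Subsingleton (Ext (fs J U) F (n + 1)) := by
  induction n generalizing F with
  | zero =>
    exact subsingleton_of_forall_eq 0 fun x => eq_zero_of_surjective_sections (hull_shortExact F) U
      (hsur _ (hull_shortExact F) hF) x (Ext.eq_zero_of_injective _)
  | succ n ih =>
    refine subsingleton_of_forall_eq 0 fun x => ?_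
    obtain ⟨y, rfl⟩ := Ext.covariant_sequence_exact₁ _ (hull_shortExact F) x (Ext.eq_zero_of_injective _)
      (n₀ := n + 1) rfl
    have := ih _ (hquot _ (hull_shortExact F) hF inferInstance)
    rw [Subsingleton.elim y 0, Ext.zero_comp]

/-- Vanishing at `U` of `H^1` for all kernels gives surjectivity on sections. -/
theorem surjective_sections_of_subsingleton {S : ShortComplex (Sheaf J AddCommGrpCat.{u})}
    (hS : S.ShortExact) (U : C) [Subsingleton (Ext (fs J U) S.X₁ 1)] :
    Function.Surjective (S.g.hom.app (op U)) := fun s => by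
  obtain ⟨y, hy⟩ := Ext.covariant_sequence_exact₃ _ hS ((hu0 _ U).symm s) (zero_add 1) (Subsingleton.elim _ _)
  exact ⟨hu0 _ U y, by rw [← hu0_comp, hy, AddEquiv.apply_symm_apply]⟩

/-- Epimorphisms of sheaves are locally surjective on sections. -/
theorem locally_surjective_of_epi {F G : Sheaf J AddCommGrpCat.{u}} (φ : F ⟶ G) [Epi φ] {U : C}
    (s : G.obj.obj (op U)) :
    ∃ S : J.Cover U, ∀ a : S.Arrow, ∃ t : F.obj.obj (op a.Y), φ.hom.app (op a.Y) t = G.obj.map a.f.op s := by
  have h : Sheaf.IsLocallySurjective φ := (Sheaf.isLocallySurjective_iff_epi' _ φ).2 inferInstance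
  exact ⟨⟨_, h.imageSieve_mem s⟩, fun a => a.hf⟩

/-- Cohomology classes of positive degree vanish locally. -/
theorem exists_cover_res_eq_zero (F : Sheaf J AddCommGrpCat.{u}) (U : C) (n : ℕ)
    (x : Ext (fs J U) F (n + 1)) :
    ∃ S : J.Cover U, ∀ a : S.Arrow, (Ext.mk₀ (fsMap J a.f)).comp x (zero_add (n + 1)) = 0 := by
  induction n generalizing F with
  | zero =>
    obtain ⟨y, rfl⟩ := Ext.covariant_sequence_exact₁ _ (hull_shortExact F) x (Ext.eq_zero_of_injective _)
      (zero_add 1)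
    obtain ⟨S, hS⟩ := locally_surjective_of_epi (hull F).g (hu0 _ U y)
    refine ⟨S, fun a => ?_⟩
    obtain ⟨t, ht⟩ := hS a
    have : (Ext.mk₀ (fsMap J a.f)).comp y (zero_add 0) =
        ((hu0 _ a.Y).symm t).comp (Ext.mk₀ (hull F).g) (add_zero 0) := (hu0 _ a.Y).injective (by
      rw [hu0_comp, hu0_map, AddEquiv.apply_symm_apply, ht])
    rw [← Ext.comp_assoc _ y _ (zero_add 0) (zero_add 1) (by omega), this,
      Ext.comp_assoc_of_second_deg_zero, (hull_shortExact F).comp_extClass, Ext.comp_zero]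
  | succ n ih =>
    obtain ⟨y, rfl⟩ := Ext.covariant_sequence_exact₁ _ (hull_shortExact F) x (Ext.eq_zero_of_injective _)
      (n₀ := n + 1) rfl
    obtain ⟨S, hS⟩ := ih _ y
    refine ⟨S, fun a => ?_⟩
    rw [← Ext.comp_assoc _ y _ (zero_add (n + 1)) rfl (by omega), hS a, Ext.zero_comp]

/-- `H¹(U, ∏ F i) → ∏ H¹(U, F i)` is injective. -/
theorem h1_product_injective {ι : Type u} (F : ι → Sheaf J AddCommGrpCat.{u}) (U : C)
    (x : Ext (fs J U) (∏ᶜ F) 1) (hx : ∀ i, x.comp (Ext.mk₀ (Pi.π F i)) (add_zero 1) = 0) : x = 0 := by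
  let ι' : (∏ᶜ F) ⟶ ∏ᶜ fun i => Injective.under (F i) := Limits.Pi.map fun i => Injective.ι (F i)
  let π' : (∏ᶜ fun i => Injective.under (F i)) ⟶ ∏ᶜ fun i => cokernel (Injective.ι (F i)) :=
    Limits.Pi.map fun i => cokernel.π (Injective.ι (F i))
  have hπ : ι' ≫ π' = 0 := by ext i : 1; simp [ι', π']
  have hex : (ShortComplex.mk ι' π' hπ).Exact := by
    have hl : ∀ {W : Sheaf J AddCommGrpCat.{u}} (w : W ⟶ ∏ᶜ fun i => Injective.under (F i)), w ≫ π' = 0 →
        ∀ i, ∃ v, v ≫ Injective.ι (F i) = w ≫ Pi.π _ i := fun w hw i =>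
      ⟨(hull_shortExact (F i)).fIsKernel.lift (KernelFork.ofι (w ≫ Pi.π _ i) (by
          have := hw =≫ Pi.π _ i
          simpa [π'] using this)),
        (hull_shortExact (F i)).fIsKernel.fac _ WalkingParallelPair.zero⟩
    choose v hv using @hl
    refine ShortComplex.exact_of_f_is_kernel _ (KernelFork.IsLimit.ofι' _ _ fun {W} w hw =>
      ⟨Pi.lift (v w hw), ?_⟩)
    ext i : 1
    simp [ι', hv]
  let T := ShortComplex.mk ι' (cokernel.π ι') (cokernel.condition ι')
  have hT : T.ShortExact := { exact := ShortComplex.exact_cokernel _ }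
  obtain ⟨y, rfl⟩ := Ext.covariant_sequence_exact₁ _ hT x (Ext.eq_zero_of_injective _) (zero_add 1)
  let q : ∀ i, T ⟶ hull (F i) := fun i =>
    { τ₁ := Pi.π F i
      τ₂ := Pi.π _ i
      τ₃ := cokernel.map _ _ (Pi.π F i) (Pi.π _ i) (by simp [ι'])
      comm₁₂ := by simp [T, ι']
      comm₂₃ := by simp [T] }
  have hz : ∀ i, ∃ z : Ext (fs J U) (Injective.under (F i)) 0, z.comp (Ext.mk₀ (hull (F i)).g) (add_zero 0) = y.comp (Ext.mk₀ (q i).τ₃) (add_zero 0) := fun i => by
    refine Ext.covariant_sequence_exact₃ _ (hull_shortExact (F i)) _ (zero_add 1) ?_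
    have he := ShortComplex.ShortExact.extClass_naturality hT (hull_shortExact (F i)) (q i)
    rw [Ext.comp_assoc_of_second_deg_zero, ← he, ← hx i, Ext.comp_assoc_of_third_deg_zero]
  choose z hz using hz
  obtain ⟨y₀, rfl⟩ := (Ext.mk₀_bijective _ _).2 y
  choose z₀ hz₀ using fun i => (Ext.mk₀_bijective _ _).2 (z i)
  have := hex.mono_cokernelDesc
  have : Pi.lift z₀ ≫ T.g = y₀ := by
    rw [← cancel_mono (cokernel.desc ι' π' hπ)]
    ext i : 1
    have hd : cokernel.desc ι' π' hπ ≫ Pi.π _ i = (q i).τ₃ := by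
      rw [← cancel_epi (cokernel.π ι')]
      simp [q, π']
    have := hz i
    rw [← hz₀ i, Ext.mk₀_comp_mk₀, Ext.mk₀_comp_mk₀] at this
    have := (Ext.mk₀_bijective _ _).1 this
    simp [T, π', hd, ← this, hull]
  rw [← this, ← Ext.mk₀_comp_mk₀, Ext.comp_assoc_of_second_deg_zero, hT.comp_extClass, Ext.comp_zero]

/-- The constant sheaf `ℤ` is the free sheaf on a terminal object. -/
noncomputable def constIso {T : C} (hT : IsTerminal T) :
    (constantSheaf J AddCommGrpCat.{u}).obj (AddCommGrpCat.of (ULift.{u} ℤ)) ≅ fs J T :=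
  let e : ∀ F : Sheaf J AddCommGrpCat.{u},
      ((constantSheaf J AddCommGrpCat.{u}).obj (AddCommGrpCat.of (ULift.{u} ℤ)) ⟶ F) ≃ (fs J T ⟶ F) :=
    fun F => (((constantSheafAdj J AddCommGrpCat hT).homAddEquiv _ F).trans
      ((AddCommGrpCat.uliftZMultiplesAddEquiv _).trans (secEquiv J T F).symm)).toEquiv
  Coyoneda.fullyFaithful.preimageIso (NatIso.ofComponents (fun F => (e F).toIso) (fun {F G} φ => by
    ext g
    apply (secEquiv J T G).injective
    simp [e, secEquiv_comp]
    rfl)) |>.unop.symm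

/-- `H^n(F) = H^n(T, F)` for a terminal object `T`. -/
noncomputable def hEquiv {T : C} (hT : IsTerminal T) (F : Sheaf J AddCommGrpCat.{u}) (n : ℕ) :
    Sheaf.H F n ≃+ Ext (fs J T) F n where
  toFun x := (Ext.mk₀ (constIso hT).inv).comp x (zero_add n)
  invFun x := (Ext.mk₀ (constIso hT).hom).comp x (zero_add n)
  left_inv x := by simp
  right_inv x := by simp
  map_add' x y := by simp

theorem hEquiv_map {T : C} (hT : IsTerminal T) {F G : Sheaf J AddCommGrpCat.{u}} (φ : F ⟶ G) (n : ℕ)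
    (x : Sheaf.H F n) :
    hEquiv hT G n (Sheaf.H.map φ n x) = (hEquiv hT F n x).comp (Ext.mk₀ φ) (add_zero n) :=
  (Ext.comp_assoc_of_third_deg_zero _ x _ (zero_add n)).symm

theorem hEquiv_symm_map {T : C} (hT : IsTerminal T) {F G : Sheaf J AddCommGrpCat.{u}} (φ : F ⟶ G) (n : ℕ)
    (x : Ext (fs J T) F n) :
    Sheaf.H.map φ n ((hEquiv hT F n).symm x) = (hEquiv hT G n).symm (x.comp (Ext.mk₀ φ) (add_zero n)) :=
  Ext.comp_assoc_of_third_deg_zero _ x _ (zero_add n)

end Groth.L10.SiteCoh
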