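import Groth.Agent.L10.SiteFr
import Groth.Agent.L10.SiteCoh
import Groth.Agent.L10.ExtCompare
import Mathlib.CategoryTheory.Sites.Canonical
import Mathlib.CategoryTheory.Sites.Abelian
import Mathlib.CategoryTheory.Abelian.Images
import Mathlib.Algebra.Homology.ShortComplex.ExactFunctor

/-! Sheaf cohomology against presheaf cohomology of covering sieves. -/

universe u

open CategoryTheory CategoryTheory.Limits CategoryTheory.Abelian Opposite

set_option backward.defeqAttrib.useBackward true
set_option backward.isDefEq.respectTransparency false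
namespace Groth.L10.BotCompare

open Groth.L10.SiteFr Groth.L10.SiteCoh

variable {C : Type u} [SmallCategory C] {J : GrothendieckTopology C}

variable (J) in
/-- Abelian sheaves as sheaves for the trivial topology. -/
def toBot : Sheaf J AddCommGrpCat.{u} ⥤ Sheaf (⊥ : GrothendieckTopology C) AddCommGrpCat.{u} where
  obj F := ⟨F.obj, Presheaf.isSheaf_bot _⟩
  map f := ⟨f.hom⟩

instance : (toBot J).Additive where

instance : PreservesFiniteLimits (toBot J) := by
  have : PreservesFiniteLimits (toBot J ⋙ sheafToPresheaf (⊥ : GrothendieckTopology C) AddCommGrpCat.{u}) :=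
    inferInstanceAs (PreservesFiniteLimits (sheafToPresheaf J AddCommGrpCat.{u}))
  exact preservesFiniteLimits_of_reflects_of_preserves _ (sheafToPresheaf (⊥ : GrothendieckTopology C) AddCommGrpCat.{u})

theorem injective_toBot (I : Sheaf J AddCommGrpCat.{u}) [Injective I] : Injective ((toBot J).obj I) := ⟨fun {A B} g i hi => by
  have : Mono i.hom := inferInstanceAs (Mono ((sheafToPresheaf _ AddCommGrpCat.{u}).map i))
  have : Injective I.obj := Injective.injective_of_adjoint (sheafificationAdjunction J AddCommGrpCat.{u}) I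
  have : Injective ((toBot J).obj I).obj := this
  exact ⟨⟨Injective.factorThru g.hom i.hom⟩, Sheaf.hom_ext (Injective.comp_factorThru _ _)⟩⟩

/-- The sieve as a sheaf of sets for the trivial topology. -/
abbrev sv {X : C} (R : Sieve X) : Sheaf (⊥ : GrothendieckTopology C) (Type u) := ⟨R.functor, Presheaf.isSheaf_bot _⟩

variable (J) in
/-- Values of a morphism out of the free presheaf on a sieve. -/
noncomputable def ev {X : C} {R : Sieve X} {A : Sheaf (⊥ : GrothendieckTopology C) AddCommGrpCat.{u}}
    (y : (fr _).obj (sv R) ⟶ A) {W : C} (a : W ⟶ X) (ha : R a) : A.obj.obj (op W) :=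
  val ((adj _).homEquiv _ _ y) (op W) ⟨a, ha⟩

theorem ev_ext {X : C} {R : Sieve X} {A : Sheaf (⊥ : GrothendieckTopology C) AddCommGrpCat.{u}}
    {y z : (fr _).obj (sv R) ⟶ A} (h : ∀ (W : C) (a : W ⟶ X) (ha : R a), ev y a ha = ev z a ha) : y = z :=
  ((adj _).homEquiv _ _).injective (val_ext fun V x => h V.unop x.1 x.2)

theorem ev_comp {X : C} {R : Sieve X} {A B : Sheaf (⊥ : GrothendieckTopology C) AddCommGrpCat.{u}}
    (y : (fr _).obj (sv R) ⟶ A) (φ : A ⟶ B) {W : C} (a : W ⟶ X) (ha : R a) :
    ev (y ≫ φ) a ha = φ.hom.app (op W) (ev y a ha) :=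
  congr(val $((adj _).homEquiv_naturality_right y φ) (op W) ⟨a, ha⟩)

theorem ev_zero {X : C} {R : Sieve X} {A : Sheaf (⊥ : GrothendieckTopology C) AddCommGrpCat.{u}} {W : C}
    (a : W ⟶ X) (ha : R a) : ev (0 : (fr _).obj (sv R) ⟶ A) a ha = 0 := by
  rw [ev, Adjunction.homEquiv_unit]
  rfl

theorem exists_ofSection {X : C} (R : Sieve X) (G : Sheaf J AddCommGrpCat.{u}) (s : G.obj.obj (op X)) :
    ∃ y : (fr _).obj (sv R) ⟶ (toBot J).obj G,
      ∀ (W : C) (a : W ⟶ X) (ha : R a), ev y a ha = G.obj.map a.op s := by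
  let m : sv R ⟶ (U _).obj ((toBot J).obj G) :=
    ⟨{ app := fun V => ↾fun (a : {f : V.unop ⟶ X // R f}) => G.obj.map a.1.op s
       naturality := fun V W g => ConcreteCategory.hom_ext _ _ fun (a : {f : V.unop ⟶ X // R f}) => by
         change G.obj.map (g.unop ≫ a.1).op s = G.obj.map g (G.obj.map a.1.op s)
         rw [op_comp, G.obj.map_comp]
         rfl }⟩
  exact ⟨((adj _).homEquiv _ _).symm m, fun W a ha =>
    congrArg (fun q : sv R ⟶ (U _).obj ((toBot J).obj G) => val q (op W) ⟨a, ha⟩) (Equiv.apply_symm_apply _ m)⟩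

theorem exists_section {X : C} {R : Sieve X} (hR : R ∈ J X) (G : Sheaf J AddCommGrpCat.{u})
    (y : (fr _).obj (sv R) ⟶ (toBot J).obj G) :
    ∃ s, ∀ (W : C) (a : W ⟶ X) (ha : R a), ev y a ha = G.obj.map a.op s := by
  have hs : Presieve.IsSheafFor (G.obj ⋙ forget _) (R : Presieve X) :=
    ((isSheaf_iff_isSheaf_of_type _ _).1 ((Presheaf.isSheaf_iff_isSheaf_forget J G.obj (forget _)).1 G.property)) _ hR
  let x : Presieve.FamilyOfElements (G.obj ⋙ forget _) (R : Presieve X) := fun W a ha => ev y a ha
  have hx : x.Compatible := Presieve.compatible_iff_sieveCompatible _ |>.2 fun W Z a g ha =>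
    val_natural (X := sv R) ((adj _).homEquiv _ _ y) g.op ⟨a, ha⟩
  exact ⟨hs.amalgamate x hx, fun W a ha => (hs.valid_glue hx a ha).symm⟩

theorem section_ext {X : C} {R : Sieve X} (hR : R ∈ J X) (G : Sheaf J AddCommGrpCat.{u}) {s t : G.obj.obj (op X)}
    (h : ∀ (W : C) (a : W ⟶ X), R a → G.obj.map a.op s = G.obj.map a.op t) : s = t :=
  (((isSheaf_iff_isSheaf_of_type _ _).1 ((Presheaf.isSheaf_iff_isSheaf_forget J G.obj (forget _)).1 G.property)) _
    hR).isSeparatedFor.ext fun W a ha => h W a ha

theorem toBot_shortExact {S : ShortComplex (Sheaf J AddCommGrpCat.{u})} (hS : S.ShortExact)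
    (h : ∀ X, Function.Surjective (S.g.hom.app (op X))) : (S.map (toBot J)).ShortExact := by
  have := hS.mono_f
  have : Mono ((toBot J).map S.f) := inferInstance
  have he : Epi ((toBot J).map S.g) :=
    (Sheaf.isLocallySurjective_iff_epi' _ _).1 ⟨fun {V} s => by
      obtain ⟨t, ht⟩ := h V s
      exact GrothendieckTopology.superset_covering _ (fun W g _ => ⟨S.X₂.obj.map g.op t,
        (congr($(S.g.hom.naturality g.op) t)).trans (congrArg _ ht)⟩) (GrothendieckTopology.top_mem _ V)⟩
  exact { exact := hS.exact.map_of_mono_of_preservesKernel _ inferInstance inferInstance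
          mono_f := this
          epi_g := he }

theorem subsingleton_sieve_ext {X : C} {R : Sieve X} (hR : R ∈ J X) (F : Sheaf J AddCommGrpCat.{u})
    (hF : ∀ (W : C) (q : ℕ), Subsingleton (Ext (fs J W) F (q + 1))) (q : ℕ) :
    Subsingleton (Ext ((fr _).obj (sv R)) ((toBot J).obj F) (q + 1)) := by
  induction q generalizing F with
  | zero =>
    have hs : ∀ W, Function.Surjective ((hull F).g.hom.app (op W)) := fun W => by
      have := hF W 0
      exact surjective_sections_of_subsingleton (hull_shortExact F) W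
    have hS := toBot_shortExact (hull_shortExact F) hs
    have : Injective ((hull F).map (toBot J)).X₂ := injective_toBot (hull F).X₂
    refine subsingleton_of_forall_eq 0 fun x => ?_
    obtain ⟨y, rfl⟩ := Ext.covariant_sequence_exact₁ _ hS x (Ext.eq_zero_of_injective _) (zero_add 1)
    obtain ⟨b, rfl⟩ := (Ext.mk₀_bijective _ _).2 y
    obtain ⟨s, hs'⟩ := exists_section hR (hull F).X₃ b
    obtain ⟨t, rfl⟩ := hs X s
    obtain ⟨z, hz⟩ := exists_ofSection R (hull F).X₂ t
    have : b = z ≫ (toBot J).map (hull F).g := ev_ext fun W a ha => by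
      rw [ev_comp, hz, hs']
      exact (congr($((hull F).g.hom.naturality a.op) t)).symm
    subst this
    rw [← Ext.mk₀_comp_mk₀]
    refine (Ext.comp_assoc_of_second_deg_zero _ _ _ _).trans ?_
    exact (congrArg (fun r => (Ext.mk₀ z).comp r (zero_add 1)) hS.comp_extClass).trans (Ext.comp_zero _ _ _ _ _)
  | succ q ih =>
    have hs : ∀ W, Function.Surjective ((hull F).g.hom.app (op W)) := fun W => by
      have := hF W 0
      exact surjective_sections_of_subsingleton (hull_shortExact F) W
    have hS := toBot_shortExact (hull_shortExact F) hs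
    have : Injective ((hull F).map (toBot J)).X₂ := injective_toBot (hull F).X₂
    refine subsingleton_of_forall_eq 0 fun x => ?_
    obtain ⟨y, rfl⟩ := Ext.covariant_sequence_exact₁ _ hS x (Ext.eq_zero_of_injective _) (n₀ := q + 1) rfl
    have := ih (hull F).X₃ fun W m => by
      have := hF W (m+1)
      have hI := fun k => Ext.subsingleton_of_injective (fs J W) (hull F).X₂ k
      exact (extShift (fs J W) (hull_shortExact F) m).toEquiv.subsingleton
    rw [Subsingleton.elim (α := Ext ((fr _).obj (sv R)) ((toBot J).obj (hull F).X₃) (q+1)) y 0, Ext.zero_comp]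

theorem surjective_of_sieve_ext {S : ShortComplex (Sheaf J AddCommGrpCat.{u})} (hS : S.ShortExact)
    (h : ∀ (X : C) (R : Sieve X), R ∈ J X → Subsingleton (Ext ((fr _).obj (sv R)) ((toBot J).obj S.X₁) 1)) (X : C) :
    Function.Surjective (S.g.hom.app (op X)) := fun s => by
  have := hS.epi_g
  have := hS.mono_f
  have hg : Sheaf.IsLocallySurjective S.g := (Sheaf.isLocallySurjective_iff_epi' _ _).2 inferInstance
  let R := Presheaf.imageSieve S.g.hom s
  have hR : R ∈ J X := hg.imageSieve_mem s
  obtain ⟨η, hη⟩ := exists_ofSection R S.X₃ s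
  let g' := (toBot J).map S.g
  have hc : η ≫ cokernel.π g' = 0 := ev_ext fun W a ha => by
    obtain ⟨t, ht⟩ := ha
    rw [ev_comp, hη, ev_zero]
    refine (congrArg ((cokernel.π g').hom.app (op W)) ht.symm).trans ?_
    exact congr($(cokernel.condition g').hom.app (op W) t)
  let T : ShortComplex (Sheaf (⊥ : GrothendieckTopology C) AddCommGrpCat.{u}) :=
    ShortComplex.mk ((toBot J).map S.f) (Abelian.factorThruImage g') (by
      rw [← cancel_mono (Abelian.image.ι g'), Category.assoc, Abelian.image.fac, zero_comp, ← Functor.map_comp, S.zero,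
        Functor.map_zero])
  have hT : T.ShortExact := by
    have : Mono T.f := inferInstanceAs (Mono ((toBot J).map S.f))
    refine { exact := ?_ }
    refine (ShortComplex.exact_iff_of_epi_of_isIso_of_mono (S₁ := T) (S₂ := S.map (toBot J))
      { τ₁ := 𝟙 _, τ₂ := 𝟙 _, τ₃ := Abelian.image.ι g'
        comm₁₂ := (Category.id_comp _).trans (Category.comp_id _).symm
        comm₂₃ := (Category.id_comp _).trans (Abelian.image.fac g').symm }).2 ?_
    exact hS.exact.map_of_mono_of_preservesKernel _ inferInstance inferInstance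
  have : Subsingleton (Ext ((fr _).obj (sv R)) T.X₁ 1) := h X R hR
  obtain ⟨y, hy⟩ := Ext.covariant_sequence_exact₃ _ hT (Ext.mk₀ (kernel.lift _ η hc)) (zero_add 1) (Subsingleton.elim _ _)
  obtain ⟨z, rfl⟩ := (Ext.mk₀_bijective _ _).2 y
  rw [Ext.mk₀_comp_mk₀] at hy
  have hz : z ≫ g' = η := by
    rw [← Abelian.image.fac g', ← Category.assoc]
    exact (congrArg (· ≫ Abelian.image.ι g') ((Ext.mk₀_bijective _ _).1 hy)).trans (kernel.lift_ι _ _ _)
  obtain ⟨t, ht⟩ := exists_section hR S.X₂ z
  refine ⟨t, section_ext hR S.X₃ fun W a ha => ?_⟩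
  rw [← hη W a ha, ← hz, ev_comp, ht W a ha]
  exact (congr($(S.g.hom.naturality a.op) t)).symm

theorem subsingleton_of_sieve_ext (F : Sheaf J AddCommGrpCat.{u})
    (h : ∀ (X : C) (R : Sieve X), R ∈ J X → ∀ q, Subsingleton (Ext ((fr _).obj (sv R)) ((toBot J).obj F) (q + 1)))
    (W : C) (q : ℕ) : Subsingleton (Ext (fs J W) F (q + 1)) :=
  subsingleton_of_class (fun G => ∀ (X : C) (R : Sieve X), R ∈ J X → ∀ q,
      Subsingleton (Ext ((fr _).obj (sv R)) ((toBot J).obj G) (q + 1))) W
    (fun S hS hP => surjective_of_sieve_ext hS (fun X R hR => hP X R hR 0) W)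
    (fun S hS hP hI X R hR m => by
      have hsur := fun V => surjective_of_sieve_ext hS (fun X R hR => hP X R hR 0) V
      have hSb := toBot_shortExact hS hsur
      have : Injective (S.map (toBot J)).X₂ := injective_toBot S.X₂
      have hI' := fun k => Ext.subsingleton_of_injective ((fr _).obj (sv R)) (S.map (toBot J)).X₂ k
      have : Subsingleton (Ext ((fr _).obj (sv R)) (S.map (toBot J)).X₁ (m+1+1)) := hP X R hR (m+1)
      exact (extShift ((fr _).obj (sv R)) hSb m).toEquiv.subsingleton)
    F h q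

end Groth.L10.BotCompare
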