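import Groth.Prelude.Def_DerLim
import Mathlib.CategoryTheory.Triangulated.HomologicalFunctor
import Mathlib.CategoryTheory.Triangulated.Opposite.Pretriangulated
import Mathlib.CategoryTheory.Triangulated.Yoneda
import Mathlib.Algebra.Category.Grp.Abelian
import Mathlib.Algebra.Category.Grp.Limits
import Mathlib.Algebra.Homology.ShortComplex.Ab
import Mathlib.CategoryTheory.Limits.Shapes.Opposites.Products
import Mathlib.CategoryTheory.Limits.Preserves.Shapes.Products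
import Mathlib.CategoryTheory.Yoneda

/-! Brown representability for perfectly generated triangulated categories. -/

universe v u w

open CategoryTheory CategoryTheory.Limits CategoryTheory.Pretriangulated CategoryTheory.Pretriangulated.Opposite Opposite

set_option backward.defeqAttrib.useBackward true
set_option backward.isDefEq.respectTransparency false
set_option linter.unusedSectionVars false
set_option linter.unusedVariables false
namespace Groth.L10.Brown

variable {D : Type u} [Category.{v} D] [Preadditive D] [HasZeroObject D] [HasShift D ℤ]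
  [∀ n : ℤ, (shiftFunctor D n).Additive] [Pretriangulated D] [HasCoproducts.{v} D]
  [HasColimitsOfShape (Discrete ℕ) D]

/-- Maps from the family to countable sums factor through sums of members. -/
def Perfect {ι : Type v} (E : ι → D) : Prop :=
  ∀ (X : ℕ → D) (i : ι) (α : E i ⟶ ∐ X), ∃ (j : ℕ → ι) (β : ∀ n, E (j n) ⟶ X n)
    (γ : E i ⟶ ∐ (fun n => E (j n))), α = γ ≫ Limits.Sigma.map β

/-- The family is stable under shifts. -/
def ShiftStable {ι : Type v} (E : ι → D) : Prop := ∀ (i : ι) (n : ℤ), ∃ j, Nonempty (E j ≅ (E i)⟦n⟧)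

variable {ι : Type v} {E : ι → D}

theorem exists_kernel (h2 : Perfect E) {X : ℕ → D} {j : ℕ → ι} (β : ∀ n, E (j n) ⟶ X n) (i : ι)
    (γ : E i ⟶ ∐ fun n => E (j n)) (h : γ ≫ Limits.Sigma.map β = 0) :
    ∃ (l : ℕ → ι) (p : ∀ n, E (l n) ⟶ E (j n)) (δ : E i ⟶ ∐ fun n => E (l n)),
      (∀ n, p n ≫ β n = 0) ∧ γ = δ ≫ Limits.Sigma.map p := by
  choose Z a c hT using fun n => distinguished_cocone_triangle₁ (β n)
  obtain ⟨W, q, r, hW⟩ := distinguished_cocone_triangle (Limits.Sigma.map a)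
  have hψ : ∀ n, ∃ ψ : X n ⟶ W, Sigma.ι (fun n => E (j n)) n ≫ q = β n ≫ ψ := fun n => by
    refine Triangle.yoneda_exact₂ _ (hT n) _ ?_
    have h0 := comp_distTriang_mor_zero₁₂ _ hW
    dsimp at h0 ⊢
    rw [← Category.assoc, ← Sigma.ι_map a n, Category.assoc, h0, comp_zero]
  choose ψ hψ using hψ
  have hq : q = Limits.Sigma.map β ≫ Sigma.desc ψ := Sigma.hom_ext _ _ fun n => by simp [hψ n]
  obtain ⟨g, hg⟩ := Triangle.coyoneda_exact₂ _ hW γ (show γ ≫ q = 0 by rw [hq, reassoc_of% h, zero_comp])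
  obtain ⟨l, p, δ, hδ⟩ := h2 Z i g
  refine ⟨l, fun n => p n ≫ a n, δ, fun n => ?_, ?_⟩
  · have h0 := comp_distTriang_mor_zero₁₂ _ (hT n)
    dsimp at h0
    rw [Category.assoc, h0, comp_zero]
  · rw [hg, hδ, Category.assoc]
    congr 1
    exact Sigma.hom_ext _ _ fun n => by simp

theorem sigma_shift_injective (W : D) {Q : D} (u : Q ⟶ ∐ fun _ : ℕ => W)
    (h : u ≫ DerLim.shiftMap (fun _ : ℕ => W) (fun _ => 𝟙 W) = u) : u = 0 := by
  let r : (∐ fun _ : ℕ => W) ⟶ ∐ fun _ : ℕ => W :=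
    Sigma.desc fun n => -∑ m ∈ Finset.range n, Sigma.ι (fun _ : ℕ => W) m
  have hr : (𝟙 _ - DerLim.shiftMap (fun _ : ℕ => W) (fun _ => 𝟙 W)) ≫ r = 𝟙 _ := Sigma.hom_ext _ _ fun n => by
    simp [DerLim.shiftMap, r, Preadditive.sub_comp, Preadditive.comp_sub, Finset.sum_range_succ]
  calc u = u ≫ 𝟙 _ := (Category.comp_id _).symm
    _ = (u ≫ (𝟙 _ - DerLim.shiftMap (fun _ : ℕ => W) (fun _ => 𝟙 W))) ≫ r := by rw [Category.assoc, hr]
    _ = 0 := by rw [Preadditive.comp_sub, Category.comp_id, h, sub_self, zero_comp]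

variable (H : Dᵒᵖ ⥤ AddCommGrpCat.{v})

/-- The value on a morphism. -/
noncomputable abbrev pb {X Y : D} (f : X ⟶ Y) : H.obj (op Y) →+ H.obj (op X) := (H.map f.op).hom

theorem pb_comp {X Y Z : D} (f : X ⟶ Y) (g : Y ⟶ Z) (x : H.obj (op Z)) : pb H (f ≫ g) x = pb H f (pb H g x) := by
  change H.map (g.op ≫ f.op) x = _
  rw [Functor.map_comp]
  rfl

theorem pb_id {X : D} (x : H.obj (op X)) : pb H (𝟙 X) x = x := congr($(H.map_id (op X)) x)

section

variable {κ : Type w} [PreservesLimitsOfShape (Discrete κ) H] (F : κ → D) [HasCoproduct F]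

/-- The image of a sum is a product. -/
noncomputable def prodLimit : IsLimit (Fan.mk (H.obj (op (∐ F))) fun k => H.map (Sigma.ι F k).op) :=
  isLimitFanMkObjOfIsLimit H (fun k => op (F k)) (fun k => (Sigma.ι F k).op)
    (IsLimit.ofIsoLimit (Cofan.IsColimit.op (coproductIsCoproduct F)) (Cone.ext (Iso.refl _) fun k => (Category.id_comp _).symm))

theorem exists_glue (x : ∀ k, H.obj (op (F k))) : ∃ y, ∀ k, pb H (Sigma.ι F k) y = x k := by
  let s : Fan fun k => H.obj (op (F k)) := Fan.mk (AddCommGrpCat.of (ULift.{v} ℤ))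
    fun k => AddCommGrpCat.ofHom ((zmultiplesHom _ (x k)).comp AddEquiv.ulift.toAddMonoidHom)
  refine ⟨(prodLimit H F).lift s ⟨1⟩, fun k => ?_⟩
  refine (congr($((prodLimit H F).fac s ⟨k⟩) (⟨1⟩ : ULift.{v} ℤ))).trans ?_
  change zmultiplesHom _ (x k) 1 = x k
  simp

theorem glue_ext {y z : H.obj (op (∐ F))} (h : ∀ k, pb H (Sigma.ι F k) y = pb H (Sigma.ι F k) z) : y = z := by
  let t : H.obj (op (∐ F)) → (AddCommGrpCat.of (ULift.{v} ℤ) ⟶ H.obj (op (∐ F))) := fun w =>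
    AddCommGrpCat.ofHom ((zmultiplesHom _ w).comp AddEquiv.ulift.toAddMonoidHom)
  have ht : ∀ w, t w (⟨1⟩ : ULift.{v} ℤ) = w := fun w => one_zsmul w
  rw [← ht y, ← ht z]
  refine congrArg (fun q : AddCommGrpCat.of (ULift.{v} ℤ) ⟶ H.obj (op (∐ F)) => q (⟨1⟩ : ULift.{v} ℤ))
    ((prodLimit H F).hom_ext fun k => ?_)
  refine AddCommGrpCat.hom_ext (AddMonoidHom.ext fun a => ?_)
  change pb H (Sigma.ι F k.as) (a.down • y) = pb H (Sigma.ι F k.as) (a.down • z)
  rw [map_zsmul, map_zsmul, h]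

end

variable [H.IsHomological] [∀ κ : Type v, PreservesLimitsOfShape (Discrete κ) H]

theorem preserves_nat : PreservesLimitsOfShape (Discrete ℕ) H :=
  preservesLimitsOfShape_of_equiv (Discrete.equivalence (Equiv.ulift.{v} : ULift.{v} ℕ ≃ ℕ)) H

theorem exact_mid (T : Triangle D) (hT : T ∈ distTriang D) (x : H.obj (op T.obj₂)) (hx : pb H T.mor₁ x = 0) :
    ∃ y, pb H T.mor₂ y = x :=
  (ShortComplex.ab_exact_iff _).1 (H.map_distinguished_exact _ (op_distinguished T hT)) x hx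

/-- A step kills all members mapped to zero. -/
theorem exists_step (E : ι → D) {Y : D} (y : H.obj (op Y)) :
    ∃ (Y' : D) (t : Y ⟶ Y') (y' : H.obj (op Y')), pb H t y' = y ∧
      ∀ (i : ι) (f : E i ⟶ Y), pb H f y = 0 → f ≫ t = 0 := by
  let K : Type v := Σ i, {f : E i ⟶ Y // pb H f y = 0}
  obtain ⟨Y', t, d, hT⟩ := distinguished_cocone_triangle (Sigma.desc fun k : K => k.2.1)
  obtain ⟨y', hy'⟩ := exact_mid H _ hT y (glue_ext H (fun k : K => E k.1) fun k => by
    rw [map_zero]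
    refine (pb_comp H _ _ _).symm.trans ?_
    erw [Sigma.ι_desc]
    exact k.2.2)
  refine ⟨Y', t, y', hy', fun i f hf => ?_⟩
  have h0 := comp_distTriang_mor_zero₁₂ _ hT
  dsimp at h0
  have := Sigma.ι (fun k : K => E k.1) ⟨i, f, hf⟩ ≫= h0
  simpa using this

/-- An element detecting the family. -/
def Universal (E : ι → D) {L : D} (x : H.obj (op L)) : Prop :=
  (∀ (i : ι) (h : H.obj (op (E i))), ∃ f : E i ⟶ L, pb H f x = h) ∧ ∀ (i : ι) (f : E i ⟶ L), pb H f x = 0 → f = 0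

theorem exists_universal_of_surj (h2 : Perfect E) (hs : ShiftStable E) {Y : D} (y : H.obj (op Y))
    (hy : ∀ (i : ι) (h : H.obj (op (E i))), ∃ f : E i ⟶ Y, pb H f y = h) :
    ∃ (L : D) (j : Y ⟶ L) (x : H.obj (op L)), pb H j x = y ∧ Universal H E x := by
  have := preserves_nat H
  choose Y' st y' hst hkill using fun p : Σ X : D, (H.obj (op X) : Type v) => exists_step H E p.2
  let seq : ℕ → Σ X : D, (H.obj (op X) : Type v) := fun n => Nat.rec ⟨Y, y⟩ (fun _ p => ⟨Y' p, y' p⟩) n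
  let X : ℕ → D := fun n => (seq n).1
  let x : ∀ n, H.obj (op (X n)) := fun n => (seq n).2
  let t : ∀ n, X n ⟶ X (n + 1) := fun n => st (seq n)
  have hx : ∀ n, pb H (t n) (x (n + 1)) = x n := fun n => hst (seq n)
  have hk : ∀ n (i : ι) (f : E i ⟶ X n), pb H f (x n) = 0 → f ≫ t n = 0 := fun n => hkill (seq n)
  let T : ∀ n, X 0 ⟶ X n := fun n => Nat.rec (𝟙 _) (fun m f => f ≫ t m) n
  have hTx : ∀ n, pb H (T n) (x n) = x 0 := fun n => by
    induction n with
    | zero => exact pb_id H _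
    | succ n ih => exact (pb_comp H _ _ _).trans ((congrArg _ (hx n)).trans ih)
  let T' : ∀ n, X 1 ⟶ X n := fun n => Nat.rec 0 (fun m f => if h : m = 0 then eqToHom (by subst h; rfl) else f ≫ t m) n
  have hT' : ∀ n, t 0 ≫ T' (n + 1) = T (n + 1) := fun n => by
    induction n with
    | zero => simp [T', T]
    | succ n ih =>
      change t 0 ≫ (if h : n + 1 = 0 then eqToHom _ else T' (n + 1) ≫ t (n + 1)) = T (n + 1) ≫ t (n + 1)
      rw [dif_neg (Nat.succ_ne_zero n), reassoc_of% ih]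
  let s := DerLim.shiftMap X t
  let s0 := DerLim.shiftMap (fun _ : ℕ => X 0) (fun _ => 𝟙 (X 0))
  let s1 := DerLim.shiftMap (fun _ : ℕ => X 1) (fun _ => 𝟙 (X 1))
  let φ : (∐ fun _ : ℕ => X 0) ⟶ ∐ X := Limits.Sigma.map T
  let c : (∐ fun _ : ℕ => X 0) ⟶ ∐ fun _ : ℕ => X 1 := Limits.Sigma.map fun _ => t 0
  have hφ : φ ≫ s = s0 ≫ φ := Sigma.hom_ext _ _ fun n => by simp [φ, s, s0, DerLim.shiftMap, T]
  have hc : c ≫ s1 = s0 ≫ c := Sigma.hom_ext _ _ fun n => by simp [c, s1, s0, DerLim.shiftMap]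
  have hφc : s0 ≫ φ = s0 ≫ c ≫ Limits.Sigma.map T' := Sigma.hom_ext _ _ fun n => by
    simp [φ, c, s0, DerLim.shiftMap, hT' n |>.symm]
  have normal : ∀ (i : ι) (u : E i ⟶ ∐ X), ∃ w : E i ⟶ ∐ fun _ : ℕ => X 0, u ≫ s = w ≫ s0 ≫ φ := by
    intro i u
    obtain ⟨j, β, γ, rfl⟩ := h2 X i u
    choose θ hθ using fun n => hy (j n) (pb H (β n) (x n))
    refine ⟨γ ≫ Limits.Sigma.map θ, ?_⟩
    rw [← hφ, Category.assoc, Category.assoc]
    congr 1
    refine Sigma.hom_ext _ _ fun n => ?_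
    have h0 := hk n (j n) (β n - θ n ≫ T n) (by
      change (H.map (β n - θ n ≫ T n).op) (x n) = 0
      rw [show (β n - θ n ≫ T n).op = (β n).op - (θ n ≫ T n).op from rfl]
      have : (H.map ((β n).op - (θ n ≫ T n).op)) = H.map (β n).op - H.map (θ n ≫ T n).op := Functor.map_sub H
      rw [this]
      exact sub_eq_zero.2 (((hθ n).symm).trans ((congrArg _ (hTx n).symm).trans (pb_comp H _ _ _).symm)))
    rw [Preadditive.sub_comp, sub_eq_zero, Category.assoc] at h0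
    simp [φ, s, DerLim.shiftMap, reassoc_of% h0]
  have inj : ∀ (i : ι) (u : E i ⟶ ∐ X), u ≫ s = u → u = 0 := by
    intro i u hu
    obtain ⟨w, hw⟩ := normal i u
    have h1 : u = w ≫ s0 ≫ φ := hu.symm.trans hw
    have h3 : (w ≫ s0 - w ≫ s0 ≫ s0) ≫ φ = 0 := by
      rw [Preadditive.sub_comp, Category.assoc, Category.assoc, Category.assoc, ← h1, ← hφ, ← Category.assoc s0,
        ← Category.assoc w, ← h1, hu, sub_self]
    obtain ⟨j, β, γ, hγ⟩ := h2 (fun _ => X 0) i (w ≫ s0 - w ≫ s0 ≫ s0)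
    obtain ⟨l, p, δ, hp, hδ⟩ := exists_kernel h2 (fun n => β n ≫ T n) i γ (by
      rw [show Limits.Sigma.map (fun n => β n ≫ T n) = Limits.Sigma.map β ≫ φ from Sigma.hom_ext _ _ fun n => by simp [φ],
        ← Category.assoc, ← hγ, h3])
    have h4 : (w ≫ s0 - w ≫ s0 ≫ s0) ≫ c = 0 := by
      rw [hγ, hδ]
      simp only [Category.assoc]
      have : Limits.Sigma.map p ≫ Limits.Sigma.map β ≫ c = 0 := Sigma.hom_ext _ _ fun n => by
        have h5 := hk 0 (l n) (p n ≫ β n) (by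
          rw [← hTx n, ← pb_comp, Category.assoc, hp n]
          change (H.map (0 : E (l n) ⟶ X n).op) (x n) = 0
          rw [op_zero, Functor.map_zero]
          rfl)
        rw [Category.assoc] at h5
        simp [c, reassoc_of% h5]
      rw [this, comp_zero]
    have h6 : w ≫ s0 ≫ c = 0 := sigma_shift_injective (X 1) _ (by
      simp only [Category.assoc]
      erw [hc]
      simp only [Preadditive.sub_comp, Category.assoc, sub_eq_zero] at h4
      exact h4.symm)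
    rw [h1, hφc, reassoc_of% h6, zero_comp]
  obtain ⟨L, π, δ, hL⟩ := distinguished_cocone_triangle (𝟙 (∐ X) - s)
  obtain ⟨X', hX'⟩ := exists_glue H X x
  obtain ⟨xL, hxL⟩ := exact_mid H _ hL X' (glue_ext H X fun n => by
    rw [map_zero]
    refine (pb_comp H (Sigma.ι X n) (𝟙 (∐ X) - s) X').symm.trans ?_
    rw [Preadditive.comp_sub, Category.comp_id]
    change (H.map (Sigma.ι X n - Sigma.ι X n ≫ s).op) X' = 0
    rw [show (Sigma.ι X n - Sigma.ι X n ≫ s).op = (Sigma.ι X n).op - (Sigma.ι X n ≫ s).op from rfl]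
    have hsub : H.map ((Sigma.ι X n).op - (Sigma.ι X n ≫ s).op) = H.map (Sigma.ι X n).op - H.map (Sigma.ι X n ≫ s).op :=
      Functor.map_sub H
    rw [hsub]
    refine sub_eq_zero.2 ((hX' n).trans ?_)
    change x n = pb H (Sigma.ι X n ≫ s) X'
    rw [show Sigma.ι X n ≫ s = t n ≫ Sigma.ι X (n + 1) from Sigma.ι_desc _ _, pb_comp, hX', hx])
  have hπ : ∀ n, pb H (Sigma.ι X n ≫ π) xL = x n := fun n => by
    rw [pb_comp]; exact (congrArg _ hxL).trans (hX' n)
  refine ⟨L, Sigma.ι X 0 ≫ π, xL, hπ 0, fun i h => ?_, fun i f hf => ?_⟩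
  · obtain ⟨f, hf⟩ := hy i h
    exact ⟨f ≫ Sigma.ι X 0 ≫ π, (pb_comp H _ _ _).trans ((congrArg _ (hπ 0)).trans hf)⟩
  have hsπ : s ≫ π = π := by
    have h0 := comp_distTriang_mor_zero₁₂ _ hL
    dsimp at h0
    rw [Preadditive.sub_comp, sub_eq_zero, Category.id_comp] at h0
    exact h0.symm
  have hfδ : f ≫ δ = 0 := by
    obtain ⟨i', ⟨e⟩⟩ := hs i (-1)
    have h0 : (f ≫ δ) ≫ (𝟙 (∐ X) - s)⟦(1 : ℤ)⟧' = 0 := by
      have := comp_distTriang_mor_zero₃₁ _ hL
      dsimp at this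
      rw [Category.assoc, this, comp_zero]
    let g : E i' ⟶ ∐ X := e.hom ≫ (f ≫ δ)⟦(-1 : ℤ)⟧' ≫ (shiftShiftNeg (∐ X) (1 : ℤ)).hom
    have hg : g = 0 := inj i' g (by
      have h1 : g ≫ (𝟙 (∐ X) - s) = 0 := by
        simp only [g, Category.assoc]
        erw [← (shiftFunctorCompIsoId D (1 : ℤ) (-1) (by omega)).hom.naturality (𝟙 (∐ X) - s)]
        change e.hom ≫ (shiftFunctor D (-1 : ℤ)).map (f ≫ δ) ≫ (shiftFunctor D (-1 : ℤ)).map ((shiftFunctor D (1 : ℤ)).map (𝟙 (∐ X) - s)) ≫ _ = 0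
        rw [← Functor.map_comp_assoc, h0, Functor.map_zero, zero_comp, comp_zero]
      rw [Preadditive.comp_sub, Category.comp_id, sub_eq_zero] at h1
      exact h1.symm)
    apply (shiftFunctor D (-1 : ℤ)).map_injective
    rw [Functor.map_zero, ← cancel_epi e.hom, ← cancel_mono (shiftShiftNeg (∐ X) (1 : ℤ)).hom, Category.assoc]
    simpa [g] using hg
  obtain ⟨u, hu⟩ : ∃ u : E i ⟶ ∐ X, f = u ≫ π := Triangle.coyoneda_exact₃ _ hL f hfδ
  obtain ⟨w, hw⟩ := normal i u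
  let nb : (∐ fun _ : ℕ => X 0) ⟶ X 0 := Sigma.desc fun _ => 𝟙 _
  have hcol : φ ≫ π = nb ≫ Sigma.ι X 0 ≫ π := Sigma.hom_ext _ _ fun n => by
    simp only [φ, nb, Sigma.ι_map_assoc, Sigma.ι_desc_assoc, Category.id_comp]
    induction n with
    | zero => exact Category.id_comp _
    | succ n ih =>
      refine Eq.trans ?_ ih
      have : Sigma.ι X n ≫ s = t n ≫ Sigma.ι X (n + 1) := Sigma.ι_desc _ _
      conv_rhs => rw [← hsπ, reassoc_of% this]
      exact Category.assoc _ _ _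
  have hfg : f = (w ≫ s0 ≫ nb) ≫ Sigma.ι X 0 ≫ π := by
    rw [hu, ← hsπ, reassoc_of% hw, hsπ, hcol]
    simp
  have h5 : (w ≫ s0 ≫ nb) ≫ t 0 = 0 := hk 0 i _ (by rw [← hπ 0, ← pb_comp, ← hfg]; exact hf)
  have h7 : Sigma.ι X 0 ≫ π = t 0 ≫ Sigma.ι X 1 ≫ π := by
    conv_lhs => rw [← hsπ, ← Category.assoc]
    rw [show Sigma.ι X 0 ≫ s = t 0 ≫ Sigma.ι X (0 + 1) from Sigma.ι_desc _ _, Category.assoc]
  rw [hfg, h7, ← Category.assoc, h5, zero_comp]

theorem exists_universal (h2 : Perfect E) (hs : ShiftStable E) {Y : D} (y : H.obj (op Y)) :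
    ∃ (L : D) (j : Y ⟶ L) (x : H.obj (op L)), pb H j x = y ∧ Universal H E x := by
  let F : PUnit.{v + 1} ⊕ (Σ i, (H.obj (op (E i)) : Type v)) → D := Sum.elim (fun _ => Y) (fun k => E k.1)
  obtain ⟨y₀, hy₀⟩ := exists_glue H F (fun
    | Sum.inl _ => y
    | Sum.inr k => k.2)
  obtain ⟨L, j, x, hx, hu⟩ := exists_universal_of_surj H h2 hs y₀ fun i h => ⟨Sigma.ι F (Sum.inr ⟨i, h⟩), hy₀ _⟩
  exact ⟨L, Sigma.ι F (Sum.inl PUnit.unit) ≫ j, x,
    (pb_comp H _ _ _).trans ((congrArg _ hx).trans (hy₀ (Sum.inl PUnit.unit))), hu⟩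

theorem isIso_of_universal (h1 : ∀ X : D, ¬ IsZero X → ∃ (i : ι) (f : E i ⟶ X), f ≠ 0) (hs : ShiftStable E)
    {L L' : D} (j : L ⟶ L') {x : H.obj (op L)} {x' : H.obj (op L')} (hj : pb H j x' = x)
    (hx : Universal H E x) (hx' : Universal H E x') : IsIso j := by
  obtain ⟨Z, q, d, hT⟩ := distinguished_cocone_triangle j
  refine (Triangle.isZero₃_iff_isIso₁ _ hT).1 ?_
  by_contra hZ
  obtain ⟨i, f, hf⟩ := h1 Z hZ
  refine hf ?_
  have hd : f ≫ d = 0 := by
    obtain ⟨i', ⟨e⟩⟩ := hs i (-1)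
    let g : E i' ⟶ L := e.hom ≫ (f ≫ d)⟦(-1 : ℤ)⟧' ≫ (shiftShiftNeg L (1 : ℤ)).hom
    have hg : g = 0 := hx.2 i' g (by
      have h0 : (f ≫ d) ≫ j⟦(1 : ℤ)⟧' = 0 := by
        have := comp_distTriang_mor_zero₃₁ _ hT
        dsimp at this
        rw [Category.assoc, this, comp_zero]
      have h1 : g ≫ j = 0 := by
        simp only [g, Category.assoc]
        erw [← (shiftFunctorCompIsoId D (1 : ℤ) (-1) (by omega)).hom.naturality j]
        change e.hom ≫ (shiftFunctor D (-1 : ℤ)).map (f ≫ d) ≫ (shiftFunctor D (-1 : ℤ)).map ((shiftFunctor D (1 : ℤ)).map j) ≫ _ = 0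
        rw [← Functor.map_comp_assoc, h0, Functor.map_zero, zero_comp, comp_zero]
      rw [← hj, ← pb_comp, h1]
      change (H.map (0 : E i' ⟶ L').op) x' = 0
      rw [op_zero, Functor.map_zero]
      rfl)
    apply (shiftFunctor D (-1 : ℤ)).map_injective
    rw [Functor.map_zero, ← cancel_epi e.hom, ← cancel_mono (shiftShiftNeg L (1 : ℤ)).hom, Category.assoc]
    simpa [g] using hg
  obtain ⟨g, hg⟩ : ∃ g : E i ⟶ L', f = g ≫ q := Triangle.coyoneda_exact₃ _ hT f hd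
  obtain ⟨g', hg'⟩ := hx.1 i (pb H g x')
  have hgj : g' ≫ j - g = 0 := hx'.2 i _ (by
    change (H.map (g' ≫ j - g).op) x' = 0
    rw [show (g' ≫ j - g).op = (g' ≫ j).op - g.op from rfl]
    have hsub : H.map ((g' ≫ j).op - g.op) = H.map (g' ≫ j).op - H.map g.op := Functor.map_sub H
    rw [hsub]
    exact sub_eq_zero.2 ((pb_comp H g' j x').trans ((congrArg _ hj).trans hg')))
  have h0 := comp_distTriang_mor_zero₁₂ _ hT
  dsimp at h0
  rw [hg, ← sub_eq_zero.1 hgj, Category.assoc, h0, comp_zero]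

theorem isRepresentable_of_stable (h1 : ∀ X : D, ¬ IsZero X → ∃ (i : ι) (f : E i ⟶ X), f ≠ 0) (h2 : Perfect E)
    (hs : ShiftStable E) : (H ⋙ forget AddCommGrpCat.{v}).IsRepresentable := by
  obtain ⟨L, -, x, -, hx⟩ := exists_universal H h2 hs (Y := ∐ fun e : PEmpty.{v + 1} => (e.elim : D)) 0
  have hbij : ∀ Y : D, Function.Bijective fun f : Y ⟶ L => pb H f x := by
    refine fun Y => ⟨fun f g hfg => ?_, fun y => ?_⟩
    · obtain ⟨Z, q, d, hT⟩ := distinguished_cocone_triangle (f - g)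
      obtain ⟨z, hz⟩ := exact_mid H _ hT x (by
        change (H.map (f - g).op) x = 0
        rw [show (f - g).op = f.op - g.op from rfl]
        have hsub : H.map (f.op - g.op) = H.map f.op - H.map g.op := Functor.map_sub H
        rw [hsub]
        exact sub_eq_zero.2 hfg)
      obtain ⟨L', j, x', hj, hx'⟩ := exists_universal H h2 hs z
      have := isIso_of_universal H h1 hs (q ≫ j) ((pb_comp H _ _ _).trans ((congrArg _ hj).trans hz)) hx hx'
      have h0 := comp_distTriang_mor_zero₁₂ _ hT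
      dsimp at h0
      rw [← sub_eq_zero, ← cancel_mono (q ≫ j), reassoc_of% h0, zero_comp, zero_comp]
    · let F : PUnit.{v + 1} ⊕ PUnit.{v + 1} → D := Sum.elim (fun _ => L) (fun _ => Y)
      obtain ⟨z, hz⟩ := exists_glue H F (fun
        | Sum.inl _ => x
        | Sum.inr _ => y)
      obtain ⟨L', j, x', hj, hx'⟩ := exists_universal H h2 hs z
      have hl : pb H (Sigma.ι F (Sum.inl PUnit.unit) ≫ j) x' = x :=
        (pb_comp H _ _ _).trans ((congrArg _ hj).trans (hz (Sum.inl PUnit.unit)))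
      let a : L ⟶ L' := Sigma.ι F (Sum.inl PUnit.unit) ≫ j
      have : IsIso a := isIso_of_universal H h1 hs a hl hx hx'
      refine ⟨Sigma.ι F (Sum.inr PUnit.unit) ≫ j ≫ inv a, ?_⟩
      have hinv : pb H (inv a) x = x' := by
        refine (congrArg (pb H (inv a)) hl.symm).trans ((pb_comp H (inv a) a x').symm.trans ?_)
        rw [IsIso.inv_hom_id, pb_id]
      change pb H _ x = y
      rw [pb_comp, pb_comp, hinv, hj]
      exact hz (Sum.inr PUnit.unit)
  exact Functor.RepresentableBy.isRepresentable (Y := L)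
    { homEquiv := fun {Y} => Equiv.ofBijective _ (hbij Y)
      homEquiv_comp := fun f g => pb_comp H f g x }

theorem perfect_shift {ι : Type v} {E : ι → D} (h2 : Perfect E) :
    Perfect fun k : ι × ULift.{v} ℤ => (E k.1)⟦k.2.down⟧ := by
  rintro X ⟨i, ⟨a⟩⟩ α
  dsimp only at α ⊢
  let adj := (shiftEquiv D a).toAdjunction
  let G := shiftFunctor D (-a)
  let F := shiftFunctor D a
  have : PreservesColimitsOfShape (Discrete ℕ) G :=
    inferInstanceAs (PreservesColimitsOfShape (Discrete ℕ) (shiftEquiv D a).inverse)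
  let cc : (∐ fun n => G.obj (X n)) ≅ G.obj (∐ X) := asIso (sigmaComparison G X)
  let α' : E i ⟶ G.obj (∐ X) := adj.homEquiv _ _ α
  obtain ⟨j, β, γ, hγ⟩ := h2 (fun n => G.obj (X n)) i (α' ≫ cc.inv)
  have : PreservesColimitsOfShape (Discrete ℕ) F :=
    inferInstanceAs (PreservesColimitsOfShape (Discrete ℕ) (shiftEquiv D a).functor)
  let cF : (∐ fun n => F.obj (E (j n))) ≅ F.obj (∐ fun n => E (j n)) := asIso (sigmaComparison F _)
  refine ⟨fun n => (j n, ⟨a⟩), fun n => F.map (β n) ≫ adj.counit.app (X n), F.map γ ≫ cF.inv, ?_⟩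
  have hα : α' = γ ≫ Limits.Sigma.map β ≫ cc.hom := by
    rw [← Category.assoc, ← hγ, Category.assoc, cc.inv_hom_id, Category.comp_id]
  have h3 : cF.hom ≫ F.map (Limits.Sigma.map β ≫ cc.hom) ≫ adj.counit.app (∐ X) =
      Limits.Sigma.map fun n => F.map (β n) ≫ adj.counit.app (X n) := Sigma.hom_ext _ _ fun n => by
    simp only [cF, asIso_hom, ι_comp_sigmaComparison_assoc, ← Functor.map_comp_assoc, Sigma.ι_map]
    rw [Sigma.ι_map_assoc]
    simp only [cc, asIso_hom, ι_comp_sigmaComparison, Functor.map_comp, Category.assoc]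
    congr 1
    exact adj.counit.naturality (Sigma.ι X n)
  refine Eq.trans ?_ (Category.assoc _ _ _).symm
  rw [← h3, cF.inv_hom_id_assoc, ← Functor.map_comp_assoc, ← hα]
  exact ((adj.homEquiv_counit _ _ α').symm.trans ((adj.homEquiv _ _).symm_apply_apply α)).symm

theorem isRepresentable (E : ι → D) (h1 : ∀ X : D, ¬ IsZero X → ∃ (i : ι) (f : E i ⟶ X), f ≠ 0) (h2 : Perfect E) :
    (H ⋙ forget AddCommGrpCat.{v}).IsRepresentable := by
  refine isRepresentable_of_stable H (E := fun k : ι × ULift.{v} ℤ => (E k.1)⟦k.2.down⟧) (fun X hX => ?_)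
    (perfect_shift h2) (fun k n => ?_)
  · obtain ⟨i, f, hf⟩ := h1 X hX
    refine ⟨(i, ⟨0⟩), ((shiftFunctorZero D ℤ).app (E i)).hom ≫ f, fun h => hf ?_⟩
    exact (cancel_epi ((shiftFunctorZero D ℤ).app (E i)).hom).1 (h.trans comp_zero.symm)
  · exact ⟨(k.1, ⟨k.2.down + n⟩), ⟨(shiftFunctorAdd D k.2.down n).app (E k.1)⟩⟩

end Groth.L10.Brown
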