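import Groth.Agent.L10.CechNerves
import Groth.Agent.L10.SitePush
import Groth.Agent.L10.SiteRightDerived
import Groth.Prelude.Def_CechEdge
import Mathlib.CategoryTheory.Abelian.GrothendieckCategory.EnoughInjectives
import Mathlib.CategoryTheory.Abelian.GrothendieckAxioms.FunctorCategory
import Mathlib.CategoryTheory.Abelian.GrothendieckAxioms.Sheaf
import Mathlib.CategoryTheory.Generator.Presheaf
import Mathlib.Algebra.Category.Grp.AB
import Mathlib.CategoryTheory.Sites.LocallyBijective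

/-! The edge maps from Čech cohomology to sheaf cohomology. -/

universe u

open CategoryTheory CategoryTheory.Limits CategoryTheory.Abelian Opposite

set_option backward.defeqAttrib.useBackward true
set_option backward.isDefEq.respectTransparency false
namespace Groth.L10.CechEdge

open Groth.L10.SiteCoh Groth.L10.Cech

variable {C : Type u} [SmallCategory C]

theorem psh_isGrothendieckAbelian : IsGrothendieckAbelian.{u} (Cᵒᵖ ⥤ AddCommGrpCat.{u}) := by
  have : AB5OfSize.{u, u} (Cᵒᵖ ⥤ AddCommGrpCat.{u}) := ⟨fun _ _ _ => inferInstance⟩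
  have : HasFilteredColimitsOfSize.{u, u} (Cᵒᵖ ⥤ AddCommGrpCat.{u}) := ⟨fun _ _ _ => inferInstance⟩
  exact {}

theorem psh_enoughInjectives : EnoughInjectives (Cᵒᵖ ⥤ AddCommGrpCat.{u}) := by
  have := psh_isGrothendieckAbelian (C := C)
  infer_instance

attribute [local instance] psh_enoughInjectives

/-- The presheaf hull sequence. -/
noncomputable abbrev phull (P : Cᵒᵖ ⥤ AddCommGrpCat.{u}) : ShortComplex (Cᵒᵖ ⥤ AddCommGrpCat.{u}) :=
  ShortComplex.mk (Injective.ι P) (cokernel.π _) (cokernel.condition _)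

theorem phull_shortExact (P : Cᵒᵖ ⥤ AddCommGrpCat.{u}) : (phull P).ShortExact :=
  { exact := ShortComplex.exact_cokernel _ }

variable [HasPullbacks C] (J : GrothendieckTopology C) {U : C} {ι : Type u} (Y : ι → Over U)

theorem cxMap_eq {P Q : Cᵒᵖ ⥤ AddCommGrpCat.{u}} (φ : P ⟶ Q) :
    (CechEdge.cxFunctor Y).map φ = Cech.cxMap (π := Over.forget U) (Y := Y) φ := rfl

/-- The Čech complex functor is exact on presheaves. -/
theorem cxFunctor_shortExact {S : ShortComplex (Cᵒᵖ ⥤ AddCommGrpCat.{u})} (hS : S.ShortExact) :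
    (S.map (CechEdge.cxFunctor Y)).ShortExact := by
  have hV : ∀ V : Cᵒᵖ, (S.map ((evaluation _ _).obj V)).ShortExact := fun V => hS.map_of_exact _
  refine HomologicalComplex.shortExact_of_degreewise_shortExact _ fun n => ?_
  refine { exact := ?_, mono_f := ?_, epi_g := ?_ }
  · rw [ShortComplex.ab_exact_iff]
    intro (x : (Cech.cx (Over.forget U) Y S.X₂).X n) (hx : (Cech.cxMap S.g).f n x = 0)
    choose y hy using fun a : Fin (n+1) → ι => ((ShortComplex.ab_exact_iff _).1 (hV _).exact) (co a x)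
      (show S.g.app _ (co a x) = 0 by rw [← co_map, hx, map_zero])
    exact ⟨mk y, co_ext fun a => (co_map S.f a (mk y)).trans (by rw [co_mk]; exact hy a)⟩
  · refine (AddCommGrpCat.mono_iff_injective _).2 fun (x : (Cech.cx (Over.forget U) Y S.X₁).X n)
      (y : (Cech.cx (Over.forget U) Y S.X₁).X n) h => co_ext fun a => ?_
    refine (hV _).ab_injective_f ?_
    change S.f.app _ (co a x) = S.f.app _ (co a y)
    rw [← co_map, ← co_map]
    exact congrArg (co a) h
  · refine (AddCommGrpCat.epi_iff_surjective _).2 fun (x : (Cech.cx (Over.forget U) Y S.X₃).X n) => ?_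
    choose y hy using fun a : Fin (n+1) → ι => (hV _).ab_surjective_g (co a x)
    exact ⟨mk y, co_ext fun a => (co_map S.g a (mk y)).trans (by rw [co_mk]; exact hy a)⟩

theorem isZero_cechH_injective (I : Cᵒᵖ ⥤ AddCommGrpCat.{u}) [Injective I] (p : ℕ) :
    IsZero (CohCx.cechH I Y (p+1)) :=
  (HomologicalComplex.exactAt_iff_isZero_homology _ _).1 (exactAt_of_injective (P := I) (isNerve_over Y) p)

theorem δ_phull_surjective (P : Cᵒᵖ ⥤ AddCommGrpCat.{u}) (p : ℕ) :
    Function.Surjective ((cxFunctor_shortExact Y (phull_shortExact P)).δ p (p+1) rfl) := fun y => by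
  have h := (cxFunctor_shortExact Y (phull_shortExact P)).homology_exact₁ p (p+1) rfl
  rw [ShortComplex.ab_exact_iff] at h
  have := AddCommGrpCat.subsingleton_of_isZero (isZero_cechH_injective Y (phull P).X₂ p)
  exact h y (Subsingleton.elim (α := (CohCx.cechH (phull P).X₂ Y (p+1) : Type u)) _ _)

theorem toCech_eq (P : Cᵒᵖ ⥤ AddCommGrpCat.{u}) :
    CechEdge.toCech Y P = (aug0 (isNerve_over Y) P).hom := by
  have h : CechEdge.toCech₀ P Y = AddCommGrpCat.ofHom (aug (Over.forget U) Y (fun i => (Y i).hom) P) := by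
    refine Pi.hom_ext _ _ fun a => AddCommGrpCat.hom_ext (AddMonoidHom.ext fun s => ?_)
    refine Eq.trans ?_ (co_aug (π := Over.forget U) (Y := Y) (b := fun i => (Y i).hom) P s a).symm
    rw [CechEdge.toCech₀, Pi.lift_π]
    exact congrArg (fun q => P.map (Quiver.Hom.op q) s) (Over.w (Pi.π (Y ∘ a) 0)).symm
  simp only [CechEdge.toCech, CechEdge.toCycles, aug0, h]

variable {J}

omit [HasPullbacks C] in
theorem extδ_HUmap_g {S : ShortComplex (Sheaf J AddCommGrpCat.{u})} (hS : S.ShortExact) (p : ℕ)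
    (x : CohSite.HU S.X₂ p U) : CechEdge.extδ hS U p (CechEdge.HUmap S.g p U x) = 0 := by
  rw [functor_map_apply]
  change Ext.comp (Ext.comp x (Ext.mk₀ S.g) (add_zero p)) hS.extClass (rfl : p + 1 = p + 1) = 0
  refine (Ext.comp_assoc_of_second_deg_zero _ _ _ _).trans ?_
  exact (congrArg (fun r => Ext.comp x r (rfl : p + 1 = p + 1)) hS.comp_extClass).trans (Ext.comp_zero _ _ _ _ _)

omit [HasPullbacks C] in
theorem extδ_naturality {S T : ShortComplex (Sheaf J AddCommGrpCat.{u})} (hS : S.ShortExact) (hT : T.ShortExact)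
    (τ : S ⟶ T) (p : ℕ) (x : CohSite.HU S.X₃ p U) :
    CechEdge.extδ hT U p (CechEdge.HUmap τ.τ₃ p U x) = CechEdge.HUmap τ.τ₁ (p+1) U (CechEdge.extδ hS U p x) := by
  rw [functor_map_apply, functor_map_apply]
  change Ext.comp (Ext.comp x (Ext.mk₀ τ.τ₃) (add_zero p)) hT.extClass (rfl : p + 1 = p + 1) =
    Ext.comp (Ext.comp x hS.extClass (rfl : p + 1 = p + 1)) (Ext.mk₀ τ.τ₁) (add_zero (p + 1))
  refine (Ext.comp_assoc_of_second_deg_zero _ _ _ _).trans ?_
  refine Eq.trans ?_ (Ext.comp_assoc_of_third_deg_zero _ _ _ _).symm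
  exact congrArg (fun r => Ext.comp x r (rfl : p + 1 = p + 1)) (ShortComplex.ShortExact.extClass_naturality hS hT τ).symm

theorem sectH0_map {F G : Sheaf J AddCommGrpCat.{u}} (ψ : F ⟶ G) (s : F.obj.obj (op U)) :
    CechEdge.HUmap ψ 0 U (CechEdge.sectH0 J U F s) = CechEdge.sectH0 J U G (ψ.hom.app (op U) s) := by
  rw [functor_map_apply]
  apply (CechEdge.sectH0 J U G).symm.injective
  rw [AddEquiv.symm_apply_apply]
  obtain ⟨g, hg⟩ := (Ext.mk₀_bijective _ _).2 (CechEdge.sectH0 J U F s)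
  have hg' : CohFree.evalGen J U F g = s := by
    have := congrArg (CechEdge.sectH0 J U F).symm hg
    rw [AddEquiv.symm_apply_apply] at this
    rw [← this]
    exact (congrArg (CohFree.evalGen J U F) (Ext.addEquiv₀.symm.injective (Ext.addEquiv₀.symm_apply_apply (Ext.mk₀ g)))).symm
  rw [← hg, Ext.mk₀_comp_mk₀, ← hg']
  exact congrArg (CohFree.evalGen J U G) (Ext.addEquiv₀.symm.injective (Ext.addEquiv₀.symm_apply_apply (Ext.mk₀ (g ≫ ψ))))

section Existence

variable (hY : Sieve.ofArrows (fun i => (Y i).left) (fun i => (Y i).hom) ∈ J U)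

include hY in
/-- The degree zero map. -/
noncomputable def e0 (P : Cᵒᵖ ⥤ AddCommGrpCat.{u}) : CohCx.cechH P Y 0 →+ CohSite.HU (CechEdge.shf J P) 0 U :=
  have := isIso_aug0 (isNerve_over Y) hY (CechEdge.shf J P)
  (CechEdge.sectH0 J U (CechEdge.shf J P)).toAddMonoidHom.comp
    ((inv (aug0 (isNerve_over Y) (CechEdge.shf J P).obj)).hom.comp (CechEdge.cechHMap Y (toSheafify J P) 0))

theorem e0_toCech (P : Cᵒᵖ ⥤ AddCommGrpCat.{u}) (s : P.obj (op U)) :
    e0 Y hY P (CechEdge.toCech Y P s) = CechEdge.sectH0 J U (CechEdge.shf J P) ((toSheafify J P).app (op U) s) := by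
  have := isIso_aug0 (isNerve_over Y) hY (CechEdge.shf J P)
  refine congrArg (CechEdge.sectH0 J U (CechEdge.shf J P)) ?_
  rw [toCech_eq]
  refine (congrArg (inv (aug0 (isNerve_over Y) (CechEdge.shf J P).obj))
    congr($(aug0_naturality (isNerve_over Y) (toSheafify J P)) s)).trans ?_
  exact congr($(IsIso.hom_inv_id (aug0 (isNerve_over Y) (CechEdge.shf J P).obj)) _)

theorem e0_natural {P Q : Cᵒᵖ ⥤ AddCommGrpCat.{u}} (φ : P ⟶ Q) (x : CohCx.cechH P Y 0) :
    e0 Y hY Q (CechEdge.cechHMap Y φ 0 x) = CechEdge.HUmap (CechEdge.shfMap J φ) 0 U (e0 Y hY P x) := by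
  have := isIso_aug0 (isNerve_over Y) hY (CechEdge.shf J P)
  have := isIso_aug0 (isNerve_over Y) hY (CechEdge.shf J Q)
  refine Eq.trans ?_ (sectH0_map (U := U) (CechEdge.shfMap J φ) _).symm
  refine congrArg (CechEdge.sectH0 J U (CechEdge.shf J Q)) ?_
  obtain ⟨s, hs⟩ := (ConcreteCategory.bijective_of_isIso (aug0 (isNerve_over Y) (CechEdge.shf J P).obj)).2
    (CechEdge.cechHMap Y (toSheafify J P) 0 x)
  change inv (aug0 _ _) (CechEdge.cechHMap Y (toSheafify J Q) 0 _) =
    (CechEdge.shfMap J φ).hom.app (op U) (inv (aug0 _ _) (CechEdge.cechHMap Y (toSheafify J P) 0 x))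
  have h1 : CechEdge.cechHMap Y (toSheafify J Q) 0 (CechEdge.cechHMap Y φ 0 x) =
      CechEdge.cechHMap Y (CechEdge.shfMap J φ).hom 0 (CechEdge.cechHMap Y (toSheafify J P) 0 x) := by
    have hm : (CechEdge.cxFunctor Y ⋙ HomologicalComplex.homologyFunctor _ _ 0).map φ ≫
        (CechEdge.cxFunctor Y ⋙ HomologicalComplex.homologyFunctor _ _ 0).map (toSheafify J Q) =
        (CechEdge.cxFunctor Y ⋙ HomologicalComplex.homologyFunctor _ _ 0).map (toSheafify J P) ≫
        (CechEdge.cxFunctor Y ⋙ HomologicalComplex.homologyFunctor _ _ 0).map (CechEdge.shfMap J φ).hom := by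
      rw [← Functor.map_comp, ← Functor.map_comp, toSheafify_naturality]
    exact congr($hm x)
  rw [h1, ← hs]
  refine (congrArg (inv (aug0 (isNerve_over Y) (CechEdge.shf J Q).obj))
    congr($(aug0_naturality (isNerve_over Y) (CechEdge.shfMap J φ).hom) s)).trans ?_
  refine (congr($(IsIso.hom_inv_id (aug0 (isNerve_over Y) (CechEdge.shf J Q).obj)) _)).trans ?_
  exact congrArg ((CechEdge.shfMap J φ).hom.app (op U)) congr($(IsIso.hom_inv_id (aug0 (isNerve_over Y) (CechEdge.shf J P).obj)) s).symm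

variable (J) in
theorem shf_shortExact {S : ShortComplex (Cᵒᵖ ⥤ AddCommGrpCat.{u})} (hS : S.ShortExact) :
    (S.map (presheafToSheaf J AddCommGrpCat.{u})).ShortExact :=
  hS.map_of_exact _

theorem succAux_ker (p : ℕ) (ep : ∀ P, CohCx.cechH P Y p →+ CohSite.HU (CechEdge.shf J P) p U)
    (hnat : ∀ (P Q : Cᵒᵖ ⥤ AddCommGrpCat.{u}) (φ : P ⟶ Q) x,
      ep Q (CechEdge.cechHMap Y φ p x) = CechEdge.HUmap (CechEdge.shfMap J φ) p U (ep P x))
    (S : ShortComplex (Cᵒᵖ ⥤ AddCommGrpCat.{u})) (hS : (S.map (presheafToSheaf J AddCommGrpCat.{u})).ShortExact)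
    (w : CohCx.cechH S.X₂ Y p) :
    CechEdge.extδ hS U p (ep S.X₃ (CechEdge.cechHMap Y S.g p w)) = 0 :=
  (congrArg (CechEdge.extδ hS U p) (hnat S.X₂ S.X₃ S.g w)).trans
    (extδ_HUmap_g (S := S.map (presheafToSheaf J AddCommGrpCat.{u})) hS p (ep S.X₂ w))

theorem succAux_natural (p : ℕ) (ep : ∀ P, CohCx.cechH P Y p →+ CohSite.HU (CechEdge.shf J P) p U)
    (hnat : ∀ (P Q : Cᵒᵖ ⥤ AddCommGrpCat.{u}) (φ : P ⟶ Q) x,
      ep Q (CechEdge.cechHMap Y φ p x) = CechEdge.HUmap (CechEdge.shfMap J φ) p U (ep P x))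
    (S T : ShortComplex (Cᵒᵖ ⥤ AddCommGrpCat.{u})) (hS : (S.map (presheafToSheaf J AddCommGrpCat.{u})).ShortExact)
    (hT : (T.map (presheafToSheaf J AddCommGrpCat.{u})).ShortExact) (τ : S ⟶ T) (x : CohCx.cechH S.X₃ Y p) :
    CechEdge.extδ hT U p (ep T.X₃ (CechEdge.cechHMap Y τ.τ₃ p x)) =
      CechEdge.HUmap (CechEdge.shfMap J τ.τ₁) (p+1) U (CechEdge.extδ hS U p (ep S.X₃ x)) :=
  (congrArg (CechEdge.extδ hT U p) (hnat S.X₃ T.X₃ τ.τ₃ x)).trans
    (extδ_naturality hS hT ((presheafToSheaf J AddCommGrpCat.{u}).mapShortComplex.map τ) p (ep S.X₃ x))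

theorem cech_δ_natural {S T : ShortComplex (Cᵒᵖ ⥤ AddCommGrpCat.{u})}
    (hS : (S.map (CechEdge.cxFunctor Y)).ShortExact) (hT : (T.map (CechEdge.cxFunctor Y)).ShortExact)
    (τ : S ⟶ T) (p : ℕ) (x : CohCx.cechH S.X₃ Y p) :
    CechEdge.cechHMap Y τ.τ₁ (p+1) (hS.δ p (p+1) rfl x) = hT.δ p (p+1) rfl (CechEdge.cechHMap Y τ.τ₃ p x) :=
  congr($(HomologicalComplex.HomologySequence.δ_naturality
    ((CechEdge.cxFunctor Y).mapShortComplex.map τ) hS hT p (p+1) rfl) x)

set_option maxHeartbeats 1600000 in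
/-- Extend a natural family one degree up. -/
theorem exists_succ (p : ℕ) (ep : ∀ P, CohCx.cechH P Y p →+ CohSite.HU (CechEdge.shf J P) p U)
    (hnat : ∀ (P Q : Cᵒᵖ ⥤ AddCommGrpCat.{u}) (φ : P ⟶ Q) x,
      ep Q (CechEdge.cechHMap Y φ p x) = CechEdge.HUmap (CechEdge.shfMap J φ) p U (ep P x)) :
    ∃ eq : ∀ P, CohCx.cechH P Y (p+1) →+ CohSite.HU (CechEdge.shf J P) (p+1) U,
      (∀ (P Q : Cᵒᵖ ⥤ AddCommGrpCat.{u}) (φ : P ⟶ Q) x,
        eq Q (CechEdge.cechHMap Y φ (p+1) x) = CechEdge.HUmap (CechEdge.shfMap J φ) (p+1) U (eq P x)) ∧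
      (∀ (S : ShortComplex (Cᵒᵖ ⥤ AddCommGrpCat.{u})) (hS : S.ShortExact)
        (hC : (S.map (CechEdge.cxFunctor Y)).ShortExact) (x : CohCx.cechH S.X₃ Y p),
        eq S.X₁ ((hC.δ p (p + 1) rfl).hom x) =
          CechEdge.extδ (hS.map_of_exact (presheafToSheaf J AddCommGrpCat.{u})) U p (ep S.X₃ x)) := by
  let hT := fun P => cxFunctor_shortExact Y (phull_shortExact P)
  let ψ : ∀ P, CohCx.cechH (phull P).X₃ Y p →+ CohSite.HU (CechEdge.shf J P) (p+1) U := fun P =>
    (CechEdge.extδ (shf_shortExact J (phull_shortExact P)) U p).comp (ep (phull P).X₃)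
  have hker : ∀ P, ((hT P).δ p (p+1) rfl).hom.ker ≤ (ψ P).ker := fun P z hz => by
    have h := (hT P).homology_exact₃ p (p+1) rfl
    rw [ShortComplex.ab_exact_iff] at h
    obtain ⟨w, rfl⟩ := h z hz
    exact succAux_ker Y p ep hnat (phull P) (shf_shortExact J (phull_shortExact P)) w
  let eq : ∀ P, CohCx.cechH P Y (p+1) →+ CohSite.HU (CechEdge.shf J P) (p+1) U := fun P =>
    ((hT P).δ p (p+1) rfl).hom.liftOfSurjective (δ_phull_surjective Y P p) ⟨ψ P, hker P⟩
  have heq : ∀ P z, eq P ((hT P).δ p (p+1) rfl z) = ψ P z := fun P z =>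
    AddMonoidHom.liftOfRightInverse_comp_apply _ _ _ ⟨ψ P, hker P⟩ z
  have key : ∀ (S : ShortComplex (Cᵒᵖ ⥤ AddCommGrpCat.{u})) (hS : S.ShortExact)
      (hC : (S.map (CechEdge.cxFunctor Y)).ShortExact) (Q : Cᵒᵖ ⥤ AddCommGrpCat.{u}) (φ : S.X₁ ⟶ Q)
      (x : CohCx.cechH S.X₃ Y p),
      eq Q (CechEdge.cechHMap Y φ (p+1) (hC.δ p (p+1) rfl x)) =
        CechEdge.HUmap (CechEdge.shfMap J φ) (p+1) U
          (CechEdge.extδ (hS.map_of_exact (presheafToSheaf J AddCommGrpCat.{u})) U p (ep S.X₃ x)) := by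
    intro S hS hC Q φ x
    have := hS.mono_f
    let τ : S ⟶ phull Q :=
      { τ₁ := φ
        τ₂ := Injective.factorThru (φ ≫ Injective.ι Q) S.f
        τ₃ := hS.gIsCokernel.desc (CokernelCofork.ofπ
          (Injective.factorThru (φ ≫ Injective.ι Q) S.f ≫ cokernel.π _) (by simp))
        comm₁₂ := (Injective.comp_factorThru _ _).symm
        comm₂₃ := (hS.gIsCokernel.fac (CokernelCofork.ofπ (Injective.factorThru (φ ≫ Injective.ι Q) S.f ≫ cokernel.π _) (by simp)) WalkingParallelPair.one).symm }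
    exact ((congrArg (eq Q) (cech_δ_natural Y hC (hT Q) τ p x)).trans (heq Q _)).trans
      (succAux_natural Y p ep hnat S (phull Q) (hS.map_of_exact _) (shf_shortExact J (phull_shortExact Q)) τ x)
  refine ⟨eq, fun P Q φ x => ?_, fun S hS hC x => ?_⟩
  · obtain ⟨z, rfl⟩ := δ_phull_surjective Y P p x
    rw [key (phull P) (phull_shortExact P) (hT P) Q φ z, heq]
    rfl
  · have := key S hS hC S.X₁ (𝟙 _) x
    rw [functor_map_apply] at this
    simpa [CechEdge.cechHMap] using this

include hY in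
theorem exists_edge : ∃ e : ∀ (P : Cᵒᵖ ⥤ AddCommGrpCat.{u}) (p : ℕ),
    CohCx.cechH P Y p →+ CohSite.HU (CechEdge.shf J P) p U, CechEdge.IsEdge J Y e := by
  let T : ℕ → Type _ := fun p => {ep : ∀ P, CohCx.cechH P Y p →+ CohSite.HU (CechEdge.shf J P) p U //
    ∀ (P Q : Cᵒᵖ ⥤ AddCommGrpCat.{u}) (φ : P ⟶ Q) x,
      ep Q (CechEdge.cechHMap Y φ p x) = CechEdge.HUmap (CechEdge.shfMap J φ) p U (ep P x)}
  choose s hs1 hs2 using fun p (ep : T p) => exists_succ Y p ep.1 ep.2
  let seq : ∀ p, T p := fun p => p.rec ⟨e0 Y hY, fun P Q φ x => e0_natural Y hY φ x⟩ fun k a => ⟨s k a, hs1 k a⟩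
  exact ⟨fun P p => (seq p).1 P,
    { cover := hY
      zero := e0_toCech Y hY
      natural := fun P Q φ p x => (seq p).2 P Q φ x
      delta := fun S hS hC p x => hs2 p (seq p) S hS hC x }⟩

end Existence

theorem edge_unique (e e' : ∀ (P : Cᵒᵖ ⥤ AddCommGrpCat.{u}) (p : ℕ), CohCx.cechH P Y p →+ CohSite.HU (CechEdge.shf J P) p U)
    (he : CechEdge.IsEdge J Y e) (he' : CechEdge.IsEdge J Y e') : e = e' := by
  funext P p
  induction p generalizing P with
  | zero =>
    refine AddMonoidHom.ext fun x => ?_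
    have hinj : ∀ f : ∀ (P : Cᵒᵖ ⥤ AddCommGrpCat.{u}) (p : ℕ), CohCx.cechH P Y p →+ CohSite.HU (CechEdge.shf J P) p U,
        CechEdge.IsEdge J Y f → ∀ s : (CechEdge.shf J P).obj.obj (op U),
          CechEdge.toCech Y (CechEdge.shf J P).obj s = CechEdge.cechHMap Y (toSheafify J P) 0 x →
          CechEdge.HUmap (CechEdge.shfMap J (toSheafify J P)) 0 U (f P 0 x) =
            CechEdge.sectH0 J U _ ((toSheafify J (CechEdge.shf J P).obj).app (op U) s) := fun f hf s hsx => by
      rw [← hf.natural, ← hsx, hf.zero]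
    have := isIso_aug0 (isNerve_over Y) he.cover (CechEdge.shf J P)
    obtain ⟨s, hs⟩ := (ConcreteCategory.bijective_of_isIso (aug0 (isNerve_over Y) (CechEdge.shf J P).obj)).2
      (CechEdge.cechHMap Y (toSheafify J P) 0 x)
    have hsx : CechEdge.toCech Y (CechEdge.shf J P).obj s = CechEdge.cechHMap Y (toSheafify J P) 0 x :=
      (congr($(toCech_eq Y (CechEdge.shf J P).obj) s)).trans hs
    have hh := (hinj e he s hsx).trans (hinj e' he' s hsx).symm
    have hW : IsIso ((presheafToSheaf J AddCommGrpCat.{u}).map (toSheafify J P)) :=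
      (J.W_iff _).1 (J.W_toSheafify P)
    rw [functor_map_apply, functor_map_apply] at hh
    have h3 := congrArg (fun z => Ext.comp z (Ext.mk₀ (inv ((presheafToSheaf J AddCommGrpCat.{u}).map (toSheafify J P)))) (add_zero 0)) hh
    simpa using h3
  | succ p ih =>
    refine AddMonoidHom.ext fun x => ?_
    obtain ⟨z, rfl⟩ := δ_phull_surjective Y P p x
    refine (he.delta (phull P) (phull_shortExact P) (cxFunctor_shortExact Y (phull_shortExact P)) p z).trans
      (Eq.trans ?_ (he'.delta (phull P) (phull_shortExact P) (cxFunctor_shortExact Y (phull_shortExact P)) p z).symm)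
    rw [ih]

section Comparison

variable {e : ∀ (P : Cᵒᵖ ⥤ AddCommGrpCat.{u}) (p : ℕ), CohCx.cechH P Y p →+ CohSite.HU (CechEdge.shf J P) p U}
  (he : CechEdge.IsEdge J Y e)

include he

theorem bijective_zero_sheaf (F : Sheaf J AddCommGrpCat.{u}) : Function.Bijective (e F.obj 0) := by
  have := isIso_aug0 (isNerve_over Y) he.cover F
  have : IsIso (toSheafify J F.obj) := isIso_toSheafify J F.property
  have hb : Function.Bijective (CechEdge.toCech Y F.obj) := by
    rw [toCech_eq]; exact ConcreteCategory.bijective_of_isIso (aug0 (isNerve_over Y) F.obj)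
  refine (Function.Bijective.of_comp_iff (e F.obj 0) hb).1 ?_
  rw [show e F.obj 0 ∘ CechEdge.toCech Y F.obj =
    CechEdge.sectH0 J U (CechEdge.shf J F.obj) ∘ (toSheafify J F.obj).app (op U) from funext (he.zero F.obj)]
  exact (CechEdge.sectH0 J U (CechEdge.shf J F.obj)).bijective.comp
    (ConcreteCategory.bijective_of_isIso ((toSheafify J F.obj).app (op U)))

omit he

omit [HasPullbacks C] e in
theorem HUmap_comp {F G H : Sheaf J AddCommGrpCat.{u}} (φ : F ⟶ G) (ψ : G ⟶ H) (p : ℕ) (x : CohSite.HU F p U) :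
    CechEdge.HUmap (φ ≫ ψ) p U x = CechEdge.HUmap ψ p U (CechEdge.HUmap φ p U x) := by
  rw [functor_map_apply, functor_map_apply, functor_map_apply]
  exact (Ext.mk₀_comp_mk₀ φ ψ ▸ Ext.comp_assoc_of_second_deg_zero x (Ext.mk₀ φ) (Ext.mk₀ ψ) (add_zero p)).symm

omit [HasPullbacks C] e in
theorem HUmap_bijective {F G : Sheaf J AddCommGrpCat.{u}} (φ : F ⟶ G) [IsIso φ] (p : ℕ) :
    Function.Bijective (CechEdge.HUmap φ p U) :=
  Function.bijective_iff_has_inverse.2 ⟨CechEdge.HUmap (inv φ) p U,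
    fun x => by rw [← HUmap_comp, IsIso.hom_inv_id, functor_map_apply]; exact Ext.comp_mk₀_id _,
    fun x => by rw [← HUmap_comp, IsIso.inv_hom_id, functor_map_apply]; exact Ext.comp_mk₀_id _⟩

theorem cechHMap_comp {P Q R : Cᵒᵖ ⥤ AddCommGrpCat.{u}} (φ : P ⟶ Q) (ψ : Q ⟶ R) (p : ℕ) (x : CohCx.cechH P Y p) :
    CechEdge.cechHMap Y (φ ≫ ψ) p x = CechEdge.cechHMap Y ψ p (CechEdge.cechHMap Y φ p x) :=
  congr($((CechEdge.cxFunctor Y ⋙ HomologicalComplex.homologyFunctor _ _ p).map_comp φ ψ) x)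

include he in
theorem edgeSh_natural {F G : Sheaf J AddCommGrpCat.{u}} (ψ : F ⟶ G) (p : ℕ) (x : CohCx.cechH F.obj Y p) :
    CechEdge.edgeSh e G p (CechEdge.cechHMap Y ψ.hom p x) = CechEdge.HUmap ψ p U (CechEdge.edgeSh e F p x) := by
  change CechEdge.HUmap _ p U (e G.obj p _) = CechEdge.HUmap ψ p U (CechEdge.HUmap _ p U (e F.obj p x))
  rw [he.natural, ← HUmap_comp, ← HUmap_comp]
  exact congrArg (fun φ => CechEdge.HUmap φ p U (e F.obj p x))
    ((sheafificationAdjunction J AddCommGrpCat.{u}).counit.naturality ψ)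

include he in
theorem edgeSh_bijective_zero (F : Sheaf J AddCommGrpCat.{u}) : Function.Bijective (CechEdge.edgeSh e F 0) :=
  (HUmap_bijective ((sheafificationAdjunction J AddCommGrpCat.{u}).counit.app F) 0).comp
    (bijective_zero_sheaf Y he F)

variable (F : Sheaf J AddCommGrpCat.{u})

/-- The presheaf sequence under the hull of a sheaf. -/
noncomputable abbrev tseq : ShortComplex (Cᵒᵖ ⥤ AddCommGrpCat.{u}) :=
  ShortComplex.mk (hull F).f.hom (cokernel.π _) (cokernel.condition _)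

omit [HasPullbacks C] e in
theorem tseq_shortExact : (tseq F).ShortExact := by
  have : Mono (tseq F).f := inferInstanceAs (Mono ((sheafToPresheaf J AddCommGrpCat.{u}).map (hull F).f))
  exact { exact := ShortComplex.exact_cokernel _ }

/-- The map from the presheaf quotient to the sheaf quotient. -/
noncomputable abbrev q : (tseq F).X₃ ⟶ (hull F).X₃.obj :=
  cokernel.desc _ (hull F).g.hom (congrArg (fun φ : F ⟶ (hull F).X₃ => φ.hom) (hull F).zero)

omit [HasPullbacks C] e in
theorem π_q : (tseq F).g ≫ q F = (hull F).g.hom := cokernel.π_desc _ _ _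

omit [HasPullbacks C] e in
theorem q_app_injective (V : C) : Function.Injective ((q F).app (op V)) := by
  refine (injective_iff_map_eq_zero _).2 fun x hx => ?_
  have hV := (tseq_shortExact F).map_of_exact ((evaluation Cᵒᵖ AddCommGrpCat.{u}).obj (op V))
  obtain ⟨y, rfl⟩ := hV.ab_surjective_g x
  have hy : (hull F).g.hom.app (op V) y = 0 := by rw [← π_q]; exact hx
  obtain ⟨z, rfl⟩ := app_exact (hull_shortExact F) V y hy
  exact congr($((tseq F).zero) |>.app (op V) z)

theorem cechHMap_zero_injective {P Q : Cᵒᵖ ⥤ AddCommGrpCat.{u}} (φ : P ⟶ Q)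
    (hφ : ∀ V, Function.Injective (φ.app (op V))) : Function.Injective (CechEdge.cechHMap Y φ 0) := by
  let f := (CechEdge.cxFunctor Y).map φ
  have : Mono (f.f 0) := (AddCommGrpCat.mono_iff_injective _).2
    fun (x : (Cech.cx (Over.forget U) Y P).X 0) (y : (Cech.cx (Over.forget U) Y P).X 0) h => co_ext fun a => hφ _ (by
      rw [← co_map, ← co_map]; exact congrArg (co a) h)
  have : Mono (HomologicalComplex.cyclesMap f 0) := by
    have : Mono (HomologicalComplex.cyclesMap f 0 ≫ ((CechEdge.cxFunctor Y).obj Q).iCycles 0) := by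
      rw [HomologicalComplex.cyclesMap_i]; infer_instance
    exact mono_of_mono _ (((CechEdge.cxFunctor Y).obj Q).iCycles 0)
  have := ((CechEdge.cxFunctor Y).obj P).isIso_homologyπ 0 0 (by simp) (by simp)
  have := ((CechEdge.cxFunctor Y).obj Q).isIso_homologyπ 0 0 (by simp) (by simp)
  have : Mono (HomologicalComplex.homologyMap f 0) := by
    rw [← (IsIso.inv_comp_eq _).2 (HomologicalComplex.homologyπ_naturality f 0).symm]
    infer_instance
  exact (AddCommGrpCat.mono_iff_injective _).1 this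

theorem cechHMap_bijective {P Q : Cᵒᵖ ⥤ AddCommGrpCat.{u}} (φ : P ⟶ Q)
    (hφ : ∀ (n : ℕ) (a : Fin (n+1) → ι), Function.Bijective (φ.app (op ((Over.forget U).obj (tup Y a))))) (p : ℕ) :
    Function.Bijective (CechEdge.cechHMap Y φ p) := by
  let f := (CechEdge.cxFunctor Y).map φ
  have : ∀ n, IsIso (f.f n) := fun n => (ConcreteCategory.isIso_iff_bijective _).2 ⟨
    fun (x : (Cech.cx (Over.forget U) Y P).X n) (y : (Cech.cx (Over.forget U) Y P).X n) h => co_ext fun a => (hφ n a).1 (by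
      rw [← co_map, ← co_map]; exact congrArg (co a) h),
    fun (x : (Cech.cx (Over.forget U) Y Q).X n) => by
      choose y hy using fun a => (hφ n a).2 (co a x)
      exact ⟨mk y, co_ext fun a => (co_map φ a (mk y)).trans (by rw [co_mk]; exact hy a)⟩⟩
  have : IsIso f := HomologicalComplex.Hom.isIso_of_components f
  exact ConcreteCategory.bijective_of_isIso (HomologicalComplex.homologyMap f p)

theorem δ_tseq_surjective (p : ℕ) :
    Function.Surjective ((cxFunctor_shortExact Y (tseq_shortExact F)).δ p (p+1) rfl) := fun y => by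
  have : Injective (tseq F).X₂ := injective_obj (hull F).X₂
  have h := (cxFunctor_shortExact Y (tseq_shortExact F)).homology_exact₁ p (p+1) rfl
  rw [ShortComplex.ab_exact_iff] at h
  have := AddCommGrpCat.subsingleton_of_isZero (isZero_cechH_injective Y (tseq F).X₂ p)
  exact h y (Subsingleton.elim (α := (CohCx.cechH (tseq F).X₂ Y (p+1) : Type u)) _ _)

include he in
theorem edgeSh_δ (p : ℕ) (y : CohCx.cechH (tseq F).X₃ Y p) :
    CechEdge.edgeSh e F (p+1) ((cxFunctor_shortExact Y (tseq_shortExact F)).δ p (p+1) rfl y) =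
      CechEdge.extδ (hull_shortExact F) U p (CechEdge.edgeSh e (hull F).X₃ p (CechEdge.cechHMap Y (q F) p y)) := by
  let adj := sheafificationAdjunction J AddCommGrpCat.{u}
  let σ : (tseq F).map (presheafToSheaf J AddCommGrpCat.{u}) ⟶ hull F :=
    { τ₁ := adj.counit.app F
      τ₂ := adj.counit.app (hull F).X₂
      τ₃ := CechEdge.shfMap J (q F) ≫ adj.counit.app (hull F).X₃
      comm₁₂ := (adj.counit.naturality (hull F).f).symm
      comm₂₃ := by
        change adj.counit.app (hull F).X₂ ≫ (hull F).g = (presheafToSheaf J AddCommGrpCat.{u}).map (tseq F).g ≫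
          (presheafToSheaf J AddCommGrpCat.{u}).map (q F) ≫ adj.counit.app (hull F).X₃
        rw [← Functor.map_comp_assoc, π_q]
        exact (adj.counit.naturality (hull F).g).symm }
  change CechEdge.HUmap σ.τ₁ (p+1) U (e (tseq F).X₁ (p+1) _) = _
  rw [he.delta (tseq F) (tseq_shortExact F) (cxFunctor_shortExact Y (tseq_shortExact F)) p y,
    ← extδ_naturality _ (hull_shortExact F) σ p _]
  refine congrArg (CechEdge.extδ (hull_shortExact F) U p) ((HUmap_comp _ _ p _).trans ?_)
  exact congrArg (CechEdge.HUmap _ p U) (he.natural _ _ (q F) p y).symm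

include he in
/-- The inductive step for injectivity. -/
theorem edgeSh_succ_injective (p : ℕ) (hQ : Function.Injective (CechEdge.edgeSh e (hull F).X₃ p))
    (hI : Function.Surjective (CechEdge.edgeSh e (hull F).X₂ p))
    (hq : Function.Injective (CechEdge.cechHMap Y (q F) p)) :
    Function.Injective (CechEdge.edgeSh e F (p+1)) := by
  refine (injective_iff_map_eq_zero _).2 fun z hz => ?_
  obtain ⟨y, rfl⟩ := δ_tseq_surjective Y F p z
  rw [edgeSh_δ Y he] at hz
  obtain ⟨v, hv⟩ := Ext.covariant_sequence_exact₃ _ (hull_shortExact F) _ rfl hz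
  obtain ⟨w, rfl⟩ := hI v
  have h1 : CechEdge.edgeSh e (hull F).X₃ p (CechEdge.cechHMap Y (hull F).g.hom p w) =
      CechEdge.edgeSh e (hull F).X₃ p (CechEdge.cechHMap Y (q F) p y) :=
    (edgeSh_natural Y he (hull F).g p w).trans ((functor_map_apply _ _ _ _).trans hv)
  have h2 : CechEdge.cechHMap Y (tseq F).g p w = y := hq (by
    rw [← cechHMap_comp, π_q]; exact hQ h1)
  subst h2
  exact congr($((cxFunctor_shortExact Y (tseq_shortExact F)).comp_δ p (p+1) rfl) w)

include he in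
/-- The inductive step for surjectivity. -/
theorem edgeSh_succ_surjective (p : ℕ) (hQ : Function.Surjective (CechEdge.edgeSh e (hull F).X₃ p))
    (hq : Function.Surjective (CechEdge.cechHMap Y (q F) p)) :
    Function.Surjective (CechEdge.edgeSh e F (p+1)) := fun w => by
  obtain ⟨v, hv⟩ := Ext.covariant_sequence_exact₁ _ (hull_shortExact F) w (Ext.eq_zero_of_injective _) (n₀ := p) rfl
  obtain ⟨x, rfl⟩ := hQ v
  obtain ⟨y, rfl⟩ := hq x
  exact ⟨_, (edgeSh_δ Y he F p y).trans hv⟩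

include he in
theorem edgeSh_one_injective : Function.Injective (CechEdge.edgeSh e F 1) :=
  edgeSh_succ_injective Y he F 0 (edgeSh_bijective_zero Y he _).1 (edgeSh_bijective_zero Y he _).2
    (cechHMap_zero_injective Y _ (q_app_injective F))

include he in
theorem edgeSh_bijective (h : ∀ (n : ℕ) (a : Fin (n + 1) → ι) (r : ℕ),
      Subsingleton (Ext (fs J (tup Y a).left) F (r + 1))) (p : ℕ) :
    Function.Bijective (CechEdge.edgeSh e F p) := by
  induction p generalizing F with
  | zero => exact edgeSh_bijective_zero Y he F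
  | succ p ih =>
    have hq := cechHMap_bijective Y (q F) (fun n a => ⟨q_app_injective F _, fun s => by
      have := h n a 0
      obtain ⟨t, rfl⟩ := surjective_sections_of_subsingleton (hull_shortExact F) (tup Y a).left s
      exact ⟨(tseq F).g.app _ t, congr($(π_q F) |>.app _ t)⟩⟩) p
    have hQ := ih (hull F).X₃ fun n a r => by have := h n a (r+1); exact subsingleton_ext_quot
    have hI : Function.Surjective (CechEdge.edgeSh e (hull F).X₂ p) := by
      cases p with
      | zero => exact (edgeSh_bijective_zero Y he _).2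
      | succ m => exact fun v => ⟨0, (map_zero _).trans (Ext.eq_zero_of_injective v).symm⟩
    exact ⟨edgeSh_succ_injective Y he F p hQ.1 hI hq.1, edgeSh_succ_surjective Y he F p hQ.2 hq.2⟩

end Comparison

section IsSheaf

variable {J : GrothendieckTopology C} {U : C} {ι : Type u} (Y : ι → Over U)

theorem toCech_bijective (hY : Sieve.ofArrows (fun i => (Y i).left) (fun i => (Y i).hom) ∈ J U)
    (F : Sheaf J AddCommGrpCat.{u}) : Function.Bijective (CechEdge.toCech Y F.obj) := by
  have := isIso_aug0 (isNerve_over Y) hY F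
  rw [toCech_eq]; exact ConcreteCategory.bijective_of_isIso (aug0 (isNerve_over Y) F.obj)

theorem aug_bijOn (P : Cᵒᵖ ⥤ AddCommGrpCat.{u}) (h : Function.Bijective (CechEdge.toCech Y P)) :
    Function.Injective (aug (Over.forget U) Y (fun i => (Y i).hom) P) ∧
      ∀ x, (Cech.cx (Over.forget U) Y P).d 0 1 x = 0 → ∃ s, aug (Over.forget U) Y (fun i => (Y i).hom) P s = x := by
  let K := Cech.cx (Over.forget U) Y P
  let l := K.liftCycles (AddCommGrpCat.ofHom (aug (Over.forget U) Y (fun i => (Y i).hom) P)) 1 (by simp)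
    (AddCommGrpCat.hom_ext (AddMonoidHom.ext fun s => d_aug (isNerve_over Y) P s))
  have hπ : IsIso (K.homologyπ 0) := K.isIso_homologyπ 0 0 (by simp) (by simp)
  have hl : Function.Bijective l := by
    rw [toCech_eq] at h
    exact ((ConcreteCategory.bijective_of_isIso (K.homologyπ 0)).of_comp_iff' l).1 h
  have hli : ∀ s, K.iCycles 0 (l s) = aug (Over.forget U) Y (fun i => (Y i).hom) P s :=
    fun s => congr($(K.liftCycles_i _ 1 _ _) s)
  have hi : Function.Injective (K.iCycles 0) := (AddCommGrpCat.mono_iff_injective _).1 inferInstance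
  refine ⟨fun s t hst => hl.1 (hi (by rw [hli, hli, hst])), fun x hx => ?_⟩
  have hex := ShortComplex.exact_of_f_is_kernel (ShortComplex.mk (K.iCycles 0) (K.d 0 1) (K.iCycles_d 0 1))
    (K.cyclesIsKernel 0 1 (by simp))
  rw [ShortComplex.ab_exact_iff] at hex
  obtain ⟨z, hz⟩ := hex x hx
  obtain ⟨s, hs⟩ := hl.2 z
  exact ⟨s, (hli s).symm.trans ((congrArg (K.iCycles 0) hs).trans hz)⟩

theorem isSheafFor_of_toCech_bijective (P : Cᵒᵖ ⥤ AddCommGrpCat.{u}) (h : Function.Bijective (CechEdge.toCech Y P)) :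
    Presieve.IsSheafFor (P ⋙ forget _) (Presieve.ofArrows (fun i => (Y i).left) (fun i => (Y i).hom)) := by
  rw [Presieve.isSheafFor_arrows_iff]
  intro v hv
  obtain ⟨hinj, hsurj⟩ := aug_bijOn Y P h
  have hN := isNerve_over Y
  let c : (Cech.cx (Over.forget U) Y P).X 0 :=
    mk fun a => P.map ((Over.forget U).map (Pi.π (Y ∘ a) 0)).op (v (a 0))
  have hc : (Cech.cx (Over.forget U) Y P).d 0 1 c = 0 := co_ext fun a => by
    have hr : ∀ (i : Fin 1 → ι) (W : C) (g : W ⟶ (Over.forget U).obj (tup Y i)),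
        P.map g.op (co i c) = P.map (g ≫ (Over.forget U).map (Pi.π (Y ∘ i) 0)).op (v (i 0)) := fun i W g => by
      rw [co_mk]; exact map_apply_comp P _ _ _
    have hf : ∀ j : Fin 2, (Over.forget U).map (face Y j a) ≫ (Over.forget U).map (Pi.π (Y ∘ (a ∘ j.succAbove)) 0) =
        (Over.forget U).map (Pi.π (Y ∘ a) (j.succAbove 0)) := fun j => by
      rw [← Functor.map_comp, Pi.lift_π]
    rw [co_d, map_zero, Fin.sum_univ_two, hr, hr, hf, hf]
    simp only [Fin.val_zero, Fin.val_one, pow_zero, pow_one, one_smul, neg_smul, ← sub_eq_add_neg, sub_eq_zero]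
    exact hv _ _ _ _ _ (hN.comp a _ _)
  have key : ∀ t, aug (Over.forget U) Y (fun i => (Y i).hom) P t = c ↔ ∀ i, P.map (Y i).hom.op t = v i := fun t => by
    refine ⟨fun ht i => ?_, fun ht => co_ext fun a => ?_⟩
    · obtain ⟨l, hl⟩ := hN.lift (fun _ : Fin 1 => i) (fun _ => 𝟙 _) (fun _ _ => rfl)
      have h1 := congrArg (fun z => P.map l.op (co (fun _ : Fin 1 => i) z)) ht
      simp only [co_aug, c, co_mk, map_apply_comp] at h1
      rw [← Category.assoc, hl 0, Category.id_comp, op_id] at h1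
      exact h1.trans (congr($(P.map_id _) (v i)))
    · rw [co_aug, ← map_apply_comp]
      exact (congrArg _ (ht (a 0))).trans (co_mk (fun a => P.map ((Over.forget U).map (Pi.π (Y ∘ a) 0)).op (v (a 0))) a).symm
  obtain ⟨s, hs⟩ := hsurj c hc
  exact ⟨s, (key s).1 hs, fun t ht => hinj (((key t).2 ht).trans hs.symm)⟩

theorem isSheaf_iff (P : Cᵒᵖ ⥤ AddCommGrpCat.{u}) :
    Presheaf.IsSheaf J P ↔ ∀ (U : C) (ι : Type u) (Y : ι → Over U),
      Sieve.ofArrows (fun i => (Y i).left) (fun i => (Y i).hom) ∈ J U →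
        Function.Bijective (CechEdge.toCech Y P) := by
  refine ⟨fun hP U ι Y hY => toCech_bijective Y hY ⟨P, hP⟩, fun h => ?_⟩
  rw [Presheaf.isSheaf_iff_isSheaf_forget J P (forget _), isSheaf_iff_isSheaf_of_type]
  intro V S hS
  let Y : (Σ W : C, {f : W ⟶ V // S f}) → Over V := fun i => Over.mk i.2.1
  have hSY : Sieve.ofArrows (fun i => (Y i).left) (fun i => (Y i).hom) = S := le_antisymm
    ((Sieve.generate_le_iff _ _).2 (by rintro W f ⟨i⟩; exact i.2.2))
    (fun W f hf => Sieve.ofArrows_mk _ (fun i => (Y i).hom) ⟨W, f, hf⟩)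
  have := (Presieve.isSheafFor_iff_generate _).1
    (isSheafFor_of_toCech_bijective Y P (h V _ Y (by rwa [hSY])))
  rwa [← hSY]

end IsSheaf

end Groth.L10.CechEdge
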