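import Groth.Agent.L10.RDerComplex
import Groth.Agent.L10.CechEdge
import Groth.Agent.L17.GrothSS
import Groth.Agent.L17.SiteSections
import Groth.Prelude.Def_SpSeq

/-! The Cartan-Leray spectral sequence of a covering. -/

universe u

open CategoryTheory CategoryTheory.Limits Opposite

set_option backward.defeqAttrib.useBackward true
set_option backward.isDefEq.respectTransparency false
namespace Groth.L10.CartanLeray

attribute [local instance] CechEdge.psh_enoughInjectives

variable {C : Type u} [SmallCategory C] [HasPullbacks C] (J : GrothendieckTopology C) {X : C} {ι : Type u}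
  (Y : ι → Over X)

instance additive_cxFunctor : (_root_.CechEdge.cxFunctor Y).Additive where
  map_add {P Q f g} := by
    ext n : 1
    refine AddCommGrpCat.hom_ext (AddMonoidHom.ext fun (x : (Cech.cx (Over.forget X) Y P).X n) => ?_)
    refine Cech.co_ext fun a => ?_
    refine (Cech.co_map (f + g) a x).trans ?_
    change (f + g).app _ _ = Cech.co a ((Cech.cxMap f).f n x + (Cech.cxMap g).f n x)
    rw [map_add, Cech.co_map, Cech.co_map]
    rfl

/-- Zeroth Čech cohomology. -/
noncomputable abbrev H0 : (Cᵒᵖ ⥤ AddCommGrpCat.{u}) ⥤ AddCommGrpCat.{u} :=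
  _root_.CechEdge.cxFunctor Y ⋙ HomologicalComplex.homologyFunctor AddCommGrpCat.{u} (ComplexShape.up ℕ) 0

instance : (sheafToPresheaf J AddCommGrpCat.{u}).Additive where

theorem nonempty_comp_iso (hY : Sieve.ofArrows (fun i => (Y i).left) (fun i => (Y i).hom) ∈ J X) :
    Nonempty (sheafToPresheaf J AddCommGrpCat.{u} ⋙ H0 Y ≅ Groth.L17.GrothSS.secFun J X) := by
  have hiso : ∀ F : Sheaf J AddCommGrpCat.{u}, IsIso (Cech.aug0 (Cech.isNerve_over Y) F.obj) := fun F =>
    Cech.isIso_aug0 (Cech.isNerve_over Y) hY F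
  exact ⟨(NatIso.ofComponents (fun F => @asIso _ _ _ _ _ (hiso F))
    (fun {F G} (φ : F ⟶ G) => (Cech.aug0_naturality (Cech.isNerve_over Y) φ.hom).symm)).symm⟩

theorem cartan_leray [HasInjectiveResolutions (Sheaf J AddCommGrpCat.{u})] (M : Sheaf J AddCommGrpCat.{u})
    (hY : Sieve.ofArrows (fun i => (Y i).left) (fun i => (Y i).hom) ∈ J X) :
    ∃ (E : E₂CohomologicalSpectralSequence AddCommGrpCat.{u})
      (a : SpSeq.Abutment E (fun n : ℤ =>
        if 0 ≤ n then AddCommGrpCat.of (CohSite.HU M n.toNat X) else AddCommGrpCat.of PUnit.{u + 1})),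
      (∀ n, a.IsFinite n) ∧ SpSeq.IsBounded E ∧
      ∀ p q : ℤ, Nonempty ((E.page 2 le_rfl).X (p, q) ≅
        (if 0 ≤ p ∧ 0 ≤ q then CohCx.cechH (M.cohomologyPresheaf q.toNat) Y p.toNat
         else AddCommGrpCat.of PUnit.{u + 1})) := by
  letI := HasDerivedCategory.standard (Cᵒᵖ ⥤ AddCommGrpCat.{u})
  have : PreservesFiniteLimits (H0 Y) := RDerComplex.preservesFiniteLimits_homologyZero _ (fun T hT => CechEdge.cxFunctor_shortExact Y hT)
  refine Groth.L17.GrothSS.exists_spectralSequence_of_iso (sheafToPresheaf J AddCommGrpCat.{u}) (H0 Y)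
    (fun Q hQ q hq => ?_) M _ _ ?_ ?_ ?_ ?_
  · obtain ⟨k, rfl⟩ : ∃ k, q = k + 1 := ⟨q - 1, by omega⟩
    have : Injective ((sheafToPresheaf J AddCommGrpCat.{u}).obj Q) := Cech.injective_obj Q
    exact (H0 Y).isZero_rightDerived_obj_injective_succ k _
  · intro n
    obtain ⟨e⟩ := Groth.L17.GrothSS.nonempty_rightDerived_secFun J X M n
    obtain ⟨c⟩ := nonempty_comp_iso J Y hY
    rw [if_pos (Int.natCast_nonneg n), Int.toNat_natCast]
    exact ⟨e.symm ≪≫ ((Groth.L10.SiteCoh.rightDerivedCongr c n).app M).symm⟩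
  · intro n hn
    rw [if_neg (by omega)]
    exact Groth.L17.GrothSS.isZero_punit
  · intro p q
    obtain ⟨e⟩ := Groth.L10.SiteCoh.nonempty_rightDerived_iso M q
    obtain ⟨e'⟩ := RDerComplex.nonempty_rightDerived_homology (_root_.CechEdge.cxFunctor Y)
      (fun T hT => CechEdge.cxFunctor_shortExact Y hT) (fun I hI p => CechEdge.isZero_cechH_injective Y I p) p
      (M.cohomologyPresheaf q)
    rw [if_pos ⟨Int.natCast_nonneg p, Int.natCast_nonneg q⟩, Int.toNat_natCast, Int.toNat_natCast]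
    exact ⟨((H0 Y).rightDerived p).mapIso e ≪≫ e'⟩
  · intro p q h
    rw [if_neg h]
    exact Groth.L17.GrothSS.isZero_punit

end Groth.L10.CartanLeray
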