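import Groth.Agent.L10.CechBasic
import Mathlib.Algebra.Category.Grp.Adjunctions
import Mathlib.Algebra.Homology.ShortComplex.Ab
import Mathlib.Algebra.Homology.ShortComplex.HomologicalComplex
import Mathlib.CategoryTheory.Preadditive.Injective.Basic
import Mathlib.CategoryTheory.Abelian.FunctorCategory
import Mathlib.CategoryTheory.Abelian.Injective.Basic
import Mathlib.CategoryTheory.Limits.FunctorCategory.Basic

/-! Čech complexes of injective presheaves are acyclic in positive degrees. -/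

universe u

open CategoryTheory CategoryTheory.Limits Opposite

set_option backward.defeqAttrib.useBackward true
set_option backward.isDefEq.respectTransparency false
namespace Groth.L10.Cech

variable {E : Type u} [Category.{u} E] [HasFiniteProducts E] {C : Type u} [Category.{u} C]
  (π : E ⥤ C) {ι : Type u} (Y : ι → E) {B : C} (b : ∀ i, π.obj (Y i) ⟶ B)

/-- The products of `E` are the fibre products over `B` of the `π (Y i)`. -/
structure IsNerve : Prop where
  comp : ∀ {n : ℕ} (a : Fin (n+1) → ι) (k l : Fin (n+1)),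
    π.map (Pi.π (Y ∘ a) k) ≫ b (a k) = π.map (Pi.π (Y ∘ a) l) ≫ b (a l)
  lift : ∀ {n : ℕ} (a : Fin (n+1) → ι) {V : C} (g : ∀ k, V ⟶ π.obj (Y (a k))),
    (∀ k l, g k ≫ b (a k) = g l ≫ b (a l)) → ∃ h : V ⟶ π.obj (tup Y a), ∀ k, h ≫ π.map (Pi.π (Y ∘ a) k) = g k
  hom_ext : ∀ {n : ℕ} (a : Fin (n+1) → ι) {V : C} (h h' : V ⟶ π.obj (tup Y a)),
    (∀ k, h ≫ π.map (Pi.π (Y ∘ a) k) = h' ≫ π.map (Pi.π (Y ∘ a) k)) → h = h'

/-- The presheaf of `(n+1)`-tuples of compatible sections of the family. -/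
def T (n : ℕ) : Cᵒᵖ ⥤ Type u where
  obj V := {s : Fin (n+1) → Σ i, V.unop ⟶ π.obj (Y i) // ∀ k l, (s k).2 ≫ b _ = (s l).2 ≫ b _}
  map f := ↾fun s => ⟨fun k => ⟨(s.1 k).1, f.unop ≫ (s.1 k).2⟩, fun k l => by simp [s.2 k l]⟩
  map_id V := ConcreteCategory.hom_ext _ _ fun s => Subtype.ext (funext fun k =>
    congrArg (fun q => (⟨(s.1 k).1, q⟩ : Σ i, V.unop ⟶ π.obj (Y i))) (Category.id_comp _))
  map_comp {U V W} f g := ConcreteCategory.hom_ext _ _ fun s => Subtype.ext (funext fun k =>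
    congrArg (fun q => (⟨(s.1 k).1, q⟩ : Σ i, W.unop ⟶ π.obj (Y i))) (Category.assoc _ _ _))

/-- Forgetting one entry. -/
def Tface {n : ℕ} (j : Fin (n+2)) : T π Y b (n+1) ⟶ T π Y b n where
  app V := ↾fun s => ⟨s.1 ∘ j.succAbove, fun k l => s.2 _ _⟩

/-- The free presheaf on `T n`. -/
noncomputable abbrev K (n : ℕ) : Cᵒᵖ ⥤ AddCommGrpCat.{u} := T π Y b n ⋙ AddCommGrpCat.free.{u}

/-- The differential of `K`. -/
noncomputable def Kd (n : ℕ) : K π Y b (n+1) ⟶ K π Y b n :=
  ∑ j : Fin (n+2), (-1 : ℤ) ^ (j : ℕ) • Functor.whiskerRight (Tface π Y b j) AddCommGrpCat.free.{u}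

theorem Kd_app_of {n : ℕ} (V : Cᵒᵖ) (s : (T π Y b (n+1)).obj V) :
    (Kd π Y b n).app V (FreeAbelianGroup.of s) =
      ∑ j : Fin (n+2), (-1 : ℤ) ^ (j : ℕ) • (FreeAbelianGroup.of ((Tface π Y b j).app V s) :
        FreeAbelianGroup ((T π Y b n).obj V)) := by
  simp only [Kd, NatTrans.app_sum, NatTrans.app_zsmul]
  change (AddCommGrpCat.homAddEquiv (∑ j : Fin (n+2), (-1 : ℤ) ^ (j : ℕ) •
    (Functor.whiskerRight (Tface π Y b j) AddCommGrpCat.free.{u}).app V)) (FreeAbelianGroup.of s) = _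
  simp only [map_sum, map_zsmul, AddMonoidHom.finsetSum_apply, AddMonoidHom.smul_apply]
  exact Finset.sum_congr rfl fun j _ => congrArg _ (FreeAbelianGroup.map_of_apply _)

section
variable {π Y b}

open Classical in
/-- A section over each morphism to `B` in the image. -/
noncomputable def sec {V : C} (f : V ⟶ B) (h : ∃ e : Σ i, V ⟶ π.obj (Y i), e.2 ≫ b e.1 = f) :
    Σ i, V ⟶ π.obj (Y i) :=
  Classical.choose h

theorem sec_spec {V : C} (f : V ⟶ B) (h : ∃ e : Σ i, V ⟶ π.obj (Y i), e.2 ≫ b e.1 = f) :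
    (sec f h).2 ≫ b (sec f h).1 = f := Classical.choose_spec h

theorem sec_congr {V : C} {f f' : V ⟶ B} (hf : f = f') (h : ∃ e : Σ i, V ⟶ π.obj (Y i), e.2 ≫ b e.1 = f) :
    sec f h = sec f' (hf ▸ h) := by subst hf; rfl

/-- The contracting map. -/
noncomputable def hh {n : ℕ} {V : Cᵒᵖ} (s : (T π Y b n).obj V) : (T π Y b (n+1)).obj V :=
  ⟨Fin.cons (sec ((s.1 0).2 ≫ b _) ⟨s.1 0, rfl⟩) s.1, fun k l => by
    have key : ∀ k : Fin (n+1+1), (Fin.cons (α := fun _ => Σ i, V.unop ⟶ π.obj (Y i))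
        (sec ((s.1 0).2 ≫ b _) ⟨s.1 0, rfl⟩) s.1 k).2 ≫ b _ = (s.1 0).2 ≫ b _ := fun k => by
      refine Fin.cases ?_ (fun i => ?_) k
      · rw [Fin.cons_zero]; exact sec_spec _ _
      · rw [Fin.cons_succ]; exact s.2 i 0
    exact (key k).trans (key l).symm⟩

theorem Tface_hh_zero {n : ℕ} {V : Cᵒᵖ} (s : (T π Y b n).obj V) :
    (Tface π Y b 0).app V (hh s) = s :=
  Subtype.ext (funext fun k => by simp [Tface, hh])

theorem Tface_hh_succ {n : ℕ} {V : Cᵒᵖ} (s : (T π Y b (n+1)).obj V) (j : Fin (n+2)) :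
    (Tface π Y b j.succ).app V (hh s) = hh ((Tface π Y b j).app V s) :=
  Subtype.ext (funext fun k => by
    refine Fin.cases ?_ (fun i => ?_) k
    · simpa [Tface, hh] using sec_congr (s.2 0 (j.succAbove 0)) ⟨s.1 0, rfl⟩
    · simp [Tface, hh]; rfl)

theorem exists_factor_of_injective {n : ℕ} (P : Cᵒᵖ ⥤ AddCommGrpCat.{u}) [Injective P]
    (φ : K π Y b (n+1) ⟶ P) (hφ : Kd π Y b (n+1) ≫ φ = 0) : ∃ ψ, Kd π Y b n ≫ ψ = φ := by
  have hker : kernel.ι (Kd π Y b n) ≫ φ = 0 := by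
    refine NatTrans.ext (funext fun V => AddCommGrpCat.hom_ext (AddMonoidHom.ext fun z => ?_))
    have hx : (Kd π Y b n).app V ((kernel.ι (Kd π Y b n)).app V z) = 0 :=
      congr($(congr_app (kernel.condition (Kd π Y b n)) V) z)
    change φ.app V ((kernel.ι (Kd π Y b n)).app V z) = 0
    generalize (kernel.ι (Kd π Y b n)).app V z = x at hx ⊢
    let H : ∀ m, FreeAbelianGroup ((T π Y b m).obj V) →+ FreeAbelianGroup ((T π Y b (m+1)).obj V) :=
    fun m => FreeAbelianGroup.map hh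
    let dd : ∀ m, FreeAbelianGroup ((T π Y b (m+1)).obj V) →+ FreeAbelianGroup ((T π Y b m).obj V) :=
      fun m => ((Kd π Y b m).app V).hom
    have hdd : ∀ m s, dd m (FreeAbelianGroup.of s) = ∑ j : Fin (m+2), (-1 : ℤ) ^ (j : ℕ) •
        (FreeAbelianGroup.of ((Tface π Y b j).app V s) : FreeAbelianGroup ((T π Y b m).obj V)) :=
      fun m s => Kd_app_of π Y b V s
    have key : ∀ y : FreeAbelianGroup ((T π Y b (n+1)).obj V), dd (n+1) (H (n+1) y) + H n (dd n y) = y := by
      suffices hk : (dd (n+1)).comp (H (n+1)) + (H n).comp (dd n) =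
          AddMonoidHom.id _ from fun y => DFunLike.congr_fun hk y
      refine FreeAbelianGroup.lift_ext _ _ fun s => ?_
      simp only [AddMonoidHom.add_apply, AddMonoidHom.comp_apply, AddMonoidHom.id_apply, H,
        FreeAbelianGroup.map_of_apply]
      rw [hdd, hdd]
      rw [map_sum, Fin.sum_univ_succ]
      simp only [map_zsmul, FreeAbelianGroup.map_of_apply, Tface_hh_zero, Tface_hh_succ, Fin.val_succ,
        Fin.val_zero, pow_zero, one_smul, pow_succ, mul_neg, mul_one, neg_smul, Finset.sum_neg_distrib]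
      abel
    have hx' := key x
    rw [show dd n x = 0 from hx, map_zero, add_zero] at hx'
    rw [← hx']
    exact congr($(congr_app hφ V) (H (n+1) x))
  have hex : (ShortComplex.mk _ _ (kernel.condition (Kd π Y b n))).Exact :=
    ShortComplex.exact_of_f_is_kernel _ (kernelIsKernel _)
  exact ⟨hex.descToInjective φ hker, hex.comp_descToInjective φ hker⟩

theorem Kd_comp (n : ℕ) (P : Cᵒᵖ ⥤ AddCommGrpCat.{u}) (φ : K π Y b n ⟶ P) (V : Cᵒᵖ)
    (s : (T π Y b (n+1)).obj V) :
    (Kd π Y b n ≫ φ).app V (FreeAbelianGroup.of s) =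
      ∑ j : Fin (n+2), (-1 : ℤ) ^ (j : ℕ) • φ.app V (FreeAbelianGroup.of ((Tface π Y b j).app V s)) := by
  simp only [NatTrans.comp_app, ConcreteCategory.comp_apply, Kd_app_of, map_sum, map_zsmul]

/-- The tuple of projections. -/
noncomputable def univTuple (hN : IsNerve π Y b) {n : ℕ} (a : Fin (n+1) → ι) : (T π Y b n).obj (op (π.obj (tup Y a))) :=
  ⟨fun k => ⟨a k, π.map (Pi.π (Y ∘ a) k)⟩, fun k l => hN.comp a k l⟩

/-- The morphism to the product attached to a tuple. -/
noncomputable def liftT (hN : IsNerve π Y b) {n : ℕ} {V : Cᵒᵖ} (s : (T π Y b n).obj V) :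
    V.unop ⟶ π.obj (tup Y (fun k => (s.1 k).1)) :=
  Classical.choose (hN.lift (fun k => (s.1 k).1) (fun k => (s.1 k).2) s.2)

theorem liftT_π (hN : IsNerve π Y b) {n : ℕ} {V : Cᵒᵖ} (s : (T π Y b n).obj V) (k : Fin (n+1)) :
    liftT hN s ≫ π.map (Pi.π (Y ∘ fun k => (s.1 k).1) k) = (s.1 k).2 :=
  Classical.choose_spec (hN.lift (fun k => (s.1 k).1) (fun k => (s.1 k).2) s.2) k

variable {P : Cᵒᵖ ⥤ AddCommGrpCat.{u}}

/-- The value of a cochain on a tuple. -/
noncomputable def val (hN : IsNerve π Y b) {n : ℕ} (x : (cx π Y P).X n) {V : Cᵒᵖ} (s : (T π Y b n).obj V) : P.obj V :=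
  P.map (liftT hN s).op (co (fun k => (s.1 k).1) x)

theorem val_map (hN : IsNerve π Y b) {n : ℕ} (x : (cx π Y P).X n) {V W : Cᵒᵖ} (f : V ⟶ W) (s : (T π Y b n).obj V) :
    val hN x ((T π Y b n).map f s) = P.map f (val hN x s) := by
  have h : liftT hN ((T π Y b n).map f s) = f.unop ≫ liftT hN s := hN.hom_ext _ _ _ fun k => by
    rw [Category.assoc]
    exact (liftT_π hN ((T π Y b n).map f s) k).trans (congrArg (f.unop ≫ ·) (liftT_π hN s k).symm)
  rw [val, val, h, op_comp, Quiver.Hom.op_unop, P.map_comp]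
  rfl

/-- The morphism of presheaves attached to a cochain. -/
noncomputable def toHom (hN : IsNerve π Y b) {n : ℕ} (x : (cx π Y P).X n) : K π Y b n ⟶ P where
  app V := AddCommGrpCat.ofHom (FreeAbelianGroup.lift (val hN x))
  naturality V W f := by
    refine AddCommGrpCat.hom_ext (FreeAbelianGroup.lift_ext _ _ fun s => ?_)
    change FreeAbelianGroup.lift (val hN x) (FreeAbelianGroup.map ((T π Y b n).map f) (FreeAbelianGroup.of s)) =
      P.map f (FreeAbelianGroup.lift (val hN x) (FreeAbelianGroup.of s))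
    rw [FreeAbelianGroup.map_of_apply, FreeAbelianGroup.lift_apply_of, FreeAbelianGroup.lift_apply_of, val_map]

theorem toHom_of (hN : IsNerve π Y b) {n : ℕ} (x : (cx π Y P).X n) {V : Cᵒᵖ} (s : (T π Y b n).obj V) :
    (toHom hN x).app V (FreeAbelianGroup.of s) = val hN x s :=
  FreeAbelianGroup.lift_apply_of _ _

theorem val_univTuple (hN : IsNerve π Y b) {n : ℕ} (x : (cx π Y P).X n) (a : Fin (n+1) → ι) :
    val hN x (univTuple hN a) = co a x := by
  have h : liftT hN (univTuple hN a) = 𝟙 _ := hN.hom_ext _ _ _ fun k =>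
    (liftT_π hN (univTuple hN a) k).trans (Category.id_comp _).symm
  rw [val, h, op_id]
  erw [P.map_id]
  rfl

theorem val_d (hN : IsNerve π Y b) {n : ℕ} (x : (cx π Y P).X n) {V : Cᵒᵖ} (s : (T π Y b (n+1)).obj V) :
    val hN ((cx π Y P).d n (n+1) x) s =
      ∑ j : Fin (n+2), (-1 : ℤ) ^ (j : ℕ) • val hN x ((Tface π Y b j).app V s) := by
  rw [val, co_d, map_sum]
  refine Finset.sum_congr rfl fun j _ => ?_
  rw [map_zsmul]
  refine congrArg _ ?_
  rw [← ConcreteCategory.comp_apply, ← P.map_comp, ← op_comp]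
  have h : liftT hN s ≫ π.map (face Y j (fun k => (s.1 k).1)) = liftT hN ((Tface π Y b j).app V s) :=
    hN.hom_ext _ _ _ fun k => by
      refine Eq.trans ?_ (liftT_π hN ((Tface π Y b j).app V s) k).symm
      rw [Category.assoc, ← π.map_comp, Pi.lift_π]
      exact liftT_π hN s _
  rw [h]
  rfl

/-- Čech complexes of injective presheaves are exact in positive degrees. -/
theorem exists_d_eq_of_injective (hN : IsNerve π Y b) [Injective P] {n : ℕ} (x : (cx π Y P).X (n+1))
    (hx : (cx π Y P).d (n+1) (n+2) x = 0) : ∃ y, (cx π Y P).d n (n+1) y = x := by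
  obtain ⟨ψ, hψ⟩ := exists_factor_of_injective P (toHom hN x) (by
    refine NatTrans.ext (funext fun V => AddCommGrpCat.hom_ext (FreeAbelianGroup.lift_ext _ _ fun s => ?_))
    refine (Kd_comp (n+1) P (toHom hN x) V s).trans ?_
    simp only [toHom_of, ← val_d, hx]
    simp [val])
  let y : (cx π Y P).X n := mk fun a => ψ.app _ (FreeAbelianGroup.of (univTuple hN a))
  have hy : ∀ {V : Cᵒᵖ} (s : (T π Y b n).obj V), val hN y s = ψ.app V (FreeAbelianGroup.of s) := by
    intro V s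
    rw [val, co_mk]
    refine (congr($(ψ.naturality (liftT hN s).op) (FreeAbelianGroup.of (univTuple hN (fun k => (s.1 k).1))))).symm.trans ?_
    change ψ.app V (FreeAbelianGroup.map ((T π Y b n).map (liftT hN s).op)
      (FreeAbelianGroup.of (univTuple hN (fun k => (s.1 k).1)))) = _
    rw [FreeAbelianGroup.map_of_apply]
    refine congrArg _ (congrArg _ (Subtype.ext (funext fun k => ?_)))
    exact congrArg (fun q => (⟨(s.1 k).1, q⟩ : Σ i, V.unop ⟶ π.obj (Y i))) (liftT_π hN s k)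
  refine ⟨y, co_ext fun a => ?_⟩
  have := val_d hN y (univTuple hN a)
  rw [val_univTuple] at this
  rw [this]
  simp only [hy]
  rw [← Kd_comp, hψ, toHom_of, val_univTuple]

theorem exactAt_of_injective (hN : IsNerve π Y b) [Injective P] (n : ℕ) : (cx π Y P).ExactAt (n+1) := by
  rw [HomologicalComplex.exactAt_iff' _ n (n+1) (n+2) (by simp) (by simp), ShortComplex.ab_exact_iff]
  intro x hx
  exact exists_d_eq_of_injective hN x hx

end

end Groth.L10.Cech
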