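import Groth.Agent.L10.CechNerves
import Groth.Agent.L10.TopCoh
import Mathlib.Topology.Sheaves.SheafCondition.UniqueGluing

/-!
Čech complexes of a sheaf whose sections on the union of a family extend those on the unions of finite
intersections of members: reduction to flasque sheaves on the topology generated by the family.
-/

set_option autoImplicit false
set_option linter.style.haveILetI false
set_option backward.defeqAttrib.useBackward true
set_option backward.isDefEq.respectTransparency false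
universe u

open CategoryTheory CategoryTheory.Limits Opposite TopologicalSpace

noncomputable section

namespace Groth.L10.CechCoarse

variable {X : TopCat.{u}} {ι : Type u} (U : ι → Opens X)

/-- The union of the family, to be topologized by the family. -/
def Coarse : Type u := {x : X // x ∈ iSup U}

instance : TopologicalSpace (Coarse U) :=
  TopologicalSpace.generateFrom (Set.range fun i => {p : Coarse U | p.1 ∈ U i})

/-- The union with the topology generated by the family. -/
abbrev coarse : TopCat.{u} := TopCat.of (Coarse U)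

/-- The inclusion as a map of sets. -/
def val (p : Coarse U) : X := p.1

theorem val_injective : Function.Injective (val U) := Subtype.val_injective

/-- The opens of the family. -/
def member (i : ι) : Opens (coarse U) :=
  ⟨{p : Coarse U | p.1 ∈ U i}, TopologicalSpace.isOpen_generateFrom_of_mem ⟨i, rfl⟩⟩

theorem isOpen_image {s : Set (Coarse U)} (hs : IsOpen s) : IsOpen (val U '' s) := by
  induction hs with
  | basic s hs =>
    obtain ⟨i, rfl⟩ := hs
    convert (U i).isOpen
    ext x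
    exact ⟨fun ⟨p, hp, hpx⟩ => hpx ▸ hp, fun hx => ⟨⟨x, Opens.mem_iSup.2 ⟨i, hx⟩⟩, hx, rfl⟩⟩
  | univ =>
    convert (iSup U).isOpen
    ext x
    exact ⟨fun ⟨p, _, hpx⟩ => hpx ▸ p.2, fun hx => ⟨⟨x, hx⟩, trivial, rfl⟩⟩
  | inter s t _ _ hs ht =>
    rw [Set.image_inter (val_injective U)]
    exact hs.inter ht
  | sUnion S _ ih =>
    rw [Set.image_sUnion]
    exact isOpen_sUnion (Set.forall_mem_image.2 ih)

/-- The open of `X` with the same points. -/
def img (V : Opens (coarse U)) : Opens X := ⟨val U '' (V : Set (Coarse U)), isOpen_image U V.isOpen⟩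

theorem mem_img {V : Opens (coarse U)} {x : X} : x ∈ img U V ↔ ∃ h : x ∈ iSup U, (⟨x, h⟩ : Coarse U) ∈ V :=
  ⟨fun ⟨p, hp, hpx⟩ => hpx ▸ ⟨p.2, hp⟩, fun ⟨h, hh⟩ => ⟨⟨x, h⟩, hh, rfl⟩⟩

theorem img_mono {V W : Opens (coarse U)} (h : V ≤ W) : img U V ≤ img U W := Set.image_mono h

/-- The image functor. -/
def imgFun : Opens (coarse U) ⥤ Opens X := Monotone.functor (f := img U) fun _ _ h => img_mono U h

variable (F : CohTop.Ab X)

/-- The sheaf on the coarse space. -/
def coarsePre : TopCat.Presheaf AddCommGrpCat.{u} (coarse U) := (imgFun U).op ⋙ F.obj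

theorem isSheaf_coarsePre : TopCat.Presheaf.IsSheaf (coarsePre U F) := by
  rw [TopCat.Presheaf.isSheaf_iff_isSheafUniqueGluing]
  intro κ V sf hsf
  have hc : TopCat.Presheaf.IsCompatible F.obj (fun k => img U (V k)) sf := fun i j => by
    have hle : img U (V i) ⊓ img U (V j) ≤ img U (V i ⊓ V j) := fun x hx => by
      obtain ⟨h, hi⟩ := (mem_img U).1 hx.1
      obtain ⟨h', hj⟩ := (mem_img U).1 hx.2
      exact (mem_img U).2 ⟨h, hi, hj⟩
    have h2 := congrArg (F.obj.map (homOfLE hle).op) (hsf i j)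
    change F.obj.map _ (F.obj.map _ _) = F.obj.map _ (F.obj.map _ _) at h2
    rw [← ConcreteCategory.comp_apply, ← ConcreteCategory.comp_apply, ← F.obj.map_comp, ← F.obj.map_comp] at h2
    exact h2
  have hsup : img U (iSup V) = ⨆ k, img U (V k) := by
    ext x
    simp only [SetLike.mem_coe, Opens.mem_iSup, mem_img]
    exact ⟨fun ⟨h, k, hk⟩ => ⟨k, h, hk⟩, fun ⟨k, h, hk⟩ => ⟨h, k, hk⟩⟩
  obtain ⟨s, hs, huniq⟩ := TopCat.Sheaf.existsUnique_gluing' F (fun k => img U (V k)) (img U (iSup V))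
    (fun k => homOfLE (img_mono U (le_iSup V k))) hsup.le sf hc
  exact ⟨s, fun k => hs k, fun s' hs' => huniq s' fun k => hs' k⟩

/-- The sheaf on the coarse space. -/
def coarseSheaf : CohTop.Ab (coarse U) := ⟨coarsePre U F, isSheaf_coarsePre U F⟩

theorem exists_tuple {s : Set (Coarse U)} (hs : IsOpen s) : ∀ p ∈ s, ∃ (n : ℕ) (a : Fin (n + 1) → ι),
    (∀ k, p.1 ∈ U (a k)) ∧ ∀ q : Coarse U, (∀ k, q.1 ∈ U (a k)) → q ∈ s := by
  induction hs with
  | basic s hs =>
    obtain ⟨i, rfl⟩ := hs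
    exact fun p hp => ⟨0, fun _ => i, fun _ => hp, fun q hq => hq 0⟩
  | univ =>
    intro p _
    obtain ⟨i, hi⟩ := Opens.mem_iSup.1 p.2
    exact ⟨0, fun _ => i, fun _ => hi, fun q _ => trivial⟩
  | inter s t _ _ hs ht =>
    intro p hp
    obtain ⟨n, a, ha, ha'⟩ := hs p hp.1
    obtain ⟨m, b, hb, hb'⟩ := ht p hp.2
    refine ⟨n + m + 1, Fin.append a b ∘ Fin.cast (by omega), fun k => ?_, fun q hq => ⟨ha' q fun k => ?_, hb' q fun k => ?_⟩⟩
    · show p.1 ∈ U (Fin.append a b (Fin.cast _ k))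
      generalize (Fin.cast _ k : Fin (n + 1 + (m + 1))) = j
      refine Fin.addCases (fun i => ?_) (fun i => ?_) j
      · rw [Fin.append_left]; exact ha i
      · rw [Fin.append_right]; exact hb i
    · have h := hq (Fin.cast (by omega) (Fin.castAdd (m + 1) k))
      simpa [Fin.append_left] using h
    · have h := hq (Fin.cast (by omega) (Fin.natAdd (n + 1) k))
      simpa [Fin.append_right] using h
  | sUnion S _ ih =>
    rintro p ⟨t, ht, hp⟩
    obtain ⟨n, a, ha, ha'⟩ := ih t ht p hp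
    exact ⟨n, a, ha, fun q hq => ⟨t, ht, ha' q hq⟩⟩

variable (h : ∀ (κ : Type u) (a : κ → Σ p : ℕ, Fin (p + 1) → ι),
    Function.Surjective (F.obj.map (homOfLE
      (iSup_le fun k => (iInf_le _ ⟨0, Nat.succ_pos _⟩).trans (le_iSup U ((a k).2 ⟨0, Nat.succ_pos _⟩)) :
        (⨆ k, ⨅ j, U ((a k).2 j)) ≤ iSup U)).op))

include h in
theorem isFlasque_coarseSheaf : TopCat.Sheaf.IsFlasque (coarseSheaf U F) := by
  have htop : img U ⊤ = iSup U := by
    ext x
    exact ⟨fun hx => ((mem_img U).1 hx).1, fun hx => (mem_img U).2 ⟨hx, trivial⟩⟩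
  have key : ∀ V : Opens (coarse U),
      Function.Surjective (F.obj.map (homOfLE (img_mono U (le_top : V ≤ ⊤))).op) := by
    intro V t
    let κ : Type u := {a : Σ p : ℕ, Fin (p + 1) → ι // (⨅ j, U (a.2 j)) ≤ img U V}
    have hle : img U V ≤ ⨆ k : κ, ⨅ j, U (k.1.2 j) := fun x hx => by
      obtain ⟨hx', hxV⟩ := (mem_img U).1 hx
      obtain ⟨n, a, ha, ha'⟩ := exists_tuple U V.isOpen ⟨x, hx'⟩ hxV
      have hmem : ∀ y, y ∈ (⨅ j, U (a j)) ↔ ∀ j, y ∈ U (a j) := fun y => by
        rw [← Cech.tup_eq_iInf]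
        refine ⟨fun hy k => (Pi.π (U ∘ a) k).le hy, fun hy => ?_⟩
        let W : Opens X := ⟨⋂ k, (U (a k) : Set X), isOpen_iInter_of_finite fun k => (U (a k)).isOpen⟩
        exact (Pi.lift (f := U ∘ a) fun k => homOfLE (show W ≤ U (a k) from Set.iInter_subset _ k)).le
          (show y ∈ W from Set.mem_iInter.2 hy)
      refine Opens.mem_iSup.2 ⟨⟨⟨n, a⟩, fun y hy => ?_⟩, (hmem x).2 ha⟩
      have hyS : y ∈ iSup U := Opens.mem_iSup.2 ⟨a 0, (hmem y).1 hy 0⟩
      exact (mem_img U).2 ⟨hyS, ha' ⟨y, hyS⟩ ((hmem y).1 hy)⟩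
    obtain ⟨g, hg⟩ := h κ Subtype.val (F.obj.map (homOfLE (iSup_le fun k : κ => k.2)).op t)
    refine ⟨F.obj.map (homOfLE htop.le).op g, ?_⟩
    have h2 := congrArg (F.obj.map (homOfLE hle).op) hg
    rw [← ConcreteCategory.comp_apply, ← ConcreteCategory.comp_apply, ← F.obj.map_comp, ← F.obj.map_comp] at h2
    rw [← ConcreteCategory.comp_apply, ← F.obj.map_comp]
    refine Eq.trans ?_ (h2.trans ?_)
    · rfl
    · exact congr($(F.obj.map_id (op (img U V))) t)
  refine ⟨fun {A B} i => (AddCommGrpCat.epi_iff_surjective _).2 fun t => ?_⟩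
  obtain ⟨g, hg⟩ := key B.unop t
  refine ⟨F.obj.map (homOfLE (img_mono U (le_top : A.unop ≤ ⊤))).op g, ?_⟩
  change F.obj.map _ (F.obj.map _ g) = t
  rw [← ConcreteCategory.comp_apply, ← F.obj.map_comp]
  exact hg

theorem img_tup {n : ℕ} (a : Fin (n + 1) → ι) : img U (Cech.tup (member U) a) = Cech.tup U a := by
  apply le_antisymm
  · intro x hx
    obtain ⟨hx', hxV⟩ := (mem_img U).1 hx
    let W : Opens X := ⟨⋂ k, (U (a k) : Set X), isOpen_iInter_of_finite fun k => (U (a k)).isOpen⟩
    exact (Pi.lift (f := U ∘ a) fun k => homOfLE (show W ≤ U (a k) from Set.iInter_subset _ k)).le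
      (show x ∈ W from Set.mem_iInter.2 fun k => (Pi.π (member U ∘ a) k).le hxV)
  · intro x hx
    have hk : ∀ k, x ∈ U (a k) := fun k => (Pi.π (U ∘ a) k).le hx
    refine (mem_img U).2 ⟨Opens.mem_iSup.2 ⟨a 0, hk 0⟩, ?_⟩
    let W : Opens (coarse U) := ⟨⋂ k, ((member U (a k) : Opens (coarse U)) : Set (Coarse U)),
      isOpen_iInter_of_finite fun k => (member U (a k)).isOpen⟩
    exact (Pi.lift (f := member U ∘ a) fun k => homOfLE (show W ≤ member U (a k) from Set.iInter_subset _ k)).le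
      (show (⟨x, _⟩ : Coarse U) ∈ W from Set.mem_iInter.2 hk)

include h in
theorem exactAt_cech (p : ℕ) : (Cech.cx (𝟭 (Opens X)) U F.obj).ExactAt (p + 1) := by
  haveI := isFlasque_coarseSheaf U F h
  have hex : (Cech.cx (𝟭 (Opens (coarse U))) (member U) (coarseSheaf U F).obj).ExactAt (p + 1) :=
    Cech.exactAt_of_class (Cech.isNerve_opens (member U)) (Cech.cover_opens (member U))
      (fun G => TopCat.Sheaf.IsFlasque G)
      (fun G hG => by
        have : TopCat.Sheaf.IsFlasque (SiteCoh.hull G).X₁ := hG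
        have : TopCat.Sheaf.IsFlasque (SiteCoh.hull G).X₂ := TopCoh.isFlasque_of_injective _
        exact TopCat.Sheaf.IsFlasque.of_shortExact_of_isFlasque₁₂ (SiteCoh.hull_shortExact G))
      (fun G hG => by
        have := TopCoh.subsingleton_ext_of_flasque G hG (iSup (member U)) 0
        exact SiteCoh.surjective_sections_of_subsingleton (SiteCoh.hull_shortExact G) _)
      (fun G hG n a => by
        have := TopCoh.subsingleton_ext_of_flasque G hG ((𝟭 (Opens (coarse U))).obj (Cech.tup (member U) a)) 0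
        exact SiteCoh.surjective_sections_of_subsingleton (SiteCoh.hull_shortExact G) _)
      (coarseSheaf U F) inferInstance p
  let C := Cech.cx (𝟭 (Opens X)) U F.obj
  let C' := Cech.cx (𝟭 (Opens (coarse U))) (member U) (coarseSheaf U F).obj
  let bwd : ∀ {n : ℕ}, C.X n → C'.X n := fun {n} z =>
    Cech.mk fun a => F.obj.map (homOfLE (img_tup U a).le).op (Cech.co a z)
  let fwd : ∀ {n : ℕ}, C'.X n → C.X n := fun {n} z =>
    Cech.mk fun a => F.obj.map (homOfLE (img_tup U a).ge).op (Cech.co a z)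
  have hres : ∀ {A B D : Opens X} (f : B ⟶ A) (g : D ⟶ B) (e : D ⟶ A) (z : F.obj.obj (op A)),
      F.obj.map g.op (F.obj.map f.op z) = F.obj.map e.op z := fun f g e z => by
    rw [← ConcreteCategory.comp_apply, ← F.obj.map_comp]
    exact congr($(congrArg F.obj.map (Subsingleton.elim (f.op ≫ g.op) e.op)) z)
  have dbwd : ∀ (n : ℕ) (z : C.X n), C'.d n (n + 1) (bwd z) = bwd (C.d n (n + 1) z) := fun n z => by
    refine Cech.co_ext fun a => ?_
    simp only [bwd, Cech.co_mk]
    erw [Cech.co_d, Cech.co_d]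
    refine Eq.trans ?_ (map_sum _ _ _).symm
    refine Finset.sum_congr rfl fun j _ => ?_
    refine Eq.trans (congrArg _ ?_) (map_zsmul _ _ _).symm
    rw [Cech.co_mk]
    change F.obj.map ((imgFun U).map (Cech.face (member U) j a)).op (F.obj.map _ _) = F.obj.map _ (F.obj.map _ _)
    exact (hres _ _ (homOfLE ((img_mono U (Cech.face (member U) j a).le).trans (img_tup U _).le)) _).trans (hres _ _ _ _).symm
  have dfwd : ∀ (n : ℕ) (z : C'.X n), C.d n (n + 1) (fwd z) = fwd (C'.d n (n + 1) z) := fun n z => by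
    refine Cech.co_ext fun a => ?_
    simp only [fwd, Cech.co_mk]
    erw [Cech.co_d, Cech.co_d]
    refine Eq.trans ?_ (map_sum _ _ _).symm
    refine Finset.sum_congr rfl fun j _ => ?_
    refine Eq.trans (congrArg _ ?_) (map_zsmul _ _ _).symm
    rw [Cech.co_mk]
    change F.obj.map (Cech.face U j a).op (F.obj.map _ _) = F.obj.map _ (F.obj.map ((imgFun U).map _).op _)
    exact (hres _ _ (homOfLE ((Cech.face U j a).le.trans (img_tup U _).ge)) _).trans (hres _ _ _ _).symm
  have fb : ∀ (n : ℕ) (z : C.X n), fwd (bwd z) = z := fun n z => by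
    refine Cech.co_ext fun a => ?_
    simp only [fwd, bwd, Cech.co_mk]
    erw [hres _ _ (𝟙 _)]
    exact congr($(F.obj.map_id _) (Cech.co a z))
  rw [HomologicalComplex.exactAt_iff' _ p (p + 1) (p + 2) (by simp) (by simp), ShortComplex.ab_exact_iff] at hex ⊢
  intro x hx
  have hx' : C'.d (p + 1) (p + 2) (bwd x) = 0 := by
    rw [dbwd (p + 1) x]
    refine Cech.co_ext fun a => ?_
    simp only [bwd, Cech.co_mk]
    erw [hx]
    rw [map_zero, map_zero, map_zero]
  obtain ⟨y, hy⟩ := hex (bwd x) hx'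
  refine ⟨fwd y, ?_⟩
  change C.d p (p + 1) (fwd y) = x
  rw [dfwd p y]
  exact (congrArg fwd hy).trans (fb _ x)

end Groth.L10.CechCoarse
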