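import Groth.Agent.L10.CechBasic
import Mathlib.Topology.Category.TopCat.Opens
import Mathlib.Algebra.Homology.Single
import Mathlib.Algebra.Homology.Homotopy
import Mathlib.CategoryTheory.Limits.Lattice

/-! The Čech complex of a family one of whose members is the union. -/

universe u

open CategoryTheory CategoryTheory.Limits Opposite TopologicalSpace

set_option backward.defeqAttrib.useBackward true
set_option backward.isDefEq.respectTransparency false
namespace Groth.L10.CechCone

open Groth.L10.Cech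

variable {X : TopCat.{u}} (F : (Opens X)ᵒᵖ ⥤ AddCommGrpCat.{u}) {ι : Type u} (U : ι → Opens X)

/-- Restriction. -/
abbrev r {V W : Opens X} (h : V ≤ W) : F.obj (op W) ⟶ F.obj (op V) := F.map (homOfLE h).op

theorem r_r {V W Z : Opens X} (h : V ≤ W) (h' : W ≤ Z) (x : F.obj (op Z)) : r F h (r F h' x) = r F (h.trans h') x := by
  rw [← ConcreteCategory.comp_apply, ← F.map_comp]
  rfl

theorem map_eq_r {V W : Opens X} (f : V ⟶ W) (x : F.obj (op W)) : F.map f.op x = r F f.le x := rfl

theorem r_refl {V : Opens X} (h : V ≤ V) (x : F.obj (op V)) : r F h x = x := by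
  change F.map (𝟙 (op V)) x = x
  rw [F.map_id]
  rfl

/-- The Čech complex. -/
noncomputable abbrev K : CochainComplex AddCommGrpCat.{u} ℕ := cx (𝟭 (Opens X)) U F

/-- A coordinate. -/
noncomputable abbrev c {n : ℕ} (a : Fin (n + 1) → ι) : ((K F U).X n : Type u) →+ F.obj (op (tup U a)) :=
  co (π := 𝟭 (Opens X)) a

theorem c_congr {n : ℕ} {a b : Fin (n + 1) → ι} (hab : a = b) {V : Opens X} (h : V ≤ tup U a) (h' : V ≤ tup U b)
    (x : (K F U).X n) : r F h (c F U a x) = r F h' (c F U b x) := by
  subst hab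
  rfl

theorem le_tup {n : ℕ} {a : Fin (n + 1) → ι} {V : Opens X} (h : ∀ k, V ≤ U (a k)) : V ≤ tup U a :=
  (Pi.lift (f := U ∘ a) fun k => homOfLE (h k)).le

theorem tup_le {n : ℕ} (a : Fin (n + 1) → ι) (k : Fin (n + 1)) : tup U a ≤ U (a k) :=
  (Pi.π (U ∘ a) k).le

theorem c_d {n : ℕ} (a : Fin (n + 2) → ι) (x : (K F U).X n) :
    c F U a ((K F U).d n (n + 1) x) =
      ∑ j : Fin (n + 2), (-1 : ℤ) ^ (j : ℕ) • r F (face U j a).le (c F U (a ∘ j.succAbove) x) :=
  co_d a x

variable (i : ι) (hi : U i = iSup U)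

include hi in
theorem tup_le_cons {n : ℕ} (a : Fin (n + 1) → ι) : tup U a ≤ tup U (Fin.cons i a : Fin (n + 2) → ι) := by
  refine le_tup U fun k => ?_
  refine Fin.cases ?_ (fun l => ?_) k
  · rw [Fin.cons_zero, hi]
    exact (tup_le U a 0).trans (le_iSup U _)
  · rw [Fin.cons_succ]
    exact tup_le U a l

include hi in
theorem top_le : iSup U ≤ tup U (fun _ : Fin 1 => i) := le_tup U fun _ => hi.ge

theorem tup_le_sup {n : ℕ} (a : Fin (n + 1) → ι) : tup U a ≤ iSup U := (tup_le U a 0).trans (le_iSup U _)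

/-- The extra degeneracy. -/
noncomputable def h (n : ℕ) : (K F U).X (n + 1) ⟶ (K F U).X n :=
  AddCommGrpCat.ofHom
    { toFun := fun x => mk (π := 𝟭 (Opens X)) fun a => r F (tup_le_cons U i hi a) (c F U (Fin.cons i a) x)
      map_zero' := co_ext fun a => (co_mk _ a).trans (by simp only [map_zero])
      map_add' := fun x y => co_ext fun a => (co_mk _ a).trans (by
        simp only [map_add]; erw [co_mk, co_mk]) }

theorem c_h {n : ℕ} (a : Fin (n + 1) → ι) (x : (K F U).X (n + 1)) :
    c F U a (h F U i hi n x) = r F (tup_le_cons U i hi a) (c F U (Fin.cons i a) x) :=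
  co_mk _ a

/-- The augmentation in degree zero. -/
noncomputable def ε₀ : F.obj (op (iSup U)) ⟶ (K F U).X 0 :=
  AddCommGrpCat.ofHom
    { toFun := fun x => mk (π := 𝟭 (Opens X)) fun a => r F (tup_le_sup U a) x
      map_zero' := co_ext fun a => (co_mk _ a).trans (by simp only [map_zero])
      map_add' := fun x y => co_ext fun a => (co_mk _ a).trans (by
        simp only [map_add]; erw [co_mk, co_mk]) }

theorem c_ε₀ (a : Fin 1 → ι) (x : F.obj (op (iSup U))) : c F U a (ε₀ F U x) = r F (tup_le_sup U a) x := co_mk _ a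

theorem ε₀_d : ε₀ F U ≫ (K F U).d 0 1 = 0 := by
  ext x
  refine co_ext fun a => ?_
  change c F U a ((K F U).d 0 (0 + 1) (ε₀ F U x)) = c F U a 0
  rw [c_d, map_zero]
  simp [Fin.sum_univ_two, c_ε₀, r_r]

/-- Evaluation at `i`. -/
noncomputable def η₀ : (K F U).X 0 ⟶ F.obj (op (iSup U)) :=
  AddCommGrpCat.ofHom ((r F (top_le U i hi)).hom.comp (c F U (fun _ : Fin 1 => i)))

theorem key (n : ℕ) (x : (K F U).X (n + 1)) :
    h F U i hi (n + 1) ((K F U).d (n + 1) (n + 2) x) + (K F U).d n (n + 1) (h F U i hi n x) = x := by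
  refine co_ext fun a => ?_
  change c F U a _ = c F U a x
  rw [map_add, c_h, c_d, c_d, Fin.sum_univ_succ, map_add, map_sum]
  have h0 : r F (tup_le_cons U i hi a) ((-1 : ℤ) ^ ((0 : Fin (n + 3)) : ℕ) • r F (face U 0 (Fin.cons i a)).le
      (c F U ((Fin.cons i a : Fin (n + 3) → ι) ∘ (0 : Fin (n + 3)).succAbove) x)) = c F U a x := by
    simp only [Fin.val_zero, pow_zero, one_smul, r_r]
    exact (c_congr F U (funext fun k => by simp) _ le_rfl x).trans (r_refl F _ _)
  rw [h0, add_assoc, ← Finset.sum_add_distrib, Finset.sum_eq_zero, add_zero]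
  intro j _
  rw [c_h, map_zsmul, r_r, r_r, Fin.val_succ, pow_succ, mul_neg_one, neg_smul, neg_add_eq_zero]
  congr 1
  exact c_congr F U (funext fun k => by refine Fin.cases ?_ (fun l => ?_) k <;> simp) _ _ x

theorem key₀ (x : (K F U).X 0) :
    h F U i hi 0 ((K F U).d 0 1 x) + ε₀ F U (η₀ F U i hi x) = x := by
  refine co_ext fun a => ?_
  change c F U a (h F U i hi 0 ((K F U).d 0 (0 + 1) x) + _) = c F U a x
  rw [map_add, c_h, c_d, Fin.sum_univ_two, c_ε₀, map_add]
  simp only [Fin.val_zero, Fin.val_one, pow_zero, pow_one, one_smul, neg_smul, map_neg, r_r]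
  have h1 : r F ((tup_le_cons U i hi a).trans (face U 0 (Fin.cons i a)).le)
      (c F U ((Fin.cons i a : Fin 2 → ι) ∘ (0 : Fin 2).succAbove) x) = c F U a x :=
    (c_congr F U (funext fun k => by simp) _ le_rfl x).trans (r_refl F _ _)
  rw [h1, add_assoc, add_eq_left, neg_add_eq_zero]
  change _ = r F _ (r F _ (c F U (fun _ : Fin 1 => i) x))
  rw [r_r]
  exact c_congr F U (funext fun k => by fin_cases k; simp) _ _ x

/-- The homotopy equivalence with the sections on the union. -/
noncomputable def equiv :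
    HomotopyEquiv ((CochainComplex.single₀ AddCommGrpCat.{u}).obj (F.obj (op (iSup U)))) (K F U) where
  hom := ((K F U).fromSingle₀Equiv _).symm ⟨ε₀ F U, ε₀_d F U⟩
  inv := ((K F U).toSingle₀Equiv _).symm (η₀ F U i hi)
  homotopyHomInvId := Homotopy.ofEq (by
    refine HomologicalComplex.from_single_hom_ext ?_
    ext x
    simp
    change r F (top_le U i hi) (c F U (fun _ : Fin 1 => i) (ε₀ F U x)) = x
    rw [c_ε₀, r_r, r_refl])
  homotopyInvHomId := Homotopy.symm
    { hom := fun p q => if e : q + 1 = p then eqToHom (by rw [e]) ≫ h F U i hi q else 0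
      zero := fun p q hpq => dif_neg hpq
      comm := fun n => by
        rcases n with _ | n
        · rw [Homotopy.dNext_cochainComplex, Homotopy.prevD_zero_cochainComplex, add_zero]
          ext x
          simp
          exact (key₀ F U i hi x).symm
        · rw [Homotopy.dNext_cochainComplex, Homotopy.prevD_succ_cochainComplex]
          ext x
          simp
          exact (key F U i hi n x).symm }

end Groth.L10.CechCone
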