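import Groth.Prelude.Def_DeltaF
import Mathlib.CategoryTheory.Abelian.Exact
import Mathlib.CategoryTheory.Abelian.Refinements
import Mathlib.CategoryTheory.Abelian.FunctorCategory
import Mathlib.CategoryTheory.Preadditive.Injective.Basic
import Mathlib.Algebra.Homology.ShortComplex.ExactFunctor

/-! Effaceable delta functors are universal. -/

universe v u v' u'

open CategoryTheory CategoryTheory.Limits DeltaF

set_option backward.defeqAttrib.useBackward true
set_option backward.isDefEq.respectTransparency false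
namespace Groth.L10.DeltaUniv

variable {A : Type u} [Category.{v} A] [Abelian A]

/-- The short exact sequence of a monomorphism. -/
noncomputable abbrev ses {X Y : A} (u : X ⟶ Y) : ShortComplex A :=
  ShortComplex.mk u (cokernel.π u) (cokernel.condition u)

theorem ses_shortExact {X Y : A} (u : X ⟶ Y) [hu : Mono u] : (ses u).ShortExact :=
  { exact := ShortComplex.exact_cokernel u, mono_f := hu, epi_g := inferInstanceAs (Epi (cokernel.π u)) }

/-- A square on the first two terms induces a morphism of short exact sequences. -/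
theorem exists_hom {S S' : ShortComplex A} (hS : S.ShortExact) (a : S.X₁ ⟶ S'.X₁) (b : S.X₂ ⟶ S'.X₂)
    (w : a ≫ S'.f = S.f ≫ b) : ∃ φ : S ⟶ S', φ.τ₁ = a := by
  have := hS.epi_g
  have hc := hS.gIsCokernel
  have hz : S.f ≫ b ≫ S'.g = 0 := by rw [← reassoc_of% w, S'.zero, comp_zero]
  exact ⟨{ τ₁ := a, τ₂ := b
           τ₃ := hc.desc (CokernelCofork.ofπ (b ≫ S'.g) hz)
           comm₁₂ := w
           comm₂₃ := (hc.fac (CokernelCofork.ofπ (b ≫ S'.g) hz) WalkingParallelPair.one).symm }, rfl⟩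

variable {B : Type u'} [Category.{v'} B] [Abelian B] {T T' : CohDeltaFunctor A B ℕ}

theorem epi_δ (S : ShortComplex A) (hS : S.ShortExact) (n : ℕ) (h : (T.F (n+1)).map S.f = 0) :
    Epi (T.δ S hS n (n+1) rfl) :=
  (ShortComplex.exact_iff_epi _ h).1 (T.exact₁ S hS n (n+1) rfl)

section Step

variable (hT : T.IsEffaceable) (n : ℕ) (τ : T.F n ⟶ T'.F n)

/-- The value of the extension on one object. -/
def Good (X : A) (t : (T.F (n+1)).obj X ⟶ (T'.F (n+1)).obj X) : Prop :=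
  ∀ (S : ShortComplex A) (hS : S.ShortExact) (e : S.X₁ = X),
    T.δ S hS n (n+1) rfl ≫ (T.F (n+1)).map (eqToHom e) ≫ t =
      τ.app S.X₃ ≫ T'.δ S hS n (n+1) rfl ≫ (T'.F (n+1)).map (eqToHom e)

include hT in
theorem exists_dominating {X X' : A} (f : X ⟶ X') {S : ShortComplex A} (hS : S.ShortExact) (e : S.X₁ = X)
    {Y : A} (u : X' ⟶ Y) [Mono u] :
    ∃ (W : A) (w : X' ⟶ W) (_ : Mono w), (T.F (n+1)).map w = 0 ∧
      (∃ φ : S ⟶ ses w, φ.τ₁ = eqToHom e ≫ f) ∧
      (∃ ψ : ses u ⟶ ses w, ψ.τ₁ = 𝟙 X') := by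
  have := hS.mono_f
  let P := pushout S.f (eqToHom e ≫ f)
  let Q := pushout (pushout.inr S.f (eqToHom e ≫ f)) u
  obtain ⟨W, m, hm, hm0⟩ := hT n Q
  let w : X' ⟶ W := u ≫ pushout.inr (pushout.inr S.f (eqToHom e ≫ f)) u ≫ m
  have : Mono (pushout.inr S.f (eqToHom e ≫ f)) := inferInstance
  have : Mono (pushout.inr (pushout.inr S.f (eqToHom e ≫ f)) u) := inferInstance
  refine ⟨W, w, mono_comp _ _, ?_, exists_hom hS _ (pushout.inl _ _ ≫ pushout.inl _ _ ≫ m) ?_,
    exists_hom (ses_shortExact u) (S' := ses w) (𝟙 X') (pushout.inr _ _ ≫ m) ?_⟩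
  · simp only [w, Functor.map_comp, hm0, comp_zero]
  · change (eqToHom e ≫ f) ≫ u ≫ _ ≫ m = _
    rw [pushout.condition_assoc, ← pushout.condition_assoc]
  · exact Category.id_comp w

include hT in
theorem exists_good (X : A) : ∃ t, Good n τ X t := by
  obtain ⟨Y, u, hu, hu0⟩ := hT n X
  let hE := ses_shortExact u
  have := epi_δ (ses u) hE n hu0
  have hz : (T.F n).map (cokernel.π u) ≫ τ.app (cokernel u) ≫ T'.δ (ses u) hE n (n+1) rfl = 0 := by
    rw [τ.naturality_assoc]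
    exact (congrArg (τ.app Y ≫ ·) (T'.comp_δ (ses u) hE n (n+1) rfl)).trans comp_zero
  let t := (T.exact₃ (ses u) hE n (n+1) rfl).gIsCokernel.desc (CokernelCofork.ofπ _ hz)
  have ht : T.δ (ses u) hE n (n+1) rfl ≫ t = τ.app (cokernel u) ≫ T'.δ (ses u) hE n (n+1) rfl :=
    (T.exact₃ (ses u) hE n (n+1) rfl).gIsCokernel.fac (CokernelCofork.ofπ _ hz) WalkingParallelPair.one
  refine ⟨t, fun S hS e => ?_⟩
  obtain ⟨W, w, hw, hw0, ⟨φ, hφ⟩, ψ, hψ⟩ := exists_dominating hT n (𝟙 X) hS e u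
  let hW := ses_shortExact w
  have := epi_δ (ses w) hW n hw0
  have n₁ := T.δ_natural hE hW ψ n (n+1) rfl
  have n₂ := T'.δ_natural hE hW ψ n (n+1) rfl
  rw [hψ] at n₁ n₂
  simp only [CategoryTheory.Functor.map_id, Category.comp_id] at n₁ n₂
  have hz' : (T.F n).map (cokernel.π w) ≫ τ.app (cokernel w) ≫ T'.δ (ses w) hW n (n+1) rfl = 0 := by
    rw [τ.naturality_assoc]
    exact (congrArg (τ.app W ≫ ·) (T'.comp_δ (ses w) hW n (n+1) rfl)).trans comp_zero
  let t' := (T.exact₃ (ses w) hW n (n+1) rfl).gIsCokernel.desc (CokernelCofork.ofπ _ hz')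
  have ht' : T.δ (ses w) hW n (n+1) rfl ≫ t' = τ.app (cokernel w) ≫ T'.δ (ses w) hW n (n+1) rfl :=
    (T.exact₃ (ses w) hW n (n+1) rfl).gIsCokernel.fac (CokernelCofork.ofπ _ hz') WalkingParallelPair.one
  have htt : t' = t := by
    rw [← cancel_epi (T.δ (ses u) hE n (n+1) rfl), ht, ← n₁, Category.assoc, ht', τ.naturality_assoc, n₂]
  have m₁ := T.δ_natural hS hW φ n (n+1) rfl
  have m₂ := T'.δ_natural hS hW φ n (n+1) rfl
  rw [hφ] at m₁ m₂
  simp only [Category.comp_id] at m₁ m₂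
  rw [← reassoc_of% m₁, ← htt, ht', τ.naturality_assoc, m₂]

include hT in
theorem good_natural {X X' : A} (f : X ⟶ X') {t} (ht : Good (T := T) (T' := T') n τ X t) {t'}
    (ht' : Good n τ X' t') : (T.F (n+1)).map f ≫ t' = t ≫ (T'.F (n+1)).map f := by
  obtain ⟨Y, u, hu, hu0⟩ := hT n X
  obtain ⟨Y', u', hu', -⟩ := hT n X'
  let hE := ses_shortExact u
  have := epi_δ (ses u) hE n hu0
  obtain ⟨W, w, hw, hw0, ⟨φ, hφ⟩, -⟩ := exists_dominating hT n f hE rfl u'
  let hW := ses_shortExact w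
  have m₁ := T.δ_natural hE hW φ n (n+1) rfl
  have m₂ := T'.δ_natural hE hW φ n (n+1) rfl
  rw [hφ, eqToHom_refl, Category.id_comp] at m₁ m₂
  have h1 := ht (ses u) hE rfl
  have h2 := ht' (ses w) hW rfl
  simp only [eqToHom_refl, CategoryTheory.Functor.map_id, Category.id_comp, Category.comp_id] at h1 h2
  rw [← cancel_epi (T.δ (ses u) hE n (n+1) rfl), ← reassoc_of% m₁, h2, reassoc_of% h1, τ.naturality_assoc, m₂]

/-- The extension to the next degree. -/
noncomputable def step : T.F (n+1) ⟶ T'.F (n+1) where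
  app X := (exists_good hT n τ X).choose
  naturality X X' f := good_natural hT n τ f (exists_good hT n τ X).choose_spec (exists_good hT n τ X').choose_spec

theorem step_comm (S : ShortComplex A) (hS : S.ShortExact) :
    T.δ S hS n (n+1) rfl ≫ (step hT n τ).app S.X₁ = τ.app S.X₃ ≫ T'.δ S hS n (n+1) rfl := by
  simpa [step] using (exists_good hT n τ S.X₁).choose_spec S hS rfl

end Step

/-- All degrees of the extension. -/
noncomputable def ext (hT : T.IsEffaceable) (t : T.F 0 ⟶ T'.F 0) : ∀ n, T.F n ⟶ T'.F n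
  | 0 => t
  | n + 1 => step hT n (ext hT t n)

/-- The extension of a degree zero map. -/
noncomputable def extHom (hT : T.IsEffaceable) (t : T.F 0 ⟶ T'.F 0) : T ⟶ T' where
  app := ext hT t
  comm S hS n₀ n₁ h := by
    subst h
    exact step_comm hT n₀ (ext hT t n₀) S hS

theorem hom_eq (hT : T.IsEffaceable) {σ σ' : T ⟶ T'} (h : σ.app 0 = σ'.app 0) : σ = σ' := by
  refine CohDeltaFunctor.hom_ext fun n => ?_
  induction n with
  | zero => exact h
  | succ n ih =>
    refine NatTrans.ext (funext fun X => ?_)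
    obtain ⟨Y, u, hu, hu0⟩ := hT n X
    have := epi_δ (ses u) (ses_shortExact u) n hu0
    rw [← cancel_epi (T.δ (ses u) (ses_shortExact u) n (n+1) rfl)]
    exact (σ.comm _ _ n (n+1) rfl).trans (by rw [ih]; exact (σ'.comm _ _ n (n+1) rfl).symm)

theorem s6773 (hT : T.IsEffaceable) : T.IsUniversal := fun _ t =>
  ⟨extHom hT t, rfl, fun _ h => hom_eq hT h⟩

theorem s6774 (T T' : CohDeltaFunctor A B ℕ) (hT : T.IsUniversal) (hT' : T'.IsUniversal) (e : T.F 0 ≅ T'.F 0) :
    ∃! φ : T ≅ T', φ.hom.app 0 = e.hom := by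
  obtain ⟨a, ha, hau⟩ := hT T' e.hom
  obtain ⟨b, hb, -⟩ := hT' T e.inv
  obtain ⟨i, -, hi⟩ := hT T (𝟙 _)
  obtain ⟨i', -, hi'⟩ := hT' T' (𝟙 _)
  refine ⟨⟨a, b, (hi _ ?_).trans (hi _ rfl).symm, (hi' _ ?_).trans (hi' _ rfl).symm⟩, ha, fun φ h => ?_⟩
  · simp [ha, hb]
  · simp [ha, hb]
  · exact Iso.ext (hau _ h)

theorem s14349 [EnoughInjectives A] (T : CohDeltaFunctor A B ℕ) :
    T.IsEffaceable ↔ ∀ (n : ℕ) (I : A), Injective I → IsZero ((T.F (n + 1)).obj I) := by
  refine ⟨fun h n I hI => ?_, fun h n X => ⟨Injective.under X, Injective.ι X, inferInstance,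
    (h n _ inferInstance).eq_of_tgt _ _⟩⟩
  obtain ⟨Y, u, hu, hu0⟩ := h n I
  rw [IsZero.iff_id_eq_zero, ← CategoryTheory.Functor.map_id, ← Injective.comp_factorThru (𝟙 I) u, Functor.map_comp, hu0, zero_comp]

theorem mono_succ (hT : T.IsEffaceable) (φ : T ⟶ T') (n : ℕ) (h : IsIso (φ.app n)) : Mono (φ.app (n+1)) := by
  have hm : ∀ X, Mono ((φ.app (n+1)).app X) := fun X => by
    obtain ⟨Y, u, hu, hu0⟩ := hT n X
    let hE := ses_shortExact u
    have := epi_δ (ses u) hE n hu0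
    refine Preadditive.mono_of_cancel_zero _ fun {P} x hx => ?_
    obtain ⟨P₁, π, hπ, z, hz⟩ := surjective_up_to_refinements_of_epi (T.δ (ses u) hE n (n+1) rfl) x
    have h1 : (z ≫ (φ.app n).app _) ≫ T'.δ (ses u) hE n (n+1) rfl = 0 := by
      rw [Category.assoc, ← φ.comm, ← reassoc_of% hz, hx, comp_zero]
    obtain ⟨P₂, π', hπ', y, hy⟩ := (T'.exact₃ (ses u) hE n (n+1) rfl).exact_up_to_refinements _ h1
    have h2 : π' ≫ z = (y ≫ inv ((φ.app n).app Y)) ≫ (T.F n).map (cokernel.π u) := by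
      rw [← cancel_mono ((φ.app n).app (cokernel u)), Category.assoc, Category.assoc, Category.assoc,
        (φ.app n).naturality, IsIso.inv_hom_id_assoc]
      exact hy
    have h0 : (π' ≫ π) ≫ x = 0 := by
      rw [Category.assoc, hz, reassoc_of% h2]
      exact (congrArg (_ ≫ ·) (congrArg (_ ≫ ·) (T.comp_δ (ses u) hE n (n+1) rfl))).trans (by simp)
    exact (cancel_epi (π' ≫ π)).1 (h0.trans comp_zero.symm)
  exact NatTrans.mono_of_mono_app _

theorem s8535 (hT : T.IsEffaceable) (φ : T ⟶ T') (n : ℕ) :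
    ((∀ i : ℕ, i ≤ n → IsIso (φ.app i)) ∧ Mono (φ.app (n + 1)) ↔
      (Mono (φ.app 0) ∧ ∀ i : ℕ, i ≤ n → Epi (φ.app i))) ∧
    ((∀ i : ℕ, i ≤ n → IsIso (φ.app i)) ∧ Mono (φ.app (n + 1)) ↔
      (IsIso (φ.app 0) ∧ ∀ i : ℕ, 0 < i → i ≤ n → ∀ X : A, ∃ (Y : A) (u : X ⟶ Y), Mono u ∧ (T'.F i).map u = 0)) := by
  refine ⟨⟨fun ⟨h, _⟩ => ⟨(have := h 0 (Nat.zero_le n); inferInstance), fun i hi => (have := h i hi; inferInstance)⟩,
    fun ⟨h0, h⟩ => ?_⟩, ⟨fun ⟨h, _⟩ => ⟨h 0 (Nat.zero_le n), fun i hi hin X => ?_⟩, fun ⟨h0, h⟩ => ?_⟩⟩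
  · have key : ∀ i, i ≤ n → IsIso (φ.app i) := by
      intro i
      induction i with
      | zero =>
        intro hi
        have := h 0 hi
        exact isIso_of_mono_of_epi _
      | succ i ih =>
        intro hi
        have := mono_succ hT φ i (ih (by omega))
        have := h (i+1) hi
        exact isIso_of_mono_of_epi _
    exact ⟨key, mono_succ hT φ n (key n le_rfl)⟩
  · obtain ⟨i, rfl⟩ : ∃ j, i = j + 1 := ⟨i - 1, by omega⟩
    obtain ⟨Y, u, hu, hu0⟩ := hT i X
    have := h (i+1) hin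
    refine ⟨Y, u, hu, ?_⟩
    rw [← cancel_epi ((φ.app (i+1)).app X), comp_zero, ← (φ.app (i+1)).naturality, hu0, zero_comp]
  · have key : ∀ i, i ≤ n → IsIso (φ.app i) := by
      intro i
      induction i with
      | zero => exact fun _ => h0
      | succ i ih =>
        intro hi
        have := ih (by omega)
        have := mono_succ hT φ i this
        have he : ∀ X, Epi ((φ.app (i+1)).app X) := fun X => by
          obtain ⟨Y, u, hu, hu0⟩ := h (i+1) (by omega) hi X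
          have := epi_δ (ses u) (ses_shortExact u) i hu0
          exact epi_of_epi_fac (φ.comm (ses u) (ses_shortExact u) i (i+1) rfl)
        have := NatTrans.epi_of_epi_app (φ.app (i+1))
        exact isIso_of_mono_of_epi _
    exact ⟨key, mono_succ hT φ n (key n le_rfl)⟩

end Groth.L10.DeltaUniv
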