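import Groth.Agent.L27.CechInj
import Groth.Agent.L10.DeltaUniv
import Groth.Agent.L10.RDer.Horseshoe
import Mathlib.Algebra.Homology.ShortComplex.ExactFunctor
import Mathlib.Algebra.Homology.HomologySequenceLemmas

/-!
Čech cohomology of abelian presheaves as a universal delta-functor.
-/

set_option autoImplicit false
set_option backward.defeqAttrib.useBackward true
set_option backward.isDefEq.respectTransparency false

universe w v u

open CategoryTheory CategoryTheory.Limits Opposite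

namespace Groth.L10.CechDelta

open Groth.L27.CechInj

variable {C : Type u} [Category.{v} C] {U : C} [HasFiniteProducts (Over U)]
  {ι : Type w} (Uf : ι → Over U)

/-- The Čech complex functor. -/
noncomputable abbrev cx : (Cᵒᵖ ⥤ AddCommGrpCat.{w}) ⥤ CochainComplex AddCommGrpCat.{w} ℕ :=
  (Functor.whiskeringLeft (Over U)ᵒᵖ Cᵒᵖ AddCommGrpCat.{w}).obj (Over.forget U).op ⋙
    cechComplexFunctor Uf

variable {Uf}

theorem co_map {P Q : Cᵒᵖ ⥤ AddCommGrpCat.{w}} (φ : P ⟶ Q) {n : ℕ} (a : Fin (n + 1) → ι)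
    (x : (EtCech.cechComplex Uf P).X n) :
    co a (((cx Uf).map φ).f n x) = φ.app _ (co a x) := by
  change (((cx Uf).map φ).f n ≫ Pi.π (fun i : Fin (n + 1) → ι => Q.obj (op (tup Uf i).left)) a) x =
    (Pi.π (fun i : Fin (n + 1) → ι => P.obj (op (tup Uf i).left)) a ≫ φ.app _) x
  refine ConcreteCategory.congr_hom ?_ x
  refine Limits.Pi.map_π (f := fun i : Fin (n + 1) → ι => P.obj (op (tup Uf i).left))
    (g := fun i : Fin (n + 1) → ι => Q.obj (op (tup Uf i).left)) (fun i => φ.app _) a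

variable (Uf)

instance : (cx Uf).Additive where
  map_add {P Q φ ψ} := by
    ext n : 1
    refine Limits.Pi.hom_ext _ _ fun a => AddCommGrpCat.hom_ext (AddMonoidHom.ext fun x => ?_)
    change co a (((cx Uf).map (φ + ψ)).f n x) = co a (((cx Uf).map φ).f n x + ((cx Uf).map ψ).f n x)
    rw [map_add, co_map, co_map, co_map]
    rfl

theorem cx_shortExact {S : ShortComplex (Cᵒᵖ ⥤ AddCommGrpCat.{w})} (hS : S.ShortExact) :
    (S.map (cx Uf)).ShortExact := by
  have hV : ∀ V : Cᵒᵖ, (S.map ((evaluation _ _).obj V)).ShortExact := fun V => hS.map_of_exact _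
  refine HomologicalComplex.shortExact_of_degreewise_shortExact _ fun n => ?_
  refine { exact := ?_, mono_f := ?_, epi_g := ?_ }
  · rw [ShortComplex.ab_exact_iff]
    intro (x : (EtCech.cechComplex Uf S.X₂).X n) (hx : ((cx Uf).map S.g).f n x = 0)
    choose y hy using fun a : Fin (n+1) → ι => ((ShortComplex.ab_exact_iff _).1 (hV _).exact) (co a x)
      (show S.g.app _ (co a x) = 0 by rw [← co_map, hx, map_zero])
    exact ⟨mk y, co_ext fun a => (co_map S.f a (mk y)).trans (by rw [co_mk]; exact hy a)⟩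
  · refine (AddCommGrpCat.mono_iff_injective _).2 fun (x : (EtCech.cechComplex Uf S.X₁).X n)
      (y : (EtCech.cechComplex Uf S.X₁).X n) h => co_ext fun a => ?_
    refine (hV _).ab_injective_f ?_
    change S.f.app _ (co a x) = S.f.app _ (co a y)
    rw [← co_map, ← co_map]
    exact congrArg (co a) h
  · refine (AddCommGrpCat.epi_iff_surjective _).2 fun (x : (EtCech.cechComplex Uf S.X₃).X n) => ?_
    choose y hy using fun a : Fin (n+1) → ι => (hV _).ab_surjective_g (co a x)
    exact ⟨mk y, co_ext fun a => (co_map S.g a (mk y)).trans (by rw [co_mk]; exact hy a)⟩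

instance (n : ℕ) : (EtCech.cechHFunctor (C := C) Uf n).Additive :=
  inferInstanceAs (cx Uf ⋙ HomologicalComplex.homologyFunctor _ _ n).Additive

/-- The Čech delta-functor. -/
noncomputable def cechDelta :
    DeltaF.CohDeltaFunctor (Cᵒᵖ ⥤ AddCommGrpCat.{w}) AddCommGrpCat.{w} ℕ where
  F n := EtCech.cechHFunctor (C := C) Uf n
  additive _ := inferInstance
  δ S hS n₀ n₁ h := (cx_shortExact Uf hS).δ n₀ n₁ h
  δ_natural hS hS' φ n₀ n₁ h :=
    (HomologicalComplex.HomologySequence.δ_naturality ((cx Uf).mapShortComplex.map φ)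
      (cx_shortExact Uf hS) (cx_shortExact Uf hS') n₀ n₁ h).symm
  exact₂ S hS n := (cx_shortExact Uf hS).homology_exact₂ n
  comp_δ S hS n₀ n₁ h := (cx_shortExact Uf hS).comp_δ n₀ n₁ h
  exact₃ S hS n₀ n₁ h := (cx_shortExact Uf hS).homology_exact₃ n₀ n₁ h
  δ_comp S hS n₀ n₁ h := (cx_shortExact Uf hS).δ_comp n₀ n₁ h
  exact₁ S hS n₀ n₁ h := (cx_shortExact Uf hS).homology_exact₁ n₀ n₁ h

theorem preservesFiniteLimits_cechH0 : PreservesFiniteLimits (EtCech.cechHFunctor (C := C) Uf 0) :=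
  ((Functor.preservesFiniteLimits_tfae (EtCech.cechHFunctor (C := C) Uf 0)).out 0 3 rfl rfl).mp fun S hS => by
    refine ⟨(cx_shortExact Uf hS).homology_exact₂ 0, ?_⟩
    have := (cx_shortExact Uf hS).mono_f
    haveI : Mono ((S.map (cx Uf)).f.f 0) := inferInstance
    exact HomologicalComplex.mono_homologyMap_of_mono_of_not_rel (S.map (cx Uf)).f 0
      fun j => by simp

theorem effaceable [LocallySmall.{w} C] [HasInjectiveResolutions (Cᵒᵖ ⥤ AddCommGrpCat.{w})] :
    (cechDelta (C := C) Uf).IsEffaceable := fun n X =>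
  have : Mono ((injectiveResolution X).ι.f 0) := inferInstance
  ⟨_, (injectiveResolution X).ι.f 0, this,
    (isZero_cechH Uf ((injectiveResolution X).cocomplex.X 0) n).eq_of_tgt _ _⟩

theorem nonempty_iso_rightDerived [LocallySmall.{w} C]
    [HasInjectiveResolutions (Cᵒᵖ ⥤ AddCommGrpCat.{w})]
    [(EtCech.cechHFunctor (C := C) Uf 0).Additive] (p : ℕ) :
    Nonempty (EtCech.cechHFunctor (C := C) Uf p ≅
      (EtCech.cechHFunctor (C := C) Uf 0).rightDerived p) := by
  haveI : EnoughInjectives (Cᵒᵖ ⥤ AddCommGrpCat.{w}) :=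
    ⟨fun X => ⟨⟨_, inferInstance, (injectiveResolution X).ι.f 0, inferInstance⟩⟩⟩
  haveI := preservesFiniteLimits_cechH0 (C := C) Uf
  let F₀ := EtCech.cechHFunctor (C := C) Uf 0
  let Δ : RDer.DerivedLES F₀ := Groth.L10.RDerSES.mkLES F₀
  have hΔ : Δ.toCohDeltaFunctor.IsUniversal := by
    refine Groth.L10.DeltaUniv.s6773 fun n X => ?_
    have h : Mono ((injectiveResolution X).ι.f 0) := inferInstance
    exact ⟨_, (injectiveResolution X).ι.f 0, h,
      (Functor.isZero_rightDerived_obj_injective_succ F₀ n _).eq_of_tgt _ _⟩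
  obtain ⟨φ, -, -⟩ := Groth.L10.DeltaUniv.s6774 (cechDelta (C := C) Uf) Δ.toCohDeltaFunctor
    (Groth.L10.DeltaUniv.s6773 (effaceable Uf)) hΔ F₀.rightDerivedZeroIsoSelf.symm
  exact ⟨{ hom := φ.hom.app p, inv := φ.inv.app p,
           hom_inv_id := congrArg (fun f => DeltaF.CohDeltaFunctor.Hom.app f p) φ.hom_inv_id,
           inv_hom_id := congrArg (fun f => DeltaF.CohDeltaFunctor.Hom.app f p) φ.inv_hom_id }⟩

end Groth.L10.CechDelta
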