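import Groth.Agent.L10.CechEdge
import Groth.Prelude.Def_CohCx

/-! Edge maps are compatible with refinements. -/

set_option autoImplicit false
set_option backward.defeqAttrib.useBackward true
set_option backward.isDefEq.respectTransparency false

universe u

open CategoryTheory CategoryTheory.Limits CategoryTheory.Abelian Opposite

namespace Groth.L10.CechEdgeRefine

variable {C : Type u} [SmallCategory C] [HasPullbacks C] {U : C} {ι κ : Type u}
  {Y : ι → Over U} {Y' : κ → Over U} (f : FormalCoproduct.mk ι Y ⟶ FormalCoproduct.mk κ Y')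

theorem cechRefine_natural {P Q : Cᵒᵖ ⥤ AddCommGrpCat.{u}} (φ : P ⟶ Q) :
    (CechEdge.cxFunctor Y').map φ ≫ CohCx.cechRefine Q f =
      CohCx.cechRefine P f ≫ (CechEdge.cxFunctor Y).map φ := by
  refine ((AlgebraicTopology.alternatingCofaceMapComplex AddCommGrpCat.{u}).map_comp _ _).symm.trans
    (Eq.trans (congrArg _ ?_) ((AlgebraicTopology.alternatingCofaceMapComplex AddCommGrpCat.{u}).map_comp _ _))
  exact ((Functor.whiskeringLeft _ _ _).map (NatTrans.rightOp (FormalCoproduct.cechFunctor.map f))).naturality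
    ((FormalCoproduct.evalOp.{u} (Over U) AddCommGrpCat.{u}).map (Functor.whiskerLeft (Over.forget U).op φ))

theorem toCech₀_cechRefine (P : Cᵒᵖ ⥤ AddCommGrpCat.{u}) :
    CechEdge.toCech₀ P Y' ≫ (CohCx.cechRefine P f).f 0 = CechEdge.toCech₀ P Y := by
  refine Pi.hom_ext _ _ fun a => ?_
  simp only [CechEdge.toCech₀]
  erw [Category.assoc, Pi.lift_π]
  erw [Pi.lift_π_assoc, Pi.lift_π]
  change P.map _ ≫ P.map _ = P.map _
  rw [← P.map_comp]
  exact congrArg (fun q => P.map (Quiver.Hom.op q))
    (Over.w (((FormalCoproduct.cechFunctor.map f).app (op (SimplexCategory.mk 0))).φ a))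

theorem toCech_cechRefine (P : Cᵒᵖ ⥤ AddCommGrpCat.{u}) (s : P.obj (op U)) :
    (HomologicalComplex.homologyMap (CohCx.cechRefine P f) 0).hom (CechEdge.toCech Y' P s) =
      CechEdge.toCech Y P s := by
  have h : CechEdge.toCycles P Y' ≫ HomologicalComplex.cyclesMap (CohCx.cechRefine P f) 0 =
      CechEdge.toCycles P Y := by
    rw [← cancel_mono ((CechEdge.cx P Y).iCycles 0), Category.assoc]
    erw [HomologicalComplex.cyclesMap_i]
    rw [← Category.assoc]
    erw [CechEdge.toCycles_i, CechEdge.toCycles_i]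
    exact toCech₀_cechRefine f P
  have h2 : (CechEdge.toCycles P Y' ≫ (CechEdge.cx P Y').homologyπ 0) ≫
      HomologicalComplex.homologyMap (CohCx.cechRefine P f) 0 =
      CechEdge.toCycles P Y ≫ (CechEdge.cx P Y).homologyπ 0 := by
    rw [Category.assoc]
    erw [HomologicalComplex.homologyπ_naturality]
    rw [← Category.assoc]
    exact congrArg (· ≫ _) h
  exact ConcreteCategory.congr_hom h2 s

/-- The refinement as a morphism of short complexes of Čech complexes. -/
noncomputable def refineS (S : ShortComplex (Cᵒᵖ ⥤ AddCommGrpCat.{u})) :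
    S.map (CechEdge.cxFunctor Y') ⟶ S.map (CechEdge.cxFunctor Y) :=
  ShortComplex.homMk (CohCx.cechRefine S.X₁ f) (CohCx.cechRefine S.X₂ f) (CohCx.cechRefine S.X₃ f)
    (cechRefine_natural f S.f).symm (cechRefine_natural f S.g).symm

theorem δ_cechRefine {S : ShortComplex (Cᵒᵖ ⥤ AddCommGrpCat.{u})}
    (hC : (S.map (CechEdge.cxFunctor Y')).ShortExact) (hC' : (S.map (CechEdge.cxFunctor Y)).ShortExact)
    (p : ℕ) (x : CohCx.cechH S.X₃ Y' p) :
    (HomologicalComplex.homologyMap (CohCx.cechRefine S.X₁ f) (p + 1)).hom ((hC.δ p (p + 1) rfl).hom x) =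
      (hC'.δ p (p + 1) rfl).hom ((HomologicalComplex.homologyMap (CohCx.cechRefine S.X₃ f) p).hom x) :=
  ConcreteCategory.congr_hom
    (HomologicalComplex.HomologySequence.δ_naturality (refineS f S) hC hC' p (p + 1) rfl) x

variable {J : GrothendieckTopology C}

theorem isEdge_comp_refine
    (hY' : Sieve.ofArrows (fun i => (Y' i).left) (fun i => (Y' i).hom) ∈ J U)
    {e : ∀ (P : Cᵒᵖ ⥤ AddCommGrpCat.{u}) (p : ℕ), CohCx.cechH P Y p →+ CohSite.HU (CechEdge.shf J P) p U}
    (he : CechEdge.IsEdge J Y e) :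
    CechEdge.IsEdge J Y' fun P p =>
      (e P p).comp (HomologicalComplex.homologyMap (CohCx.cechRefine P f) p).hom where
  cover := hY'
  zero P s := (congrArg (e P 0) (toCech_cechRefine f P s)).trans (he.zero P s)
  natural P Q φ p x := by
    refine Eq.trans (congrArg (e Q p) ?_) (he.natural P Q φ p _)
    exact ConcreteCategory.congr_hom
      ((HomologicalComplex.homologyMap_comp _ _ p).symm.trans
        ((congrArg (fun g => HomologicalComplex.homologyMap g p) (cechRefine_natural f φ)).trans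
          (HomologicalComplex.homologyMap_comp _ _ p))) x
  delta S hS hC p x :=
    (congrArg (e S.X₁ (p + 1)) (δ_cechRefine f hC
      (Groth.L10.CechEdge.cxFunctor_shortExact Y hS) p x)).trans
      (he.delta S hS (Groth.L10.CechEdge.cxFunctor_shortExact Y hS) p _)

theorem edgeSh_cechRefine
    {e : ∀ (P : Cᵒᵖ ⥤ AddCommGrpCat.{u}) (p : ℕ), CohCx.cechH P Y p →+ CohSite.HU (CechEdge.shf J P) p U}
    {e' : ∀ (P : Cᵒᵖ ⥤ AddCommGrpCat.{u}) (p : ℕ), CohCx.cechH P Y' p →+ CohSite.HU (CechEdge.shf J P) p U}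
    (he : CechEdge.IsEdge J Y e) (he' : CechEdge.IsEdge J Y' e')
    (F : Sheaf J AddCommGrpCat.{u}) (p : ℕ) (x : CohCx.cechH F.obj Y' p) :
    CechEdge.edgeSh e F p ((HomologicalComplex.homologyMap (CohCx.cechRefine F.obj f) p).hom x) =
      CechEdge.edgeSh e' F p x := by
  obtain ⟨e'', rfl⟩ : ∃ e'', e'' = fun (P : Cᵒᵖ ⥤ AddCommGrpCat.{u}) (p : ℕ) =>
      (e P p).comp (HomologicalComplex.homologyMap (CohCx.cechRefine P f) p).hom := ⟨_, rfl⟩
  have h2 := Groth.L10.CechEdge.edge_unique (J := J) Y' _ _ (isEdge_comp_refine f he'.cover he) he'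
  subst h2
  simp only [CechEdge.edgeSh]
  generalize (HomologicalComplex.homologyMap (CohCx.cechRefine F.obj f) p).hom = R
  generalize CechEdge.HUmap ((sheafificationAdjunction J AddCommGrpCat).counit.app F) p U = A
  generalize e F.obj p = B
  rfl

end Groth.L10.CechEdgeRefine
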