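import Groth.Agent.L10.SiteRightDerived
import Groth.Agent.L10.TopCoh
import Mathlib.Algebra.Homology.ShortComplex.PreservesHomology
import Mathlib.Algebra.Homology.DerivedCategory.Ext.ExactSequences

/-!
Sections commute with the homology of a complex of acyclic sheaves with acyclic homology sheaves; the Leray
degeneration when the higher direct images are acyclic on the base.
-/

set_option autoImplicit false
set_option linter.style.haveILetI false
set_option backward.defeqAttrib.useBackward true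
set_option backward.isDefEq.respectTransparency false
universe u

open CategoryTheory CategoryTheory.Limits CategoryTheory.Abelian Opposite TopologicalSpace

noncomputable section

namespace Groth.L10.LerayBase

open Groth.L10.SiteCoh

variable {C : Type u} [SmallCategory C] {J : GrothendieckTopology C} (U : C)

/-- No higher cohomology on `U`. -/
def Acy (F : Sheaf J AddCommGrpCat.{u}) : Prop := ∀ p : ℕ, Subsingleton (Ext (fs J U) F (p + 1))

variable {U}

theorem Acy.of_iso {F G : Sheaf J AddCommGrpCat.{u}} (e : F ≅ G) (h : Acy U F) : Acy U G := fun p => by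
  refine subsingleton_of_forall_eq 0 fun x => ?_
  rw [← Ext.comp_mk₀_id x, ← e.inv_hom_id, ← Ext.mk₀_comp_mk₀, ← Ext.comp_assoc_of_second_deg_zero,
    (h p).elim (x.comp (Ext.mk₀ e.inv) (add_zero _)) 0, Ext.zero_comp]

theorem Acy.ext₂ {S : ShortComplex (Sheaf J AddCommGrpCat.{u})} (hS : S.ShortExact) (h1 : Acy U S.X₁)
    (h3 : Acy U S.X₃) : Acy U S.X₂ := fun p => by
  refine subsingleton_of_forall_eq 0 fun x => ?_
  obtain ⟨y, hy⟩ := Ext.covariant_sequence_exact₂ _ hS x ((h3 p).elim _ _)
  rw [← hy, (h1 p).elim y 0, Ext.zero_comp]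

theorem Acy.quot {S : ShortComplex (Sheaf J AddCommGrpCat.{u})} (hS : S.ShortExact) (h1 : Acy U S.X₁)
    (h2 : Acy U S.X₂) : Acy U S.X₃ := fun p => by
  refine subsingleton_of_forall_eq 0 fun x => ?_
  obtain ⟨y, hy⟩ := Ext.covariant_sequence_exact₃ _ hS x (n₁ := p + 1 + 1) rfl ((h1 (p + 1)).elim _ _)
  rw [← hy, (h2 p).elim y 0, Ext.zero_comp]

theorem Acy.surjective {S : ShortComplex (Sheaf J AddCommGrpCat.{u})} (hS : S.ShortExact) (h1 : Acy U S.X₁) :
    Function.Surjective (S.g.hom.app (op U)) :=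
  haveI : Subsingleton (Ext (fs J U) S.X₁ 1) := h1 0
  surjective_sections_of_subsingleton hS U

variable (U) in
/-- The sections functor. -/
abbrev Γ : Sheaf J AddCommGrpCat.{u} ⥤ AddCommGrpCat.{u} :=
  sheafToPresheaf J AddCommGrpCat.{u} ⋙ (evaluation Cᵒᵖ AddCommGrpCat.{u}).obj (op U)

instance : (Γ (J := J) U).Additive := { }

variable (K : CochainComplex (Sheaf J AddCommGrpCat.{u}) ℕ)

/-- The sequence `0 → Z^n → K^n → coker → 0`. -/
abbrev cyclesSeq (n : ℕ) : ShortComplex (Sheaf J AddCommGrpCat.{u}) :=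
  ShortComplex.mk (K.iCycles n) (cokernel.π _) (cokernel.condition _)

theorem cyclesSeq_shortExact (n : ℕ) : (cyclesSeq K n).ShortExact :=
  { exact := ShortComplex.exact_cokernel _ }

theorem iCycles_toCycles (n : ℕ) : K.iCycles n ≫ K.toCycles n (n + 1) = 0 := by
  rw [← cancel_mono (K.iCycles (n + 1)), Category.assoc, HomologicalComplex.toCycles_i, K.iCycles_d, zero_comp]

/-- The map from the cokernel of the cycles to the next cycles. -/
abbrev θ (n : ℕ) : cokernel (K.iCycles n) ⟶ K.cycles (n + 1) :=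
  cokernel.desc _ (K.toCycles n (n + 1)) (iCycles_toCycles K n)

theorem mono_θ (n : ℕ) : Mono (θ K n) := by
  let S := ShortComplex.mk (K.iCycles n) (K.d n (n + 1)) (K.iCycles_d n (n + 1))
  have hS : S.Exact := ShortComplex.exact_of_f_is_kernel _ (K.cyclesIsKernel n (n + 1) (by simp))
  have h : cokernel.desc (K.iCycles n) (K.d n (n + 1)) (K.iCycles_d n (n + 1)) =
      θ K n ≫ K.iCycles (n + 1) := by
    rw [← cancel_epi (cokernel.π (K.iCycles n)), cokernel.π_desc, cokernel.π_desc_assoc,
      HomologicalComplex.toCycles_i]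
  have : Mono (cokernel.desc (K.iCycles n) (K.d n (n + 1)) (K.iCycles_d n (n + 1))) :=
    hS.mono_cokernelDesc
  rw [h] at this
  exact mono_of_mono (θ K n) (K.iCycles (n + 1))

/-- The sequence `0 → coker → Z^{n+1} → H^{n+1} → 0`. -/
abbrev homSeq (n : ℕ) : ShortComplex (Sheaf J AddCommGrpCat.{u}) :=
  ShortComplex.mk (θ K n) (K.homologyπ (n + 1)) (by
    rw [← cancel_epi (cokernel.π (K.iCycles n)), cokernel.π_desc_assoc, K.toCycles_comp_homologyπ, comp_zero])

theorem homSeq_shortExact (n : ℕ) : (homSeq K n).ShortExact := by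
  haveI := mono_θ K n
  let S := ShortComplex.mk (K.toCycles n (n + 1)) (K.homologyπ (n + 1)) (K.toCycles_comp_homologyπ n (n + 1))
  have hS : S.Exact := ShortComplex.exact_of_g_is_cokernel _ (K.homologyIsCokernel n (n + 1) (by simp))
  let φ : S ⟶ homSeq K n := ShortComplex.homMk (cokernel.π _) (𝟙 _) (𝟙 _) (by simp [S]) (by simp [S])
  haveI : Epi φ.τ₁ := inferInstanceAs (Epi (cokernel.π _))
  haveI : IsIso φ.τ₂ := inferInstanceAs (IsIso (𝟙 _))
  haveI : Mono φ.τ₃ := inferInstanceAs (Mono (𝟙 _))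
  exact { exact := (ShortComplex.exact_iff_of_epi_of_isIso_of_mono φ).1 hS }

variable (hK : ∀ n, Acy U (K.X n)) (hH : ∀ n, Acy U (K.homology n))

include hK hH in
theorem acy_cycles : ∀ n, Acy U (K.cycles n)
  | 0 => (hH 0).of_iso (K.isoHomologyπ₀).symm
  | n + 1 => (((acy_cycles n).quot (cyclesSeq_shortExact K n) (hK n))).ext₂ (homSeq_shortExact K n) (hH (n + 1))

include hK hH in
/-- Sections commute with homology. -/
theorem nonempty_homology_sections_iso (q : ℕ) :
    Nonempty ((((Γ (J := J) U).mapHomologicalComplex (ComplexShape.up ℕ)).obj K).homology q ≅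
      (Γ U).obj (K.homology q)) := by
  let L : CochainComplex AddCommGrpCat.{u} ℕ := ((Γ (J := J) U).mapHomologicalComplex (ComplexShape.up ℕ)).obj K
  haveI : PreservesFiniteLimits (Γ (J := J) U) := comp_preservesFiniteLimits _ _
  cases q with
  | zero =>
    haveI := K.isoHomologyπ₀.isIso_hom
    let e₁ : L.cycles 0 ≅ (Γ U).obj (K.cycles 0) :=
      (L.cyclesIsKernel 0 1 (by simp)).conePointUniqueUpToIso
        (KernelFork.mapIsLimit _ (K.cyclesIsKernel 0 1 (by simp)) (Γ (J := J) U))
    exact ⟨L.isoHomologyπ₀.symm ≪≫ e₁ ≪≫ (Γ U).mapIso K.isoHomologyπ₀⟩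
  | succ n =>
    let hk := KernelFork.mapIsLimit _ (K.cyclesIsKernel (n + 1) (n + 2) (by simp)) (Γ (J := J) U)
    let e₁ : L.cycles (n + 1) ≅ (Γ U).obj (K.cycles (n + 1)) :=
      (L.cyclesIsKernel (n + 1) (n + 2) (by simp)).conePointUniqueUpToIso hk
    have he : e₁.hom ≫ (Γ U).map (K.iCycles (n + 1)) = L.iCycles (n + 1) :=
      IsLimit.conePointUniqueUpToIso_hom_comp (L.cyclesIsKernel (n + 1) (n + 2) (by simp)) hk
        WalkingParallelPair.zero
    have ht : L.toCycles n (n + 1) ≫ e₁.hom = (Γ U).map (K.toCycles n (n + 1)) := by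
      haveI : Mono (K.iCycles (n + 1)) := inferInstance
      haveI : Mono ((Γ U).map (K.iCycles (n + 1))) := inferInstance
      rw [← cancel_mono ((Γ U).map (K.iCycles (n + 1))), Category.assoc, he, L.toCycles_i, ← Functor.map_comp,
        K.toCycles_i]
      rfl
    let S : ShortComplex AddCommGrpCat.{u} :=
      ShortComplex.mk (L.toCycles n (n + 1)) (e₁.hom ≫ (Γ U).map (K.homologyπ (n + 1)))
        (by rw [← Category.assoc, ht, ← Functor.map_comp, K.toCycles_comp_homologyπ, Functor.map_zero])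
    have hA := acy_cycles K hK hH n
    have hC : Acy U (cokernel (K.iCycles n)) := hA.quot (cyclesSeq_shortExact K n) (hK n)
    have hs : Function.Surjective ((homSeq K n).g.hom.app (op U)) := hC.surjective (homSeq_shortExact K n)
    have hepi : Epi S.g := by
      haveI : Epi ((Γ U).map (K.homologyπ (n + 1))) := (AddCommGrpCat.epi_iff_surjective _).2 hs
      exact epi_comp _ _
    have hex : S.Exact := by
      refine (ShortComplex.ab_exact_iff _).2 fun x hx => ?_
      have hm := (homSeq_shortExact K n).exact.map_of_mono_of_preservesKernel (Γ (J := J) U)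
        (homSeq_shortExact K n).mono_f inferInstance
      obtain ⟨c, hc⟩ := (ShortComplex.ab_exact_iff _).1 hm (e₁.hom x) hx
      obtain ⟨k, hk'⟩ := hA.surjective (cyclesSeq_shortExact K n) c
      refine ⟨k, ((AddCommGrpCat.mono_iff_injective e₁.hom).1 inferInstance) ?_⟩
      rw [← hc, ← hk']
      refine Eq.trans (congr($ht k)) ?_
      change (K.toCycles n (n + 1)).hom.app (op U) k = (θ K n).hom.app (op U) ((cokernel.π (K.iCycles n)).hom.app (op U) k)
      exact congr($((cokernel.π_desc (K.iCycles n) (K.toCycles n (n + 1)) (iCycles_toCycles K n)).symm).hom.app (op U) k)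
    exact ⟨(L.homologyIsCokernel n (n + 1) (by simp)).coconePointUniqueUpToIso hex.gIsCokernel⟩

end Groth.L10.LerayBase

namespace Groth.L10.LerayBase

variable {X Y : TopCat.{u}}

theorem nonempty_H_iso_sections_Rpush (f : X ⟶ Y) (F : CohTop.Ab X)
    (h : ∀ p q : ℕ, Subsingleton (CohTop.H ((CohTop.Rpush f q).obj F) (p + 1))) (q : ℕ) :
    Nonempty (CohTop.H F q ≃+ ((CohTop.Rpush f q).obj F).obj.obj (op ⊤)) := by
  haveI hadd : (CohTop.push f).Additive := { }
  let R := injectiveResolution F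
  let K := ((CohTop.push f).mapHomologicalComplex (ComplexShape.up ℕ)).obj R.cocomplex
  have hK : ∀ n, Acy (⊤ : Opens Y) (K.X n) := fun n p => by
    haveI : Injective (R.cocomplex.X n) := R.injective n
    have hI := Groth.L10.TopCoh.push_injective f (R.cocomplex.X n)
    exact Groth.L10.TopCoh.subsingleton_ext_of_flasque _ (@Groth.L10.TopCoh.isFlasque_of_injective _ _ hI) _ _
  have hH : ∀ n, Acy (⊤ : Opens Y) (K.homology n) := fun n => by
    refine Acy.of_iso (R.isoRightDerivedObj (CohTop.push f) n) fun p => ?_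
    haveI := h p n
    exact (SiteCoh.hEquiv (TopCoh.topTerminal Y) _ (p + 1)).symm.toEquiv.subsingleton
  obtain ⟨e₁⟩ := nonempty_homology_sections_iso K hK hH q
  obtain ⟨e₂⟩ := SiteCoh.nonempty_rightDerived_iso F q
  haveI : (Γ (J := Opens.grothendieckTopology X) (⊤ : Opens X)).Additive := inferInstance
  let e₃ : (((Γ (⊤ : Opens X)).mapHomologicalComplex (ComplexShape.up ℕ)).obj R.cocomplex).homology q ≅
      (Sheaf.cohomologyPresheaf.{u} F q).obj (op ⊤) :=
    (R.isoRightDerivedObj (Γ (⊤ : Opens X)) q).symm ≪≫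
      SiteCoh.rightDerivedCompIso (sheafToPresheaf _ _) ((evaluation (Opens X)ᵒᵖ AddCommGrpCat.{u}).obj (op ⊤)) q F ≪≫
      ((evaluation (Opens X)ᵒᵖ AddCommGrpCat.{u}).obj (op ⊤)).mapIso e₂
  let e₄ : (((Γ (⊤ : Opens X)).mapHomologicalComplex (ComplexShape.up ℕ)).obj R.cocomplex).homology q ≅
      (Γ (⊤ : Opens Y)).obj ((CohTop.Rpush f q).obj F) :=
    e₁ ≪≫ (Γ (⊤ : Opens Y)).mapIso (R.isoRightDerivedObj (CohTop.push f) q).symm
  exact ⟨(SiteCoh.hEquiv (TopCoh.topTerminal X) F q).trans (e₃.symm ≪≫ e₄).addCommGroupIsoToAddEquiv⟩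

end Groth.L10.LerayBase
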