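import Groth.Agent.L00.CellTower
import Groth.Agent.L00.ConeTransfer
import Mathlib.Algebra.Homology.TotalComplex
import Mathlib.Algebra.Homology.ComplexShapeSigns
import Mathlib.Algebra.Homology.HomologicalComplexLimits
import Mathlib.Algebra.Homology.Refinements
import Mathlib.Algebra.Homology.QuasiIso
import Mathlib.CategoryTheory.Abelian.Refinements
import Mathlib.Data.Int.Interval

/-! The total complex functor preserves quasi-isomorphisms of bounded below bicomplexes. -/

universe v u

open CategoryTheory CategoryTheory.Limits CochainComplex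

set_option backward.defeqAttrib.useBackward true
set_option backward.isDefEq.respectTransparency false
namespace Groth.L10.TotalQis

variable {A : Type u} [Category.{v} A] [Abelian A]

local notation "up" => ComplexShape.up ℤ

section Proj

variable (K : HomologicalComplex₂ A up up) [K.HasTotal up]

/-- The inclusion of the summand of second degree `q`. -/
noncomputable abbrev ι (n p q : ℤ) (h : p + q = n) : (K.X p).X q ⟶ (K.total up).X n :=
  K.ιTotal up p q n h

/-- The projection to the summand of second degree `q`. -/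
noncomputable def pr (n p q : ℤ) (h : p + q = n) : (K.total up).X n ⟶ (K.X p).X q :=
  K.totalDesc fun i j hij =>
    if hj : j = q then (K.XXIsoOfEq _ _ _ (show i = p by change i + j = n at hij; omega) hj).hom else 0

theorem ι_pr_self (n p q : ℤ) (h : p + q = n) : ι K n p q h ≫ pr K n p q h = 𝟙 _ := by
  simp [pr]

theorem ι_pr_ne (n p q p' q' : ℤ) (h : p + q = n) (h' : p' + q' = n) (hne : q ≠ q') :
    ι K n p q h ≫ pr K n p' q' h' = 0 := by
  simp [pr, hne]

theorem d_pr (n m p₀ p q₀ q : ℤ) (hm : n + 1 = m) (hp : p₀ + 1 = p) (hq : q₀ + 1 = q) (h : p + q = m) :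
    (K.total up).d n m ≫ pr K m p q h =
      pr K n p₀ q (by omega) ≫ (K.d p₀ p).f q +
        p.negOnePow • pr K n p q₀ (by omega) ≫ (K.X p).d q₀ q := by
  refine HomologicalComplex₂.total.hom_ext _ fun i j hij => ?_
  have hij' : i + j = n := hij
  simp only [HomologicalComplex₂.total_d, Preadditive.comp_add, Preadditive.add_comp, HomologicalComplex₂.ι_D₁_assoc,
    HomologicalComplex₂.ι_D₂_assoc, Linear.comp_units_smul]
  rw [K.d₁_eq up (show (ComplexShape.up ℤ).Rel i (i + 1) from rfl) j m (show i + 1 + j = m by omega),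
    K.d₂_eq up i (show (ComplexShape.up ℤ).Rel j (j + 1) from rfl) m (show i + (j + 1) = m by omega)]
  simp only [Linear.units_smul_comp, Category.assoc]
  rcases eq_or_ne j q with hj | hj
  · subst hj
    obtain rfl : i = p₀ := by omega
    obtain rfl : i + 1 = p := hp
    rw [reassoc_of% (ι_pr_self K n i j hij'), ι_pr_self K m (i + 1) j h, ι_pr_ne K m i (j + 1) (i + 1) j _ h (by omega),
      reassoc_of% (ι_pr_ne K n i j (i + 1) q₀ hij' _ (by omega))]
    simp
  · rw [ι_pr_ne K m (i + 1) j p q _ h hj, reassoc_of% (ι_pr_ne K n i j p₀ q hij' _ hj)]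
    rcases eq_or_ne j q₀ with hj₀ | hj₀
    · subst hj₀
      obtain rfl : i = p := by omega
      obtain rfl : j + 1 = q := hq
      rw [reassoc_of% (ι_pr_self K n i j hij'), ι_pr_self K m i (j + 1) h]
      simp
    · rw [ι_pr_ne K m i (j + 1) p q _ h (by omega), reassoc_of% (ι_pr_ne K n i j p q₀ hij' _ hj₀)]
      simp

theorem eq_zero {a b : ℤ} (hK : ∀ p q : ℤ, p < a ∨ q < b → IsZero ((K.X p).X q)) {T : A} {n : ℤ}
    (x : T ⟶ (K.total up).X n) (hx : ∀ p q : ℤ, ∀ h : p + q = n, x ≫ pr K n p q h = 0) : x = 0 := by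
  have hid : 𝟙 ((K.total up).X n) =
      ∑ q ∈ Finset.Icc b (n - a), pr K n (n - q) q (by omega) ≫ ι K n (n - q) q (by omega) := by
    refine HomologicalComplex₂.total.hom_ext _ fun i j hij => ?_
    have hij' : i + j = n := hij
    rw [Category.comp_id, Preadditive.comp_sum]
    by_cases hj : j ∈ Finset.Icc b (n - a)
    · rw [Finset.sum_eq_single j (fun q _ hne => by rw [reassoc_of% (ι_pr_ne K n i j (n - q) q hij' (by omega) hne.symm), zero_comp])
        (fun hn => absurd hj hn)]
      obtain rfl : i = n - j := by omega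
      rw [reassoc_of% (ι_pr_self K n (n - j) j hij')]
    · simp only [Finset.mem_Icc, not_and_or, not_le] at hj
      exact (hK i j (by omega)).eq_of_src _ _
  rw [← Category.comp_id x, hid, Preadditive.comp_sum]
  exact Finset.sum_eq_zero fun q _ => by rw [reassoc_of% (hx (n - q) q (by omega)), zero_comp]

variable (L : HomologicalComplex₂ A up up) [L.HasTotal up] (φ : K ⟶ L)

theorem map_pr (n p q : ℤ) (h : p + q = n) :
    (HomologicalComplex₂.total.map φ up).f n ≫ pr L n p q h = pr K n p q h ≫ (φ.f p).f q := by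
  refine HomologicalComplex₂.total.hom_ext _ fun i j hij => ?_
  rw [HomologicalComplex₂.ιTotal_map_assoc]
  rcases eq_or_ne j q with rfl | hj
  · obtain rfl : i = p := by change i + j = n at hij; omega
    rw [ι_pr_self L, reassoc_of% (ι_pr_self K n i j h)]
    simp
  · rw [ι_pr_ne L n i j p q hij h hj, reassoc_of% (ι_pr_ne K n i j p q hij h hj)]
    simp

end Proj

variable {K L : HomologicalComplex₂ A up up} (φ : K ⟶ L)

theorem cone_exact {P Q : CochainComplex A ℤ} (α : P ⟶ Q) [QuasiIso α] (i j k : ℤ) (hij : i + 1 = j) (hjk : j + 1 = k)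
    {T : A} (x : T ⟶ P.X k) (y : T ⟶ Q.X j) (hx : ∀ l, k + 1 = l → x ≫ P.d k l = 0)
    (hxy : x ≫ α.f k + y ≫ Q.d j k = 0) :
    ∃ (T' : A) (e : T' ⟶ T) (_ : Epi e) (u : T' ⟶ P.X j) (w : T' ⟶ Q.X i),
      e ≫ x = -(u ≫ P.d j k) ∧ e ≫ y = u ≫ α.f j + w ≫ Q.d i j := by
  have hC : (mappingCone α).ExactAt j :=
    (HomologicalComplex.exactAt_iff_isZero_homology _ _).2 (Groth.L00.ConeTransfer.acyclic_cone α j)
  rw [HomologicalComplex.exactAt_iff' _ i j k (by simp; omega) (by simp; omega),
    ShortComplex.exact_iff_exact_up_to_refinements] at hC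
  let z : T ⟶ (mappingCone α).X j := x ≫ (mappingCone.inl α).v k j (by omega) + y ≫ (mappingCone.inr α).f j
  obtain ⟨T', e, he, c, hc⟩ := hC z (by
    dsimp
    rw [mappingCone.ext_to_iff α k (k + 1) rfl, Category.assoc, Category.assoc, zero_comp, zero_comp,
      mappingCone.d_fst_v α j k (k + 1) hjk rfl, mappingCone.d_snd_v α j k hjk]
    constructor
    · simp [z, hx (k + 1) rfl]
    · simpa [z] using hxy)
  dsimp at c hc
  refine ⟨T', e, he, c ≫ (mappingCone.fst α).1.v i j hij, c ≫ (mappingCone.snd α).v i i (add_zero i), ?_, ?_⟩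
  · have := hc =≫ (mappingCone.fst α).1.v j k hjk
    simp only [Category.assoc, mappingCone.d_fst_v α i j k hij hjk] at this
    simpa [z] using this
  · have := hc =≫ (mappingCone.snd α).v j j (add_zero j)
    simp only [Category.assoc, mappingCone.d_snd_v α i j hij] at this
    simpa [z] using this

variable [K.HasTotal up] [L.HasTotal up]

/-- Components below `k` vanish. -/
def Low (K : HomologicalComplex₂ A up up) [K.HasTotal up] {T : A} {n : ℤ} (x : T ⟶ (K.total up).X n) (k : ℤ) : Prop :=
  ∀ p q : ℤ, ∀ h : p + q = n, q < k → x ≫ pr K n p q h = 0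

theorem key [QuasiIso φ] (a b : ℤ) (hK : ∀ p q : ℤ, p < a ∨ q < b → IsZero ((K.X p).X q))
    (hL : ∀ p q : ℤ, p < a ∨ q < b → IsZero ((L.X p).X q)) (i j k : ℤ) (hij : i + 1 = j) (hjk : j + 1 = k) :
    ∀ (d : ℕ) (c : ℤ), k - a < c + d → ∀ (T : A) (x : T ⟶ (K.total up).X k) (y : T ⟶ (L.total up).X j),
      Low K x c → Low L y c → (∀ l, k + 1 = l → x ≫ (K.total up).d k l = 0) →
      x ≫ (HomologicalComplex₂.total.map φ up).f k + y ≫ (L.total up).d j k = 0 →
      ∃ (T' : A) (e : T' ⟶ T) (_ : Epi e) (u : T' ⟶ (K.total up).X j) (w : T' ⟶ (L.total up).X i),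
        e ≫ x = -(u ≫ (K.total up).d j k) ∧
        e ≫ y = u ≫ (HomologicalComplex₂.total.map φ up).f j + w ≫ (L.total up).d i j := by
  intro d
  induction d with
  | zero =>
    intro c hc T x y hx hy _ _
    have hx0 : x = 0 := eq_zero K hK x fun p q h => by
      by_cases hq : q < c
      · exact hx p q h hq
      · exact (hK p q (Or.inl (by omega))).eq_of_tgt _ _
    have hy0 : y = 0 := eq_zero L hL y fun p q h => by
      by_cases hq : q < c
      · exact hy p q h hq
      · exact (hL p q (Or.inl (by omega))).eq_of_tgt _ _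
    exact ⟨T, 𝟙 T, inferInstance, 0, 0, by simp [hx0], by simp [hy0]⟩
  | succ d ih =>
    intro c hc T x y hx hy hdx hxy
    have hq : QuasiIso (((HomologicalComplex.eval A up c).mapHomologicalComplex up).map φ) := inferInstance
    have h1 : ∀ l, k - c + 1 = l → (x ≫ pr K k (k - c) c (by omega)) ≫ (K.d (k - c) l).f c = 0 := fun l hl => by
      have h := hdx (k + 1) rfl =≫ pr K (k + 1) l c (by omega)
      rw [Category.assoc, d_pr K k (k + 1) (k - c) l (c - 1) c rfl hl (by omega) (by omega)] at h
      simp only [Preadditive.comp_add, Linear.comp_units_smul, zero_comp,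
        reassoc_of% (hx l (c - 1) (by omega) (by omega)), smul_zero, add_zero] at h
      rw [Category.assoc]
      exact h
    have h2 : (x ≫ pr K k (k - c) c (by omega)) ≫ (φ.f (k - c)).f c +
        (y ≫ pr L j (j - c) c (by omega)) ≫ (L.d (j - c) (k - c)).f c = 0 := by
      have h := hxy =≫ pr L k (k - c) c (by omega)
      simp only [Preadditive.add_comp, Category.assoc, map_pr,
        d_pr L j k (j - c) (k - c) (c - 1) c hjk (by omega) (by omega) (by omega), Preadditive.comp_add,
        Linear.comp_units_smul, zero_comp, reassoc_of% (hy (k - c) (c - 1) (by omega) (by omega)), smul_zero,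
        add_zero] at h
      simpa only [Category.assoc] using h
    obtain ⟨T₁, e₁, he₁, u, w, hu, hw⟩ := cone_exact
      (((HomologicalComplex.eval A up c).mapHomologicalComplex up).map φ) (i - c) (j - c) (k - c) (by omega) (by omega)
      (x ≫ pr K k (k - c) c (by omega)) (y ≫ pr L j (j - c) c (by omega)) h1 h2
    dsimp at u w hu hw
    let U : T₁ ⟶ (K.total up).X j := u ≫ ι K j (j - c) c (by omega)
    let W : T₁ ⟶ (L.total up).X i := w ≫ ι L i (i - c) c (by omega)
    let x' := e₁ ≫ x + U ≫ (K.total up).d j k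
    let y' := e₁ ≫ y - U ≫ (HomologicalComplex₂.total.map φ up).f j - W ≫ (L.total up).d i j
    have hUpr : ∀ p q : ℤ, ∀ h : p + q = j, q ≠ c → U ≫ pr K j p q h = 0 := fun p q h hne => by
      simp only [U, Category.assoc]
      rw [ι_pr_ne K j (j - c) c p q _ h hne.symm, comp_zero]
    have hWpr : ∀ p q : ℤ, ∀ h : p + q = i, q ≠ c → W ≫ pr L i p q h = 0 := fun p q h hne => by
      simp only [W, Category.assoc]
      rw [ι_pr_ne L i (i - c) c p q _ h hne.symm, comp_zero]
    have hU : U ≫ pr K j (j - c) c (by omega) = u := by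
      simp only [U, Category.assoc]; rw [ι_pr_self, Category.comp_id]
    have hW : W ≫ pr L i (i - c) c (by omega) = w := by
      simp only [W, Category.assoc]; rw [ι_pr_self, Category.comp_id]
    have hUd : ∀ (p l : ℤ) (h : p + c = j), U ≫ pr K j p c h ≫ (K.d p l).f c = u ≫ (K.d (j - c) l).f c := fun p l h => by
      obtain rfl : p = j - c := by omega
      rw [reassoc_of% hU]
    have hWd : ∀ (p l : ℤ) (h : p + c = i), W ≫ pr L i p c h ≫ (L.d p l).f c = w ≫ (L.d (i - c) l).f c := fun p l h => by
      obtain rfl : p = i - c := by omega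
      rw [reassoc_of% hW]
    have hx' : Low K x' (c + 1) := fun p q h hlt => by
      simp only [x', Preadditive.add_comp, Category.assoc,
        d_pr K j k (p - 1) p (q - 1) q hjk (by omega) (by omega) h, Preadditive.comp_add, Linear.comp_units_smul,
        reassoc_of% (hUpr p (q - 1) (by omega) (by omega)), zero_comp, smul_zero, add_zero]
      rcases (Int.lt_add_one_iff.1 hlt).lt_or_eq with hq | hq
      · rw [hx p q h hq, reassoc_of% (hUpr (p - 1) q (by omega) (by omega))]
        simp
      · subst hq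
        obtain rfl : p = k - q := by omega
        rw [hUd, hu]
        simp
    have hy' : Low L y' (c + 1) := fun p q h hlt => by
      simp only [y', Preadditive.sub_comp, Category.assoc, map_pr,
        d_pr L i j (p - 1) p (q - 1) q hij (by omega) (by omega) h, Preadditive.comp_add, Linear.comp_units_smul,
        reassoc_of% (hWpr p (q - 1) (by omega) (by omega)), zero_comp, smul_zero, add_zero]
      rcases (Int.lt_add_one_iff.1 hlt).lt_or_eq with hq | hq
      · rw [hy p q h hq, reassoc_of% (hUpr p q h (by omega)), reassoc_of% (hWpr (p - 1) q (by omega) (by omega))]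
        simp
      · subst hq
        obtain rfl : p = j - q := by omega
        rw [hWd, reassoc_of% hU, hw]
        simp
    obtain ⟨T₂, e₂, he₂, u₂, w₂, hu₂, hw₂⟩ := ih (c + 1) (by omega) T₁ x' y' hx' hy'
      (fun l hl => by simp [x', hdx l hl])
      (by
        simp only [x', y', Preadditive.add_comp, Preadditive.sub_comp, Category.assoc, HomologicalComplex.d_comp_d,
          comp_zero, sub_zero, HomologicalComplex.Hom.comm]
        rw [← comp_zero (f := e₁), ← hxy, Preadditive.comp_add]
        abel)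
    refine ⟨T₂, e₂ ≫ e₁, epi_comp _ _, u₂ + e₂ ≫ U, w₂ + e₂ ≫ W, ?_, ?_⟩
    · simp only [x', Preadditive.comp_add] at hu₂
      rw [Category.assoc, eq_sub_of_add_eq hu₂]
      simp only [Preadditive.add_comp, Category.assoc]
      abel
    · simp only [y', Preadditive.comp_sub] at hw₂
      rw [Category.assoc, eq_add_of_sub_eq (eq_add_of_sub_eq hw₂)]
      simp only [Preadditive.add_comp, Category.assoc]
      abel

theorem quasiIso_total [QuasiIso φ] (a b : ℤ) (hK : ∀ p q : ℤ, p < a ∨ q < b → IsZero ((K.X p).X q))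
    (hL : ∀ p q : ℤ, p < a ∨ q < b → IsZero ((L.X p).X q)) :
    QuasiIso (HomologicalComplex₂.total.map φ up) := by
  refine Groth.L00.Cell.quasiIso_of_acyclic_cone _ fun j => ?_
  let f := HomologicalComplex₂.total.map φ up
  rw [← HomologicalComplex.exactAt_iff_isZero_homology,
    HomologicalComplex.exactAt_iff' _ (j - 1) j (j + 1) (by simp) (by simp),
    ShortComplex.exact_iff_exact_up_to_refinements]
  intro T z hz
  dsimp at z hz
  have h1 := hz =≫ (mappingCone.fst f).1.v (j + 1) (j + 1 + 1) rfl
  have h2 := hz =≫ (mappingCone.snd f).v (j + 1) (j + 1) (add_zero _)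
  rw [Category.assoc, zero_comp] at h1 h2
  rw [mappingCone.d_fst_v f j (j + 1) (j + 1 + 1) rfl rfl] at h1
  rw [mappingCone.d_snd_v f j (j + 1) rfl] at h2
  obtain ⟨T', e, he, u, w, hu, hw⟩ := key φ a b hK hL (j - 1) j (j + 1) (by omega) rfl
    ((j + 1 - a - (b - 1)).toNat + 1) b (by omega) T
    (z ≫ (mappingCone.fst f).1.v j (j + 1) rfl) (z ≫ (mappingCone.snd f).v j j (add_zero j))
    (fun p q h hq => (hK p q (Or.inr hq)).eq_of_tgt _ _) (fun p q h hq => (hL p q (Or.inr hq)).eq_of_tgt _ _)
    (fun l hl => by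
      obtain rfl : j + 1 + 1 = l := hl
      simpa using h1)
    (by simpa [Preadditive.comp_add] using h2)
  refine ⟨T', e, he, u ≫ (mappingCone.inl f).v j (j - 1) (by omega) + w ≫ (mappingCone.inr f).f (j - 1), ?_⟩
  rw [mappingCone.ext_to_iff f j (j + 1) rfl]
  refine ⟨?_, ?_⟩
  · dsimp
    rw [Category.assoc, Category.assoc]
    erw [mappingCone.d_fst_v f (j - 1) j (j + 1) (by omega) rfl]
    rw [hu]
    simp [Preadditive.add_comp]
  · dsimp
    rw [Category.assoc, Category.assoc]
    erw [mappingCone.d_snd_v f (j - 1) j (by omega)]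
    rw [hw]
    simp [Preadditive.add_comp, f]

end Groth.L10.TotalQis
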