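import Mathlib.CategoryTheory.Limits.FormalCoproducts.Cech
import Mathlib.CategoryTheory.Sites.SheafCohomology.Cech
import Mathlib.AlgebraicTopology.SimplicialObject.ChainHomotopy
import Mathlib.CategoryTheory.Preadditive.Opposite
import Mathlib.AlgebraicTopology.AlternatingFaceMapComplex

/-! # Refinement maps of Čech complexes are homotopic -/

universe w v u

open CategoryTheory CategoryTheory.Limits Opposite Simplicial AlgebraicTopology

set_option backward.defeqAttrib.useBackward true
set_option backward.isDefEq.respectTransparency false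
set_option backward.isDefEq.respectTransparency.types false

noncomputable section

namespace Groth.L10.CechRefine

section Power

variable {C : Type u} [Category.{v} C] [HasFiniteProducts C] {U V : FormalCoproduct.{w} C}

/-- A map of powers from a reindexing and a choice of two maps. -/
def mk (f g : U ⟶ V) {α β : Type} [Finite α] [Finite β] (φ : α → β) (s : α → Bool) : U.power β ⟶ V.power α :=
  Fan.IsLimit.lift (V.isLimitPowerFan α) fun a => U.powerπ (φ a) ≫ if s a then f else g

variable (f g : U ⟶ V) {α β γ : Type} [Finite α] [Finite β] [Finite γ]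

@[reassoc]
theorem mk_π (φ : α → β) (s : α → Bool) (a : α) :
    mk f g φ s ≫ V.powerπ a = U.powerπ (φ a) ≫ if s a then f else g :=
  Fan.IsLimit.fac (V.isLimitPowerFan α) _ a

theorem hom_ext {T : FormalCoproduct.{w} C} {x y : T ⟶ V.power α} (h : ∀ a, x ≫ V.powerπ a = y ≫ V.powerπ a) : x = y :=
  Fan.IsLimit.hom_ext (V.isLimitPowerFan α) _ _ h

theorem mk_mapPower (φ : α → β) (s : α → Bool) (ψ : γ → α) :
    mk f g φ s ≫ V.mapPower ψ = mk f g (φ ∘ ψ) (s ∘ ψ) :=
  hom_ext fun a => by rw [Category.assoc, FormalCoproduct.mapPower_π, mk_π, mk_π]; rfl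

theorem mapPower_mk (φ : α → β) (s : α → Bool) (ψ : β → γ) :
    U.mapPower ψ ≫ mk f g φ s = mk f g (ψ ∘ φ) s :=
  hom_ext fun a => by rw [Category.assoc, mk_π, FormalCoproduct.mapPower_π_assoc, mk_π]; rfl

theorem powerMap_π {W : FormalCoproduct.{w} C} (m : U ⟶ W) (a : α) :
    FormalCoproduct.powerMap m α ≫ W.powerπ a = U.powerπ a ≫ m := by
  refine FormalCoproduct.hom_ext (by rfl) fun i => ?_
  simp

theorem mk_congr {φ φ' : α → β} {s s' : α → Bool} (h : ∀ a, φ a = φ' a) (h' : ∀ a, s a = s' a) :
    mk f g φ s = mk f g φ' s' := by rw [funext h, funext h']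

theorem mk_true : mk f g (id : α → α) (fun _ => true) = FormalCoproduct.powerMap f α :=
  hom_ext fun a => by rw [mk_π, powerMap_π, if_pos rfl]; rfl

theorem mk_false : mk f g (id : α → α) (fun _ => false) = FormalCoproduct.powerMap g α :=
  hom_ext fun a => by rw [mk_π, powerMap_π, if_neg (by simp)]; rfl

theorem val_predAbove {n : ℕ} (p : Fin n) (i : Fin (n + 1)) :
    ((p.predAbove i : Fin n) : ℕ) = if (p : ℕ) < i then (i : ℕ) - 1 else i := by
  unfold Fin.predAbove
  by_cases h : (p : ℕ) < i
  · rw [dif_pos (show p.castSucc < i from h), if_pos h]; simp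
  · rw [dif_neg (show ¬ p.castSucc < i from h), if_neg h]; simp

theorem val_succAbove {n : ℕ} (p : Fin (n + 1)) (i : Fin n) :
    ((p.succAbove i : Fin (n + 1)) : ℕ) = if (i : ℕ) < p then (i : ℕ) else i + 1 := by
  unfold Fin.succAbove
  split_ifs <;> simp_all [Fin.lt_def] <;> omega

/-- The homotopy operators. -/
abbrev hOp {n : ℕ} (i : Fin (n + 1)) : U.power (Fin (n + 1)) ⟶ V.power (Fin (n + 2)) :=
  mk f g i.predAbove fun k => decide ((k : ℕ) ≤ (i : ℕ))

/-- Two maps of families induce homotopic maps of Čech objects. -/
def homotopy : SimplicialObject.Homotopy (FormalCoproduct.cechFunctor.map f) (FormalCoproduct.cechFunctor.map g) where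
  h {n} i := hOp f g i
  h_zero_comp_δ_zero n := by
    refine ((mk_mapPower f g _ _ (Fin.succAbove 0)).trans ?_).trans (mk_false f g)
    refine mk_congr f g (fun k => ?_) (fun k => ?_)
    · simp
    · simp
  h_last_comp_δ_last n := by
    refine ((mk_mapPower f g _ _ (Fin.succAbove (Fin.last (n + 1)))).trans ?_).trans (mk_true f g)
    refine mk_congr f g (fun k => ?_) (fun k => ?_)
    · simp
    · simpa using Nat.le_of_lt_succ k.isLt
  h_succ_comp_δ_castSucc_of_lt i j hij := by
    refine (mk_mapPower f g _ _ (Fin.succAbove i.castSucc)).trans ((mk_congr f g (fun k => ?_) (fun k => ?_)).trans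
      (mapPower_mk f g _ _ (Fin.succAbove i)).symm)
    · simp only [Function.comp_apply, Fin.ext_iff, Fin.le_def, Fin.lt_def, decide_eq_decide, val_predAbove, val_succAbove,
        Fin.val_castSucc, Fin.val_succ] at *
      split_ifs <;> omega
    · simp only [Function.comp_apply, Fin.ext_iff, Fin.le_def, Fin.lt_def, decide_eq_decide, val_predAbove, val_succAbove,
        Fin.val_castSucc, Fin.val_succ] at *
      split_ifs <;> omega
  h_succ_comp_δ_castSucc_succ j := by
    refine (mk_mapPower f g _ _ (Fin.succAbove j.castSucc.succ)).trans ((mk_congr f g (fun k => ?_) (fun k => ?_)).trans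
      (mk_mapPower f g _ _ (Fin.succAbove j.castSucc.succ)).symm)
    · simp only [Function.comp_apply, Fin.ext_iff, Fin.le_def, Fin.lt_def, decide_eq_decide, val_predAbove, val_succAbove,
        Fin.val_castSucc, Fin.val_succ] at *
      split_ifs <;> omega
    · simp only [Function.comp_apply, Fin.ext_iff, Fin.le_def, Fin.lt_def, decide_eq_decide, val_predAbove, val_succAbove,
        Fin.val_castSucc, Fin.val_succ] at *
      split_ifs <;> omega
  h_castSucc_comp_δ_succ_of_lt i j hji := by
    refine (mk_mapPower f g _ _ (Fin.succAbove i.succ)).trans ((mk_congr f g (fun k => ?_) (fun k => ?_)).trans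
      (mapPower_mk f g _ _ (Fin.succAbove i)).symm)
    · simp only [Function.comp_apply, Fin.ext_iff, Fin.le_def, Fin.lt_def, decide_eq_decide, val_predAbove, val_succAbove,
        Fin.val_castSucc, Fin.val_succ] at *
      split_ifs <;> omega
    · simp only [Function.comp_apply, Fin.ext_iff, Fin.le_def, Fin.lt_def, decide_eq_decide, val_predAbove, val_succAbove,
        Fin.val_castSucc, Fin.val_succ] at *
      split_ifs <;> omega
  h_comp_σ_castSucc_of_le i j hij := by
    refine (mk_mapPower f g _ _ (Fin.predAbove i.castSucc)).trans ((mk_congr f g (fun k => ?_) (fun k => ?_)).trans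
      (mapPower_mk f g _ _ (Fin.predAbove i)).symm)
    · simp only [Function.comp_apply, Fin.ext_iff, Fin.le_def, Fin.lt_def, decide_eq_decide, val_predAbove, val_succAbove,
        Fin.val_castSucc, Fin.val_succ] at *
      split_ifs <;> omega
    · simp only [Function.comp_apply, Fin.ext_iff, Fin.le_def, Fin.lt_def, decide_eq_decide, val_predAbove, val_succAbove,
        Fin.val_castSucc, Fin.val_succ] at *
      split_ifs <;> omega
  h_comp_σ_succ_of_lt i j hji := by
    refine (mk_mapPower f g _ _ (Fin.predAbove i.succ)).trans ((mk_congr f g (fun k => ?_) (fun k => ?_)).trans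
      (mapPower_mk f g _ _ (Fin.predAbove i)).symm)
    · simp only [Function.comp_apply, Fin.ext_iff, Fin.le_def, Fin.lt_def, decide_eq_decide, val_predAbove, val_succAbove,
        Fin.val_castSucc, Fin.val_succ] at *
      split_ifs <;> omega
    · simp only [Function.comp_apply, Fin.ext_iff, Fin.le_def, Fin.lt_def, decide_eq_decide, val_predAbove, val_succAbove,
        Fin.val_castSucc, Fin.val_succ] at *
      split_ifs <;> omega

end Power

section Cochains

variable {C : Type u} [Category.{v} C] {A : Type*} [Category A] [Preadditive A] (G : Cᵒᵖ ⥤ A)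

/-- The alternating cochain complex of a simplicial object. -/
abbrev cxF (K : SimplicialObject C) : CochainComplex A ℕ :=
  (alternatingCofaceMapComplex A).obj (K.rightOp ⋙ G)

theorem cxF_d (K : SimplicialObject C) (n : ℕ) :
    (cxF G K).d n (n + 1) = (((alternatingFaceMapComplex _).obj (((SimplicialObject.whiskering C _).obj G.rightOp).obj K)).d (n + 1) n).unop := by
  rw [alternatingFaceMapComplex_obj_d]
  refine Eq.trans (CochainComplex.of_d (fun n => (K.rightOp ⋙ G).obj ⦋n⦌) (AlternatingCofaceMapComplex.objD (K.rightOp ⋙ G)) n) ?_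
  rw [AlternatingCofaceMapComplex.objD, AlternatingFaceMapComplex.objD, unop_sum]
  refine Finset.sum_congr rfl fun j _ => ?_
  rw [unop_zsmul]
  rfl

/-- A simplicial homotopy gives a homotopy of alternating cochain complexes. -/
def homotopyCx {K K' : SimplicialObject C} {f g : K ⟶ K'} (H : SimplicialObject.Homotopy f g) :
    Homotopy ((alternatingCofaceMapComplex A).map (Functor.whiskerRight (NatTrans.rightOp f) G))
      ((alternatingCofaceMapComplex A).map (Functor.whiskerRight (NatTrans.rightOp g) G)) where
  hom i j := ((H.whiskerRight G.rightOp).toChainHomotopy.hom j i).unop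
  zero i j h := by
    rw [(H.whiskerRight G.rightOp).toChainHomotopy.zero j i h]
    rfl
  comm n := by
    have hc := (H.whiskerRight G.rightOp).toChainHomotopy.comm n
    cases n with
    | zero =>
      rw [dNext_eq (i' := 1) (w := rfl), prevD_eq_zero _ _ (by simp), add_zero, cxF_d]
      rw [dNext_eq_zero _ _ (by simp), prevD_eq (j' := 1) (w := rfl), zero_add] at hc
      exact congrArg Quiver.Hom.unop hc
    | succ n =>
      rw [dNext_eq (i' := n + 1 + 1) (w := rfl), prevD_eq (j' := n) (w := rfl), cxF_d, cxF_d]
      rw [dNext_eq (i' := n) (w := rfl), prevD_eq (j' := n + 1 + 1) (w := rfl)] at hc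
      refine (congrArg Quiver.Hom.unop hc).trans ?_
      rw [unop_add, unop_add, unop_comp, unop_comp]
      exact congrArg (· + _) (add_comm _ _)

end Cochains

end Groth.L10.CechRefine
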