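import Groth.Agent.L10.CechAcyclic
import Groth.Agent.L10.SiteCoh
import Groth.Agent.L10.ExtCompare
import Mathlib.Algebra.Homology.HomologySequence
import Mathlib.Algebra.Homology.HomologicalComplexAbelian
import Mathlib.CategoryTheory.Sites.Abelian

/-! Čech cohomology of abelian sheaves: dimension shifting, Cartan's criterion, comparison. -/

universe u

open CategoryTheory CategoryTheory.Limits CategoryTheory.Abelian Opposite

set_option backward.defeqAttrib.useBackward true
set_option backward.isDefEq.respectTransparency false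
namespace Groth.L10.Cech

open Groth.L10.SiteCoh

variable {E : Type u} [Category.{u} E] [HasFiniteProducts E] {C : Type u} [SmallCategory C]
  {J : GrothendieckTopology C} {π : E ⥤ C} {ι : Type u} {Y : ι → E} {B : C} {b : ∀ i, π.obj (Y i) ⟶ B}

theorem injective_obj (I : Sheaf J AddCommGrpCat.{u}) [Injective I] : Injective I.obj :=
  Injective.injective_of_adjoint (sheafificationAdjunction J AddCommGrpCat.{u}) I

theorem app_injective {S : ShortComplex (Sheaf J AddCommGrpCat.{u})} (hS : S.ShortExact) (U : C) :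
    Function.Injective (S.f.hom.app (op U)) := by
  have := hS.mono_f
  have : Mono ((sheafToPresheaf J AddCommGrpCat.{u}).map S.f) := inferInstance
  exact (AddCommGrpCat.mono_iff_injective _).1 ((NatTrans.mono_iff_mono_app _).1 this (op U))

theorem app_exact {S : ShortComplex (Sheaf J AddCommGrpCat.{u})} (hS : S.ShortExact) (U : C)
    (x : S.X₂.obj.obj (op U)) (hx : S.g.hom.app (op U) x = 0) : ∃ y, S.f.hom.app (op U) y = x := by
  have h := (hS.exact.map_of_mono_of_preservesKernel
    (sheafToPresheaf J AddCommGrpCat.{u} ⋙ (evaluation _ _).obj (op U)) hS.mono_f inferInstance)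
  rw [ShortComplex.ab_exact_iff] at h
  exact h x hx

/-- The map of Čech complexes induced by a morphism of presheaves. -/
noncomputable abbrev cxMap {P Q : Cᵒᵖ ⥤ AddCommGrpCat.{u}} (φ : P ⟶ Q) : cx π Y P ⟶ cx π Y Q :=
  (cechComplexFunctor Y).map (Functor.whiskerLeft π.op φ)

theorem co_cxMap {P Q : Cᵒᵖ ⥤ AddCommGrpCat.{u}} (φ : P ⟶ Q) {n : ℕ} (a : Fin (n+1) → ι) (x : (cx π Y P).X n) :
    co a ((cxMap (π := π) (Y := Y) φ).f n x) = φ.app _ (co a x) := co_map φ a x

theorem comm_apply {P Q : Cᵒᵖ ⥤ AddCommGrpCat.{u}} (φ : P ⟶ Q) (n m : ℕ) (x : (cx π Y P).X n) :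
    (cx π Y Q).d n m ((cxMap (π := π) (Y := Y) φ).f n x) = (cxMap (π := π) (Y := Y) φ).f m ((cx π Y P).d n m x) :=
  congr($((cxMap (π := π) (Y := Y) φ).comm n m) x)

theorem cxMap_injective {S : ShortComplex (Sheaf J AddCommGrpCat.{u})} (hS : S.ShortExact) (n : ℕ) :
    Function.Injective ((cxMap (π := π) (Y := Y) S.f.hom).f n) := fun x y h => co_ext fun a =>
  app_injective hS _ (by rw [← co_cxMap, ← co_cxMap, h])

theorem cxMap_exact {S : ShortComplex (Sheaf J AddCommGrpCat.{u})} (hS : S.ShortExact) (n : ℕ)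
    (x : (cx π Y S.X₂.obj).X n) (hx : (cxMap (π := π) (Y := Y) S.g.hom).f n x = 0) :
    ∃ y, (cxMap (π := π) (Y := Y) S.f.hom).f n y = x := by
  choose y hy using fun a : Fin (n+1) → ι => app_exact hS _ (co a x) (by rw [← co_cxMap, hx, map_zero])
  exact ⟨mk y, co_ext fun a => by rw [co_cxMap, co_mk, hy]⟩

theorem cxMap_comp_apply (S : ShortComplex (Sheaf J AddCommGrpCat.{u})) (n : ℕ) (x : (cx π Y S.X₁.obj).X n) :
    (cxMap (π := π) (Y := Y) S.g.hom).f n ((cxMap (π := π) (Y := Y) S.f.hom).f n x) = 0 := co_ext fun a => by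
  rw [co_cxMap, co_cxMap, map_zero]
  exact congr($(congr_app (congrArg (fun φ : S.X₁ ⟶ S.X₃ => φ.hom) S.zero) _) (co a x))

variable (π Y) in
/-- The augmentation. -/
noncomputable def aug (b : ∀ i, π.obj (Y i) ⟶ B) (P : Cᵒᵖ ⥤ AddCommGrpCat.{u}) :
    P.obj (op B) →+ (cx π Y P).X 0 :=
  AddMonoidHom.mk' (fun s => mk fun a => P.map (π.map (Pi.π (Y ∘ a) 0) ≫ b (a 0)).op s) fun s t =>
    co_ext fun a => by simp only [co_mk, map_add]

theorem co_aug (P : Cᵒᵖ ⥤ AddCommGrpCat.{u}) (s : P.obj (op B)) (a : Fin 1 → ι) :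
    co a (aug π Y b P s) = P.map (π.map (Pi.π (Y ∘ a) 0) ≫ b (a 0)).op s := co_mk _ _

theorem cxMap_aug {P Q : Cᵒᵖ ⥤ AddCommGrpCat.{u}} (φ : P ⟶ Q) (s : P.obj (op B)) :
    (cxMap (π := π) (Y := Y) φ).f 0 (aug π Y b P s) = aug π Y b Q (φ.app (op B) s) :=
  co_ext fun a => by
    rw [co_cxMap, co_aug, co_aug]
    exact congr($(φ.naturality _) s)

theorem map_apply_comp (P : Cᵒᵖ ⥤ AddCommGrpCat.{u}) {U V W : C} (f : W ⟶ V) (g : V ⟶ U) (s : P.obj (op U)) :
    P.map f.op (P.map g.op s) = P.map (f ≫ g).op s := by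
  rw [op_comp, P.map_comp]; rfl

theorem d_aug (hN : IsNerve π Y b) (P : Cᵒᵖ ⥤ AddCommGrpCat.{u}) (s : P.obj (op B)) :
    (cx π Y P).d 0 1 (aug π Y b P s) = 0 := co_ext fun a => by
  rw [co_d, map_zero, Fin.sum_univ_two]
  simp only [co_aug, map_apply_comp]
  have h : ∀ j : Fin 2, π.map (face Y j a) ≫ π.map (Pi.π (Y ∘ (a ∘ j.succAbove)) 0) ≫ b ((a ∘ j.succAbove) 0) =
      π.map (Pi.π (Y ∘ a) 0) ≫ b (a 0) := fun j => by
    rw [← π.map_comp_assoc, Pi.lift_π]
    exact hN.comp a (j.succAbove 0) 0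
  rw [h, h]
  simp

theorem aug_injective (hN : IsNerve π Y b) (hcov : Sieve.ofArrows (fun i => π.obj (Y i)) b ∈ J B)
    (F : Sheaf J AddCommGrpCat.{u}) : Function.Injective (aug π Y b F.obj) := fun s t h => by
  have hs : Presieve.IsSheafFor (F.obj ⋙ forget _) (Presieve.ofArrows (fun i => π.obj (Y i)) b) :=
    (Presieve.isSheafFor_iff_generate _).2 ((isSheaf_iff_isSheaf_of_type _ _).1
      ((Presheaf.isSheaf_iff_isSheaf_forget J F.obj (forget _)).1 F.property) _ hcov)
  refine hs.isSeparatedFor.ext ?_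
  rintro W g ⟨i⟩
  obtain ⟨l, hl⟩ := hN.lift (fun _ : Fin 1 => i) (fun _ => 𝟙 _) (fun _ _ => rfl)
  have := congrArg (fun x => F.obj.map l.op (co (fun _ : Fin 1 => i) x)) h
  simp only [co_aug, map_apply_comp] at this
  rwa [← Category.assoc, hl 0, Category.id_comp] at this

theorem exists_aug_eq (hN : IsNerve π Y b) (hcov : Sieve.ofArrows (fun i => π.obj (Y i)) b ∈ J B)
    (F : Sheaf J AddCommGrpCat.{u}) (x : (cx π Y F.obj).X 0) (hx : (cx π Y F.obj).d 0 1 x = 0) :
    ∃ s, aug π Y b F.obj s = x := by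
  have hs : Presieve.IsSheafFor (F.obj ⋙ forget _) (Presieve.ofArrows (fun i => π.obj (Y i)) b) :=
    (Presieve.isSheafFor_iff_generate _).2 ((isSheaf_iff_isSheaf_of_type _ _).1
      ((Presheaf.isSheaf_iff_isSheaf_forget J F.obj (forget _)).1 F.property) _ hcov)
  choose l hl using fun i => hN.lift (fun _ : Fin 1 => i) (fun _ => 𝟙 (π.obj (Y i))) (fun _ _ => rfl)
  let v : ∀ i, F.obj.obj (op (π.obj (Y i))) := fun i => F.obj.map (l i).op (co (fun _ : Fin 1 => i) x)
  have hv : ∀ (a : Fin 1 → ι) {W : C} (g : W ⟶ π.obj (tup Y a)),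
      F.obj.map (g ≫ π.map (Pi.π (Y ∘ a) 0)).op (v (a 0)) = F.obj.map g.op (co a x) := by
    intro a W g
    obtain ⟨i, rfl⟩ : ∃ i, a = fun _ => i := ⟨a 0, funext fun k => congrArg a (Subsingleton.elim _ _)⟩
    refine (map_apply_comp F.obj _ _ _).trans ?_
    refine congrArg (fun q => F.obj.map (Quiver.Hom.op q) (co (fun _ : Fin 1 => i) x)) ?_
    refine hN.hom_ext _ _ _ fun k => ?_
    obtain rfl : k = 0 := Subsingleton.elim (α := Fin 1) k 0
    rw [Category.assoc, hl i 0]
    exact Category.comp_id _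
  have compat : Presieve.Arrows.Compatible (F.obj ⋙ forget _) b v := by
    intro i j W gi gj hij
    have hc : ∀ k l : Fin 2, (Fin.cases gi (fun _ => gj) k : W ⟶ π.obj (Y (Fin.cases i (fun _ => j) k))) ≫ b _ =
        (Fin.cases gi (fun _ => gj) l : W ⟶ π.obj (Y (Fin.cases i (fun _ => j) l))) ≫ b _ := by
      intro k l
      fin_cases k <;> fin_cases l <;> first | rfl | exact hij | exact hij.symm
    obtain ⟨p, hp⟩ := hN.lift (n := 1) (Fin.cases i fun _ => j) (fun k => Fin.cases gi (fun _ => gj) k) hc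
    have h0 := congrArg (fun y => F.obj.map p.op (co (Fin.cases i fun _ => j : Fin 2 → ι) y)) hx
    simp only [co_d, map_sum, map_zsmul, map_zero, map_apply_comp] at h0
    simp only [← hv] at h0
    have e : ∀ m : Fin 2, (p ≫ π.map (face Y m (Fin.cases i fun _ => j))) ≫
        π.map (Pi.π (Y ∘ ((Fin.cases i fun _ => j) ∘ m.succAbove)) 0) =
        (Fin.cases gi (fun _ => gj) (m.succAbove 0) : W ⟶ π.obj (Y (Fin.cases i (fun _ => j) (m.succAbove 0)))) := fun m => by
      rw [Category.assoc, ← π.map_comp, Pi.lift_π]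
      exact hp _
    replace h0 := (Fin.sum_univ_two _).symm.trans h0
    rw [e 0, e 1] at h0
    change (-1 : ℤ) ^ 0 • F.obj.map gj.op (v j) + (-1 : ℤ) ^ 1 • F.obj.map gi.op (v i) = 0 at h0
    rw [pow_zero, one_smul, pow_one, neg_smul, one_smul, ← sub_eq_add_neg, sub_eq_zero] at h0
    exact h0.symm
  obtain ⟨s, hs', -⟩ := ((Presieve.isSheafFor_arrows_iff _ _).1 hs) v compat
  refine ⟨s, co_ext fun a => ?_⟩
  rw [co_aug, ← map_apply_comp]
  refine (congrArg _ (hs' (a 0))).trans ?_
  have := hv a (𝟙 _)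
  rw [Category.id_comp, op_id, F.obj.map_id] at this
  exact this

/-- If the first Čech cohomology of the kernel vanishes and sections lift locally along the family, then they
lift. -/
theorem exists_lift_of_exact (hN : IsNerve π Y b) (hcov : Sieve.ofArrows (fun i => π.obj (Y i)) b ∈ J B)
    {S : ShortComplex (Sheaf J AddCommGrpCat.{u})} (hS : S.ShortExact) (h1 : (cx π Y S.X₁.obj).ExactAt 1)
    (s : S.X₃.obj.obj (op B)) (hloc : ∀ i, ∃ t, S.g.hom.app (op (π.obj (Y i))) t = S.X₃.obj.map (b i).op s) :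
    ∃ t, S.g.hom.app (op B) t = s := by
  choose t ht using hloc
  let c : (cx π Y S.X₂.obj).X 0 := mk fun a => S.X₂.obj.map (π.map (Pi.π (Y ∘ a) 0)).op (t (a 0))
  have hc : (cxMap (π := π) (Y := Y) S.g.hom).f 0 c = aug π Y b S.X₃.obj s := co_ext fun a => by
    rw [co_cxMap, co_mk, co_aug, ← map_apply_comp]
    exact Eq.trans congr($(S.g.hom.naturality _) (t (a 0))) (congrArg _ (ht (a 0)))
  obtain ⟨z, hz⟩ := cxMap_exact hS 1 ((cx π Y S.X₂.obj).d 0 1 c) (by
    rw [← comm_apply, hc, d_aug hN])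
  have hdz : (cx π Y S.X₁.obj).d 1 2 z = 0 := cxMap_injective hS 2 (by
    rw [← comm_apply, hz, map_zero, ← ConcreteCategory.comp_apply, HomologicalComplex.d_comp_d]
    rfl)
  rw [HomologicalComplex.exactAt_iff' _ 0 1 2 (by simp) (by simp), ShortComplex.ab_exact_iff] at h1
  obtain ⟨e, he⟩ := h1 z hdz
  obtain ⟨v, hv⟩ := exists_aug_eq hN hcov S.X₂ (c - (cxMap (π := π) (Y := Y) S.f.hom).f 0 e) (by
    rw [map_sub, comm_apply, show (cx π Y S.X₁.obj).d 0 1 e = z from he, hz, sub_self])
  refine ⟨v, aug_injective hN hcov S.X₃ ?_⟩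
  rw [← cxMap_aug, hv, map_sub, hc, cxMap_comp_apply, sub_zero]

/-- The Čech complex of a sheaf vanishes in degree one when its hull has surjective sections over the base. -/
theorem exactAt_one_of_surjective (hN : IsNerve π Y b) (hcov : Sieve.ofArrows (fun i => π.obj (Y i)) b ∈ J B)
    {S : ShortComplex (Sheaf J AddCommGrpCat.{u})} (hS : S.ShortExact) (h2 : (cx π Y S.X₂.obj).ExactAt 1)
    (hs : Function.Surjective (S.g.hom.app (op B))) : (cx π Y S.X₁.obj).ExactAt 1 := by
  rw [HomologicalComplex.exactAt_iff' _ 0 1 2 (by simp) (by simp), ShortComplex.ab_exact_iff] at h2 ⊢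
  intro x hx
  obtain ⟨(y : (cx π Y S.X₂.obj).X 0), hy⟩ := h2 ((cxMap (π := π) (Y := Y) S.f.hom).f 1 x) (by
    refine (comm_apply S.f.hom 1 2 x).trans ?_
    rw [show (cx π Y S.X₁.obj).d 1 2 x = 0 from hx, map_zero])
  have hy' : (cx π Y S.X₂.obj).d 0 1 y = (cxMap (π := π) (Y := Y) S.f.hom).f 1 x := hy
  obtain ⟨s, hs'⟩ := exists_aug_eq hN hcov S.X₃ ((cxMap (π := π) (Y := Y) S.g.hom).f 0 y) (by
    rw [comm_apply, hy', cxMap_comp_apply])
  obtain ⟨t, rfl⟩ := hs s
  obtain ⟨z, hz⟩ := cxMap_exact hS 0 (y - aug π Y b S.X₂.obj t) (by rw [map_sub, cxMap_aug, hs', sub_self])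
  refine ⟨z, cxMap_injective hS 1 ?_⟩
  change (cxMap (π := π) (Y := Y) S.f.hom).f 1 ((cx π Y S.X₁.obj).d 0 1 z) = _
  rw [← comm_apply, hz, map_sub, d_aug hN, sub_zero, hy']

/-- Sections of `g` are surjective over all the intersections. -/
def SurjTup (π : E ⥤ C) (Y : ι → E) {F G : Sheaf J AddCommGrpCat.{u}} (g : F ⟶ G) : Prop :=
  ∀ (n : ℕ) (a : Fin (n+1) → ι), Function.Surjective (g.hom.app (op (π.obj (tup Y a))))

variable (π Y) in
/-- The short complex of Čech complexes of a short complex of sheaves. -/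
noncomputable abbrev scx (S : ShortComplex (Sheaf J AddCommGrpCat.{u})) :
    ShortComplex (CochainComplex AddCommGrpCat.{u} ℕ) :=
  ShortComplex.mk (cxMap (π := π) (Y := Y) S.f.hom) (cxMap (π := π) (Y := Y) S.g.hom) (by
    refine HomologicalComplex.hom_ext _ _ fun n => AddCommGrpCat.hom_ext (AddMonoidHom.ext fun x => ?_)
    exact cxMap_comp_apply S n x)

theorem scx_shortExact {S : ShortComplex (Sheaf J AddCommGrpCat.{u})} (hS : S.ShortExact)
    (hs : SurjTup π Y S.g) : (scx π Y S).ShortExact := by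
  refine HomologicalComplex.shortExact_of_degreewise_shortExact _ fun n => ?_
  refine { exact := ?_, mono_f := ?_, epi_g := ?_ }
  · rw [ShortComplex.ab_exact_iff]
    exact cxMap_exact hS n
  · exact (AddCommGrpCat.mono_iff_injective _).2 (cxMap_injective hS n)
  · refine (AddCommGrpCat.epi_iff_surjective _).2 fun x => ?_
    choose y hy using fun a => hs n a (co a x)
    exact ⟨mk y, co_ext fun a => (co_cxMap S.g.hom a (mk y)).trans (by rw [co_mk]; exact hy a)⟩

theorem exactAt_X₃ {S : ShortComplex (Sheaf J AddCommGrpCat.{u})} (hS : S.ShortExact) (hs : SurjTup π Y S.g)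
    (n : ℕ) (h2 : (cx π Y S.X₂.obj).ExactAt n) (h1 : (cx π Y S.X₁.obj).ExactAt (n+1)) :
    (cx π Y S.X₃.obj).ExactAt n := by
  rw [HomologicalComplex.exactAt_iff_isZero_homology] at h1 h2 ⊢
  exact ((scx_shortExact hS hs).homology_exact₃ n (n+1) (by simp)).isZero_X₂
    (h2.eq_of_src _ _) (h1.eq_of_tgt _ _)

theorem exactAt_X₁ {S : ShortComplex (Sheaf J AddCommGrpCat.{u})} (hS : S.ShortExact) (hs : SurjTup π Y S.g)
    (n : ℕ) (h3 : (cx π Y S.X₃.obj).ExactAt n) (h2 : (cx π Y S.X₂.obj).ExactAt (n+1)) :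
    (cx π Y S.X₁.obj).ExactAt (n+1) := by
  rw [HomologicalComplex.exactAt_iff_isZero_homology] at h2 h3 ⊢
  exact ((scx_shortExact hS hs).homology_exact₁ n (n+1) (by simp)).isZero_X₂
    (h3.eq_of_src _ _) (h2.eq_of_tgt _ _)

/-- A class of sheaves stable under hull quotients with surjective hull sections has acyclic Čech complexes. -/
theorem exactAt_of_class (hN : IsNerve π Y b) (hcov : Sieve.ofArrows (fun i => π.obj (Y i)) b ∈ J B)
    (P : Sheaf J AddCommGrpCat.{u} → Prop)
    (hquot : ∀ F, P F → P (hull F).X₃)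
    (hB : ∀ F, P F → Function.Surjective ((hull F).g.hom.app (op B)))
    (hT : ∀ F, P F → SurjTup π Y (hull F).g)
    (F : Sheaf J AddCommGrpCat.{u}) (hF : P F) (n : ℕ) : (cx π Y F.obj).ExactAt (n+1) := by
  induction n generalizing F with
  | zero =>
    have := injective_obj (hull F).X₂
    exact exactAt_one_of_surjective (S := hull F) hN hcov (hull_shortExact F)
      (exactAt_of_injective (P := (hull F).X₂.obj) hN 0) (hB F hF)
  | succ n ih =>
    have := injective_obj (hull F).X₂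
    exact exactAt_X₁ (S := hull F) (hull_shortExact F) (hT F hF) (n+1) (ih _ (hquot F hF))
      (exactAt_of_injective (P := (hull F).X₂.obj) hN (n+1))

/-- The map from sections over the base to zeroth Čech cohomology. -/
noncomputable def aug0 (hN : IsNerve π Y b) (P : Cᵒᵖ ⥤ AddCommGrpCat.{u}) :
    P.obj (op B) ⟶ (cx π Y P).homology 0 :=
  (cx π Y P).liftCycles (AddCommGrpCat.ofHom (aug π Y b P)) 1 (by simp)
    (AddCommGrpCat.hom_ext (AddMonoidHom.ext fun s => d_aug hN P s)) ≫ (cx π Y P).homologyπ 0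

theorem aug0_naturality (hN : IsNerve π Y b) {P Q : Cᵒᵖ ⥤ AddCommGrpCat.{u}} (φ : P ⟶ Q) :
    aug0 hN P ≫ HomologicalComplex.homologyMap (cxMap (π := π) (Y := Y) φ) 0 = φ.app (op B) ≫ aug0 hN Q := by
  rw [aug0, aug0, Category.assoc, HomologicalComplex.homologyπ_naturality, ← Category.assoc, ← Category.assoc]
  congr 1
  rw [← cancel_mono ((cx π Y Q).iCycles 0)]
  simp only [Category.assoc, HomologicalComplex.cyclesMap_i, HomologicalComplex.liftCycles_i,
    HomologicalComplex.liftCycles_i_assoc]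
  exact AddCommGrpCat.hom_ext (AddMonoidHom.ext fun s => cxMap_aug φ s)

theorem isIso_liftCycles_homologyπ₀ (K : CochainComplex AddCommGrpCat.{u} ℕ) {A : AddCommGrpCat.{u}}
    (f : A ⟶ K.X 0) (hf : f ≫ K.d 0 1 = 0) (hinj : Function.Injective f)
    (hsurj : ∀ x, K.d 0 1 x = 0 → ∃ s, f s = x) :
    IsIso (K.liftCycles f 1 (by simp) hf ≫ K.homologyπ 0) := by
  have hl : ∀ s, K.iCycles 0 (K.liftCycles f 1 (by simp) hf s) = f s := fun s =>
    congr($(K.liftCycles_i f 1 (by simp) hf) s)
  have hi : Function.Injective (K.iCycles 0) := (AddCommGrpCat.mono_iff_injective _).1 inferInstance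
  have : IsIso (K.liftCycles f 1 (by simp) hf) := (ConcreteCategory.isIso_iff_bijective _).2
    ⟨fun s t h => hinj (by rw [← hl, ← hl, h]), fun z => by
      obtain ⟨s, hs⟩ := hsurj (K.iCycles 0 z) congr($(K.iCycles_d 0 1) z)
      exact ⟨s, hi ((hl s).trans hs)⟩⟩
  have : IsIso (K.homologyπ 0) := K.isIso_homologyπ 0 0 (by simp) (by simp)
  infer_instance

theorem isIso_aug0 (hN : IsNerve π Y b) (hcov : Sieve.ofArrows (fun i => π.obj (Y i)) b ∈ J B)
    (F : Sheaf J AddCommGrpCat.{u}) : IsIso (aug0 hN F.obj) :=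
  isIso_liftCycles_homologyπ₀ (cx π Y F.obj) (AddCommGrpCat.ofHom (aug π Y b F.obj)) _
    (aug_injective hN hcov F) (exists_aug_eq hN hcov F)

theorem subsingleton_ext_quot {F : Sheaf J AddCommGrpCat.{u}} {U : C} {q : ℕ}
    [Subsingleton (Ext (fs J U) F (q+1+1))] : Subsingleton (Ext (fs J U) (hull F).X₃ (q+1)) :=
  have := fun m => Ext.subsingleton_of_injective (fs J U) (hull F).X₂ m
  (extShift (fs J U) (hull_shortExact F) q).toEquiv.subsingleton

/-- Čech cohomology computes cohomology when the intersections are acyclic. -/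
theorem nonempty_homology_addEquiv (hN : IsNerve π Y b) (hcov : Sieve.ofArrows (fun i => π.obj (Y i)) b ∈ J B)
    (F : Sheaf J AddCommGrpCat.{u})
    (hF : ∀ (n : ℕ) (a : Fin (n+1) → ι) (q : ℕ), Subsingleton (Ext (fs J (π.obj (tup Y a))) F (q+1)))
    (p : ℕ) : Nonempty ((cx π Y F.obj).homology p ≃+ Ext (fs J B) F p) := by
  induction p generalizing F with
  | zero =>
    have := isIso_aug0 hN hcov F
    exact ⟨(asIso (aug0 hN F.obj)).addCommGroupIsoToAddEquiv.symm.trans (hu0 F B).symm⟩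
  | succ p ih =>
    have hS := hull_shortExact F
    have hs : SurjTup π Y (hull F).g := fun n a => by
      have := hF n a 0
      exact surjective_sections_of_subsingleton hS _
    have hC := scx_shortExact hS hs
    have hI : ∀ m, IsZero ((cx π Y (hull F).X₂.obj).homology (m+1)) := fun m => by
      have := injective_obj (hull F).X₂
      exact (HomologicalComplex.exactAt_iff_isZero_homology _ _).1 (exactAt_of_injective hN m)
    have hE : ∀ m, Subsingleton (Ext (fs J B) (hull F).X₂ (m+1)) := fun m => Ext.subsingleton_of_injective _ _ m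
    have hsurj : ∀ m, Function.Surjective (hC.δ m (m+1) (by simp)) := fun m y => by
      have h := hC.homology_exact₁ m (m+1) (by simp)
      rw [ShortComplex.ab_exact_iff] at h
      have := AddCommGrpCat.subsingleton_of_isZero (hI m)
      exact h y (Subsingleton.elim (α := ((cx π Y (hull F).X₂.obj).homology (m+1) : Type u)) _ _)
    cases p with
    | zero =>
      have := isIso_aug0 hN hcov (hull F).X₂
      have := isIso_aug0 hN hcov (hull F).X₃
      let e := (asIso (aug0 hN (hull F).X₃.obj)).addCommGroupIsoToAddEquiv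
      refine nonempty_addEquiv_of_ker_eq ((hC.δ 0 1 (by simp)).hom.comp e.toAddMonoidHom)
        ((hS.extClass.postcomp (fs J B) (zero_add 1)).comp (hu0 (hull F).X₃ B).symm.toAddMonoidHom)
        ((hsurj 0).comp e.surjective) ?_ ?_
      · intro y
        obtain ⟨z, hz⟩ := postcomp_extClass_surjective (fs J B) hS 0 y
        exact ⟨hu0 _ B z, (congrArg _ ((hu0 _ B).symm_apply_apply z)).trans hz⟩
      ext s
      change hC.δ 0 1 _ (e s) = 0 ↔ ((hu0 _ B).symm s).comp hS.extClass (zero_add 1) = 0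
      have key : ∀ t, HomologicalComplex.homologyMap (cxMap (π := π) (Y := Y) (hull F).g.hom) 0
          (aug0 hN (hull F).X₂.obj t) = e ((hull F).g.hom.app (op B) t) := fun t =>
        congr($(aug0_naturality hN (hull F).g.hom) t)
      constructor <;> intro h
      · have h3 := hC.homology_exact₃ 0 1 (by simp)
        rw [ShortComplex.ab_exact_iff] at h3
        obtain ⟨w, hw⟩ := h3 (e s) h
        obtain ⟨t, rfl⟩ := (asIso (aug0 hN (hull F).X₂.obj)).addCommGroupIsoToAddEquiv.surjective w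
        have hst : (hull F).g.hom.app (op B) t = s := e.injective ((key t).symm.trans hw)
        have : (hu0 _ B).symm s = ((hu0 _ B).symm t).comp (Ext.mk₀ (hull F).g) (add_zero 0) :=
          (hu0 _ B).injective (by rw [hu0_comp, AddEquiv.apply_symm_apply, AddEquiv.apply_symm_apply, hst])
        rw [this, Ext.comp_assoc_of_second_deg_zero, hS.comp_extClass, Ext.comp_zero]
      · obtain ⟨y, hy⟩ := Ext.covariant_sequence_exact₃ _ hS _ (zero_add 1) h
        have hst : (hull F).g.hom.app (op B) (hu0 _ B y) = s := by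
          rw [← hu0_comp, hy, AddEquiv.apply_symm_apply]
        rw [← hst, ← key]
        exact congr($(hC.comp_δ 0 1 (by simp)) (aug0 hN (hull F).X₂.obj (hu0 _ B y)))
    | succ m =>
      obtain ⟨φ⟩ := ih (hull F).X₃ fun n a q => by have := hF n a (q+1); exact subsingleton_ext_quot
      have := hE m
      have := hE (m+1)
      have hinj : Function.Injective (hC.δ (m+1) (m+1+1) (by simp)) :=
        (injective_iff_map_eq_zero _).2 fun x hx => by
          have h := hC.homology_exact₃ (m+1) (m+1+1) (by simp)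
          rw [ShortComplex.ab_exact_iff] at h
          obtain ⟨w, hw⟩ := h x hx
          have := AddCommGrpCat.subsingleton_of_isZero (hI m)
          rw [← hw, Subsingleton.elim (α := ((cx π Y (hull F).X₂.obj).homology (m+1) : Type u)) w 0]
          exact map_zero _
      exact ⟨(AddEquiv.ofBijective (hC.δ (m+1) (m+1+1) (by simp)).hom ⟨hinj, hsurj (m+1)⟩).symm.trans
        (φ.trans (extShift (fs J B) hS m))⟩

end Groth.L10.Cech
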