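import Groth.Agent.L10.BotCompare
import Groth.Agent.L10.CechEdge
import Groth.Prelude.Def_CohCx

/-! Čech cohomology as Ext out of the free presheaf on the generated sieve. -/

set_option autoImplicit false
set_option backward.defeqAttrib.useBackward true
set_option backward.isDefEq.respectTransparency false

universe u

open CategoryTheory CategoryTheory.Limits CategoryTheory.Abelian Opposite

namespace Groth.L10.CechSieveExt

open Groth.L10.SiteFr Groth.L10.SiteCoh Groth.L10.Cech Groth.L10.BotCompare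

variable {C : Type u} [SmallCategory C]

/-- A presheaf as a sheaf for the trivial topology. -/
def mb : (Cᵒᵖ ⥤ AddCommGrpCat.{u}) ⥤ Sheaf (⊥ : GrothendieckTopology C) AddCommGrpCat.{u} where
  obj M := ⟨M, Presheaf.isSheaf_bot _⟩
  map f := ⟨f⟩

instance : (mb (C := C)).Additive where

instance : (mb (C := C)).IsEquivalence where
  faithful := ⟨fun h => congrArg (fun q => q.hom) h⟩
  full := ⟨fun f => ⟨f.hom, rfl⟩⟩
  essSurj := ⟨fun A => ⟨A.obj, ⟨Iso.refl _⟩⟩⟩

theorem injective_mb (I : Cᵒᵖ ⥤ AddCommGrpCat.{u}) [Injective I] : Injective ((mb).obj I) := ⟨fun {A B} g i hi => by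
  have : Mono i.hom := inferInstanceAs (Mono ((sheafToPresheaf _ AddCommGrpCat.{u}).map i))
  exact ⟨⟨@Injective.factorThru _ _ I _ _ inferInstance g.hom i.hom _⟩,
    Sheaf.hom_ext (@Injective.comp_factorThru _ _ I _ _ inferInstance g.hom i.hom _)⟩⟩

variable [HasPullbacks C] {X : C} {ι : Type u} (Y : ι → Over X)

/-- The sieve generated by the family. -/
abbrev R : Sieve X := Sieve.ofArrows (fun i => (Y i).left) (fun i => (Y i).hom)

/-- The free presheaf on the sieve. -/
noncomputable abbrev G : Sheaf (⊥ : GrothendieckTopology C) AddCommGrpCat.{u} :=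
  (fr _).obj (sv (R Y))

/-- The structure morphism of a one-tuple. -/
noncomputable abbrev arr (a : Fin 1 → ι) : (Over.forget X).obj (tup Y a) ⟶ X :=
  (Over.forget X).map (Pi.π (Y ∘ a) 0) ≫ (Y (a 0)).hom

theorem mem_arr (a : Fin 1 → ι) : R Y (arr Y a) :=
  (R Y).downward_closed (Sieve.ofArrows_mk _ _ (a 0)) _

theorem ev_add {A : Sheaf (⊥ : GrothendieckTopology C) AddCommGrpCat.{u}} (y z : G Y ⟶ A) {W : C}
    (a : W ⟶ X) (ha : R Y a) : ev (y + z) a ha = ev y a ha + ev z a ha := by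
  let s : (fr (⊥ : GrothendieckTopology C)).obj (sv (R Y)) ⟶ A := y
  rw [ev, ev, ev, Adjunction.homEquiv_unit, Adjunction.homEquiv_unit, Adjunction.homEquiv_unit]
  rfl

theorem ev_map {A : Sheaf (⊥ : GrothendieckTopology C) AddCommGrpCat.{u}} (y : G Y ⟶ A) {V W : C}
    (g : W ⟶ V) (a : V ⟶ X) (ha : R Y a) :
    A.obj.map g.op (ev y a ha) = ev y (g ≫ a) ((R Y).downward_closed ha g) :=
  (val_natural (X := sv (R Y)) ((adj _).homEquiv _ _ y) g.op ⟨a, ha⟩).symm

theorem ev_congr {A : Sheaf (⊥ : GrothendieckTopology C) AddCommGrpCat.{u}} (y : G Y ⟶ A) {W : C}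
    {a b : W ⟶ X} (h : a = b) (ha : R Y a) : ev y a ha = ev y b (h ▸ ha) := by
  subst h; rfl

variable (M : Cᵒᵖ ⥤ AddCommGrpCat.{u})

/-- The zero cochain of a morphism. -/
noncomputable def coch : (G Y ⟶ (mb).obj M) →+ (Cech.cx (Over.forget X) Y M).X 0 :=
  AddMonoidHom.mk' (fun y => Cech.mk fun a => ev y (arr Y a) (mem_arr Y a)) fun y z =>
    co_ext fun a => by simp only [co_mk, map_add]; exact ev_add Y y z _ _

theorem co_coch (y : G Y ⟶ (mb).obj M) (a : Fin 1 → ι) :
    co a (coch Y M y) = ev y (arr Y a) (mem_arr Y a) := co_mk _ _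

theorem d_coch (y : G Y ⟶ (mb).obj M) : (Cech.cx (Over.forget X) Y M).d 0 1 (coch Y M y) = 0 := co_ext fun a => by
  rw [co_d, map_zero, Fin.sum_univ_two]
  simp only [co_coch]
  have h : ∀ j : Fin 2, (Over.forget X).map (face Y j a) ≫ arr Y (a ∘ j.succAbove) =
      (Over.forget X).map (Pi.π (Y ∘ a) 0) ≫ (Y (a 0)).hom := fun j => by
    rw [← Functor.map_comp_assoc, Pi.lift_π]
    exact (isNerve_over Y).comp a (j.succAbove 0) 0
  have hz : ∀ j : Fin 2, M.map ((Over.forget X).map (face Y j a)).op (ev y (arr Y (a ∘ j.succAbove)) (mem_arr Y _)) =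
      ev y ((Over.forget X).map (Pi.π (Y ∘ a) 0) ≫ (Y (a 0)).hom)
        ((R Y).downward_closed (Sieve.ofArrows_mk _ _ (a 0)) _) := fun j =>
    (ev_map Y y ((Over.forget X).map (face Y j a)) _ (mem_arr Y _)).trans (ev_congr Y y (h j) _)
  rw [hz, hz]
  simp

theorem coch_injective : Function.Injective (coch Y M) := fun y z h => ev_ext fun W a ha => by
  obtain ⟨i, g, rfl⟩ := (Sieve.mem_ofArrows_iff _ _ _).1 ha
  obtain ⟨l, hl⟩ := (isNerve_over Y).lift (fun _ : Fin 1 => i) (fun _ => g) (fun _ _ => rfl)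
  have e : l ≫ arr Y (fun _ : Fin 1 => i) = g ≫ (Y i).hom :=
    (Category.assoc _ _ _).symm.trans (congrArg (· ≫ _) (hl 0))
  have h1 := congrArg (fun x => M.map l.op (co (fun _ : Fin 1 => i) x)) h
  simp only [co_coch] at h1
  exact ((ev_congr Y y e _).symm.trans (ev_map Y y l _ (mem_arr Y _)).symm).trans
    (h1.trans ((ev_map Y z l _ (mem_arr Y _)).trans (ev_congr Y z e _)))

theorem exists_coch_eq (x : (Cech.cx (Over.forget X) Y M).X 0)
    (hx : (Cech.cx (Over.forget X) Y M).d 0 1 x = 0) : ∃ y, coch Y M y = x := by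
  have hN := isNerve_over Y
  choose l hl using fun i => hN.lift (fun _ : Fin 1 => i) (fun _ => 𝟙 ((Over.forget X).obj (Y i))) (fun _ _ => rfl)
  let v : ∀ i, M.obj (op ((Over.forget X).obj (Y i))) := fun i => M.map (l i).op (co (fun _ : Fin 1 => i) x)
  have hv : ∀ (a : Fin 1 → ι) {W : C} (g : W ⟶ (Over.forget X).obj (tup Y a)),
      M.map (g ≫ (Over.forget X).map (Pi.π (Y ∘ a) 0)).op (v (a 0)) = M.map g.op (co a x) := by
    intro a W g
    obtain ⟨i, rfl⟩ : ∃ i, a = fun _ => i := ⟨a 0, funext fun k => congrArg a (Subsingleton.elim _ _)⟩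
    refine (map_apply_comp M _ _ _).trans ?_
    refine congrArg (fun q => M.map (Quiver.Hom.op q) (co (fun _ : Fin 1 => i) x)) ?_
    refine hN.hom_ext _ _ _ fun k => ?_
    obtain rfl : k = 0 := Subsingleton.elim (α := Fin 1) k 0
    rw [Category.assoc, hl i 0]
    exact Category.comp_id _
  have compat : ∀ (i j : ι) (W : C) (gi : W ⟶ (Over.forget X).obj (Y i)) (gj : W ⟶ (Over.forget X).obj (Y j)),
      gi ≫ (Y i).hom = gj ≫ (Y j).hom → M.map gi.op (v i) = M.map gj.op (v j) := by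
    intro i j W gi gj hij
    have hc : ∀ k l : Fin 2, (Fin.cases gi (fun _ => gj) k : W ⟶ (Over.forget X).obj (Y (Fin.cases i (fun _ => j) k))) ≫ (Y _).hom =
        (Fin.cases gi (fun _ => gj) l : W ⟶ (Over.forget X).obj (Y (Fin.cases i (fun _ => j) l))) ≫ (Y _).hom := by
      intro k l
      fin_cases k <;> fin_cases l <;> first | rfl | exact hij | exact hij.symm
    obtain ⟨p, hp⟩ := hN.lift (n := 1) (Fin.cases i fun _ => j) (fun k => Fin.cases gi (fun _ => gj) k) hc
    have h0 := congrArg (fun y => M.map p.op (co (Fin.cases i fun _ => j : Fin 2 → ι) y)) hx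
    simp only [co_d, map_sum, map_zsmul, map_zero, map_apply_comp] at h0
    simp only [← hv] at h0
    have e : ∀ m : Fin 2, (p ≫ (Over.forget X).map (face Y m (Fin.cases i fun _ => j))) ≫
        (Over.forget X).map (Pi.π (Y ∘ ((Fin.cases i fun _ => j) ∘ m.succAbove)) 0) =
        (Fin.cases gi (fun _ => gj) (m.succAbove 0) : W ⟶ (Over.forget X).obj (Y (Fin.cases i (fun _ => j) (m.succAbove 0)))) := fun m => by
      rw [Category.assoc, ← (Over.forget X).map_comp, Pi.lift_π]
      exact hp _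
    replace h0 := (Fin.sum_univ_two _).symm.trans h0
    rw [e 0, e 1] at h0
    change (-1 : ℤ) ^ 0 • M.map gj.op (v j) + (-1 : ℤ) ^ 1 • M.map gi.op (v i) = 0 at h0
    rw [pow_zero, one_smul, pow_one, neg_smul, one_smul, ← sub_eq_add_neg, sub_eq_zero] at h0
    exact h0.symm
  choose I g hg using fun (W : C) (a : W ⟶ X) (ha : R Y a) => (Sieve.mem_ofArrows_iff _ _ _).1 ha
  let m : sv (R Y) ⟶ (U _).obj ((mb).obj M) :=
    ⟨{ app := fun V => ↾fun (a : {f : V.unop ⟶ X // R Y f}) => M.map (g _ a.1 a.2).op (v (I _ a.1 a.2))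
       naturality := fun V W q => ConcreteCategory.hom_ext _ _ fun (a : {f : V.unop ⟶ X // R Y f}) => by
         change M.map (g _ (q.unop ≫ a.1) _).op (v _) = M.map q.unop.op (M.map (g _ a.1 a.2).op (v _))
         rw [map_apply_comp]
         refine compat _ _ _ _ _ ?_
         rw [← hg, Category.assoc, ← hg] }⟩
  refine ⟨((adj _).homEquiv _ _).symm m, co_ext fun a => ?_⟩
  rw [co_coch]
  refine (congrArg (fun q : sv (R Y) ⟶ (U _).obj ((mb).obj M) => val q (op _) ⟨arr Y a, mem_arr Y a⟩)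
    (Equiv.apply_symm_apply _ m)).trans ?_
  change M.map (g _ (arr Y a) (mem_arr Y a)).op (v (I _ (arr Y a) (mem_arr Y a))) = _
  refine (compat _ _ _ _ ((Over.forget X).map (Pi.π (Y ∘ a) 0)) (hg _ _ (mem_arr Y a)).symm).trans ?_
  have := hv a (𝟙 _)
  rw [Category.id_comp, op_id, M.map_id] at this
  exact this

/-- The cochain as a morphism of groups. -/
noncomputable abbrev cochHom : AddCommGrpCat.of (G Y ⟶ (mb).obj M) ⟶ (Cech.cx (Over.forget X) Y M).X 0 :=
  AddCommGrpCat.ofHom (coch Y M)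

theorem cochHom_d : cochHom Y M ≫ (Cech.cx (Over.forget X) Y M).d 0 1 = 0 :=
  AddCommGrpCat.hom_ext (AddMonoidHom.ext (d_coch Y M))

/-- The cocycle of a morphism. -/
noncomputable abbrev cyc : AddCommGrpCat.of (G Y ⟶ (mb).obj M) ⟶ (Cech.cx (Over.forget X) Y M).cycles 0 :=
  (Cech.cx (Over.forget X) Y M).liftCycles (cochHom Y M) 1 (by simp) (cochHom_d Y M)

theorem i_cyc (y : G Y ⟶ (mb).obj M) :
    (Cech.cx (Over.forget X) Y M).iCycles 0 (cyc Y M y) = coch Y M y :=
  (ConcreteCategory.comp_apply _ _ _).symm.trans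
    (ConcreteCategory.congr_hom ((Cech.cx (Over.forget X) Y M).liftCycles_i (cochHom Y M) 1 (by simp) (cochHom_d Y M)) y)

/-- The class of a morphism. -/
noncomputable def cls : (G Y ⟶ (mb).obj M) →+ CohCx.cechH M Y 0 :=
  (cyc Y M ≫ (Cech.cx (Over.forget X) Y M).homologyπ 0).hom

theorem bijective_cls : Function.Bijective (cls Y M) := by
  have hi := (AddCommGrpCat.mono_iff_injective ((Cech.cx (Over.forget X) Y M).iCycles 0)).1 inferInstance
  have : IsIso ((Cech.cx (Over.forget X) Y M).homologyπ 0) := by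
    apply (Cech.cx (Over.forget X) Y M).isIso_homologyπ 0 0 (by simp)
    simp
  refine (ConcreteCategory.bijective_of_isIso ((Cech.cx (Over.forget X) Y M).homologyπ 0)).comp ⟨?_, ?_⟩
  · intro y z h
    exact coch_injective Y M (((i_cyc Y M y).symm.trans (congrArg _ h)).trans (i_cyc Y M z))
  · intro z
    obtain ⟨y, hy⟩ := exists_coch_eq Y M ((Cech.cx (Over.forget X) Y M).iCycles 0 z)
      ((ConcreteCategory.comp_apply _ _ _).symm.trans
        ((ConcreteCategory.congr_hom ((Cech.cx (Over.forget X) Y M).iCycles_d 0 1) z).trans rfl))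
    exact ⟨y, hi ((i_cyc Y M y).trans hy)⟩

theorem cls_natural {N : Cᵒᵖ ⥤ AddCommGrpCat.{u}} (φ : M ⟶ N) (y : G Y ⟶ (mb).obj M) :
    CechEdge.cechHMap Y φ 0 (cls Y M y) = cls Y N (y ≫ (mb).map φ) := by
  refine (ConcreteCategory.congr_hom
    (HomologicalComplex.homologyπ_naturality ((CechEdge.cxFunctor Y).map φ) 0) (cyc Y M y)).trans ?_
  refine congrArg ((Cech.cx (Over.forget X) Y N).homologyπ 0) ?_
  refine (AddCommGrpCat.mono_iff_injective ((Cech.cx (Over.forget X) Y N).iCycles 0)).1 inferInstance ?_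
  refine (ConcreteCategory.congr_hom (HomologicalComplex.cyclesMap_i ((CechEdge.cxFunctor Y).map φ) 0) _).trans ?_
  refine (congrArg ((((CechEdge.cxFunctor Y).map φ).f 0)) (i_cyc Y M y)).trans
    (Eq.trans ?_ (i_cyc Y N (y ≫ (mb).map φ)).symm)
  refine co_ext fun a => ?_
  rw [co_coch]
  refine (co_cxMap φ a _).trans ?_
  rw [co_coch]
  exact (ev_comp y ((mb).map φ) _ _).symm

theorem nonempty_iso (q : ℕ) :
    Nonempty (CohCx.cechH M Y q ≅ AddCommGrpCat.of (Ext (G Y) ((mb).obj M) q)) := by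
  haveI := Groth.L10.CechEdge.psh_enoughInjectives (C := C)
  suffices h : ∀ (q : ℕ) (M : Cᵒᵖ ⥤ AddCommGrpCat.{u}),
      Nonempty (CohCx.cechH M Y q ≃+ Ext (G Y) ((mb).obj M) q) from ⟨(h q M).some.toAddCommGrpIso⟩
  intro q
  induction q with
  | zero => exact fun M =>
      ⟨((AddEquiv.ofBijective _ (bijective_cls Y M)).symm.trans Ext.addEquiv₀.symm)⟩
  | succ q ih =>
    intro M
    let S := Groth.L10.CechEdge.phull M
    have hS := Groth.L10.CechEdge.phull_shortExact M
    have hC := Groth.L10.CechEdge.cxFunctor_shortExact Y hS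
    have hT : (S.map (mb (C := C))).ShortExact := hS.map_of_exact _
    haveI : Injective (S.map (mb (C := C))).X₂ := injective_mb S.X₂
    have hB := fun k => Ext.subsingleton_of_injective (G Y) (S.map (mb (C := C))).X₂ k
    have hA : ∀ k, IsZero (CohCx.cechH S.X₂ Y (k + 1)) :=
      Groth.L10.CechEdge.isZero_cechH_injective Y S.X₂
    cases q with
    | zero =>
      refine nonempty_addEquiv_of_ker_eq
        (H := G Y ⟶ (S.map (mb (C := C))).X₃) ((hC.δ 0 1 rfl).hom.comp (cls Y S.X₃))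
        ((hT.extClass.postcomp (G Y) (rfl : 0 + 1 = 0 + 1)).comp Ext.addEquiv₀.symm.toAddMonoidHom)
        ((Groth.L10.CechEdge.δ_phull_surjective Y M 0).comp (bijective_cls Y S.X₃).2)
        ((postcomp_extClass_surjective (G Y) hT 0).comp (by exact fun z => Ext.addEquiv₀.symm.surjective z)) ?_
      ext g
      change (hC.δ 0 1 rfl) (cls Y S.X₃ g) = 0 ↔
        (Ext.mk₀ g).comp hT.extClass (rfl : 0 + 1 = 0 + 1) = 0
      constructor <;> intro hg
      · obtain ⟨z, hz⟩ := (ShortComplex.ab_exact_iff _).1 (hC.homology_exact₃ 0 1 rfl) _ hg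
        obtain ⟨y, rfl⟩ := (bijective_cls Y S.X₂).2 z
        obtain rfl : y ≫ (mb).map S.g = g :=
          (bijective_cls Y S.X₃).1 ((cls_natural Y S.X₂ S.g y).symm.trans hz)
        rw [← Ext.mk₀_comp_mk₀]
        refine (Ext.comp_assoc_of_second_deg_zero _ _ _ _).trans ?_
        exact (congrArg (fun r => (Ext.mk₀ y).comp r (zero_add 1)) hT.comp_extClass).trans
          (Ext.comp_zero _ _ _ _ _)
      · obtain ⟨z, hz⟩ := Ext.covariant_sequence_exact₃ (G Y) hT _ rfl hg
        obtain ⟨y, rfl⟩ := (Ext.mk₀_bijective _ _).2 z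
        rw [Ext.mk₀_comp_mk₀] at hz
        obtain rfl : y ≫ (mb).map S.g = g := (Ext.mk₀_bijective _ _).1 hz
        rw [← cls_natural Y S.X₂ S.g y]
        exact ConcreteCategory.congr_hom (hC.comp_δ 0 1 rfl) _
    | succ k =>
      obtain ⟨e⟩ := ih S.X₃
      have hinj : Function.Injective (hC.δ (k + 1) (k + 1 + 1) rfl) :=
        (injective_iff_map_eq_zero (hC.δ (k + 1) (k + 1 + 1) rfl).hom).2 fun x hx => by
          obtain ⟨z, rfl⟩ := (ShortComplex.ab_exact_iff _).1 (hC.homology_exact₃ (k + 1) (k + 1 + 1) rfl) x hx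
          have := AddCommGrpCat.subsingleton_of_isZero (hA k)
          rw [Subsingleton.elim (α := (CohCx.cechH S.X₂ Y (k + 1) : Type u)) z 0]
          exact map_zero _
      exact ⟨(AddEquiv.ofBijective (hC.δ (k + 1) (k + 1 + 1) rfl).hom
        ⟨hinj, Groth.L10.CechEdge.δ_phull_surjective Y M (k + 1)⟩).symm.trans
          (e.trans (extShift (G Y) hT k))⟩

end Groth.L10.CechSieveExt
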