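import Mathlib.Algebra.Homology.DerivedCategory.Basic
import Mathlib.Algebra.Homology.Refinements
import Mathlib.Algebra.Homology.Embedding.HomEquiv
import Mathlib.Algebra.Homology.Embedding.StupidTrunc
import Mathlib.Algebra.Homology.Embedding.ExtendHomology
import Mathlib.Algebra.Homology.Embedding.CochainComplex
import Mathlib.CategoryTheory.Abelian.CommSq
import Mathlib.CategoryTheory.Limits.Shapes.Pullback.IsPullback.Basic
import Mathlib.CategoryTheory.Limits.Preserves.Shapes.Kernels
import Mathlib.Algebra.Homology.Embedding.ExtendHomotopy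

/-! Resolutions by a class of objects, along a given choice of embeddings (so that properties of the
embeddings can be used), and the retractions they give after a right exact functor. -/

universe w' w v u

open CategoryTheory CategoryTheory.Limits

set_option backward.defeqAttrib.useBackward true
set_option backward.isDefEq.respectTransparency false
namespace Groth.L10.ClassResEmb

variable {A : Type u} [Category.{v} A] [Abelian A]

theorem pushout_refine {X Y Z : A} (ψ : X ⟶ Y) (d : X ⟶ Z) {T : A} (y : T ⟶ Y) (z : T ⟶ Z)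
    (h : y ≫ pushout.inl ψ d = z ≫ pushout.inr ψ d) :
    ∃ (T' : A) (π : T' ⟶ T) (_ : Epi π) (w : T' ⟶ X), π ≫ y = w ≫ ψ ∧ π ≫ z = w ≫ d := by
  have he := (IsPushout.of_hasPushout ψ d).exact_shortComplex
  obtain ⟨T', π, hπ, w, hw⟩ := he.exact_up_to_refinements (biprod.lift y (-z))
    (by change biprod.lift y (-z) ≫ biprod.desc _ _ = 0; rw [biprod.lift_desc, h]; simp)
  refine ⟨T', π, hπ, w, ?_, ?_⟩
  · have := congrArg (fun f => f ≫ biprod.fst) hw
    simpa using this
  · have := congrArg (fun f => f ≫ biprod.snd) hw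
    simpa using this

/-- A choice of embeddings into a class of objects. -/
structure Emb (I : A → Prop) where
  Y : A → A
  ι : ∀ X, X ⟶ Y X
  cls : ∀ X, I (Y X)
  mono : ∀ X, Mono (ι X)

variable (I : A → Prop) (hI : Emb I) (K : CochainComplex A ℕ)

/-- The data of the resolution in degree `k`. -/
structure Stage (k : ℕ) where
  L : A
  hL : I L
  C : A
  π : L ⟶ C
  φ : K.X k ⟶ L
  mono : Mono φ
  hker : ∀ ⦃T : A⦄ (x : T ⟶ K.X k), x ≫ φ ≫ π = 0 → x ≫ K.d k (k + 1) = 0
  epi : Epi π

/-- The embedding into the class. -/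
abbrev emb (X : A) : X ⟶ hI.Y X := hI.ι X

theorem mono_emb (X : A) : Mono (emb I hI X) := hI.mono X

instance (X : A) : Mono (emb I hI X) := mono_emb I hI X

/-- The next pushout. -/
noncomputable abbrev Stage.P {k : ℕ} (S : Stage I K k) : A := pushout (S.φ ≫ S.π) (K.d k (k + 1))

/-- The next differential. -/
noncomputable abbrev Stage.δ {k : ℕ} (S : Stage I K k) : S.L ⟶ hI.Y S.P :=
  S.π ≫ pushout.inl _ _ ≫ emb I hI S.P

/-- The next stage. -/
@[reducible] noncomputable def next {k : ℕ} (S : Stage I K k) : Stage I K (k + 1) where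
  L := hI.Y S.P
  hL := hI.cls S.P
  C := cokernel (S.δ I hI K)
  π := cokernel.π _
  φ := pushout.inr _ _ ≫ emb I hI S.P
  mono := by
    have := S.mono
    refine Preadditive.mono_of_cancel_zero _ fun {T} x hx => ?_
    rw [← Category.assoc, ← zero_comp (f := emb I hI S.P), cancel_mono] at hx
    obtain ⟨T', π, hπ, w, h1, h2⟩ := pushout_refine (S.φ ≫ S.π) (K.d k (k + 1)) (0 : T ⟶ S.C) x (by rw [hx, zero_comp])
    rw [← cancel_epi π, h2, comp_zero]
    exact S.hker w (h1.symm.trans comp_zero)
  hker T x hx := by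
    obtain ⟨T', π, hπ, c, hc⟩ := ((ShortComplex.mk _ _ (cokernel.condition (S.δ I hI K))).exact_of_g_is_cokernel
      (cokernelIsCokernel _)).exact_up_to_refinements (x ≫ pushout.inr _ _ ≫ emb I hI S.P) (by simpa using hx)
    have hc' : (c ≫ S.π) ≫ pushout.inl (S.φ ≫ S.π) (K.d k (k + 1)) = (π ≫ x) ≫ pushout.inr _ _ := by
      rw [← cancel_mono (emb I hI S.P)]
      simpa [Category.assoc] using hc.symm
    obtain ⟨T'', π', hπ', w, -, h2⟩ := pushout_refine _ _ _ _ hc'
    rw [← cancel_epi π, ← cancel_epi π', comp_zero, comp_zero, ← Category.assoc, ← Category.assoc,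
      Category.assoc π', h2, Category.assoc, HomologicalComplex.d_comp_d, comp_zero]
  epi := inferInstance

/-- The initial stage. -/
@[reducible] noncomputable def stage0 : Stage I K 0 where
  L := hI.Y (K.X 0)
  hL := hI.cls (K.X 0)
  C := hI.Y (K.X 0)
  π := 𝟙 _
  φ := emb I hI (K.X 0)
  mono := inferInstance
  hker T x hx := by
    rw [Category.comp_id, ← zero_comp (f := emb I hI (K.X 0)), cancel_mono] at hx
    rw [hx, zero_comp]
  epi := inferInstance

/-- All stages. -/
noncomputable def stage : ∀ k, Stage I K k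
  | 0 => stage0 I hI K
  | k + 1 => next I hI K (stage k)

/-- The resolution. -/
noncomputable def res : CochainComplex A ℕ :=
  CochainComplex.of (fun k => (stage I hI K k).L) (fun k => (stage I hI K k).δ I hI K)
    (fun k => by
      change (stage I hI K k).δ I hI K ≫ ((stage I hI K (k + 1)).π ≫ _) = 0
      rw [← Category.assoc]
      refine (congrArg (· ≫ _) ?_).trans zero_comp
      exact cokernel.condition _)

theorem res_d (k : ℕ) : (res I hI K).d k (k + 1) = (stage I hI K k).δ I hI K := by
  simp [res]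

/-- The augmentation. -/
noncomputable def resι : K ⟶ res I hI K where
  f k := (stage I hI K k).φ
  comm' i j hij := by
    obtain rfl : i + 1 = j := hij
    rw [res_d]
    refine ((Category.assoc _ _ _).symm.trans ?_).trans (Category.assoc _ _ _)
    change ((stage I hI K i).φ ≫ (stage I hI K i).π) ≫ _ = _
    rw [pushout.condition_assoc, Category.assoc]

theorem mono_resι (k : ℕ) : Mono ((resι I hI K).f k) := (stage I hI K k).mono

theorem class_res (k : ℕ) : I ((res I hI K).X k) := (stage I hI K k).hL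

theorem quasiIso_resι : QuasiIso (resι I hI K) := by
  rw [quasiIso_iff]
  intro n
  rw [quasiIsoAt_iff_isIso_homologyMap]
  have hnext : (ComplexShape.up ℕ).next n = n + 1 := ComplexShape.next_eq' _ rfl
  have hcyc : ∀ ⦃T : A⦄ (y : T ⟶ (res I hI K).X n), y ≫ (res I hI K).d n (n + 1) = 0 →
      ∃ (T' : A) (π : T' ⟶ T) (_ : Epi π) (w : T' ⟶ K.X n), w ≫ K.d n (n + 1) = 0 ∧
        π ≫ y ≫ (stage I hI K n).π = w ≫ (stage I hI K n).φ ≫ (stage I hI K n).π := fun T y hy => by
    rw [res_d] at hy
    have h0 : (y ≫ (stage I hI K n).π) ≫ pushout.inl ((stage I hI K n).φ ≫ (stage I hI K n).π) (K.d n (n + 1)) =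
        (0 : T ⟶ K.X (n + 1)) ≫ pushout.inr _ _ := by
      rw [← cancel_mono (emb I hI (stage I hI K n).P), Category.assoc, Category.assoc, zero_comp, zero_comp]
      exact hy
    obtain ⟨T', π, hπ, w, h1, h2⟩ := pushout_refine _ _ _ _ h0
    exact ⟨T', π, hπ, w, h2.symm.trans comp_zero, h1⟩
  cases n with
  | zero =>
    have hE : Epi (HomologicalComplex.homologyMap (resι I hI K) 0) := by
      rw [HomologicalComplex.epi_homologyMap_iff_up_to_refinements _ 0 0 1 (by simp) (by simp)]
      intro T y hy
      obtain ⟨T', π, hπ, w, hw, h⟩ := hcyc y hy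
      refine ⟨T', π, hπ, w, hw, 0, ?_⟩
      rw [zero_comp, add_zero]
      refine ((congrArg (π ≫ ·) (Category.comp_id y)).symm.trans h).trans ?_
      exact congrArg (w ≫ ·) (Category.comp_id _)
    have hM : Mono (HomologicalComplex.homologyMap (resι I hI K) 0) := by
      rw [HomologicalComplex.mono_homologyMap_iff_up_to_refinements _ 0 0 1 (by simp) (by simp)]
      intro T x hx y hy
      have := mono_resι I hI K 0
      refine ⟨T, 𝟙 T, inferInstance, 0, ?_⟩
      rw [zero_comp, Category.id_comp, ← cancel_mono ((resι I hI K).f 0), zero_comp, hy,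
        HomologicalComplex.shape _ _ _ (by simp), comp_zero]
    exact isIso_of_mono_of_epi _
  | succ k =>
    have hE : Epi (HomologicalComplex.homologyMap (resι I hI K) (k + 1)) := by
      rw [HomologicalComplex.epi_homologyMap_iff_up_to_refinements _ k (k + 1) (k + 2) (by simp) (by simp)]
      intro T y hy
      obtain ⟨T', π, hπ, w, hw, h⟩ := hcyc y hy
      obtain ⟨T'', π', hπ', c, hc⟩ := ((ShortComplex.mk _ _ (cokernel.condition ((stage I hI K k).δ I hI K))).exact_of_g_is_cokernel
        (cokernelIsCokernel _)).exact_up_to_refinements (π ≫ y - w ≫ (resι I hI K).f (k + 1)) (by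
          change (show T' ⟶ (stage I hI K (k + 1)).L from π ≫ y - w ≫ (resι I hI K).f (k + 1)) ≫ (stage I hI K (k + 1)).π = 0
          rw [Preadditive.sub_comp, Category.assoc, Category.assoc, h]; exact sub_self _)
      refine ⟨T'', π' ≫ π, epi_comp _ _, π' ≫ w, by rw [Category.assoc, hw, comp_zero], c, ?_⟩
      rw [Preadditive.comp_sub, sub_eq_iff_eq_add] at hc
      rw [res_d]
      refine (Category.assoc _ _ _).trans (hc.trans ((add_comm _ _).trans ?_))
      exact congrArg (· + _) (Category.assoc _ _ _).symm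
    have hM : Mono (HomologicalComplex.homologyMap (resι I hI K) (k + 1)) := by
      rw [HomologicalComplex.mono_homologyMap_iff_up_to_refinements _ k (k + 1) (k + 2) (by simp) (by simp)]
      intro T x hx c hc
      rw [res_d] at hc
      have hc' : (c ≫ (stage I hI K k).π) ≫ pushout.inl ((stage I hI K k).φ ≫ (stage I hI K k).π) (K.d k (k + 1)) =
          x ≫ pushout.inr _ _ := by
        rw [← cancel_mono (emb I hI (stage I hI K k).P), Category.assoc, Category.assoc, Category.assoc]
        exact hc.symm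
      obtain ⟨T', π, hπ, w, -, h2⟩ := pushout_refine _ _ _ _ hc'
      exact ⟨T', π, hπ, w, h2⟩
    exact isIso_of_mono_of_epi _


section Retr

variable {B : Type*} [Category* B] [Preadditive B] (S : A ⥤ B) [S.Additive] [PreservesFiniteColimits S]
  (σ : ∀ X : A, S.obj (hI.Y X) ⟶ S.obj X) (hσ : ∀ X, S.map (hI.ι X) ≫ σ X = 𝟙 _)

/-- Retraction data in degree `k`: `r` retracts the augmentation, `q` is the defect that remains to be
written as `δ ≫ h`; `ρ`, `qb` are the maps induced on `C` by `r ≫ d` and `q`. -/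
structure Retr {k : ℕ} (T : Stage I K k) where
  r : S.obj T.L ⟶ S.obj (K.X k)
  q : S.obj T.L ⟶ S.obj T.L
  ρ : S.obj T.C ⟶ S.obj (K.X (k + 1))
  qb : S.obj T.C ⟶ S.obj T.L
  retr : S.map T.φ ≫ r = 𝟙 _
  hφq : S.map T.φ ≫ q = 0
  hρ : S.map T.π ≫ ρ = r ≫ S.map (K.d k (k + 1))
  hqb : S.map T.π ≫ qb = q

variable {I hI K} {k : ℕ} {T : Stage I K k}

theorem isPushout_map (T : Stage I K k) :
    IsPushout (S.map (T.φ ≫ T.π)) (S.map (K.d k (k + 1))) (S.map (pushout.inl _ _ : T.C ⟶ T.P))
      (S.map (pushout.inr _ _ : K.X (k + 1) ⟶ T.P)) :=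
  (IsPushout.of_hasPushout _ _).map S

/-- The next retraction. -/
noncomputable def Retr.r' (R : Retr I K S T) : S.obj (next I hI K T).L ⟶ S.obj (K.X (k + 1)) :=
  σ T.P ≫ (isPushout_map S T).desc R.ρ (𝟙 _)
    (by rw [S.map_comp, Category.assoc, R.hρ, ← Category.assoc, R.retr, Category.id_comp, Category.comp_id])

/-- The homotopy into the degree of the stage. -/
noncomputable def Retr.h' (R : Retr I K S T) : S.obj (next I hI K T).L ⟶ S.obj T.L :=
  σ T.P ≫ (isPushout_map S T).desc R.qb 0
    (by rw [S.map_comp, Category.assoc, R.hqb, R.hφq, comp_zero])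

include hσ in
theorem Retr.δ_r' (R : Retr I K S T) :
    S.map (T.δ I hI K) ≫ R.r' S σ = R.r ≫ S.map (K.d k (k + 1)) := by
  rw [Retr.r', Stage.δ, S.map_comp, S.map_comp, Category.assoc, Category.assoc, reassoc_of% (hσ T.P),
    IsPushout.inl_desc, R.hρ]

include hσ in
theorem Retr.δ_h' (R : Retr I K S T) : S.map (T.δ I hI K) ≫ R.h' S σ = R.q := by
  rw [Retr.h', Stage.δ, S.map_comp, S.map_comp, Category.assoc, Category.assoc, reassoc_of% (hσ T.P),
    IsPushout.inl_desc, R.hqb]

include hσ in
theorem Retr.φ_r' (R : Retr I K S T) : S.map (next I hI K T).φ ≫ R.r' S σ = 𝟙 _ := by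
  change S.map (pushout.inr _ _ ≫ emb I hI T.P) ≫ _ = _
  rw [Retr.r', S.map_comp, Category.assoc, reassoc_of% (hσ T.P), IsPushout.inr_desc]

include hσ in
theorem Retr.φ_h' (R : Retr I K S T) : S.map (next I hI K T).φ ≫ R.h' S σ = 0 := by
  change S.map (pushout.inr _ _ ≫ emb I hI T.P) ≫ _ = _
  rw [Retr.h', S.map_comp, Category.assoc, reassoc_of% (hσ T.P), IsPushout.inr_desc]

/-- The next defect. -/
noncomputable def Retr.q' (R : Retr I K S T) : S.obj (next I hI K T).L ⟶ S.obj (next I hI K T).L :=
  𝟙 _ - R.r' S σ ≫ S.map (next I hI K T).φ - R.h' S σ ≫ S.map (T.δ I hI K)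

include hσ in
theorem Retr.φ_q' (R : Retr I K S T) : S.map (next I hI K T).φ ≫ R.q' S σ = 0 := by
  rw [Retr.q', Preadditive.comp_sub, Preadditive.comp_sub, ← Category.assoc, ← Category.assoc,
    R.φ_r' S σ hσ, R.φ_h' S σ hσ, zero_comp, sub_zero, Category.comp_id, Category.id_comp, sub_self]

include hσ in
theorem Retr.δ_q' (R : Retr I K S T)
    (hq : ∃ (W : B) (a : S.obj T.L ⟶ W) (b : W ⟶ S.obj T.L), b ≫ S.map (T.δ I hI K) = 0 ∧
      R.q = 𝟙 _ - R.r ≫ S.map T.φ - a ≫ b) :
    S.map (T.δ I hI K) ≫ R.q' S σ = 0 := by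
  obtain ⟨W, a, b, hb, hq⟩ := hq
  have hc : S.map T.φ ≫ S.map (T.δ I hI K) = S.map (K.d k (k + 1)) ≫ S.map (next I hI K T).φ := by
    rw [← S.map_comp, ← S.map_comp]
    congr 1
    change T.φ ≫ T.π ≫ pushout.inl _ _ ≫ emb I hI T.P = K.d k (k + 1) ≫ pushout.inr _ _ ≫ emb I hI T.P
    rw [← Category.assoc T.φ, pushout.condition_assoc]
  rw [Retr.q', Preadditive.comp_sub, Preadditive.comp_sub, ← Category.assoc, ← Category.assoc,
    R.δ_r' S σ hσ, R.δ_h' S σ hσ, hq, Preadditive.sub_comp, Preadditive.sub_comp, Category.assoc, Category.assoc,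
    Category.assoc, hb, comp_zero, hc, Category.id_comp, Category.comp_id]
  abel

include hσ in
theorem φ_q0 : S.map (stage0 I hI K).φ ≫ (𝟙 _ - σ (K.X 0) ≫ S.map (stage0 I hI K).φ) = 0 := by
  rw [Preadditive.comp_sub, reassoc_of% (hσ (K.X 0)), Category.comp_id, sub_self]

/-- The initial retraction. -/
noncomputable def retr0 : Retr I K S (stage0 I hI K) where
  r := σ (K.X 0)
  q := 𝟙 _ - σ (K.X 0) ≫ S.map (stage0 I hI K).φ
  ρ := σ (K.X 0) ≫ S.map (K.d 0 1)
  qb := 𝟙 _ - σ (K.X 0) ≫ S.map (stage0 I hI K).φ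
  retr := hσ _
  hφq := φ_q0 S σ hσ
  hρ := by rw [S.map_id, Category.id_comp]
  hqb := by rw [S.map_id, Category.id_comp]

theorem retr0_q : (retr0 (I := I) (hI := hI) (K := K) S σ hσ).q =
    𝟙 _ - (retr0 (I := I) (hI := hI) (K := K) S σ hσ).r ≫ S.map (stage0 I hI K).φ -
      (0 : S.obj (stage0 I hI K).L ⟶ S.obj (stage0 I hI K).L) ≫ 0 := by
  rw [zero_comp, sub_zero]
  rfl

theorem Retr.comm' (R : Retr I K S T) :
    𝟙 (S.obj (next I hI K T).L) =
      R.q' S σ + R.h' S σ ≫ S.map (T.δ I hI K) + R.r' S σ ≫ S.map (next I hI K T).φ := by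
  rw [Retr.q']
  abel

/-- The stage data of the retraction, with the shape of its defect. -/
noncomputable def retr : ∀ k, { R : Retr I K S (stage I hI K k) //
    ∃ (W : B) (a : S.obj (stage I hI K k).L ⟶ W) (b : W ⟶ S.obj (stage I hI K k).L),
      b ≫ S.map ((stage I hI K k).δ I hI K) = 0 ∧
      R.q = 𝟙 _ - R.r ≫ S.map (stage I hI K k).φ - a ≫ b }
  | 0 => ⟨retr0 S σ hσ, S.obj (stage0 I hI K).L, 0, 0, zero_comp, retr0_q S σ hσ⟩
  | k + 1 =>
    let R := (retr k).1
    let π' : S.obj (next I hI K (stage I hI K k)).L ⟶ S.obj (next I hI K (stage I hI K k)).C :=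
      S.map (next I hI K (stage I hI K k)).π
    have hC : IsColimit (CokernelCofork.map (CokernelCofork.ofπ (cokernel.π ((stage I hI K k).δ I hI K))
        (cokernel.condition _)) S) :=
      CokernelCofork.mapIsColimit _ (cokernelIsCokernel _) S
    let l₁ := CokernelCofork.IsColimit.desc' hC
      ((R.r' S σ : S.obj (next I hI K (stage I hI K k)).L ⟶ _) ≫ S.map (K.d (k + 1) (k + 2))) (by
        rw [← Category.assoc, R.δ_r' S σ hσ, Category.assoc, ← S.map_comp, K.d_comp_d, S.map_zero, comp_zero])
    let l₂ := CokernelCofork.IsColimit.desc' hC (R.q' S σ) (R.δ_q' S σ hσ (retr k).2)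
    ⟨{ r := R.r' S σ
       q := R.q' S σ
       ρ := l₁.1
       qb := l₂.1
       retr := R.φ_r' S σ hσ
       hφq := R.φ_q' S σ hσ
       hρ := l₁.2
       hqb := l₂.2 },
      S.obj (stage I hI K k).L, R.h' S σ, S.map ((stage I hI K k).δ I hI K), by
        rw [← S.map_comp]
        refine (congrArg S.map ?_).trans (S.map_zero _ _)
        change (stage I hI K k).δ I hI K ≫ ((stage I hI K (k + 1)).π ≫ _) = 0
        rw [← Category.assoc]
        exact (congrArg (· ≫ _) (cokernel.condition _)).trans zero_comp, rfl⟩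

/-- A degree lowering family, given by its components `L (k + 1) ⟶ L k`. -/
noncomputable def homotopyHom {L : CochainComplex B ℕ} (f : ∀ k, L.X (k + 1) ⟶ L.X k) (i j : ℕ) :
    L.X i ⟶ L.X j :=
  if h : j + 1 = i then eqToHom (by rw [h]) ≫ f j else 0

include hσ in
/-- A right exact functor which splits the embeddings sends the augmentation to a homotopy equivalence. -/
theorem exists_homotopyEquiv_resι :
    ∃ e : HomotopyEquiv ((S.mapHomologicalComplex _).obj K) ((S.mapHomologicalComplex _).obj (res I hI K)),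
      e.hom = (S.mapHomologicalComplex _).map (resι I hI K) := by
  let R := fun k : ℕ => (retr (I := I) (hI := hI) (K := K) S σ hσ k).1
  have hd : ∀ k, S.map ((res I hI K).d k (k + 1)) = S.map ((stage I hI K k).δ I hI K) := fun k => by
    rw [res_d]
  let g : (S.mapHomologicalComplex (ComplexShape.up ℕ)).obj (res I hI K) ⟶ (S.mapHomologicalComplex _).obj K :=
    { f := fun k => (R k).r
      comm' := fun i j hij => by
        obtain rfl : i + 1 = j := hij
        change (R i).r ≫ S.map (K.d i (i + 1)) = S.map ((res I hI K).d i (i + 1)) ≫ _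
        rw [hd]
        exact ((R i).δ_r' S σ hσ).symm }
  let f : ∀ k, S.obj ((res I hI K).X (k + 1)) ⟶ S.obj ((res I hI K).X k) := fun k => (R k).h' S σ
  refine ⟨⟨(S.mapHomologicalComplex _).map (resι I hI K), g, Homotopy.ofEq ?_,
    (Homotopy.symm { hom := homotopyHom (L := (S.mapHomologicalComplex _).obj (res I hI K)) f,
                     zero := ?_, comm := ?_ })⟩, rfl⟩
  · ext k : 1
    exact (R k).retr
  · intro i j hij
    exact dif_neg hij
  · intro k
    have hh : ∀ j, homotopyHom (L := (S.mapHomologicalComplex _).obj (res I hI K)) f (j + 1) j = f j := fun j => by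
      rw [homotopyHom, dif_pos rfl, eqToHom_refl, Category.id_comp]
    have hn : dNext k (homotopyHom (L := (S.mapHomologicalComplex _).obj (res I hI K)) f) = (R k).q := by
      rw [dNext_eq _ (show (ComplexShape.up ℕ).Rel k (k + 1) from rfl), hh]
      change S.map ((res I hI K).d k (k + 1)) ≫ _ = _
      rw [hd]
      exact (R k).δ_h' S σ hσ
    rw [hn, HomologicalComplex.id_f]
    cases k with
    | zero =>
      rw [prevD_eq_zero _ _ (by simp)]
      change _ = (R 0).q + 0 + (R 0).r ≫ S.map (stage I hI K 0).φ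
      rw [add_zero]
      exact (sub_add_cancel _ _).symm
    | succ n =>
      rw [prevD_eq _ (show (ComplexShape.up ℕ).Rel n (n + 1) from rfl), hh]
      exact ((R n).comm' S σ).trans (congrArg (fun t => (R n).q' S σ + (R n).h' S σ ≫ t +
        (R n).r' S σ ≫ S.map (next I hI K (stage I hI K n)).φ) (hd n).symm)

end Retr

section Extend

open HomologicalComplex

theorem hasLift {V : Type*} [Category* V] [Preadditive V] [HasZeroObject V] (a : ℤ) (M : CochainComplex V ℤ)
    [M.IsStrictlyGE a] {N : CochainComplex V ℕ} (f : M.restriction (ComplexShape.embeddingUpIntGE a) ⟶ N) :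
    (ComplexShape.embeddingUpIntGE a).HasLift f := fun _ hj i' hij' =>
  IsZero.eq_of_src (M.isZero_X_of_isStrictlySupported (ComplexShape.embeddingUpIntGE a) i' (hj.notMem hij')) _ _

theorem isIso_liftExtend_id {V : Type*} [Category* V] [Preadditive V] [HasZeroObject V] (a : ℤ)
    (M : CochainComplex V ℤ) [M.IsStrictlyGE a] :
    IsIso ((ComplexShape.embeddingUpIntGE a).liftExtend _ (hasLift a M (𝟙 _))) := by
  let e := ComplexShape.embeddingUpIntGE a
  have : ∀ n, IsIso ((e.liftExtend _ (hasLift a M (𝟙 _))).f n) := fun n => by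
    by_cases hn : ∃ i, e.f i = n
    · obtain ⟨i, hi⟩ := hn
      rw [e.isIso_liftExtend_f_iff _ _ hi]
      exact inferInstanceAs (IsIso (𝟙 _))
    · exact ⟨0, (M.isZero_X_of_isStrictlySupported e n (by simpa using hn)).eq_of_src _ _,
        (isZero_extend_X _ e n (by simpa using hn)).eq_of_src _ _⟩
  exact Hom.isIso_of_components _

/-- A bounded below complex is the extension of its restriction. -/
noncomputable def isoExtend {V : Type*} [Category* V] [Preadditive V] [HasZeroObject V] (a : ℤ)
    (M : CochainComplex V ℤ) [M.IsStrictlyGE a] :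
    M ≅ (M.restriction (ComplexShape.embeddingUpIntGE a)).extend (ComplexShape.embeddingUpIntGE a) :=
  have := isIso_liftExtend_id a M
  asIso ((ComplexShape.embeddingUpIntGE a).liftExtend _ (hasLift a M (𝟙 _)))

theorem isoExtend_hom_extendMap {V : Type*} [Category* V] [Preadditive V] [HasZeroObject V] (a : ℤ)
    (M : CochainComplex V ℤ) [M.IsStrictlyGE a] {N : CochainComplex V ℕ}
    (f : M.restriction (ComplexShape.embeddingUpIntGE a) ⟶ N) :
    (isoExtend a M).hom ≫ extendMap f (ComplexShape.embeddingUpIntGE a) =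
      (ComplexShape.embeddingUpIntGE a).liftExtend f (hasLift a M f) := by
  let e := ComplexShape.embeddingUpIntGE a
  ext n
  by_cases hn : ∃ i, e.f i = n
  · obtain ⟨i, hi⟩ := hn
    subst hi
    change (e.liftExtend _ (hasLift a M (𝟙 _))).f (e.f i) ≫ _ = _
    rw [e.liftExtend_f _ _ (rfl : e.f i = _), e.liftExtend_f _ _ (rfl : e.f i = _),
      extendMap_f _ e (rfl : e.f i = _)]
    simp
    exact Category.id_comp _
  · exact (M.isZero_X_of_isStrictlySupported e n (by simpa using hn)).eq_of_src _ _

theorem isoExtend_natural {V : Type*} [Category* V] [Preadditive V] [HasZeroObject V] (a : ℤ)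
    {M N : CochainComplex V ℤ} (ψ : M ⟶ N) [M.IsStrictlyGE a] [N.IsStrictlyGE a] :
    ψ ≫ (isoExtend a N).hom = (isoExtend a M).hom ≫
      extendMap (restrictionMap ψ (ComplexShape.embeddingUpIntGE a)) (ComplexShape.embeddingUpIntGE a) := by
  let e := ComplexShape.embeddingUpIntGE a
  rw [isoExtend_hom_extendMap]
  ext n
  by_cases hn : ∃ i, e.f i = n
  · obtain ⟨i, hi⟩ := hn
    subst hi
    change ψ.f _ ≫ (e.liftExtend _ (hasLift a N (𝟙 _))).f (e.f i) = _
    rw [e.liftExtend_f _ _ (rfl : e.f i = _), e.liftExtend_f _ _ (rfl : e.f i = _)]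
    simp [restrictionXIso]
    exact congrArg (_ ≫ ·) (Category.id_comp _)
  · exact (M.isZero_X_of_isStrictlySupported e n (by simpa using hn)).eq_of_src _ _

/-- A morphism of bounded below complexes is a homotopy equivalence if its restriction is one. -/
theorem exists_homotopyEquiv_of_restriction {V : Type*} [Category* V] [Preadditive V] [HasZeroObject V] (a : ℤ)
    {M N : CochainComplex V ℤ} (ψ : M ⟶ N) [M.IsStrictlyGE a] [N.IsStrictlyGE a]
    (E : HomotopyEquiv (M.restriction (ComplexShape.embeddingUpIntGE a)) (N.restriction (ComplexShape.embeddingUpIntGE a)))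
    (hE : E.hom = restrictionMap ψ _) : ∃ E' : HomotopyEquiv M N, E'.hom = ψ := by
  let e := ComplexShape.embeddingUpIntGE a
  let cM := isoExtend a M
  let cN := isoExtend a N
  have h : ψ ≫ cN.hom = cM.hom ≫ extendMap (restrictionMap ψ e) e := isoExtend_natural a ψ
  let F : HomotopyEquiv ((M.restriction e).extend e) ((N.restriction e).extend e) :=
    { hom := extendMap E.hom e
      inv := extendMap E.inv e
      homotopyHomInvId := (Homotopy.ofEq (extendMap_comp E.hom E.inv e).symm).trans
        ((E.homotopyHomInvId.extend e).trans (Homotopy.ofEq (extendMap_id _ e)))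
      homotopyInvHomId := (Homotopy.ofEq (extendMap_comp E.inv E.hom e).symm).trans
        ((E.homotopyInvHomId.extend e).trans (Homotopy.ofEq (extendMap_id _ e))) }
  refine ⟨((HomotopyEquiv.ofIso cM).trans F).trans (HomotopyEquiv.ofIso cN.symm), ?_⟩
  change (cM.hom ≫ extendMap E.hom e) ≫ cN.inv = ψ
  rw [hE, ← h, Category.assoc, Iso.hom_inv_id, Category.comp_id]

/-- A bounded below complex has a quasi-isomorphism into a complex of the class which every right exact
functor splitting the embeddings sends to a homotopy equivalence. -/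
theorem exists_res_retr [ObjectProperty.IsClosedUnderIsomorphisms (I : ObjectProperty A)]
    (hI0 : ∀ Z : A, IsZero Z → I Z) (M : CochainComplex A ℤ) (a : ℤ) [M.IsStrictlyGE a] :
    ∃ (L : CochainComplex A ℤ) (α : M ⟶ L), L.IsStrictlyGE a ∧ (∀ n, I (L.X n)) ∧ QuasiIso α ∧
      ∀ {B : Type w} [Category.{w'} B] [Preadditive B] [HasZeroObject B] (S : A ⥤ B) [S.Additive]
        [PreservesFiniteColimits S], (∀ X, IsSplitMono (S.map (hI.ι X))) →
        ∃ E : HomotopyEquiv ((S.mapHomologicalComplex _).obj M) ((S.mapHomologicalComplex _).obj L),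
          E.hom = (S.mapHomologicalComplex _).map α := by
  let e := ComplexShape.embeddingUpIntGE a
  let K := M.restriction e
  let L := (res I hI K).extend e
  have he : e.HasLift (resι I hI K : M.restriction e ⟶ res I hI K) := fun j hj i' hij' =>
    IsZero.eq_of_src (M.isZero_X_of_isStrictlySupported e i' (hj.notMem hij')) _ _
  let α : M ⟶ L := e.liftExtend _ he
  have : CochainComplex.IsStrictlyGE L a := inferInstanceAs (CochainComplex.IsStrictlyGE ((res I hI K).extend e) a)
  refine ⟨L, α, inferInstance, fun n => ?_, ?_, fun {B} _ _ _ S _ _ hS => ?_⟩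
  · by_cases hn : ∃ i, e.f i = n
    · obtain ⟨i, hi⟩ := hn
      exact ObjectProperty.prop_of_iso (I : ObjectProperty A) ((res I hI K).extendXIso e hi).symm (class_res _ _ _ i)
    · exact hI0 _ (isZero_extend_X _ e n (by simpa using hn))
  · have : QuasiIso (resι I hI K) := quasiIso_resι _ _ _
    rw [show α = ((isoExtend a M).hom ≫ extendMap (resι I hI K) e : M ⟶ L) from
      (isoExtend_hom_extendMap a M _).symm]
    infer_instance
  · have hS' : ∀ X, S.map (hI.ι X) ≫ retraction (S.map (hI.ι X)) = 𝟙 _ := fun X => by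
      have := hS X
      exact IsSplitMono.id _
    obtain ⟨E, hE⟩ := exists_homotopyEquiv_resι (hI := hI) (K := K) S _ hS'
    have hzero : ∀ (N : CochainComplex A ℤ) [N.IsStrictlyGE a],
        CochainComplex.IsStrictlyGE ((S.mapHomologicalComplex _).obj N) a := fun N _ => by
      rw [CochainComplex.isStrictlyGE_iff]
      exact fun i hi => S.map_isZero (N.isZero_of_isStrictlyGE a i hi)
    have := hzero M
    have := hzero L
    let j : res I hI K ≅ L.restriction e :=
      Hom.isoOfComponents (fun i => ((res I hI K).extendXIso e rfl).symm) (fun i i' _ => by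
        change _ ≫ L.d (e.f i) (e.f i') = _
        simp [L, extend_d_eq _ e (rfl : e.f i = _) (rfl : e.f i' = _)])
    refine exists_homotopyEquiv_of_restriction a _
      (E.trans (HomotopyEquiv.ofIso ((S.mapHomologicalComplex _).mapIso j))) ?_
    change E.hom ≫ (S.mapHomologicalComplex _).map j.hom = _
    rw [hE, ← Functor.map_comp]
    ext i : 1
    change S.map ((resι I hI K).f i ≫ ((res I hI K).extendXIso e rfl).inv) = S.map (α.f (e.f i))
    congr 1
    simp [α, e.liftExtend_f _ _ (rfl : e.f i = _), restrictionXIso]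

end Extend

end Groth.L10.ClassResEmb
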