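import Groth.Agent.L10.OverPostNerve
import Groth.Agent.L10.SitePush

/-! Comparison of cohomology along a continuous cocontinuous functor preserving fibre products. -/

universe u

open CategoryTheory CategoryTheory.Limits CategoryTheory.Abelian Opposite

set_option backward.defeqAttrib.useBackward true
set_option backward.isDefEq.respectTransparency false
namespace Groth.L10.CocontCompare

open Groth.L10.SiteCoh

variable {C D : Type u} [SmallCategory C] [SmallCategory D] [HasPullbacks C] (J : GrothendieckTopology C)
  (K : GrothendieckTopology D) (v : C ⥤ D) [v.IsContinuous J K] [PreservesLimitsOfShape WalkingCospan v]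

theorem subsingleton_push_injective (I : Sheaf K AddCommGrpCat.{u}) [Injective I] (U : C) (p : ℕ) :
    Subsingleton (Ext (fs J U) ((CohSite.push K J v).obj I) (p + 1)) := by
  refine Cech.cartan (J := J) Set.univ (fun U ι Y => Sieve.ofArrows (fun i => (Y i).left) (fun i => (Y i).hom) ∈ J U)
    (fun U ι Y h => ⟨trivial, h, fun _ _ => trivial⟩) (fun U _ T hT =>
      ⟨Σ W : C, {f : W ⟶ U // T.arrows f}, fun x => Over.mk x.2.1,
        J.superset_covering (fun W f hf => Sieve.ofArrows_mk _ (fun x : Σ W : C, {f : W ⟶ U // T.arrows f} => x.2.1) ⟨W, f, hf⟩) hT,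
        fun x => x.2.2⟩)
    ((CohSite.push K J v).obj I) (fun U ι Y _ q => ?_) U trivial p
  have := Cech.injective_obj I
  exact Cech.exactAt_of_injective (P := I.obj) (Cech.isNerve_post v U Y) q

variable [v.IsCocontinuous J K]

theorem nonempty_compare (F : Sheaf K AddCommGrpCat.{u}) (U : C) (p : ℕ) :
    Nonempty (Ext (fs K (v.obj U)) F p ≃+ Ext (fs J U) ((CohSite.push K J v).obj F) p) :=
  nonempty_push_compare J v U (fun I n _ => subsingleton_push_injective J K v I U n) F
    (locAcyclic_of_isCocontinuous J v F) p

theorem nonempty_compare_global [HasTerminal C] [PreservesLimit (Functor.empty.{0} C) v]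
    (F : Sheaf K AddCommGrpCat.{u}) (p : ℕ) :
    Nonempty (Sheaf.H ((CohSite.push K J v).obj F) p ≃+ Sheaf.H F p) := by
  obtain ⟨e⟩ := nonempty_compare J K v F (⊤_ C) p
  exact ⟨(hEquiv terminalIsTerminal ((CohSite.push K J v).obj F) p).trans
    (e.symm.trans (hEquiv (IsTerminal.isTerminalObj v _ terminalIsTerminal) F p).symm)⟩

end Groth.L10.CocontCompare
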