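import Groth.Agent.L10.HomotopyProd
import Groth.Agent.L00.ClassResLeft
import Groth.Prelude.Def_CohDer
import Mathlib.Algebra.Homology.DerivedCategory.ShortExact
import Mathlib.Algebra.Homology.DerivedCategory.TStructure
import Mathlib.Algebra.Homology.Embedding.TruncGEHomology
import Mathlib.Algebra.Category.Grp.Biproducts
import Mathlib.GroupTheory.QuotientGroup.Defs
import Mathlib.CategoryTheory.Triangulated.Pretriangulated

/-! Compact objects are retracts of bounded complexes of finite sums of generators. -/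

universe v u

open CategoryTheory CategoryTheory.Limits CategoryTheory.Pretriangulated Opposite

set_option backward.defeqAttrib.useBackward true
set_option backward.isDefEq.respectTransparency false
set_option linter.style.haveILetI false

namespace Groth.L10.CompactBounded

section Finite

variable {D : Type u} [Category.{v} D] [Preadditive D]

/-- `f` lives on the finitely many summands `s` -/
def LivesOn {ι : Type v} {X : ι → D} (c : Cofan X) {K : D} (f : K ⟶ c.pt) (s : Finset ι) : Prop :=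
  ∀ ⦃T : D⦄ (g : c.pt ⟶ T), (∀ i ∈ s, c.inj i ≫ g = 0) → f ≫ g = 0

theorem LivesOn.mono {ι : Type v} {X : ι → D} {c : Cofan X} {K : D} {f : K ⟶ c.pt} {s t : Finset ι}
    (h : LivesOn c f s) (hst : s ⊆ t) : LivesOn c f t := fun _ g hg => h g fun i hi => hg i (hst hi)

theorem livesOn_add {ι : Type v} {X : ι → D} {c : Cofan X} {K : D} {f f' : K ⟶ c.pt}
    (hf : ∃ s, LivesOn c f s) (hf' : ∃ s, LivesOn c f' s) : ∃ s, LivesOn c (f + f') s := by
  classical
  obtain ⟨s, hs⟩ := hf; obtain ⟨t, ht⟩ := hf'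
  exact ⟨s ∪ t, fun T g hg => by
    rw [Preadditive.add_comp, hs g (fun i hi => hg i (Finset.mem_union_left _ hi)),
      ht g (fun i hi => hg i (Finset.mem_union_right _ hi)), add_zero]⟩

variable [HasCoproducts.{v} D]

theorem livesOn_compact {K : D} (hK : CohDer.IsCompactObject K) {ι : Type v} {X : ι → D} {c : Cofan X}
    (hc : IsColimit c) (f : K ⟶ c.pt) : ∃ s, LivesOn c f s := by
  classical
  let e : c.pt ≅ ∐ X := hc.coconePointUniqueUpToIso (coproductIsCoproduct X)
  have he : ∀ i, Sigma.ι X i ≫ e.inv = c.inj i := fun i =>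
    IsColimit.comp_coconePointUniqueUpToIso_inv hc (coproductIsCoproduct X) ⟨i⟩
  obtain ⟨x, hx⟩ := (hK ι X).2 (f ≫ e.hom)
  suffices ∀ y, ∃ s, LivesOn c (CohDer.homSumToHomCoprod K X y ≫ e.inv) s by
    have := this x
    rwa [hx, Category.assoc, Iso.hom_inv_id, Category.comp_id] at this
  intro y
  induction y using DirectSum.induction_on with
  | zero => exact ⟨∅, fun T g _ => by rw [map_zero, zero_comp, zero_comp]⟩
  | of i a =>
    refine ⟨{i}, fun T g hg => ?_⟩
    have : CohDer.homSumToHomCoprod K X (DirectSum.of _ i a) = a ≫ Sigma.ι X i := by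
      unfold CohDer.homSumToHomCoprod
      convert DirectSum.toAddMonoid_of (β := fun i => K ⟶ X i) (fun i => Preadditive.rightComp K (Sigma.ι X i)) i a
      rfl
    rw [this, Category.assoc, Category.assoc, reassoc_of% (he i), hg i (Finset.mem_singleton_self i), comp_zero]
  | add a b ha hb => rw [map_add, Preadditive.add_comp]; exact livesOn_add ha hb

end Finite

section FiniteA

variable {A : Type u} [Category.{v} A] [Abelian A]

theorem livesOn_of_preserves (E : A) {ι : Type v}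
    [PreservesColimitsOfShape (Discrete ι) (preadditiveCoyoneda.obj (op E))] {X : ι → A} {c : Cofan X}
    (hc : IsColimit c) (f : E ⟶ c.pt) : ∃ s, LivesOn c f s := by
  classical
  let H : AddSubgroup (E ⟶ c.pt) :=
    { carrier := {f | ∃ s, LivesOn c f s}
      zero_mem' := ⟨∅, fun T g _ => zero_comp⟩
      add_mem' := livesOn_add
      neg_mem' := fun ⟨s, hs⟩ => ⟨s, fun T g hg => by rw [Preadditive.neg_comp, hs g hg, neg_zero]⟩ }
  have hc' := isColimitOfPreserves (preadditiveCoyoneda.obj (op E)) hc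
  let q : (preadditiveCoyoneda.obj (op E)).obj c.pt ⟶ AddCommGrpCat.of ((E ⟶ c.pt) ⧸ H) :=
    AddCommGrpCat.ofHom (QuotientAddGroup.mk' H)
  have h0 : q = 0 := hc'.hom_ext fun ⟨i⟩ => by
    rw [comp_zero]
    refine AddCommGrpCat.ext fun (a : E ⟶ X i) => ?_
    change QuotientAddGroup.mk' H (a ≫ c.inj i) = 0
    exact (QuotientAddGroup.eq_zero_iff _).2 ⟨{i}, fun T g hg => by
      rw [Category.assoc, hg i (Finset.mem_singleton_self i), comp_zero]⟩
  exact (QuotientAddGroup.eq_zero_iff f).1 (ConcreteCategory.congr_hom h0 f)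

end FiniteA

variable {A : Type u} [Category.{v} A] [Abelian A] [IsGrothendieckAbelian.{v} A] [HasCoproducts.{v} A]
  [HasDerivedCategory.{v} A]

theorem preservesCoproducts_Q (ι : Type v) :
    PreservesColimitsOfShape (Discrete ι) (DerivedCategory.Q : CochainComplex A ℤ ⥤ DerivedCategory A) := by
  haveI : ∀ K : ι → CochainComplex A ℤ,
      PreservesColimit (Discrete.functor K) (DerivedCategory.Q : CochainComplex A ℤ ⥤ DerivedCategory A) := by
    intro K
    refine preservesColimit_of_preserves_colimit_cocone (colimit.isColimit (Discrete.functor K))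
      ((Cofan.isColimitMapCoconeEquiv DerivedCategory.Q K _).symm ?_)
    have hb := fun Y => DerivedProd.hom_from_coproduct_bijective (A := A) K Y
    let q : ∀ L : CochainComplex A ℤ,
        DerivedCategory.Qh.obj ((HomotopyCategory.quotient _ _).obj L) ≅ DerivedCategory.Q.obj L :=
      fun L => (DerivedCategory.quotientCompQhIso _).app L
    have hq : ∀ i, (q (K i)).hom ≫ DerivedCategory.Q.map (Sigma.ι K i) =
        DerivedCategory.Qh.map ((HomotopyCategory.quotient _ _).map (Sigma.ι K i)) ≫ (q (∐ K)).hom := fun i =>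
      ((DerivedCategory.quotientCompQhIso A).hom.naturality (Sigma.ι K i)).symm
    exact Cofan.IsColimit.mk _
      (fun s => (q (∐ K)).inv ≫ ((hb s.pt).surjective fun i => (q (K i)).hom ≫ s.inj i).choose)
      (fun s i => by
        rw [← cancel_epi (q (K i)).hom]
        change (q (K i)).hom ≫ DerivedCategory.Q.map (Sigma.ι K i) ≫ _ = _
        rw [reassoc_of% (hq i), Iso.hom_inv_id_assoc]
        exact congrFun ((hb s.pt).surjective fun i => (q (K i)).hom ≫ s.inj i).choose_spec i)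
      fun s g hg => by
        rw [Iso.eq_inv_comp]
        refine (hb s.pt).injective ((funext fun i => ?_).trans
          ((hb s.pt).surjective fun i => (q (K i)).hom ≫ s.inj i).choose_spec.symm)
        rw [← Category.assoc, ← hq, Category.assoc]
        exact congrArg _ (hg i)
  exact preservesColimitsOfShape_of_discrete _

variable [HasCoproducts.{v} (DerivedCategory A)]

/-- locally finite families of maps out of a compact object are eventually zero -/
theorem eventually_zero {K : DerivedCategory A} (hK : CohDer.IsCompactObject K) {P : CochainComplex A ℤ}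
    (e : K ≅ DerivedCategory.Q.obj P)
    (Y : ℕ → CochainComplex A ℤ) (π : ∀ n, P ⟶ Y n) (M : ℤ → ℕ) (hY : ∀ i n, M i ≤ n → IsZero ((Y n).X i)) :
    ∃ N, ∀ n, N ≤ n → DerivedCategory.Q.map (π n) = 0 := by
  classical
  let Y' : ULift.{v} ℕ → CochainComplex A ℤ := fun n => Y n.down
  let φ : P ⟶ ∐ Y' :=
    { f := fun i => ∑ n ∈ Finset.range (M i), (π n).f i ≫ (Sigma.ι Y' ⟨n⟩).f i
      comm' := fun i j _ => by
        have hext : ∀ k, (∑ n ∈ Finset.range (M k), (π n).f k ≫ (Sigma.ι Y' ⟨n⟩).f k) =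
            ∑ n ∈ Finset.range (M i + M j + M k), (π n).f k ≫ (Sigma.ι Y' ⟨n⟩).f k := fun k =>
          Finset.sum_subset (Finset.range_mono (by omega)) fun n _ hn => by
            rw [(hY k n (by simpa using hn)).eq_of_tgt ((π n).f k) 0, zero_comp]
        have hi : (∑ n ∈ Finset.range (M i), (π n).f i ≫ (Sigma.ι Y' ⟨n⟩).f i) =
            ∑ n ∈ Finset.range (M i + M j), (π n).f i ≫ (Sigma.ι Y' ⟨n⟩).f i :=
          Finset.sum_subset (Finset.range_mono (by omega)) fun n _ hn => by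
            rw [(hY i n (by simpa using hn)).eq_of_tgt ((π n).f i) 0, zero_comp]
        have hj : (∑ n ∈ Finset.range (M j), (π n).f j ≫ (Sigma.ι Y' ⟨n⟩).f j) =
            ∑ n ∈ Finset.range (M i + M j), (π n).f j ≫ (Sigma.ι Y' ⟨n⟩).f j :=
          Finset.sum_subset (Finset.range_mono (by omega)) fun n _ hn => by
            rw [(hY j n (by simpa using hn)).eq_of_tgt ((π n).f j) 0, zero_comp]
        rw [hi, hj, Preadditive.comp_sum, Preadditive.sum_comp]
        refine Finset.sum_congr rfl fun n _ => ?_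
        rw [Category.assoc, (Sigma.ι Y' ⟨n⟩).comm, (π n).comm_assoc] }
  haveI := preservesCoproducts_Q (A := A) (ULift.{v} ℕ)
  obtain ⟨s, hs⟩ := livesOn_compact hK (isColimitCofanMkObjOfIsColimit DerivedCategory.Q _ _ (coproductIsCoproduct Y'))
    (e.hom ≫ DerivedCategory.Q.map φ)
  refine ⟨(s.image fun n => n.down).sup id + 1, fun m hm => ?_⟩
  have hms : (⟨m⟩ : ULift.{v} ℕ) ∉ s := fun h => by
    have := Finset.le_sup (f := id) (Finset.mem_image_of_mem (fun n : ULift.{v} ℕ => n.down) h)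
    simp only [id] at this; omega
  let p : ∐ Y' ⟶ Y m := Sigma.desc fun k => if h : k.down = m then eqToHom (congrArg Y h) else 0
  have hp : φ ≫ p = π m := by
    ext i
    change (∑ n ∈ Finset.range (M i), (π n).f i ≫ (Sigma.ι Y' ⟨n⟩).f i) ≫ p.f i = _
    rw [Preadditive.sum_comp]
    have hι : ∀ k, (Sigma.ι Y' ⟨k⟩).f i ≫ p.f i =
        (if h : k = m then eqToHom (congrArg Y h) else 0 : Y k ⟶ Y m).f i := fun k => by
      rw [← HomologicalComplex.comp_f, Sigma.ι_desc]
    by_cases hm' : m < M i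
    · rw [Finset.sum_eq_single_of_mem m (Finset.mem_range.2 hm')]
      · rw [Category.assoc, hι, dif_pos rfl]; simp
      · intro k _ hk; rw [Category.assoc, hι, dif_neg hk]; simp
    · exact (hY i m (by omega)).eq_of_tgt _ _
  rw [← cancel_epi e.hom, comp_zero, ← hp, Functor.map_comp, ← Category.assoc]
  refine hs _ fun k hk => ?_
  change DerivedCategory.Q.map (Sigma.ι Y' k) ≫ _ = 0
  rw [← Functor.map_comp, Sigma.ι_desc, dif_neg, Functor.map_zero]
  rintro rfl
  exact hms hk

theorem exists_isLE {K : DerivedCategory A} (hK : CohDer.IsCompactObject K) {P : CochainComplex A ℤ}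
    (e : K ≅ DerivedCategory.Q.obj P) :
    ∃ b : ℤ, (DerivedCategory.Q.obj P).IsLE b := by
  obtain ⟨N, hN⟩ := eventually_zero hK e (fun n => P.truncGE (n : ℤ)) (fun n => P.πTruncGE (n : ℤ))
    (fun i => (i + 1).toNat) fun i n hn =>
      CochainComplex.isZero_of_isStrictlyGE _ (n : ℤ) i (by omega)
  refine ⟨N, (DerivedCategory.isLE_iff _ _).2 fun i hi => ?_⟩
  have hq := hN i.toNat (by omega)
  have hi' : ((i.toNat : ℕ) : ℤ) = i := by omega
  haveI : IsIso (HomologicalComplex.homologyMap (P.πTruncGE ((i.toNat : ℕ) : ℤ)) i) :=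
    (quasiIsoAt_iff_isIso_homologyMap _ _).1 (CochainComplex.quasiIsoAt_πTruncGE P ((i.toNat : ℕ) : ℤ) i (le_of_eq hi'))
  haveI : IsIso ((DerivedCategory.homologyFunctor A i).map
      (DerivedCategory.Q.map (P.πTruncGE ((i.toNat : ℕ) : ℤ)))) :=
    ((MorphismProperty.isomorphisms A).arrow_mk_iso_iff
      (Arrow.isoMk ((DerivedCategory.homologyFunctorFactors A i).app P)
        ((DerivedCategory.homologyFunctorFactors A i).app _)
        ((DerivedCategory.homologyFunctorFactors A i).hom.naturality _).symm)).2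
      (inferInstanceAs (IsIso (HomologicalComplex.homologyMap (P.πTruncGE ((i.toNat : ℕ) : ℤ)) i)))
  rw [IsZero.iff_id_eq_zero]
  rw [← cancel_mono ((DerivedCategory.homologyFunctor A i).map
      (DerivedCategory.Q.map (P.πTruncGE ((i.toNat : ℕ) : ℤ))))]
  rw [hq, Functor.map_zero, comp_zero, comp_zero]

/-- a map killed by the projection in a short exact sequence lifts -/
theorem exists_lift {S : ShortComplex (CochainComplex A ℤ)} (hS : S.ShortExact) {K : DerivedCategory A}
    (f : K ⟶ DerivedCategory.Q.obj S.X₂) (h : f ≫ DerivedCategory.Q.map S.g = 0) :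
    ∃ f' : K ⟶ DerivedCategory.Q.obj S.X₁, f' ≫ DerivedCategory.Q.map S.f = f := by
  obtain ⟨f', hf⟩ := Triangle.coyoneda_exact₂ _ (DerivedCategory.triangleOfSES_distinguished hS) f h
  exact ⟨f', hf.symm⟩

/-- cutting a complex at degree `m` -/
theorem exists_cut (P : CochainComplex A ℤ) :
    ∃ (Y : ℕ → CochainComplex A ℤ) (π : ∀ n, P ⟶ Y n),
      (∀ (n : ℕ) i, -(n : ℤ) ≤ i → IsZero ((Y n).X i)) ∧ (∀ (n : ℕ) i, i < -(n : ℤ) → IsIso ((π n).f i)) := by
  classical
  let Y : ℕ → CochainComplex A ℤ := fun n =>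
    { X := fun i => if i < -(n : ℤ) then P.X i else ∐ (fun j : PEmpty.{v + 1} => j.elim)
      d := fun i j => if h : i < -(n : ℤ) ∧ j < -(n : ℤ) then eqToHom (if_pos h.1) ≫ P.d i j ≫ eqToHom (if_pos h.2).symm else 0
      shape := fun i j hij => by simp [P.shape i j hij]
      d_comp_d' := fun i j k hij hjk => by
        by_cases h₁ : i < -(n : ℤ) ∧ j < -(n : ℤ)
        · by_cases h₂ : j < -(n : ℤ) ∧ k < -(n : ℤ)
          · rw [dif_pos h₁, dif_pos h₂]; simp
          · rw [dif_neg h₂, comp_zero]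
        · rw [dif_neg h₁, zero_comp] }
  have h0 : IsZero (∐ (fun j : PEmpty.{v + 1} => (j.elim : A))) :=
    (IsZero.iff_id_eq_zero _).2 (Sigma.hom_ext _ _ fun j => j.elim)
  let π : ∀ n, P ⟶ Y n := fun n =>
    { f := fun i => if h : i < -(n : ℤ) then eqToHom (if_pos h).symm else 0
      comm' := fun i j hij => by
        simp only [ComplexShape.up_Rel] at hij
        by_cases hj : j < -(n : ℤ)
        · have hi : i < -(n : ℤ) := by omega
          simp [Y, hi, hj]
        · refine IsZero.eq_of_tgt ?_ _ _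
          simp only [Y, if_neg hj]
          exact h0 }
  refine ⟨Y, π, fun n i hi => ?_, fun n i hi => ?_⟩
  · simp only [Y, if_neg (not_lt.2 hi)]; exact h0
  · simp only [π, dif_pos hi]; infer_instance

/-- sums of members of `S` -/
def SumS (S : Set A) (X : A) : Prop := ∃ (ι : Type v) (E : ι → A), (∀ i, E i ∈ S) ∧ Nonempty (X ≅ ∐ E)

/-- finite sums of members of `S` -/
def FinS (S : Set A) [HasFiniteBiproducts A] (X : A) : Prop :=
  ∃ (n : ℕ) (E : Fin n → A), (∀ j, E j ∈ S) ∧ Nonempty (X ≅ ⨁ E)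

variable [HasFiniteBiproducts A] {S : Set A}

theorem finS_of_isZero {X : A} (h : IsZero X) : FinS S X :=
  ⟨0, fun j => j.elim0, fun j => j.elim0, ⟨h.iso ((IsZero.iff_id_eq_zero _).2 (biproduct.hom_ext' _ _ fun j => j.elim0))⟩⟩

theorem finS_of_coproduct {ι : Type v} [Finite ι] (E : ι → A) (hE : ∀ i, E i ∈ S) : FinS S (∐ E) := by
  obtain ⟨n, ⟨e⟩⟩ := Finite.exists_equiv_fin ι
  exact ⟨n, E ∘ e.symm, fun j => hE _,
    ⟨(Sigma.reindex e.symm E).symm ≪≫ (biproduct.isoCoproduct (E ∘ e.symm)).symm⟩⟩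

theorem finite_range (h2 : ∀ E ∈ S, ∀ ι : Type v, PreservesColimitsOfShape (Discrete ι) (preadditiveCoyoneda.obj (op E)))
    {X : A} (hX : FinS S X) {ι : Type v} {F : ι → A} {c : Cofan F} (hc : IsColimit c) (f : X ⟶ c.pt) :
    ∃ s, LivesOn c f s := by
  classical
  obtain ⟨n, E, hE, ⟨e⟩⟩ := hX
  choose s hs using fun j => haveI := h2 (E j) (hE j) ι; livesOn_of_preserves (E j) hc (biproduct.ι E j ≫ e.inv ≫ f)
  refine ⟨Finset.univ.biUnion s, fun T g hg => (cancel_epi e.inv).1 (biproduct.hom_ext' _ _ fun j => ?_)⟩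
  rw [comp_zero, comp_zero]
  simpa only [Category.assoc] using hs j g fun i hi => hg i (Finset.mem_biUnion.2 ⟨j, Finset.mem_univ _, hi⟩)

omit [HasCoproducts.{v} (DerivedCategory A)] in
theorem mkHomToSingle_f {L : CochainComplex A ℤ} {k : ℤ} {M : A} (φ : L.X k ⟶ M) (hφ : ∀ i, (ComplexShape.up ℤ).Rel i k → L.d i k ≫ φ = 0) :
    (HomologicalComplex.mkHomToSingle φ hφ).f k = φ ≫ (HomologicalComplex.singleObjXSelf (ComplexShape.up ℤ) k M).inv := by
  simp

theorem step (h2 : ∀ E ∈ S, ∀ ι : Type v, PreservesColimitsOfShape (Discrete ι) (preadditiveCoyoneda.obj (op E)))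
    {K : DerivedCategory A} (hK : CohDer.IsCompactObject K) (L : CochainComplex A ℤ) (k : ℤ)
    (hlow : ∀ j, j < k → FinS S (L.X j)) (hX : SumS S (L.X k)) (f : K ⟶ DerivedCategory.Q.obj L) :
    ∃ (L' : CochainComplex A ℤ) (inc : L' ⟶ L), (∀ j, j ≠ k → IsIso (inc.f j)) ∧ FinS S (L'.X k) ∧
      Mono (inc.f k) ∧
      ∃ f' : K ⟶ DerivedCategory.Q.obj L', f' ≫ DerivedCategory.Q.map inc = f := by
  classical
  obtain ⟨ι, E, hE, ⟨e⟩⟩ := hX
  let c : Cofan E := Cofan.mk (∐ E) (Sigma.ι E)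
  have hc : IsColimit c := coproductIsCoproduct E
  obtain ⟨s, hs⟩ := finite_range h2 (hlow (k - 1) (by omega)) hc (L.d (k - 1) k ≫ e.hom)
  let q : ∐ E ⟶ ∐ E := Sigma.desc fun i => if i ∈ s then 0 else Sigma.ι E i
  have hd : ∀ j, (ComplexShape.up ℤ).Rel j k → L.d j k ≫ (e.hom ≫ q) = 0 := fun j hj => by
    obtain rfl : j = k - 1 := by simp at hj; omega
    rw [← Category.assoc]
    exact hs q fun i hi => by simp [c, q, hi]
  let π₀ : L ⟶ (HomologicalComplex.single A (ComplexShape.up ℤ) k).obj (∐ E) :=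
    HomologicalComplex.mkHomToSingle (e.hom ≫ q) hd
  haveI := preservesCoproducts_Q (A := A) ι
  have hcD := isColimitCofanMkObjOfIsColimit (HomologicalComplex.single A (ComplexShape.up ℤ) k ⋙ DerivedCategory.Q)
    E _ hc
  obtain ⟨t, ht⟩ := livesOn_compact hK hcD (f ≫ DerivedCategory.Q.map π₀)
  let u := s ∪ t
  let Eu : {i // i ∉ u} → A := fun i => E i.1
  let r : ∐ E ⟶ ∐ Eu := Sigma.desc fun i => if h : i ∈ u then 0 else Sigma.ι Eu ⟨i, h⟩
  let σ : ∐ Eu ⟶ ∐ E := Sigma.desc fun i => Sigma.ι E i.1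
  have hσr : σ ≫ r = 𝟙 _ := Sigma.hom_ext _ _ fun i => by simp [σ, r, i.2, Eu]
  have hqr : q ≫ r = r := Sigma.hom_ext _ _ fun i => by
    by_cases hi : i ∈ s
    · simp [q, r, hi, u]
    · simp [q, hi]
  have hd' : ∀ j, (ComplexShape.up ℤ).Rel j k → L.d j k ≫ (e.hom ≫ r) = 0 := fun j hj => by
    have h := congrArg (· ≫ r) (hd j hj)
    simp only [zero_comp, Category.assoc, hqr] at h
    exact h
  let π : L ⟶ (HomologicalComplex.single A (ComplexShape.up ℤ) k).obj (∐ Eu) :=
    HomologicalComplex.mkHomToSingle (e.hom ≫ r) hd'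
  have hπ : π = π₀ ≫ (HomologicalComplex.single A (ComplexShape.up ℤ) k).map r := by
    refine HomologicalComplex.to_single_hom_ext ?_
    simp [π, π₀, HomologicalComplex.single_map_f_self, reassoc_of% hqr]
  have hf0 : f ≫ DerivedCategory.Q.map π = 0 := by
    rw [hπ, Functor.map_comp, ← Category.assoc]
    refine ht _ fun i hi => ?_
    change DerivedCategory.Q.map ((HomologicalComplex.single A (ComplexShape.up ℤ) k).map (Sigma.ι E i)) ≫ _ = 0
    rw [← Functor.map_comp, ← Functor.map_comp, show Sigma.ι E i ≫ r = 0 by simp [r, u, hi], Functor.map_zero,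
      Functor.map_zero]
  have hepi : ∀ j, Epi (π.f j) := fun j => by
    by_cases hj : j = k
    · subst hj
      haveI : Epi r := (SplitEpi.mk σ hσr).epi
      rw [show π.f j = (e.hom ≫ r) ≫ (HomologicalComplex.singleObjXSelf (ComplexShape.up ℤ) j (∐ Eu)).inv from
        mkHomToSingle_f _ _]
      infer_instance
    · exact ⟨fun a b _ => (HomologicalComplex.isZero_single_obj_X _ _ _ _ hj).eq_of_src a b⟩
  have hS : (ShortComplex.mk (kernel.ι π) π (kernel.condition π)).ShortExact :=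
    { exact := ShortComplex.exact_kernel π
      mono_f := inferInstanceAs (Mono (kernel.ι π))
      epi_g := HomologicalComplex.epi_of_epi_f π hepi }
  refine ⟨kernel π, kernel.ι π, fun j hj => ?_, ?_, (hS.map_of_exact (HomologicalComplex.eval A (ComplexShape.up ℤ) k)).mono_f,
    exists_lift hS f hf0⟩
  · have hj' := hS.map_of_exact (HomologicalComplex.eval A (ComplexShape.up ℤ) j)
    haveI : Mono ((kernel.ι π).f j) := hj'.mono_f
    haveI : Epi ((kernel.ι π).f j) := hj'.exact.epi_f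
      ((HomologicalComplex.isZero_single_obj_X (ComplexShape.up ℤ) k (∐ Eu) j hj).eq_of_tgt _ _)
    exact isIso_of_mono_of_epi _
  · let E' : {i // i ∈ u} → A := fun i => E i.1
    let ρ : ∐ E ⟶ ∐ E' := Sigma.desc fun i => if h : i ∈ u then Sigma.ι E' ⟨i, h⟩ else 0
    let τ : ∐ E' ⟶ ∐ E := Sigma.desc fun i => Sigma.ι E i.1
    let Sk := (ShortComplex.mk (kernel.ι π) π (kernel.condition π)).map (HomologicalComplex.eval A (ComplexShape.up ℤ) k)
    have hk : Sk.ShortExact := hS.map_of_exact _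
    let T : ShortComplex A := ShortComplex.mk τ r (Sigma.hom_ext _ _ fun i => by simp [τ, r, i.2, E'])
    let spl : T.Splitting :=
      { r := ρ, s := σ
        f_r := Sigma.hom_ext _ _ fun i => by simp [T, τ, ρ, i.2, E']
        s_g := hσr
        id := Sigma.hom_ext _ _ fun i => by by_cases hi : i ∈ u <;> simp [T, τ, ρ, r, σ, hi, E', Eu] }
    have hg : Sk.g = (e.hom ≫ r) ≫ (HomologicalComplex.singleObjXSelf (ComplexShape.up ℤ) k (∐ Eu)).inv :=
      mkHomToSingle_f _ hd'
    haveI : Mono Sk.f := hk.mono_f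
    haveI : Mono T.f := spl.shortExact.mono_f
    have w1 : (τ ≫ e.inv) ≫ Sk.g = 0 := by
      rw [hg]; simp only [Category.assoc, Iso.inv_hom_id_assoc]
      exact (reassoc_of% T.zero) _ |>.trans zero_comp
    have w2 : (Sk.f ≫ e.hom) ≫ T.g = 0 := by
      have h := Sk.zero
      rw [hg, ← Category.assoc, ← Category.assoc, ← cancel_mono
        (HomologicalComplex.singleObjXSelf (ComplexShape.up ℤ) k (∐ Eu)).hom] at h
      simpa [T] using h
    let iso : Sk.X₁ ≅ ∐ E' :=
      { hom := spl.shortExact.exact.lift (Sk.f ≫ e.hom) w2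
        inv := hk.exact.lift (τ ≫ e.inv) w1
        hom_inv_id := by
          rw [← cancel_mono Sk.f, Category.assoc, hk.exact.lift_f, ← Category.assoc, Category.id_comp]
          change (spl.shortExact.exact.lift (Sk.f ≫ e.hom) w2 ≫ T.f) ≫ e.inv = Sk.f
          rw [spl.shortExact.exact.lift_f, Category.assoc, Iso.hom_inv_id, Category.comp_id]
        inv_hom_id := by
          rw [← cancel_mono T.f, Category.assoc, spl.shortExact.exact.lift_f, ← Category.assoc, hk.exact.lift_f,
            Category.assoc, Iso.inv_hom_id, Category.comp_id, Category.id_comp] }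
    obtain ⟨n, F, hF, ⟨eF⟩⟩ := finS_of_coproduct (S := S) E' fun i => hE i.1
    exact ⟨n, F, hF, ⟨iso ≪≫ eF⟩⟩

theorem main (h1 : ∀ X : A, ∃ (ι : Type v) (E : ι → A) (π : ∐ E ⟶ X), (∀ i, E i ∈ S) ∧ Epi π)
    (h2 : ∀ E ∈ S, ∀ ι : Type v, PreservesColimitsOfShape (Discrete ι) (preadditiveCoyoneda.obj (op E)))
    (K : DerivedCategory A) (hK : CohDer.IsCompactObject K) :
    ∃ (L : CochainComplex A ℤ) (a b : ℤ),
      (∀ i : ℤ, i < a ∨ b < i → IsZero (L.X i)) ∧
      (∀ i : ℤ, ∃ (n : ℕ) (E : Fin n → A), (∀ j, E j ∈ S) ∧ Nonempty (L.X i ≅ ⨁ E)) ∧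
      Nonempty (Retract K (DerivedCategory.Q.obj L)) := by
  let P₀ := DerivedCategory.Q.objPreimage K
  obtain ⟨b, hb⟩ := exists_isLE hK (DerivedCategory.Q.objObjPreimageIso K).symm
  obtain ⟨P₁, hP₁, ⟨e₁⟩⟩ := DerivedCategory.exists_iso_Q_obj_of_isLE (DerivedCategory.Q.obj P₀) b
  let C : A → Prop := SumS S
  obtain ⟨P, α, hPb, hPC, -, hα⟩ := Groth.L00.ClassResLeft.exists_res C
    ⟨∐ (fun j : PEmpty.{v + 1} => (j.elim : A)), (IsZero.iff_id_eq_zero _).2 (Sigma.hom_ext _ _ fun j => j.elim),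
      PEmpty.{v + 1}, fun j => j.elim, fun j => j.elim, ⟨Iso.refl _⟩⟩
    (fun X => by obtain ⟨ι, E, π, hE, hπ⟩ := h1 X; exact ⟨∐ E, π, ⟨ι, E, hE, ⟨Iso.refl _⟩⟩, hπ⟩) P₁ b
  let eP : DerivedCategory.Q.obj P ≅ K :=
    asIso (DerivedCategory.Q.map α) ≪≫ e₁.symm ≪≫ DerivedCategory.Q.objObjPreimageIso K
  obtain ⟨Y, π, hY0, hYi⟩ := exists_cut P
  obtain ⟨N, hN⟩ := eventually_zero hK eP.symm Y π (fun i => (-i).toNat) fun i n hn => hY0 n i (by omega)
  haveI hepi : ∀ j, Epi ((π N).f j) := fun j => by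
    by_cases hj : j < -(N : ℤ)
    · haveI := hYi N j hj; infer_instance
    · exact ⟨fun a b _ => (hY0 N j (by omega)).eq_of_src a b⟩
  have hS : (ShortComplex.mk (kernel.ι (π N)) (π N) (kernel.condition (π N))).ShortExact :=
    { exact := ShortComplex.exact_kernel (π N)
      mono_f := inferInstanceAs (Mono (kernel.ι (π N)))
      epi_g := HomologicalComplex.epi_of_epi_f _ hepi }
  obtain ⟨f₀, hf₀⟩ := exists_lift hS eP.inv (by simp [hN N le_rfl])
  let r : DerivedCategory.Q.obj (kernel (π N)) ⟶ K := DerivedCategory.Q.map (kernel.ι (π N)) ≫ eP.hom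
  have hr : f₀ ≫ r = 𝟙 K := (reassoc_of% hf₀) eP.hom |>.trans eP.inv_hom_id
  have hz : ∀ j, j < -(N : ℤ) ∨ b < j → IsZero ((kernel (π N)).X j) := fun j hj => by
    have hj' := hS.map_of_exact (HomologicalComplex.eval A (ComplexShape.up ℤ) j)
    haveI : Mono ((kernel.ι (π N)).f j) := hj'.mono_f
    rcases hj with hj | hj
    · haveI := hYi N j hj
      refine IsZero.of_mono_eq_zero ((kernel.ι (π N)).f j) ?_
      rw [← cancel_mono ((π N).f j), zero_comp]
      exact ((ShortComplex.mk (kernel.ι (π N)) (π N) (kernel.condition (π N))).map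
        (HomologicalComplex.eval A (ComplexShape.up ℤ) j)).zero
    · exact IsZero.of_mono ((kernel.ι (π N)).f j) (P.isZero_of_isStrictlyLE b j hj)
  have hsum : ∀ j, -(N : ℤ) ≤ j → C ((kernel (π N)).X j) := fun j hj => by
    have hj' := hS.map_of_exact (HomologicalComplex.eval A (ComplexShape.up ℤ) j)
    haveI : Mono ((kernel.ι (π N)).f j) := hj'.mono_f
    haveI : Epi ((kernel.ι (π N)).f j) := hj'.exact.epi_f ((hY0 N j hj).eq_of_tgt _ _)
    haveI : IsIso ((kernel.ι (π N)).f j) := isIso_of_mono_of_epi _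
    obtain ⟨ι, E, hE, ⟨e⟩⟩ := hPC j
    exact ⟨ι, E, hE, ⟨asIso ((kernel.ι (π N)).f j) ≪≫ e⟩⟩
  have key : ∀ m : ℕ, ∃ (L : CochainComplex A ℤ) (i' : K ⟶ DerivedCategory.Q.obj L) (r' : DerivedCategory.Q.obj L ⟶ K),
      i' ≫ r' = 𝟙 K ∧ (∀ j, j < -(N : ℤ) ∨ b < j → IsZero (L.X j)) ∧
      (∀ j, j < -(N : ℤ) + m → FinS S (L.X j)) ∧ ∀ j, -(N : ℤ) + m ≤ j → C (L.X j) := by
    intro m
    induction m with
    | zero => exact ⟨kernel (π N), f₀, r, hr, hz, fun j hj => finS_of_isZero (hz j (Or.inl (by omega))),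
        fun j hj => hsum j (by omega)⟩
    | succ m ih =>
      obtain ⟨L, i', r', hir, hL0, hLf, hLs⟩ := ih
      obtain ⟨L', inc, hiso, hfin, hmono, f', hf'⟩ := step h2 hK L (-(N : ℤ) + m) hLf (hLs _ le_rfl) i'
      refine ⟨L', f', DerivedCategory.Q.map inc ≫ r', by rw [reassoc_of% hf', hir], fun j hj => ?_, fun j hj => ?_,
        fun j hj => ?_⟩
      · by_cases hjk : j = -(N : ℤ) + m
        · subst hjk
          haveI := hmono
          exact IsZero.of_mono (inc.f _) (hL0 _ hj)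
        · haveI := hiso j hjk
          exact (hL0 j hj).of_iso (asIso (inc.f j))
      · by_cases hjk : j = -(N : ℤ) + m
        · exact hjk ▸ hfin
        · haveI := hiso j hjk
          obtain ⟨n, E, hE, ⟨e⟩⟩ := hLf j (by omega)
          exact ⟨n, E, hE, ⟨asIso (inc.f j) ≪≫ e⟩⟩
      · haveI := hiso j (by omega)
        obtain ⟨ι, E, hE, ⟨e⟩⟩ := hLs j (by omega)
        exact ⟨ι, E, hE, ⟨asIso (inc.f j) ≪≫ e⟩⟩
  obtain ⟨L, i', r', hir, hL0, hLf, -⟩ := key (b + N + 1).toNat
  refine ⟨L, -(N : ℤ), b, hL0, fun i => ?_, ⟨⟨i', r', hir⟩⟩⟩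
  by_cases hi : i < -(N : ℤ) + ((b + N + 1).toNat : ℕ)
  · exact hLf i hi
  · exact finS_of_isZero (hL0 i (Or.inr (by omega)))

end Groth.L10.CompactBounded
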