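import Groth.Agent.L10.Compact
import Mathlib.CategoryTheory.Triangulated.Generators

/-! Factoring maps from compact objects through finite envelopes. -/

universe v u
open CategoryTheory CategoryTheory.Limits CategoryTheory.Pretriangulated DirectSum

set_option backward.defeqAttrib.useBackward true
set_option backward.isDefEq.respectTransparency false
namespace Groth.L10.CompactFactor

variable {D : Type u} [Category.{v} D] [Preadditive D] [HasCoproducts.{v} D]

/-- Compact objects, as a property. -/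
abbrev compacts : ObjectProperty D := fun K : D => CohDer.IsCompactObject K

instance : (compacts (D := D)).IsStableUnderRetracts := ⟨fun {K L} r hL ι X => by
  classical
  have hb := hL ι X
  refine ⟨fun a b hab => ?_, fun g => ?_⟩
  · have h1 : DirectSum.map (fun i => Preadditive.leftComp (X i) r.r) a =
        DirectSum.map (fun i => Preadditive.leftComp (X i) r.r) b :=
      hb.1 (by rw [homSum_map, homSum_map, hab])
    exact (DirectSum.map_injective (fun i => Preadditive.leftComp (X i) r.r)).2 (fun i x y hxy => by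
      have hxy : r.r ≫ x = r.r ≫ y := hxy
      simpa using r.i ≫= hxy) h1
  · obtain ⟨x, hx⟩ := hb.2 (r.r ≫ g)
    exact ⟨DirectSum.map (fun i => Preadditive.leftComp (X i) r.i) x, by simp [homSum_map, hx]⟩⟩

variable [HasZeroObject D] [HasShift D ℤ] [∀ n : ℤ, (shiftFunctor D n).Additive] [Pretriangulated D]

instance : (compacts (D := D)).IsTriangulated := s0475

theorem compact_shift {K : D} (hK : CohDer.IsCompactObject K) (a : ℤ) : CohDer.IsCompactObject (K⟦a⟧) :=
  isCompactObject_of_adj (shiftFunctor D a) (shiftFunctor D (-a)) (shiftEquiv D a).toAdjunction hK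

variable [IsTriangulated D] {ι : Type v} (E : ι → D)

/-- Finitely many members, as a property. -/
abbrev gen (s : Finset ι) : ObjectProperty D := fun Y : D => ∃ i ∈ s, Y = E i

/-- The envelope of finitely many members. -/
abbrev env (s : Finset ι) : ObjectProperty D := ObjectProperty.triangEnvelope (gen E s)

theorem env_mono {s t : Finset ι} (h : s ⊆ t) : env E s ≤ env E t := by
  refine ObjectProperty.monotone_triangEnvelope ?_
  rintro Y ⟨i, hi, e⟩
  exact ⟨i, h hi, e⟩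

theorem env_compact (hc : ∀ i, CohDer.IsCompactObject (E i)) (s : Finset ι) : env E s ≤ compacts :=
  (ObjectProperty.triangEnvelope_le_iff _).2 fun _ ⟨i, _, e⟩ => e ▸ hc i

theorem env_zero [Nonempty ι] : ∃ (s : Finset ι) (Z : D), IsZero Z ∧ env E s Z := by
  obtain ⟨i⟩ := ‹Nonempty ι›
  have : (gen E {i}).Nonempty := ObjectProperty.nonempty_of_prop (show gen E {i} (E i) from ⟨i, Finset.mem_singleton_self i, rfl⟩)
  obtain ⟨Z, hZ, h⟩ := ObjectProperty.exists_prop_of_containsZero (env E {i})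
  exact ⟨{i}, Z, hZ, h⟩

theorem env_ext₂ (s : Finset ι) (T : Triangle D) (hT : T ∈ distTriang D) (h1 : env E s T.obj₁) (h3 : env E s T.obj₃) :
    ∃ X, env E s X ∧ Nonempty (T.obj₂ ≅ X) :=
  let ⟨X, hX, e⟩ := (env E s).ext_of_isTriangulatedClosed₂' T hT h1 h3
  ⟨X, hX, e⟩

/-- Factorisation through the envelope of finitely many members. -/
def Fac {C K : D} (φ : C ⟶ K) : Prop :=
  ∃ (s : Finset ι) (E' : D) (g : C ⟶ E') (h : E' ⟶ K), env E s E' ∧ g ≫ h = φ

theorem fac_zero [Nonempty ι] (C K : D) : Fac E (0 : C ⟶ K) := by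
  obtain ⟨s, Z, _, h⟩ := env_zero E
  exact ⟨s, Z, 0, 0, h, zero_comp⟩

theorem fac_comp {C K K' : D} {φ : C ⟶ K} (hφ : Fac E φ) (k : K ⟶ K') : Fac E (φ ≫ k) := by
  obtain ⟨s, E', g, h, hs, rfl⟩ := hφ
  exact ⟨s, E', g, h ≫ k, hs, (Category.assoc _ _ _).symm⟩

theorem fac_add {C K : D} {φ ψ : C ⟶ K} (hφ : Fac E φ) (hψ : Fac E ψ) : Fac E (φ + ψ) := by
  classical
  obtain ⟨s, E', g, h, hs, rfl⟩ := hφ
  obtain ⟨s', E'', g', h', hs', rfl⟩ := hψ
  obtain ⟨X, hX, ⟨e⟩⟩ := env_ext₂ E (s ∪ s') _ (binaryBiproductTriangle_distinguished E' E'')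
    (env_mono E Finset.subset_union_left _ hs) (env_mono E Finset.subset_union_right _ hs')
  exact ⟨s ∪ s', X, biprod.lift g g' ≫ e.hom, e.inv ≫ biprod.desc h h', hX, by simp [biprod.lift_desc]⟩

theorem fac_coprod [Nonempty ι] {κ : Type v} (a : κ → ι) (m : κ → ℤ) {C : D} (hC : CohDer.IsCompactObject C)
    (φ : C ⟶ ∐ fun k => (shiftFunctor D (m k)).obj (E (a k))) : Fac E φ := by
  classical
  obtain ⟨x, rfl⟩ := (hC κ _).2 φ
  induction x using DirectSum.induction_on with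
  | zero => rw [map_zero]; exact fac_zero E _ _
  | of k g =>
    rw [homSum_of]
    exact ⟨{a k}, _, g, _, ObjectProperty.le_shift (env E {a k}) (m k) _
      (ObjectProperty.le_triangEnvelope _ _ ⟨a k, Finset.mem_singleton_self _, rfl⟩), rfl⟩
  | add p q hp hq => rw [map_add]; exact fac_add E hp hq

theorem fac_step [Nonempty ι] (hc : ∀ i, CohDer.IsCompactObject (E i)) {κ : Type v} (a : κ → ι) (m : κ → ℤ) {K K' : D}
    {y : (∐ fun k => (shiftFunctor D (m k)).obj (E (a k))) ⟶ K} {f : K ⟶ K'}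
    {z : K' ⟶ (shiftFunctor D (1 : ℤ)).obj (∐ fun k => (shiftFunctor D (m k)).obj (E (a k)))}
    (hT : Triangle.mk y f z ∈ distTriang D)
    (ih : ∀ (C : D), CohDer.IsCompactObject C → ∀ φ : C ⟶ K, Fac E φ)
    {C : D} (hC : CohDer.IsCompactObject C) (φ : C ⟶ K') : Fac E φ := by
  classical
  let adj := (shiftEquiv D (1 : ℤ)).symm.toAdjunction
  obtain ⟨s, F0, g0, h0, hF0, e0⟩ := fac_coprod E a m (compact_shift hC (-1)) ((adj.homEquiv C _).symm (φ ≫ z))
  let g : C ⟶ F0⟦(1 : ℤ)⟧ := adj.homEquiv C _ g0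
  have hg : g ≫ h0⟦(1 : ℤ)⟧' = φ ≫ z := by
    change adj.homEquiv C _ g0 ≫ (shiftFunctor D (1 : ℤ)).map h0 = _
    rw [← (adj.homEquiv C _).apply_symm_apply (φ ≫ z), ← e0]
    exact (adj.homEquiv_naturality_right g0 h0).symm
  have hF1 : env E s (F0⟦(1 : ℤ)⟧) := ObjectProperty.le_shift (env E s) (1 : ℤ) _ hF0
  obtain ⟨C', j, δ, hT1⟩ := distinguished_cocone_triangle₁ g
  have hC' : CohDer.IsCompactObject C' :=
    ObjectProperty.ext_of_isTriangulatedClosed₁ compacts _ hT1 hC (env_compact E hc s _ hF1)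
  have hT2 := rot_of_distTriang _ hT
  obtain ⟨α, hα1, hα3⟩ := complete_distinguished_triangle_morphism₁ _ _ hT1 hT2 φ (h0⟦(1 : ℤ)⟧') hg
  dsimp [Triangle.rotate] at α hα1 hα3
  obtain ⟨s', E'', g', h', hE'', eα⟩ := ih C' hC' α
  obtain ⟨W, p, q, hT3⟩ := distinguished_cocone_triangle₂ (δ ≫ g'⟦(1 : ℤ)⟧')
  obtain ⟨w, hw1, hw2⟩ := complete_distinguished_triangle_morphism₂ _ _ hT1 hT3 g' (𝟙 _) (by simp)
  obtain ⟨ω, hω1, hω2⟩ := complete_distinguished_triangle_morphism₂ _ _ hT3 hT2 h' (h0⟦(1 : ℤ)⟧') (by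
    dsimp [Triangle.rotate]
    rw [Category.assoc, ← Functor.map_comp, eα]
    exact hα3)
  dsimp [Triangle.rotate] at w hw1 hw2 ω hω1 hω2
  obtain ⟨X, hX, ⟨e⟩⟩ := env_ext₂ E (s' ∪ s) _ hT3 (env_mono E Finset.subset_union_left _ hE'')
    (env_mono E Finset.subset_union_right _ hF1)
  have hjw : j ≫ (φ - w ≫ ω) = 0 := by
    rw [Preadditive.comp_sub, hα1, reassoc_of% hw1, hω1, reassoc_of% eα, sub_self]
  obtain ⟨τ, hτ⟩ := Triangle.yoneda_exact₂ _ hT1 _ hjw
  dsimp at τ hτ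
  have : φ = (w ≫ e.hom) ≫ (e.inv ≫ ω) + g ≫ τ := by
    rw [← hτ]
    simp
  rw [this]
  exact fac_add E ⟨_, _, _, _, hX, rfl⟩ ⟨_, _, _, _, hF1, rfl⟩

end Groth.L10.CompactFactor
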