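import Groth.Agent.L10.HocolimGen
import Groth.Agent.L10.CompactFactor

/-! A compact generator classically generates the compact objects. -/

universe v u
open CategoryTheory CategoryTheory.Limits CategoryTheory.Pretriangulated DirectSum

set_option backward.defeqAttrib.useBackward true
set_option backward.isDefEq.respectTransparency false
namespace Groth.L10.CompactGen

variable {D : Type u} [Category.{v} D] [Preadditive D] [HasCoproducts.{v} D] [HasZeroObject D] [HasShift D ℤ]
  [∀ n : ℤ, (shiftFunctor D n).Additive] [Pretriangulated D]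

/-- A map from a compact object to a homotopy colimit factors through some stage. -/
theorem factors_stage (K : ℕ → D) (f : ∀ n, K n ⟶ K (n + 1)) [HasCoproduct K] {X : D} {i : ∀ n, K n ⟶ X}
    (hh : DerLim.IsHocolim K f X i) {C : D} (hC : CohDer.IsCompactObject C) (φ : C ⟶ X) :
    ∃ (N : ℕ) (ψ : C ⟶ K N), ψ ≫ i N = φ := by
  classical
  obtain ⟨c, hT⟩ := hh
  let adj := (shiftEquiv D (1 : ℤ)).symm.toAdjunction
  have hφc : φ ≫ c = 0 := by
    have h1 : (adj.homEquiv _ _).symm (φ ≫ c) = 0 := by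
      refine HocolimGen.sub_shift_injective K f (HocolimGen.compact_shift' hC (-1)) _ ?_
      refine (adj.homEquiv_naturality_right_symm (φ ≫ c) (𝟙 (∐ K) - DerLim.shiftMap K f)).symm.trans ?_
      have h2 := comp_distTriang_mor_zero₂₃ _ (rot_of_distTriang _ hT)
      dsimp [Triangle.rotate] at h2
      rw [Preadditive.comp_neg, neg_eq_zero] at h2
      change (adj.homEquiv _ _).symm ((φ ≫ c) ≫ (shiftFunctor D (1 : ℤ)).map _) = 0
      rw [Category.assoc, h2, comp_zero]
      simp [Adjunction.homEquiv_counit]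
    have h3 := congrArg (adj.homEquiv _ _) h1
    rw [Equiv.apply_symm_apply] at h3
    rw [h3]
    simp [Adjunction.homEquiv_unit]
  obtain ⟨χ, hχ⟩ := Triangle.coyoneda_exact₃ _ hT φ hφc
  dsimp at χ hχ
  obtain ⟨x, rfl⟩ := HocolimGen.countable_bij K hC χ
  have hfi : ∀ n, f n ≫ i (n + 1) = i n := fun n => by
    have h0 := comp_distTriang_mor_zero₁₂ _ hT
    dsimp at h0
    have := congrArg (Sigma.ι K n ≫ ·) h0
    simp [DerLim.shiftMap, sub_eq_zero] at this
    exact this.symm
  have push : ∀ (N : ℕ) (ψ : C ⟶ K N) (N' : ℕ), N ≤ N' → ∃ ψ' : C ⟶ K N', ψ' ≫ i N' = ψ ≫ i N := fun N ψ N' h => by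
    induction N', h using Nat.le_induction with
    | base => exact ⟨ψ, rfl⟩
    | succ N' _ ih =>
      obtain ⟨ψ', hψ'⟩ := ih
      exact ⟨ψ' ≫ f N', by rw [Category.assoc, hfi, hψ']⟩
  rw [hχ]
  clear hχ hφc φ
  induction x using DirectSum.induction_on with
  | zero => exact ⟨0, 0, by simp⟩
  | of n g => exact ⟨n, g, by simp⟩
  | add a b ha hb =>
    obtain ⟨N₁, ψ₁, h₁⟩ := ha
    obtain ⟨N₂, ψ₂, h₂⟩ := hb
    obtain ⟨ψ₁', h₁'⟩ := push N₁ ψ₁ (max N₁ N₂) (le_max_left _ _)
    obtain ⟨ψ₂', h₂'⟩ := push N₂ ψ₂ (max N₁ N₂) (le_max_right _ _)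
    exact ⟨_, ψ₁' + ψ₂', by simp [Preadditive.add_comp, h₁', h₂', h₁, h₂]⟩

variable [IsTriangulated D] [HasColimitsOfShape (Discrete ℕ) D]

theorem factor_env {ι : Type v} [Nonempty ι] (E : ι → D) (hc : ∀ i, CohDer.IsCompactObject (E i))
    (hg : CohDer.Generates E) {C : D} (hC : CohDer.IsCompactObject C) {X : D} (φ : C ⟶ X) :
    CompactFactor.Fac E φ := by
  obtain ⟨K, f, i, hh, ⟨κ, a, m, ⟨e⟩⟩, hstep⟩ := HocolimGen.exists_presentation E hc hg X
  have all : ∀ (n : ℕ) (C : D), CohDer.IsCompactObject C → ∀ ψ : C ⟶ K n, CompactFactor.Fac E ψ := by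
    intro n
    induction n with
    | zero =>
      intro C hC ψ
      have h := CompactFactor.fac_comp E (CompactFactor.fac_coprod E a m hC (ψ ≫ e.hom)) e.inv
      rw [Category.assoc, e.hom_inv_id, Category.comp_id] at h
      exact h
    | succ n ih =>
      intro C hC ψ
      obtain ⟨κ, a, m, y, z, hT⟩ := hstep n
      exact CompactFactor.fac_step E hc a m hT ih hC ψ
  obtain ⟨N, ψ, rfl⟩ := factors_stage K f hh hC φ
  exact CompactFactor.fac_comp E (all N C hC ψ) (i N)

theorem generates_iff (E : D) (hE : CohDer.IsCompactObject E) :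
    CohDer.Generates (fun _ : Unit => E) ↔
      (CohDer.IsCompactlyGenerated D ∧ ∀ X : D, CohDer.IsCompactObject X → ObjectProperty.triangEnvelope (fun Y : D => Y = E) X) := by
  constructor
  · intro h
    have hg : CohDer.Generates (fun _ : PUnit.{v + 1} => E) := fun K hK => h K fun _ n f => hK PUnit.unit n f
    refine ⟨⟨PUnit.{v + 1}, fun _ => E, fun _ => hE, hg⟩, fun X hX => ?_⟩
    obtain ⟨s, E', g, k, hE', hgk⟩ := factor_env (fun _ : PUnit.{v + 1} => E) (fun _ => hE) hg hX (𝟙 X)
    refine ObjectProperty.prop_of_retract _ (X := X) (Y := E') ⟨g, k, hgk⟩ ?_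
    exact ObjectProperty.monotone_triangEnvelope (fun Y ⟨_, _, hY⟩ => hY) _ hE'
  · rintro ⟨⟨ι, F, hF, hgF⟩, henv⟩ K hK
    refine hgF K fun i n f => ?_
    have h1 : ObjectProperty.triangEnvelope (fun Y : D => Y = E) (F i) := henv (F i) (hF i)
    -- no maps from the envelope to the shifts of `K`
    let P : ObjectProperty D := fun Y => ∀ (n : ℤ) (f : Y ⟶ (shiftFunctor D n).obj K), f = 0
    have : P.IsStableUnderRetracts := ⟨fun {Y Z} r hZ n f => by
      rw [← Category.id_comp f, ← r.retract, Category.assoc, hZ n (r.r ≫ f), comp_zero]⟩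
    have : P.ContainsZero := ⟨_, isZero_zero D, fun n f => (isZero_zero D).eq_of_src _ _⟩
    have : P.IsStableUnderShift ℤ := ⟨fun a => ⟨fun Y hY n f => by
      let adj := (shiftEquiv D a).toAdjunction
      have h3 : (adj.homEquiv _ _) f = 0 := by
        let e := (shiftFunctorAdd' D n (-a) (n + -a) rfl).app K
        rw [← cancel_mono e.inv, zero_comp]
        exact hY _ _
      have h4 := congrArg (adj.homEquiv _ _).symm h3
      rw [Equiv.symm_apply_apply] at h4
      rw [h4]
      simp [Adjunction.homEquiv_counit]⟩⟩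
    have : P.IsTriangulatedClosed₂ := .mk' fun T hT h1 h3 n f => by
      obtain ⟨χ, hχ⟩ := Triangle.yoneda_exact₂ T hT f (h1 n _)
      rw [hχ, h3 n χ, comp_zero]
    have : P.IsTriangulated := { }
    exact ((ObjectProperty.triangEnvelope_le_iff (Q := P) _).2 (fun Y hY n f => by subst hY; exact hK () n f)) _ h1 n f

end Groth.L10.CompactGen
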