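import Groth.Prelude.Def_CohSite
import Mathlib.CategoryTheory.Sites.PreservesSheafification
import Mathlib.CategoryTheory.Sites.ConstantSheaf
import Mathlib.Algebra.Category.Grp.EpiMono

/-! # Sections of constant sheaves: surjections stay surjective -/

universe u

open CategoryTheory CategoryTheory.Limits Opposite

set_option backward.defeqAttrib.useBackward true
set_option backward.isDefEq.respectTransparency false

noncomputable section

namespace Groth.L10.ConstSec

variable {C : Type u} [SmallCategory C] (J : GrothendieckTopology C)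

/-- A surjection of groups has a section on the constant sheaves of sets. -/
theorem exists_section {B D : AddCommGrpCat.{u}} (g : B ⟶ D) (hg : Function.Surjective g) :
    ∃ t : sheafify J ((Functor.const Cᵒᵖ).obj D) ⋙ forget AddCommGrpCat.{u} ⟶
      sheafify J ((Functor.const Cᵒᵖ).obj B) ⋙ forget AddCommGrpCat.{u},
      t ≫ Functor.whiskerRight (sheafifyMap J ((Functor.const Cᵒᵖ).map g)) (forget AddCommGrpCat.{u}) = 𝟙 _ := by
  let F := forget AddCommGrpCat.{u}
  let s₀ : ((Functor.const Cᵒᵖ).obj D) ⋙ F ⟶ ((Functor.const Cᵒᵖ).obj B) ⋙ F :=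
    { app := fun _ => TypeCat.ofHom (Function.surjInv hg) }
  refine ⟨(sheafifyComposeIso J F _).inv ≫ sheafifyMap J s₀ ≫ (sheafifyComposeIso J F _).hom, ?_⟩
  rw [← cancel_epi (sheafifyComposeIso J F ((Functor.const Cᵒᵖ).obj D)).hom]
  simp only [Category.assoc, Iso.hom_inv_id_assoc, Category.comp_id]
  apply sheafify_hom_ext J _ _ ((sheafCompose J F).obj ((presheafToSheaf J AddCommGrpCat.{u}).obj _)).property
  rw [← toSheafify_naturality_assoc, sheafComposeIso_hom_fac_assoc, ← Functor.whiskerRight_comp, ← toSheafify_naturality,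
    Functor.whiskerRight_comp, ← Category.assoc]
  refine (congrArg (· ≫ Functor.whiskerRight (toSheafify J _) F) (NatTrans.ext (funext fun X => ?_) :
    s₀ ≫ Functor.whiskerRight ((Functor.const Cᵒᵖ).map g) F = 𝟙 _)).trans ?_
  · ext y
    exact Function.surjInv_eq hg y
  · rw [Category.id_comp]
    erw [Category.comp_id, sheafComposeIso_hom_fac]

/-- Constant sheaves preserve surjectivity on sections. -/
theorem surjective_app {B D : AddCommGrpCat.{u}} (g : B ⟶ D) (hg : Function.Surjective g) (U : C) :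
    Function.Surjective (((constantSheaf J AddCommGrpCat.{u}).map g).hom.app (op U)) := by
  obtain ⟨t, ht⟩ := exists_section J g hg
  exact fun y => ⟨t.app (op U) y, congr($(ht).app (op U) y)⟩

end Groth.L10.ConstSec

namespace Groth.L10.ConstSec

variable {C : Type u} [SmallCategory C] (J : GrothendieckTopology C)

/-- Maps out of the constant sheaf of integers lift along surjective maps of constant sheaves. -/
theorem surjective_hom {B D : AddCommGrpCat.{u}} (g : B ⟶ D) (hg : Function.Surjective g)
    (ψ : (constantSheaf J AddCommGrpCat.{u}).obj (AddCommGrpCat.of (ULift.{u} ℤ)) ⟶ (constantSheaf J AddCommGrpCat.{u}).obj D) :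
    ∃ φ : (constantSheaf J AddCommGrpCat.{u}).obj (AddCommGrpCat.of (ULift.{u} ℤ)) ⟶ (constantSheaf J AddCommGrpCat.{u}).obj B,
      φ ≫ (constantSheaf J AddCommGrpCat.{u}).map g = ψ := by
  obtain ⟨t, ht⟩ := exists_section J g hg
  let Z := AddCommGrpCat.of (ULift.{u} ℤ)
  let adj := sheafificationAdjunction J AddCommGrpCat.{u}
  let ψ' := adj.homEquiv _ _ ψ
  let x : ∀ X : Cᵒᵖ, ((constantSheaf J AddCommGrpCat.{u}).obj B).obj.obj X := fun X => t.app X (ψ'.app X ⟨1⟩)
  have hx : ∀ ⦃X Y : Cᵒᵖ⦄ (f : X ⟶ Y), ((constantSheaf J AddCommGrpCat.{u}).obj B).obj.map f (x X) = x Y := fun X Y f => by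
    refine (congr($(t.naturality f) (ψ'.app X ⟨1⟩))).symm.trans (congrArg (t.app Y) ?_)
    exact (congr($(ψ'.naturality f) (⟨1⟩ : ULift.{u} ℤ))).symm
  let φ' : (Functor.const Cᵒᵖ).obj Z ⟶ ((constantSheaf J AddCommGrpCat.{u}).obj B).obj :=
    { app := fun X => AddCommGrpCat.ofHom ((zmultiplesHom _ (x X)).comp AddEquiv.ulift.toAddMonoidHom)
      naturality := fun X Y f => AddCommGrpCat.hom_ext (AddMonoidHom.ext fun n => by
        refine Eq.trans ?_ (map_zsmul (((constantSheaf J AddCommGrpCat.{u}).obj B).obj.map f).hom n.down (x X)).symm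
        exact congrArg (n.down • ·) (hx f).symm) }
  refine ⟨(adj.homEquiv _ _).symm φ', (adj.homEquiv _ _).injective ?_⟩
  erw [adj.homEquiv_naturality_right, Equiv.apply_symm_apply]
  refine NatTrans.ext (funext fun X => AddCommGrpCat.hom_ext (AddMonoidHom.ext fun n => ?_))
  refine (map_zsmul (((constantSheaf J AddCommGrpCat.{u}).map g).hom.app X).hom n.down (x X)).trans ?_
  rw [show (((constantSheaf J AddCommGrpCat.{u}).map g).hom.app X).hom (x X) = ψ'.app X ⟨1⟩ from
    congr($(ht).app X (ψ'.app X ⟨1⟩))]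
  rw [← map_zsmul (ψ'.app X).hom]
  congr 1
  refine ULift.ext _ _ ?_
  simp

end Groth.L10.ConstSec
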