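import Groth.Agent.L10.Proper.Profinite
import Mathlib.GroupTheory.Archimedean
import Mathlib.CategoryTheory.Subobject.Limits
import Mathlib.Algebra.Group.ULift

/-! Subsheaves of the constant sheaf `ℤ` on an irreducible space. -/

universe u

open CategoryTheory CategoryTheory.Limits Opposite TopologicalSpace Topology

set_option backward.defeqAttrib.useBackward true
set_option backward.isDefEq.respectTransparency false
set_option autoImplicit false
namespace Groth.L10.ConstSub
open Groth.L10.Proper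

variable {X : TopCat.{u}}

/-- constant sections -/
noncomputable def c (A : Type u) [AddCommGroup A] (W : Opens X) : A →+ Sect (CohTop.const X A) W :=
  ((toSheafify (Opens.grothendieckTopology X) ((Functor.const _).obj (AddCommGrpCat.of A))).app (op W)).hom

theorem c_rs (A : Type u) [AddCommGroup A] {W W' : Opens X} (h : W' ≤ W) (a : A) :
    rs (CohTop.const X A) h (c A W a) = c A W' a :=
  (NatTrans.naturality_apply (toSheafify (Opens.grothendieckTopology X) ((Functor.const _).obj (AddCommGrpCat.of A)))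
    (homOfLE h).op a).symm

theorem c_injective (A : Type u) [AddCommGroup A] {W : Opens X} (x : X) (hx : x ∈ W) : Function.Injective (c A W) :=
  fun _ _ e => constPre_germ_injective A x hx (congrArg (germ (CohTop.const X A) x hx) e)

theorem c_surjective [IrreducibleSpace X] (A : Type u) [AddCommGroup A] {V : Opens X} (x₀ : X) (hx₀ : x₀ ∈ V)
    (t : Sect (CohTop.const X A) V) : ∃ a, c A V a = t := by
  let J := Opens.grothendieckTopology X
  let P : (Opens X)ᵒᵖ ⥤ AddCommGrpCat.{u} := (Functor.const _).obj (AddCommGrpCat.of A)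
  let M := CohTop.const X A
  have hloc : ∀ x, x ∈ V → ∃ (W : Opens X) (hW : W ≤ V) (a : A), x ∈ W ∧ c A W a = rs M hW t :=
    fun x hx => by
      have : Presheaf.IsLocallySurjective J (toSheafify J P) := inferInstance
      obtain ⟨W, f, ⟨a, ha⟩, hxW⟩ := Presheaf.imageSieve_mem J (toSheafify J P) t x hx
      exact ⟨W, f.le, a, hxW, ha⟩
  obtain ⟨W₀, hW₀, a, hx₀W, ha⟩ := hloc x₀ hx₀
  refine ⟨a, sect_ext M (U := V) _ _ fun x hx => ?_⟩
  obtain ⟨W, hW, b, hxW, hb⟩ := hloc x hx
  obtain ⟨y, hyW, hy₀⟩ := nonempty_preirreducible_inter W.isOpen W₀.isOpen ⟨x, hxW⟩ ⟨x₀, hx₀W⟩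
  have e : b = a := c_injective A y (show y ∈ W ⊓ W₀ from ⟨hyW, hy₀⟩) (by
    rw [← c_rs A (inf_le_left : W ⊓ W₀ ≤ W), hb, ← c_rs A (inf_le_right : W ⊓ W₀ ≤ W₀), ha]
    refine sect_ext M _ _ fun z hz => ?_
    rw [germ_rs, germ_rs, germ_rs, germ_rs])
  rw [← germ_rs M hW x hxW, c_rs, ← e, hb, germ_rs]

/-- Factorisation through a sectionwise injective map with larger image. -/
theorem exists_lift {Y : TopCat.{u}} {F G M : CohTop.Ab Y} (f : F ⟶ M) (g : G ⟶ M)
    (hg : ∀ W, Function.Injective (g.hom.app (op W)))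
    (h : ∀ W s, ∃ t, g.hom.app (op W) t = f.hom.app (op W) s) : ∃ j : F ⟶ G, j ≫ g = f := by
  choose t ht using h
  have hadd : ∀ W s s', t W (s + s') = t W s + t W s' := fun W s s' => hg W (by rw [map_add, ht, ht, ht, map_add])
  let j : F.obj ⟶ G.obj :=
    { app := fun W => AddCommGrpCat.ofHom (AddMonoidHom.mk' (t W.unop) (hadd W.unop))
      naturality := fun W W' i => by
        refine AddCommGrpCat.hom_ext (AddMonoidHom.ext fun s => hg W'.unop ?_)
        exact (ht _ _).trans ((NatTrans.naturality_apply f.hom i s).trans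
          ((congrArg (M.obj.map i) (ht _ s).symm).trans (NatTrans.naturality_apply g.hom i (t W.unop s)).symm)) }
  exact ⟨⟨j⟩, Sheaf.hom_ext (NatTrans.ext (funext fun W => AddCommGrpCat.hom_ext (AddMonoidHom.ext fun s => ht _ s)))⟩

theorem sub_of_const [IrreducibleSpace X] (H : CohTop.Ab X) (ι : H ⟶ CohTop.const X (ULift.{u} ℤ)) [Mono ι] :
    ∃ (U : Opens X) (d : ℤ), U ≠ ⊥ ∧
      imageSubobject ((CohTop.restrFunctor U).map ι) =
        imageSubobject ((CohTop.restrFunctor U).map (d • 𝟙 (CohTop.const X (ULift.{u} ℤ)))) := by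
  classical
  let A := ULift.{u} ℤ
  let M := CohTop.const X A
  have hι : ∀ W, Function.Injective (ι.hom.app (op W)) := fun W => by
    have h1 : Mono ι.hom := inferInstanceAs (Mono ((sheafToPresheaf _ _).map ι))
    have h2 : Mono (ι.hom.app (op W)) := inferInstance
    exact (AddCommGrpCat.mono_iff_injective _).1 h2
  have hres : ∀ {W W' : Opens X} (h : W' ≤ W) (s : Sect H W),
      ι.hom.app (op W') (rs H h s) = rs M h (ι.hom.app (op W) s) :=
    fun h s => NatTrans.naturality_apply ι.hom (homOfLE h).op s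
  let S : AddSubgroup ℤ :=
    { carrier := {k | ∃ (U : Opens X) (s : Sect H U), (U : Set X).Nonempty ∧ ι.hom.app (op U) s = c A U ⟨k⟩}
      zero_mem' := ⟨⊤, 0, Set.univ_nonempty, by rw [show (⟨0⟩ : A) = 0 from rfl, map_zero, map_zero]⟩
      add_mem' := by
        rintro a b ⟨U, s, hU, hs⟩ ⟨U', s', hU', hs'⟩
        refine ⟨U ⊓ U', rs H inf_le_left s + rs H inf_le_right s', nonempty_preirreducible_inter U.isOpen U'.isOpen hU hU', ?_⟩
        rw [map_add, hres, hres, hs, hs', c_rs, c_rs, ← map_add]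
        rfl
      neg_mem' := by
        rintro a ⟨U, s, hU, hs⟩
        exact ⟨U, -s, hU, by rw [map_neg, hs, ← map_neg]; rfl⟩ }
  obtain ⟨d, hd⟩ := Int.subgroup_cyclic S
  have hdS : d ∈ S := hd ▸ AddSubgroup.subset_closure (Set.mem_singleton d)
  obtain ⟨U, s₀, hU, hs₀⟩ := hdS
  refine ⟨U, d, fun h => hU.ne_empty (by rw [h]; rfl), ?_⟩
  have happ : ∀ (W : Opens X) (t : Sect M W), (d • 𝟙 M : M ⟶ M).hom.app (op W) t = d • t := fun W t => rfl
  have h1 : ∀ W, W ≤ U → ∀ t : Sect M W, ∃ s : Sect H W, ι.hom.app (op W) s = d • t := fun W hW t => by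
    by_cases hne : ∃ x, x ∈ W
    · obtain ⟨x, hx⟩ := hne
      obtain ⟨⟨k⟩, rfl⟩ := c_surjective A x hx t
      refine ⟨k • rs H hW s₀, ?_⟩
      rw [map_zsmul, hres, hs₀, c_rs, ← map_zsmul, ← map_zsmul]
      exact congrArg (c A W) (congrArg ULift.up (mul_comm k d))
    · exact ⟨0, sect_ext M _ _ fun x hx => (hne ⟨x, hx⟩).elim⟩
  have h2 : ∀ W, W ≤ U → ∀ s : Sect H W, ∃ t : Sect M W, d • t = ι.hom.app (op W) s := fun W _ s => by
    by_cases hne : ∃ x, x ∈ W
    · obtain ⟨x, hx⟩ := hne
      obtain ⟨⟨a⟩, ha⟩ := c_surjective A x hx (ι.hom.app (op W) s)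
      have haS : a ∈ S := ⟨W, s, ⟨x, hx⟩, ha.symm⟩
      rw [hd, AddSubgroup.mem_closure_singleton] at haS
      obtain ⟨k, hk⟩ := haS
      refine ⟨c A W ⟨k⟩, ?_⟩
      rw [← map_zsmul, ← ha]
      exact congrArg (c A W) (congrArg ULift.up (show d * k = a by rw [← hk, smul_eq_mul, mul_comm]))
    · exact ⟨0, sect_ext M _ _ fun x hx => (hne ⟨x, hx⟩).elim⟩
  let e := U.isOpenEmbedding.isOpenMap.functor
  have hle : ∀ W : Opens (TopCat.of U), e.obj W ≤ U := fun W => by
    rintro _ ⟨v, -, rfl⟩; exact v.2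
  have hιinj : ∀ W, Function.Injective (((CohTop.restrFunctor U).map ι).hom.app (op W)) := fun W => hι (e.obj W)
  obtain ⟨j, hj⟩ := exists_lift ((CohTop.restrFunctor U).map (d • 𝟙 M)) ((CohTop.restrFunctor U).map ι) hιinj
    fun W t => h1 (e.obj W) (hle W) t
  refine le_antisymm ?_ ?_
  · by_cases hd0 : d = 0
    · have hz : (CohTop.restrFunctor U).map ι = 0 := by
        refine Sheaf.hom_ext (NatTrans.ext (funext fun W => AddCommGrpCat.hom_ext (AddMonoidHom.ext fun s => ?_)))
        obtain ⟨t, ht⟩ := h2 (e.obj W.unop) (hle W.unop) s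
        exact ht.symm.trans (by rw [hd0, zero_smul]; rfl)
      rw [hz, imageSubobject_zero]
      exact bot_le
    · have hinj : ∀ W, Function.Injective (((CohTop.restrFunctor U).map (d • 𝟙 M)).hom.app (op W)) := fun W => by
        intro t t' htt
        by_cases hne : ∃ x, x ∈ e.obj W
        · obtain ⟨x, hx⟩ := hne
          obtain ⟨⟨a⟩, rfl⟩ := c_surjective A x hx t
          obtain ⟨⟨b⟩, rfl⟩ := c_surjective A x hx t'
          have h' : d • c A (e.obj W) ⟨a⟩ = d • c A (e.obj W) ⟨b⟩ := htt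
          rw [← map_zsmul, ← map_zsmul] at h'
          have h'' : d * a = d * b := congrArg ULift.down (c_injective A x hx h')
          rw [mul_left_cancel₀ hd0 h'']
        · exact sect_ext M (U := e.obj W) _ _ fun x hx => (hne ⟨x, hx⟩).elim
      obtain ⟨k, hk⟩ := exists_lift ((CohTop.restrFunctor U).map ι) ((CohTop.restrFunctor U).map (d • 𝟙 M)) hinj
        fun W s => h2 (e.obj W) (hle W) s
      rw [← hk]
      exact imageSubobject_comp_le _ _
  · rw [← hj]
    exact imageSubobject_comp_le _ _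

end Groth.L10.ConstSub
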