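import Mathlib.CategoryTheory.Triangulated.Pretriangulated

/-!
Coproducts of distinguished triangles.
-/

set_option autoImplicit false

universe w v u

open CategoryTheory CategoryTheory.Limits CategoryTheory.Pretriangulated

namespace Groth.L10.CoprodTriangle

variable {D : Type u} [Category.{v} D] [Preadditive D] [HasZeroObject D] [HasShift D ℤ]
  [∀ n : ℤ, (shiftFunctor D n).Additive] [Pretriangulated D] {ι : Type w}

/-- extension of a family along a shifted coproduct -/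
theorem exists_desc_shift (A : ι → D) [HasCoproduct A] {Z : D} (k : ∀ i, (A i)⟦(1 : ℤ)⟧ ⟶ Z) :
    ∃ h : (∐ A)⟦(1 : ℤ)⟧ ⟶ Z, ∀ i, (Sigma.ι A i)⟦(1 : ℤ)⟧' ≫ h = k i := by
  exact ⟨Cofan.IsColimit.desc (isColimitOfHasCoproductOfPreservesColimit (shiftFunctor D (1 : ℤ)) A) k,
    fun i => Cofan.IsColimit.fac (isColimitOfHasCoproductOfPreservesColimit (shiftFunctor D (1 : ℤ)) A) k i⟩

theorem hom_ext_shift (A : ι → D) [HasCoproduct A] {Z : D} (h h' : (∐ A)⟦(1 : ℤ)⟧ ⟶ Z)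
    (w : ∀ i, (Sigma.ι A i)⟦(1 : ℤ)⟧' ≫ h = (Sigma.ι A i)⟦(1 : ℤ)⟧' ≫ h') : h = h' :=
  Cofan.IsColimit.hom_ext (isColimitOfHasCoproductOfPreservesColimit (shiftFunctor D (1 : ℤ)) A) _ _ w

/-- the cone of a coproduct of maps is the coproduct of the cones -/
theorem nonempty_iso (T : ι → Triangle D) (hT : ∀ i, T i ∈ distTriang D)
    [HasCoproduct fun i => (T i).obj₁] [HasCoproduct fun i => (T i).obj₂] [HasCoproduct fun i => (T i).obj₃]
    (S : Triangle D) (hS : S ∈ distTriang D) (e₁ : (∐ fun i => (T i).obj₁) ≅ S.obj₁)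
    (e₂ : (∐ fun i => (T i).obj₂) ≅ S.obj₂)
    (w : ∀ i, Sigma.ι (fun i => (T i).obj₁) i ≫ e₁.hom ≫ S.mor₁ =
      (T i).mor₁ ≫ Sigma.ι (fun i => (T i).obj₂) i ≫ e₂.hom) :
    Nonempty ((∐ fun i => (T i).obj₃) ≅ S.obj₃) := by
  let ia := fun i => Sigma.ι (fun i => (T i).obj₁) i ≫ e₁.hom
  let ib := fun i => Sigma.ι (fun i => (T i).obj₂) i ≫ e₂.hom
  have hw : ∀ i, (T i).mor₁ ≫ ib i = ia i ≫ S.mor₁ := fun i => by simp only [ia, ib, Category.assoc, w]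
  choose ψ hψ₂ hψ₃ using fun i => complete_distinguished_triangle_morphism (T i) S (hT i) hS (ia i) (ib i) (hw i)
  let f : (∐ fun i => (T i).obj₃) ⟶ S.obj₃ := Sigma.desc ψ
  have hf : ∀ i, Sigma.ι (fun i => (T i).obj₃) i ≫ f = ψ i := fun i => Sigma.ι_desc _ _
  have inj : ∀ {Z : D} (g : S.obj₃ ⟶ Z), f ≫ g = 0 → g = 0 := by
    intro Z g hg
    have hi : ∀ i, ψ i ≫ g = 0 := fun i => by rw [← hf i, Category.assoc, hg, comp_zero]
    have h2 : e₂.hom ≫ S.mor₂ ≫ g = 0 := by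
      apply Sigma.hom_ext
      intro i
      rw [comp_zero, ← Category.assoc, ← Category.assoc (f := Sigma.ι (fun i => (T i).obj₂) i ≫ e₂.hom)]
      change (ib i ≫ S.mor₂) ≫ g = 0
      rw [← hψ₂ i, Category.assoc, hi i, comp_zero]
    obtain ⟨h, hh⟩ := Triangle.yoneda_exact₃ S hS g (by rwa [← cancel_epi e₂.hom, comp_zero])
    have hk : ∀ i, ∃ k, (ia i)⟦(1 : ℤ)⟧' ≫ h = (T i).mor₁⟦(1 : ℤ)⟧' ≫ k := fun i => by
      obtain ⟨k, hk⟩ := Triangle.yoneda_exact₃ (T i).rotate (rot_of_distTriang _ (hT i)) ((ia i)⟦(1 : ℤ)⟧' ≫ h)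
        (by
          change (T i).mor₃ ≫ (ia i)⟦(1 : ℤ)⟧' ≫ h = 0
          rw [← Category.assoc, hψ₃ i, Category.assoc, ← hh, hi i])
      exact ⟨-k, hk.trans ((Preadditive.neg_comp ((T i).mor₁⟦(1 : ℤ)⟧') k).trans (Preadditive.comp_neg _ k).symm)⟩
    choose k hk using hk
    obtain ⟨k', hk'⟩ := exists_desc_shift (fun i => (T i).obj₂) k
    have : e₁.hom⟦(1 : ℤ)⟧' ≫ h = e₁.hom⟦(1 : ℤ)⟧' ≫ S.mor₁⟦(1 : ℤ)⟧' ≫ e₂.inv⟦(1 : ℤ)⟧' ≫ k' := by
      refine hom_ext_shift _ _ _ fun i => ?_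
      have e : ia i ≫ S.mor₁ ≫ e₂.inv = (T i).mor₁ ≫ Sigma.ι (fun i => (T i).obj₂) i := by
        rw [← Category.assoc, ← hw i]; simp [ib]
      rw [← Category.assoc, ← Functor.map_comp, ← Category.assoc, ← Functor.map_comp]
      change (ia i)⟦(1 : ℤ)⟧' ≫ h = _
      rw [hk i, ← hk' i, ← Category.assoc ((T i).mor₁⟦(1 : ℤ)⟧'), ← Functor.map_comp, ← e, Functor.map_comp,
        Functor.map_comp, Category.assoc, Category.assoc]
      simp only [Functor.map_comp, Category.assoc]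
    rw [cancel_epi] at this
    rw [hh, this, comp_distTriang_mor_zero₃₁_assoc S hS, zero_comp]
  have surj : ∀ {Z : D} (g : (∐ fun i => (T i).obj₃) ⟶ Z), ∃ g', f ≫ g' = g := by
    intro Z g
    let gi := fun i => Sigma.ι (fun i => (T i).obj₃) i ≫ g
    let b : (∐ fun i => (T i).obj₂) ⟶ Z := Sigma.desc fun i => (T i).mor₂ ≫ gi i
    obtain ⟨g₀, hg₀⟩ := Triangle.yoneda_exact₂ S hS (e₂.inv ≫ b) (by
      rw [← cancel_epi e₁.hom, comp_zero]
      apply Sigma.hom_ext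
      intro i
      rw [comp_zero, ← Category.assoc]
      change ia i ≫ S.mor₁ ≫ e₂.inv ≫ b = 0
      rw [← reassoc_of% hw i]
      simp [ib, b, comp_distTriang_mor_zero₁₂_assoc (T i) (hT i)])
    have hh : ∀ i, ∃ h, gi i - ψ i ≫ g₀ = (T i).mor₃ ≫ h := fun i =>
      Triangle.yoneda_exact₃ (T i) (hT i) _ (by
        rw [Preadditive.comp_sub, reassoc_of% hψ₂ i, ← hg₀]
        simp [ib, b])
    choose h hh using hh
    obtain ⟨h', hh'⟩ := exists_desc_shift (fun i => (T i).obj₁) h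
    refine ⟨g₀ + S.mor₃ ≫ e₁.inv⟦(1 : ℤ)⟧' ≫ h', Sigma.hom_ext _ _ fun i => ?_⟩
    rw [← Category.assoc, hf i, Preadditive.comp_add, ← Category.assoc (ψ i), ← hψ₃ i, Category.assoc,
      ← Category.assoc ((ia i)⟦(1 : ℤ)⟧'), ← Functor.map_comp]
    simp only [ia, Category.assoc, Iso.hom_inv_id, Category.comp_id, hh', ← hh, gi]
    abel
  obtain ⟨g, hg⟩ := surj (𝟙 _)
  refine ⟨⟨f, g, hg, ?_⟩⟩
  refine sub_eq_zero.1 (inj _ ?_)
  rw [Preadditive.comp_sub, ← Category.assoc, hg, Category.id_comp, Category.comp_id, sub_self]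

end Groth.L10.CoprodTriangle
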