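import Groth.Prelude.Def_DeltaF
import Groth.Agent.L10.DeltaUniv
import Groth.Agent.L10.RDer.Horseshoe
import Mathlib.AlgebraicTopology.AlternatingFaceMapComplex
import Mathlib.Algebra.Homology.ShortComplex.ExactFunctor
import Mathlib.Algebra.Homology.HomologySequenceLemmas
import Mathlib.CategoryTheory.Abelian.RightDerived
import Mathlib.CategoryTheory.Abelian.FunctorCategory
import Mathlib.CategoryTheory.Limits.FunctorCategory.EpiMono
import Mathlib.Algebra.Homology.HomologicalComplexAbelian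

/-! The right derived functors of the limit over the simplex category are computed by the alternating
coface complex. -/

set_option autoImplicit false
set_option backward.defeqAttrib.useBackward true
set_option backward.isDefEq.respectTransparency false

universe w v u

open CategoryTheory CategoryTheory.Limits Simplicial

namespace Groth.L10.CosimpLim

variable {A : Type u} [Category.{v} A] [Abelian A]

/-- The complex functor. -/
noncomputable abbrev cx : (SimplexCategory ⥤ A) ⥤ CochainComplex A ℕ :=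
  AlgebraicTopology.alternatingCofaceMapComplex A

/-- The differential, between the values of `F`. -/
noncomputable def dd (F : SimplexCategory ⥤ A) (n : ℕ) : F.obj ⦋n⦌ ⟶ F.obj ⦋n + 1⦌ := (cx.obj F).d n (n + 1)

theorem cx_d (F : SimplexCategory ⥤ A) (n : ℕ) :
    dd F n = ∑ i : Fin (n + 2), (-1 : ℤ) ^ (i : ℕ) • F.map (SimplexCategory.δ i) := by
  change (AlgebraicTopology.AlternatingCofaceMapComplex.obj F).d n (n + 1) = _
  exact (CochainComplex.of_d (fun n => F.obj ⦋n⦌) _  n).trans rfl

instance : (cx (A := A)).Additive where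
  map_add {F G φ ψ} := by ext n : 1; rfl

theorem cx_shortExact {S : ShortComplex (SimplexCategory ⥤ A)} (hS : S.ShortExact) :
    (S.map cx).ShortExact :=
  HomologicalComplex.shortExact_of_degreewise_shortExact _ fun n =>
    hS.map_of_exact ((evaluation SimplexCategory A).obj ⦋n⦌)

/-- The homology functors. -/
noncomputable abbrev H (n : ℕ) : (SimplexCategory ⥤ A) ⥤ A :=
  cx ⋙ HomologicalComplex.homologyFunctor _ _ n

/-- The delta functor. -/
noncomputable def delta : DeltaF.CohDeltaFunctor (SimplexCategory ⥤ A) A ℕ where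
  F n := H n
  additive _ := inferInstance
  δ S hS n₀ n₁ h := (cx_shortExact hS).δ n₀ n₁ h
  δ_natural hS hS' φ n₀ n₁ h :=
    (HomologicalComplex.HomologySequence.δ_naturality (cx.mapShortComplex.map φ)
      (cx_shortExact hS) (cx_shortExact hS') n₀ n₁ h).symm
  exact₂ S hS n := (cx_shortExact hS).homology_exact₂ n
  comp_δ S hS n₀ n₁ h := (cx_shortExact hS).comp_δ n₀ n₁ h
  exact₃ S hS n₀ n₁ h := (cx_shortExact hS).homology_exact₃ n₀ n₁ h
  δ_comp S hS n₀ n₁ h := (cx_shortExact hS).δ_comp n₀ n₁ h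
  exact₁ S hS n₀ n₁ h := (cx_shortExact hS).homology_exact₁ n₀ n₁ h

theorem preservesFiniteLimits_H0 : PreservesFiniteLimits (H (A := A) 0) :=
  ((Functor.preservesFiniteLimits_tfae (H (A := A) 0)).out 0 3 rfl rfl).mp fun S hS => by
    refine ⟨(cx_shortExact hS).homology_exact₂ 0, ?_⟩
    have := (cx_shortExact hS).mono_f
    haveI : Mono ((S.map cx).f.f 0) := inferInstance
    exact HomologicalComplex.mono_homologyMap_of_mono_of_not_rel (S.map cx).f 0 fun j => by simp

/-- Prepending `0`. -/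
def consMap {n : SimplexCategory} {m : ℕ} (f : ⦋m⦌ ⟶ n) : ⦋m + 1⦌ ⟶ n :=
  SimplexCategory.Hom.mk ⟨Fin.cases 0 f.toOrderHom, fun i j h => by
    induction i using Fin.cases with
    | zero => simp
    | succ i =>
      induction j using Fin.cases with
      | zero => simp [Fin.le_iff_val_le_val] at h
      | succ j => simpa using f.toOrderHom.monotone (Fin.succ_le_succ_iff.1 h)⟩

theorem δ_zero_consMap {n : SimplexCategory} {m : ℕ} (f : ⦋m⦌ ⟶ n) :
    SimplexCategory.δ 0 ≫ consMap f = f := by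
  ext i : 3
  simp [consMap, SimplexCategory.δ, SimplexCategory.comp_toOrderHom]

theorem δ_succ_consMap {n : SimplexCategory} {m : ℕ} (i : Fin (m + 2)) (f : ⦋m + 1⦌ ⟶ n) :
    SimplexCategory.δ i.succ ≫ consMap f = consMap (SimplexCategory.δ i ≫ f) := by
  ext j : 3
  induction j using Fin.cases with
  | zero => simp [consMap, SimplexCategory.δ, SimplexCategory.comp_toOrderHom, Fin.succ_succAbove_zero]
  | succ j => simp [consMap, SimplexCategory.δ, SimplexCategory.comp_toOrderHom, Fin.succ_succAbove_succ]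

variable [HasLimitsOfSize.{0, 0} A]

/-- The embedding into a cofree object. -/
noncomputable def cofree (F : SimplexCategory ⥤ A) : SimplexCategory ⥤ A where
  obj d := ∏ᶜ fun p : (m : ℕ) × (d ⟶ ⦋m⦌) => F.obj ⦋p.1⦌
  map {d e} g := Pi.lift fun p => Pi.π _ (⟨p.1, g ≫ p.2⟩ : (m : ℕ) × (d ⟶ ⦋m⦌))
  map_id d := by
    refine Pi.hom_ext _ _ fun p => ?_
    simp only [Pi.lift_π, Category.id_comp]
    rw [Category.id_comp]
  map_comp {d e k} g h := by
    refine Pi.hom_ext _ _ fun p => ?_
    simp only [Pi.lift_π, Category.assoc]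
    rw [Category.assoc]

/-- The unit. -/
noncomputable def toCofree (F : SimplexCategory ⥤ A) : F ⟶ cofree F where
  app d := Pi.lift fun p => F.map p.2
  naturality {d e} g := by
    refine Pi.hom_ext _ _ fun p => ?_
    simp only [cofree, Category.assoc, Pi.lift_π, Functor.map_comp]

instance (F : SimplexCategory ⥤ A) : Mono (toCofree F) := by
  have : ∀ d, Mono ((toCofree F).app d) := fun d => by
    have h : (toCofree F).app d ≫ Pi.π _ (⟨d.len, eqToHom (SimplexCategory.mk_len d).symm⟩ : (m : ℕ) × (d ⟶ ⦋m⦌)) =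
        F.map (eqToHom (SimplexCategory.mk_len d).symm) := Pi.lift_π _ _
    exact mono_of_mono_fac h
  exact NatTrans.mono_of_mono_app _

/-- The contraction. -/
noncomputable def σ (F : SimplexCategory ⥤ A) (n : ℕ) : (cofree F).obj ⦋n + 1⦌ ⟶ (cofree F).obj ⦋n⦌ :=
  Pi.lift fun p => Pi.π _ (⟨p.1, consMap p.2⟩ : (m : ℕ) × (⦋n + 1⦌ ⟶ ⦋m⦌))

theorem δ_zero_σ (F : SimplexCategory ⥤ A) (n : ℕ) :
    (cofree F).map (SimplexCategory.δ 0) ≫ σ F n = 𝟙 _ := by
  refine Pi.hom_ext _ _ fun p => ?_
  simp only [cofree, σ, Category.assoc, Pi.lift_π, Category.id_comp]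
  rw [δ_zero_consMap]

theorem δ_succ_σ (F : SimplexCategory ⥤ A) (n : ℕ) (i : Fin (n + 2)) :
    (cofree F).map (SimplexCategory.δ i.succ) ≫ σ F (n + 1) = σ F n ≫ (cofree F).map (SimplexCategory.δ i) := by
  refine Pi.hom_ext _ _ fun p => ?_
  simp only [cofree, σ, Category.assoc, Pi.lift_π]
  rw [δ_succ_consMap]

theorem homotopy (F : SimplexCategory ⥤ A) (n : ℕ) :
    dd (cofree F) (n + 1) ≫ σ F (n + 1) + σ F n ≫ dd (cofree F) n = 𝟙 _ := by
  have hA : dd (cofree F) (n + 1) ≫ σ F (n + 1) =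
      ∑ i : Fin (n + 3), ((-1 : ℤ) ^ (i : ℕ) • ((cofree F).map (SimplexCategory.δ i) ≫ σ F (n + 1))) := by
    rw [cx_d, Preadditive.sum_comp]
    exact Finset.sum_congr rfl fun i _ => Preadditive.zsmul_comp _ _ _
  have hB : σ F n ≫ dd (cofree F) n =
      ∑ i : Fin (n + 2), ((-1 : ℤ) ^ (i : ℕ) • (σ F n ≫ (cofree F).map (SimplexCategory.δ i))) := by
    rw [cx_d, Preadditive.comp_sum]
    exact Finset.sum_congr rfl fun i _ => Preadditive.comp_zsmul _ _ _
  rw [hA, hB, Fin.sum_univ_succ]
  simp only [Fin.val_zero, pow_zero, one_smul, δ_zero_σ, Fin.val_succ, pow_succ, δ_succ_σ, mul_neg, mul_one,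
    neg_smul, Finset.sum_neg_distrib]
  exact neg_add_cancel_right _ _

theorem isZero_H_cofree (F : SimplexCategory ⥤ A) (n : ℕ) : IsZero ((H (n + 1)).obj (cofree F)) := by
  let K := cx.obj (cofree F)
  refine IsZero.of_epi_eq_zero (K.homologyπ (n + 1)) ?_
  have h : K.iCycles (n + 1) = ((K.iCycles (n + 1) ≫ σ F n) ≫ K.toCycles n (n + 1)) ≫ K.iCycles (n + 1) := by
    rw [Category.assoc, HomologicalComplex.toCycles_i, Category.assoc]
    conv_lhs => rw [← Category.comp_id (K.iCycles (n + 1))]; erw [← homotopy F n]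
    erw [Preadditive.comp_add, HomologicalComplex.iCycles_d_assoc, zero_comp, zero_add]
    rfl
  have h2 : 𝟙 (K.cycles (n + 1)) = (K.iCycles (n + 1) ≫ σ F n) ≫ K.toCycles n (n + 1) := by
    rw [← cancel_mono (K.iCycles (n + 1)), Category.id_comp]
    exact h
  rw [← Category.id_comp (K.homologyπ (n + 1)), h2, Category.assoc, HomologicalComplex.toCycles_comp_homologyπ,
    comp_zero]

theorem isZero_H_injective (F : SimplexCategory ⥤ A) [Injective F] (n : ℕ) : IsZero ((H (n + 1)).obj F) := by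
  have h : (H (n + 1)).map (toCofree F) ≫ (H (n + 1)).map (Injective.factorThru (𝟙 F) (toCofree F)) = 𝟙 _ := by
    rw [← Functor.map_comp, Injective.comp_factorThru]
    exact CategoryTheory.Functor.map_id _ _
  rw [IsZero.iff_id_eq_zero, ← h, (isZero_H_cofree F n).eq_of_tgt ((H (n + 1)).map (toCofree F)) 0, zero_comp]

theorem toH0_cond (F : SimplexCategory ⥤ A) :
    limit.π F ⦋0⦌ ≫ (cx.obj F).d 0 1 = 0 := by
  change limit.π F ⦋0⦌ ≫ dd F 0 = 0
  rw [cx_d, Fin.sum_univ_two]
  simp [Preadditive.comp_sub, ← sub_eq_add_neg, limit.w]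

/-- The augmentation of the limit. -/
noncomputable def toH0 : (lim : (SimplexCategory ⥤ A) ⥤ A) ⟶ H 0 where
  app F := (cx.obj F).liftCycles (limit.π F ⦋0⦌) 1 (by simp) (toH0_cond F) ≫ (cx.obj F).homologyπ 0
  naturality {F G} φ := by
    simp only [Functor.comp_map, HomologicalComplex.homologyFunctor_map, Category.assoc,
      HomologicalComplex.homologyπ_naturality]
    rw [← Category.assoc, ← Category.assoc]
    congr 1
    rw [← cancel_mono ((cx.obj G).iCycles 0)]
    simp only [Category.assoc, HomologicalComplex.liftCycles_i, HomologicalComplex.cyclesMap_i,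
      HomologicalComplex.liftCycles_i_assoc]
    simp [AlgebraicTopology.alternatingCofaceMapComplex]

theorem vertex_eq (F : SimplexCategory ⥤ A) {W : A} (k : W ⟶ F.obj ⦋0⦌)
    (hk : k ≫ F.map (SimplexCategory.δ 0) = k ≫ F.map (SimplexCategory.δ (1 : Fin 2))) {n : ℕ} (i j : Fin (n + 1)) :
    k ≫ F.map (SimplexCategory.const ⦋0⦌ ⦋n⦌ i) = k ≫ F.map (SimplexCategory.const ⦋0⦌ ⦋n⦌ j) := by
  wlog h : i ≤ j generalizing i j
  · exact (this j i (le_of_not_ge h)).symm
  have e1 : SimplexCategory.δ (1 : Fin 2) ≫ SimplexCategory.mkOfLe i j h = SimplexCategory.const ⦋0⦌ ⦋n⦌ i := by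
    ext x : 3
    fin_cases x
    rfl
  have e0 : SimplexCategory.δ (0 : Fin 2) ≫ SimplexCategory.mkOfLe i j h = SimplexCategory.const ⦋0⦌ ⦋n⦌ j := by
    ext x : 3
    fin_cases x
    rfl
  rw [← e1, ← e0, F.map_comp, F.map_comp, ← Category.assoc, ← Category.assoc, hk]

theorem isIso_toH0_app (F : SimplexCategory ⥤ A) : IsIso ((toH0 (A := A)).app F) := by
  let K := cx.obj F
  have hk : K.iCycles 0 ≫ F.map (SimplexCategory.δ 0) = K.iCycles 0 ≫ F.map (SimplexCategory.δ (1 : Fin 2)) := by
    have h : K.iCycles 0 ≫ dd F 0 = 0 := HomologicalComplex.iCycles_d K 0 (0 + 1)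
    rw [cx_d, Fin.sum_univ_two] at h
    simp only [Fin.val_zero, pow_zero, one_smul, Fin.val_one, pow_one, neg_smul, Preadditive.comp_add,
      Preadditive.comp_neg, ← sub_eq_add_neg] at h
    rw [Preadditive.comp_sub, sub_eq_zero] at h
    exact h
  let c : Cone F :=
    { pt := K.cycles 0
      π :=
        { app := fun d => K.iCycles 0 ≫ F.map (SimplexCategory.const ⦋0⦌ d 0)
          naturality := fun d e g => by
            obtain ⟨m, rfl⟩ : ∃ m, d = ⦋m⦌ := ⟨d.len, (SimplexCategory.mk_len d).symm⟩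
            obtain ⟨n, rfl⟩ : ∃ n, e = ⦋n⦌ := ⟨e.len, (SimplexCategory.mk_len e).symm⟩
            have hg : SimplexCategory.const ⦋0⦌ ⦋m⦌ 0 ≫ g = SimplexCategory.const ⦋0⦌ ⦋n⦌ (g.toOrderHom 0) :=
              SimplexCategory.const_comp _ _ _
            simp only [Functor.const_obj_map, Category.id_comp, Category.assoc, ← Functor.map_comp]
            rw [hg]
            exact (Category.id_comp _).trans (vertex_eq F _ hk _ _) } }
  have h1 : (cx.obj F).liftCycles (limit.π F ⦋0⦌) 1 (by simp) (toH0_cond F) ≫ limit.lift F c = 𝟙 _ := by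
    refine limit.hom_ext fun d => ?_
    simp only [c, Category.assoc, limit.lift_π, Category.id_comp]
    erw [HomologicalComplex.liftCycles_i_assoc]
    exact limit.w F _
  have h2 : limit.lift F c ≫ (cx.obj F).liftCycles (limit.π F ⦋0⦌) 1 (by simp) (toH0_cond F) = 𝟙 _ := by
    rw [← cancel_mono ((cx.obj F).iCycles 0)]
    simp only [Category.assoc, HomologicalComplex.liftCycles_i, Category.id_comp, limit.lift_π, c]
    rw [show SimplexCategory.const ⦋0⦌ ⦋0⦌ 0 = 𝟙 _ from by ext x : 3; fin_cases x; rfl, F.map_id]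
    exact Category.comp_id _
  have : IsIso ((cx.obj F).liftCycles (limit.π F ⦋0⦌) 1 (by simp) (toH0_cond F)) := ⟨_, h1, h2⟩
  have : IsIso ((cx.obj F).homologyπ 0) := (cx.obj F).isIso_homologyπ _ 0 rfl (by simp)
  exact IsIso.comp_isIso

theorem nonempty_iso [EnoughInjectives (SimplexCategory ⥤ A)]
    [(lim : (SimplexCategory ⥤ A) ⥤ A).Additive] (F : SimplexCategory ⥤ A) (n : ℕ) :
    Nonempty (((lim : (SimplexCategory ⥤ A) ⥤ A).rightDerived n).obj F ≅ (H n).obj F) := by
  haveI := preservesFiniteLimits_H0 (A := A)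
  have : ∀ F, IsIso ((toH0 (A := A)).app F) := isIso_toH0_app
  have : IsIso (toH0 (A := A)) := NatIso.isIso_of_isIso_app _
  let Δ : RDer.DerivedLES (H (A := A) 0) := Groth.L10.RDerSES.mkLES (H (A := A) 0)
  have hΔ : Δ.toCohDeltaFunctor.IsUniversal := by
    refine Groth.L10.DeltaUniv.s6773 fun m X => ?_
    exact ⟨_, Injective.ι X, inferInstance,
      (Functor.isZero_rightDerived_obj_injective_succ (H (A := A) 0) m _).eq_of_tgt _ _⟩
  have hT : (delta (A := A)).IsEffaceable := fun m X =>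
    ⟨_, Injective.ι X, inferInstance, (isZero_H_injective _ m).eq_of_tgt _ _⟩
  obtain ⟨φ, -, -⟩ := Groth.L10.DeltaUniv.s6774 (delta (A := A)) Δ.toCohDeltaFunctor
    (Groth.L10.DeltaUniv.s6773 hT) hΔ (H (A := A) 0).rightDerivedZeroIsoSelf.symm
  have : IsIso (NatTrans.rightDerived (toH0 (A := A)) n) :=
    ⟨NatTrans.rightDerived (inv (toH0 (A := A))) n,
      by rw [← NatTrans.rightDerived_comp, IsIso.hom_inv_id, NatTrans.rightDerived_id],
      by rw [← NatTrans.rightDerived_comp, IsIso.inv_hom_id, NatTrans.rightDerived_id]⟩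
  refine ⟨asIso ((NatTrans.rightDerived (toH0 (A := A)) n).app F) ≪≫ ?_⟩
  exact { hom := (φ.inv.app n).app F
          inv := (φ.hom.app n).app F
          hom_inv_id := congrArg (fun f => (DeltaF.CohDeltaFunctor.Hom.app f n).app F) φ.inv_hom_id
          inv_hom_id := congrArg (fun f => (DeltaF.CohDeltaFunctor.Hom.app f n).app F) φ.hom_inv_id }

end Groth.L10.CosimpLim
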