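import Mathlib.Algebra.Homology.DerivedCategory.ExactFunctor
import Mathlib.CategoryTheory.Functor.Derived.LeftDerived

/-! Left derived functors given on cochain complexes agree with those given on the homotopy category. -/

universe w w' v v' u u'

open CategoryTheory CategoryTheory.Limits

set_option backward.defeqAttrib.useBackward true
set_option backward.isDefEq.respectTransparency false
namespace Groth.L10.DerivedLeftCx

variable {A : Type u} [Category.{v} A] [Abelian A] [HasDerivedCategory.{w} A]
  {B : Type u'} [Category.{v'} B] [Abelian B] [HasDerivedCategory.{w'} B]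
  (G : A ⥤ B) [G.Additive] {R : DerivedCategory A ⥤ DerivedCategory B}

local notation "up" => ComplexShape.up ℤ

/-- The transformation on the homotopy category attached to one on complexes. -/
noncomputable def toHtpy (α : DerivedCategory.Q ⋙ R ⟶ G.mapHomologicalComplex up ⋙ DerivedCategory.Q) :
    DerivedCategory.Qh ⋙ R ⟶ G.mapHomotopyCategory up ⋙ DerivedCategory.Qh where
  app X := R.map ((DerivedCategory.quotientCompQhIso A).hom.app X.as) ≫ α.app X.as ≫
    (DerivedCategory.quotientCompQhIso B).inv.app ((G.mapHomologicalComplex up).obj X.as)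
  naturality := by
    intro X Y φ
    obtain ⟨φ, rfl⟩ := (HomotopyCategory.quotient A up).map_surjective (X := X.as) (Y := Y.as) φ
    have h1 := (DerivedCategory.quotientCompQhIso B).inv.naturality ((G.mapHomologicalComplex up).map φ)
    have h2 := α.naturality φ
    have h3 := (DerivedCategory.quotientCompQhIso A).hom.naturality φ
    simp only [Functor.comp_map, Functor.comp_obj, Category.assoc] at h1 h2 h3 ⊢
    change _ = _ ≫ _ ≫ _ ≫ DerivedCategory.Qh.map ((HomotopyCategory.quotient B up).map ((G.mapHomologicalComplex up).map φ))
    rw [← h1, ← reassoc_of% h2]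
    erw [← R.map_comp_assoc, ← R.map_comp_assoc, h3]

/-- The transformation on complexes attached to one on the homotopy category. -/
noncomputable def toCx (β : DerivedCategory.Qh ⋙ R ⟶ G.mapHomotopyCategory up ⋙ DerivedCategory.Qh) :
    DerivedCategory.Q ⋙ R ⟶ G.mapHomologicalComplex up ⋙ DerivedCategory.Q where
  app K := R.map ((DerivedCategory.quotientCompQhIso A).inv.app K) ≫ β.app ((HomotopyCategory.quotient A up).obj K) ≫
    (DerivedCategory.quotientCompQhIso B).hom.app ((G.mapHomologicalComplex up).obj K)
  naturality := by
    intro K L φ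
    have h1 := (DerivedCategory.quotientCompQhIso B).hom.naturality ((G.mapHomologicalComplex up).map φ)
    have h2 := β.naturality ((HomotopyCategory.quotient A up).map φ)
    have h3 := (DerivedCategory.quotientCompQhIso A).inv.naturality φ
    simp only [Functor.comp_map, Functor.comp_obj, Category.assoc] at h1 h2 h3 ⊢
    rw [← h1]
    erw [← reassoc_of% h2]
    erw [← R.map_comp_assoc, ← R.map_comp_assoc, h3]

variable (α : DerivedCategory.Q ⋙ R ⟶ G.mapHomologicalComplex up ⋙ DerivedCategory.Q)
  [R.IsLeftDerivedFunctor α (HomologicalComplex.quasiIso A up)]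
  {R' : DerivedCategory A ⥤ DerivedCategory B}
  (β : DerivedCategory.Qh ⋙ R' ⟶ G.mapHomotopyCategory up ⋙ DerivedCategory.Qh)
  [R'.IsLeftDerivedFunctor β (HomotopyCategory.quasiIso A up)]

/-- Left derived functors defined from complexes and from the homotopy category agree. -/
noncomputable def isoDerived : R ≅ R' where
  hom := R'.leftDerivedLift β (HomotopyCategory.quasiIso A up) R (toHtpy G α)
  inv := R.leftDerivedLift α (HomologicalComplex.quasiIso A up) R' (toCx G β)
  hom_inv_id := R.leftDerived_ext α (HomologicalComplex.quasiIso A up) _ _ _ (by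
    ext K
    have h1 := R.leftDerived_fac_app α (HomologicalComplex.quasiIso A up) R' (toCx G β) K
    have h2 := R'.leftDerived_fac_app β (HomotopyCategory.quasiIso A up) R (toHtpy G α) ((HomotopyCategory.quotient A up).obj K)
    simp only [NatTrans.comp_app, Functor.whiskerLeft_app, NatTrans.id_app, Category.assoc, h1]
    simp only [toCx]
    erw [← NatTrans.naturality_assoc, reassoc_of% h2]
    simp only [toHtpy, Category.assoc]
    erw [← R.map_comp_assoc, Iso.inv_hom_id_app, R.map_id, Category.id_comp, Iso.inv_hom_id_app, Category.comp_id, Category.id_comp]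
    rfl)
  inv_hom_id := R'.leftDerived_ext β (HomotopyCategory.quasiIso A up) _ _ _ (by
    ext X
    have h1 := R'.leftDerived_fac_app β (HomotopyCategory.quasiIso A up) R (toHtpy G α) X
    have h2 := R.leftDerived_fac_app α (HomologicalComplex.quasiIso A up) R' (toCx G β) X.as
    simp only [NatTrans.comp_app, Functor.whiskerLeft_app, NatTrans.id_app, Category.assoc, h1]
    simp only [toHtpy]
    erw [← NatTrans.naturality_assoc, reassoc_of% h2]
    simp only [toCx, Category.assoc]
    erw [← R'.map_comp_assoc, Iso.hom_inv_id_app, R'.map_id, Category.id_comp, Iso.hom_inv_id_app, Category.comp_id, Category.id_comp]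
    rfl)

end Groth.L10.DerivedLeftCx
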