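import Groth.Agent.L10.DerivedAdj

/-! Right derived functors given on cochain complexes agree with those given on the homotopy category;
derived adjunction in that form. -/

universe w w' v v' u u'

open CategoryTheory CategoryTheory.Limits

set_option backward.defeqAttrib.useBackward true
set_option backward.isDefEq.respectTransparency false
namespace Groth.L10.DerivedAdj

variable {A : Type u} [Category.{v} A] [Abelian A] [HasDerivedCategory.{w} A]
  {B : Type u'} [Category.{v'} B] [Abelian B] [HasDerivedCategory.{w'} B]
  (G : A ⥤ B) [G.Additive] {R : DerivedCategory A ⥤ DerivedCategory B}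

local notation "up" => ComplexShape.up ℤ

/-- The transformation on the homotopy category attached to one on complexes. -/
noncomputable def toHtpy (α : G.mapHomologicalComplex up ⋙ DerivedCategory.Q ⟶ DerivedCategory.Q ⋙ R) :
    G.mapHomotopyCategory up ⋙ DerivedCategory.Qh ⟶ DerivedCategory.Qh ⋙ R where
  app X := (DerivedCategory.quotientCompQhIso B).hom.app ((G.mapHomologicalComplex up).obj X.as) ≫
    α.app X.as ≫ R.map ((DerivedCategory.quotientCompQhIso A).inv.app X.as)
  naturality := by
    intro X Y φ
    obtain ⟨φ, rfl⟩ := (HomotopyCategory.quotient A up).map_surjective (X := X.as) (Y := Y.as) φ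
    have h1 := (DerivedCategory.quotientCompQhIso B).hom.naturality ((G.mapHomologicalComplex up).map φ)
    have h2 := α.naturality φ
    have h3 := (DerivedCategory.quotientCompQhIso A).inv.naturality φ
    simp only [Functor.comp_map, Functor.comp_obj, Category.assoc] at h1 h2 h3 ⊢
    change DerivedCategory.Qh.map ((HomotopyCategory.quotient B up).map ((G.mapHomologicalComplex up).map φ)) ≫ _ = _
    rw [reassoc_of% h1, reassoc_of% h2]
    erw [← R.map_comp, ← R.map_comp, h3]

/-- The transformation on complexes attached to one on the homotopy category. -/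
noncomputable def toCx (β : G.mapHomotopyCategory up ⋙ DerivedCategory.Qh ⟶ DerivedCategory.Qh ⋙ R) :
    G.mapHomologicalComplex up ⋙ DerivedCategory.Q ⟶ DerivedCategory.Q ⋙ R where
  app K := (DerivedCategory.quotientCompQhIso B).inv.app ((G.mapHomologicalComplex up).obj K) ≫
    β.app ((HomotopyCategory.quotient A up).obj K) ≫ R.map ((DerivedCategory.quotientCompQhIso A).hom.app K)
  naturality := by
    intro K L φ
    have h1 := (DerivedCategory.quotientCompQhIso B).inv.naturality ((G.mapHomologicalComplex up).map φ)
    have h2 := β.naturality ((HomotopyCategory.quotient A up).map φ)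
    have h3 := (DerivedCategory.quotientCompQhIso A).hom.naturality φ
    simp only [Functor.comp_map, Functor.comp_obj, Category.assoc] at h1 h2 h3 ⊢
    rw [reassoc_of% h1]
    erw [reassoc_of% h2]
    erw [← R.map_comp, ← R.map_comp, h3]

variable (α : G.mapHomologicalComplex up ⋙ DerivedCategory.Q ⟶ DerivedCategory.Q ⋙ R)
  [R.IsRightDerivedFunctor α (HomologicalComplex.quasiIso A up)]
  {R' : DerivedCategory A ⥤ DerivedCategory B}
  (β : G.mapHomotopyCategory up ⋙ DerivedCategory.Qh ⟶ DerivedCategory.Qh ⋙ R')
  [R'.IsRightDerivedFunctor β (HomotopyCategory.quasiIso A up)]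

/-- Derived functors defined from complexes and from the homotopy category agree. -/
noncomputable def isoDerived : R' ≅ R where
  hom := R'.rightDerivedDesc β (HomotopyCategory.quasiIso A up) R (toHtpy G α)
  inv := R.rightDerivedDesc α (HomologicalComplex.quasiIso A up) R' (toCx G β)
  hom_inv_id := R'.rightDerived_ext β (HomotopyCategory.quasiIso A up) _ _ _ (by
    ext X
    have h1 := R'.rightDerived_fac_app β (HomotopyCategory.quasiIso A up) R (toHtpy G α) X
    have h2 := R.rightDerived_fac_app α (HomologicalComplex.quasiIso A up) R' (toCx G β) X.as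
    simp only [NatTrans.comp_app, Functor.whiskerLeft_app, NatTrans.id_app, reassoc_of% h1]
    simp only [toHtpy, Category.assoc]
    erw [NatTrans.naturality, reassoc_of% h2]
    simp only [toCx, Category.assoc]
    erw [← R'.map_comp, Iso.hom_inv_id_app, Iso.hom_inv_id_app_assoc, R'.map_id, Category.comp_id])
  inv_hom_id := R.rightDerived_ext α (HomologicalComplex.quasiIso A up) _ _ _ (by
    ext K
    have h1 := R.rightDerived_fac_app α (HomologicalComplex.quasiIso A up) R' (toCx G β) K
    have h2 := R'.rightDerived_fac_app β (HomotopyCategory.quasiIso A up) R (toHtpy G α) ((HomotopyCategory.quotient A up).obj K)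
    simp only [NatTrans.comp_app, Functor.whiskerLeft_app, NatTrans.id_app, reassoc_of% h1]
    simp only [toCx, Category.assoc]
    erw [NatTrans.naturality, reassoc_of% h2]
    simp only [toHtpy, Category.assoc]
    erw [← R.map_comp, Iso.inv_hom_id_app, Iso.inv_hom_id_app_assoc, R.map_id, Category.comp_id])

end Groth.L10.DerivedAdj
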