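import Groth.Agent.L10.DerivedAdj
import Mathlib.Algebra.Homology.DerivedCategory.RightDerivedFunctorPlus

/-! Derived adjunction on bounded below derived categories. -/

universe w w' v v' u u'

open CategoryTheory CategoryTheory.Limits

set_option backward.defeqAttrib.useBackward true
set_option backward.isDefEq.respectTransparency false
namespace Groth.L10.DerivedAdjPlus

variable {A : Type u} [Category.{v} A] [Abelian A] [HasDerivedCategory.{w} A] [EnoughInjectives A]
  {B : Type u'} [Category.{v'} B] [Abelian B] [HasDerivedCategory.{w'} B]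

section Exact

variable (L : A ⥤ B) [L.Additive] [PreservesFiniteLimits L] [PreservesFiniteColimits L]

omit [EnoughInjectives A] in
theorem inverts :
    (HomotopyCategory.Plus.quasiIso A).IsInvertedBy (L.mapHomotopyCategoryPlus ⋙ DerivedCategory.Plus.Qh) := by
  intro X Y s hs
  have : IsIso ((DerivedCategory.Qh ⋙ L.mapDerivedCategory).map s.hom) :=
    have := Localization.inverts DerivedCategory.Qh (HomotopyCategory.quasiIso A (ComplexShape.up ℤ)) s.hom hs
    inferInstanceAs (IsIso (L.mapDerivedCategory.map (DerivedCategory.Qh.map s.hom)))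
  have : IsIso (DerivedCategory.Plus.ι.map ((L.mapHomotopyCategoryPlus ⋙ DerivedCategory.Plus.Qh).map s)) :=
    (NatIso.isIso_map_iff L.mapDerivedCategoryFactorsh s.hom).1 this
  exact isIso_of_fully_faithful DerivedCategory.Plus.ι _

instance : IsIso L.rightDerivedFunctorPlusUnit :=
  Functor.isIso_of_isRightDerivedFunctor_of_inverts _ _ (inverts L)

instance : L.rightDerivedFunctorPlus.IsLeftDerivedFunctor (inv L.rightDerivedFunctorPlusUnit)
    (HomotopyCategory.Plus.quasiIso A) :=
  Functor.isLeftDerivedFunctor_of_inverts _ _ (asIso L.rightDerivedFunctorPlusUnit).symm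

end Exact

/-- The adjunction on bounded below homotopy categories. -/
noncomputable def homotopyAdj {L : A ⥤ B} {R : B ⥤ A} [L.Additive] [R.Additive] (adj : L ⊣ R) :
    L.mapHomotopyCategoryPlus ⊣ R.mapHomotopyCategoryPlus :=
  (DerivedAdj.homotopyAdj adj).restrictFullyFaithful (HomotopyCategory.Plus.fullyFaithfulι A)
    (HomotopyCategory.Plus.fullyFaithfulι B) (Iso.refl _) (Iso.refl _)

variable [EnoughInjectives B] {L : A ⥤ B} {R : B ⥤ A} [L.Additive] [R.Additive]
  [PreservesFiniteLimits L] [PreservesFiniteColimits L]

instance : (L.rightDerivedFunctorPlus ⋙ R.rightDerivedFunctorPlus).IsLeftDerivedFunctor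
    ((Functor.associator _ _ _).inv ≫ Functor.whiskerRight (inv L.rightDerivedFunctorPlusUnit) R.rightDerivedFunctorPlus)
    (HomotopyCategory.Plus.quasiIso A) :=
  Functor.isLeftDerivedFunctor_of_inverts _ _
    ((Functor.associator _ _ _).symm ≪≫
      Functor.isoWhiskerRight (asIso L.rightDerivedFunctorPlusUnit).symm R.rightDerivedFunctorPlus)

instance : (R.rightDerivedFunctorPlus ⋙ L.rightDerivedFunctorPlus).IsRightDerivedFunctor
    (Functor.whiskerRight R.rightDerivedFunctorPlusUnit L.rightDerivedFunctorPlus ≫ (Functor.associator _ _ _).hom)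
    (HomotopyCategory.Plus.quasiIso B) := by
  refine (HomotopyCategory.Plus.localizerMorphism_derives _).isRightDerivedFunctor_of_isIso _ fun X => ?_
  have : IsIso (R.rightDerivedFunctorPlusUnit.app ((InjectiveObject.ι B).mapHomotopyCategoryPlus.obj X)) := inferInstance
  simp only [NatTrans.comp_app, Functor.whiskerRight_app, Functor.associator_hom_app, Category.comp_id]
  exact Functor.map_isIso L.rightDerivedFunctorPlus _

/-- The derived adjunction. -/
noncomputable def derived (adj : L ⊣ R) : L.rightDerivedFunctorPlus ⊣ R.rightDerivedFunctorPlus :=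
  (homotopyAdj adj).derived (HomotopyCategory.Plus.quasiIso A) (HomotopyCategory.Plus.quasiIso B)
    (inv L.rightDerivedFunctorPlusUnit) R.rightDerivedFunctorPlusUnit

end Groth.L10.DerivedAdjPlus
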