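import Groth.Agent.L10.DerivedModGen
import Groth.Agent.L10.DerivedAdj
import Groth.Agent.L10.BrownAdj
import Mathlib.CategoryTheory.Abelian.GrothendieckCategory.ModuleEmbedding.GabrielPopescu

/-! Brown representability for derived categories of Grothendieck abelian categories. -/

universe v u

open CategoryTheory CategoryTheory.Limits CategoryTheory.Pretriangulated CategoryTheory.Pretriangulated.Opposite Opposite

set_option backward.defeqAttrib.useBackward true
set_option backward.isDefEq.respectTransparency false
namespace Groth.L10.DerivedBrown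

/-- Representability descends along an adjunction with fully faithful right adjoint. -/
theorem isRepresentable_of_reflective {C : Type*} [Category.{v} C] {D : Type*} [Category.{v} D]
    {L : C ⥤ D} {R : D ⥤ C} (adj : L ⊣ R) [R.Full] [R.Faithful] (F : Dᵒᵖ ⥤ Type v)
    (h : (L.op ⋙ F).IsRepresentable) : F.IsRepresentable := by
  obtain ⟨Y, ⟨e⟩⟩ := h
  let η := adj.unit.app Y
  have hη : IsIso (L.map η) := inferInstance
  -- the unit has a retraction
  obtain ⟨r, hr⟩ : ∃ r : R.obj (L.obj Y) ⟶ Y, η ≫ r = 𝟙 Y := by
    have hb : IsIso (F.map (L.map η).op) := inferInstance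
    refine ⟨e.homEquiv.symm (inv (F.map (L.map η).op) (e.homEquiv (𝟙 Y))), e.homEquiv.injective ?_⟩
    rw [e.homEquiv_comp]
    erw [Equiv.apply_symm_apply]
    exact congr($(IsIso.inv_hom_id (F.map (L.map η).op)) (e.homEquiv (𝟙 Y)))
  have hr' : r ≫ η = 𝟙 _ := by
    obtain ⟨φ, hφ⟩ := R.map_surjective (r ≫ η)
    rw [← hφ, ← R.map_id]
    congr 1
    apply (adj.homEquiv _ _).injective
    rw [Adjunction.homEquiv_unit, Adjunction.homEquiv_unit, hφ, R.map_id]
    change η ≫ r ≫ η = η ≫ 𝟙 _
    rw [reassoc_of% hr, Category.comp_id]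
  let i : R.obj (L.obj Y) ≅ Y := ⟨r, η, hr', hr⟩
  let ε : ∀ W, L.obj (R.obj W) ≅ W := fun W => asIso (adj.counit.app W)
  refine Functor.RepresentableBy.isRepresentable (Y := L.obj Y) ⟨fun {W} =>
    (Functor.FullyFaithful.ofFullyFaithful R).homEquiv.trans (i.homToEquiv.trans (e.homEquiv.trans
      ((F.mapIso (ε W).op.symm).toEquiv))), fun {W W'} g f => ?_⟩
  simp only [Equiv.trans_apply, Functor.FullyFaithful.homEquiv_apply, Iso.homToEquiv_apply, Functor.map_comp,
    Category.assoc, e.homEquiv_comp, Iso.toEquiv_fun, Functor.mapIso_hom, Iso.symm_hom, Iso.op_inv]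
  simp only [Functor.comp_map, Functor.op_map, Quiver.Hom.unop_op, ← ConcreteCategory.comp_apply, ← Functor.map_comp, ← op_comp]
  congr 3
  simp [ε]
  refine congrArg (_ ≫ ·) ?_
  rw [← op_inv, ← op_inv, ← op_comp, ← op_comp]
  congr 1
  rw [IsIso.inv_comp_eq, ← Category.assoc, IsIso.eq_comp_inv]
  exact adj.counit.naturality g

variable {A : Type u} [Category.{v} A] [Abelian A] [IsGrothendieckAbelian.{v} A] [HasDerivedCategory.{v} A]

theorem hasBrown : Brown.HasBrown (DerivedCategory A) := by
  intro H _ _
  let U := separator A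
  have hU : IsSeparator U := isSeparator_separator A
  let : HasDerivedCategory.{v} (ModuleCat.{v} (End U)ᵐᵒᵖ) := DerivedModGen.smallDerived _
  have : HasCoproducts.{v} (DerivedCategory (ModuleCat.{v} (End U)ᵐᵒᵖ)) :=
    fun ι => DerivedProd.hasCoproductsOfShape
  let adj := IsGrothendieckAbelian.tensorObjPreadditiveCoyonedaObjAdjunction U
  have : (IsGrothendieckAbelian.tensorObj U).Additive := adj.left_adjoint_additive
  have : PreservesFiniteLimits (IsGrothendieckAbelian.tensorObj U) :=
    IsGrothendieckAbelian.GabrielPopescu.preservesFiniteLimits U hU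
  have : PreservesFiniteColimits (IsGrothendieckAbelian.tensorObj U) := by
    have := adj.leftAdjoint_preservesColimits
    exact PreservesColimits.preservesFiniteColimits _
  have : (preadditiveCoyonedaObj U).Full := IsGrothendieckAbelian.GabrielPopescu.full U hU
  have : (preadditiveCoyonedaObj U).Faithful := (isSeparator_iff_faithful_preadditiveCoyonedaObj _).1 hU
  let F := (preadditiveCoyonedaObj U).mapHomotopyCategory (ComplexShape.up ℤ) ⋙ DerivedCategory.Qh
  have : F.HasRightDerivedFunctor (HomotopyCategory.quasiIso A (ComplexShape.up ℤ)) :=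
    KInjDerived.hasRightDerivedFunctor F
  let RG := F.totalRightDerived DerivedCategory.Qh (HomotopyCategory.quasiIso A (ComplexShape.up ℤ))
  let D := DerivedAdj.derived adj RG (F.totalRightDerivedUnit DerivedCategory.Qh (HomotopyCategory.quasiIso A (ComplexShape.up ℤ)))
  have : IsIso D.counit := DerivedAdj.isIso_derived_counit adj RG _
  have := D.fullyFaithfulROfIsIsoCounit.full
  have := D.fullyFaithfulROfIsIsoCounit.faithful
  let LF := (IsGrothendieckAbelian.tensorObj U).mapDerivedCategory
  have := D.leftAdjoint_preservesColimits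
  have : ∀ κ : Type v, PreservesLimitsOfShape (Discrete κ) LF.op := fun κ =>
    have : PreservesColimitsOfShape (Discrete κ)ᵒᵖ LF :=
      preservesColimitsOfShape_of_equiv (Discrete.opposite κ).symm LF
    preservesLimitsOfShape_op _ LF
  exact isRepresentable_of_reflective D (H ⋙ forget AddCommGrpCat)
    (Brown.hasBrown_of_compactlyGenerated DerivedModGen.isCompactlyGenerated (LF.op ⋙ H))

end Groth.L10.DerivedBrown
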