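import Groth.Agent.L10.WayOut

/-! Dévissage of full faithfulness of triangulated functors. -/

universe w w' v v' u u'

open CategoryTheory CategoryTheory.Limits CategoryTheory.Pretriangulated CategoryTheory.Triangulated

set_option backward.defeqAttrib.useBackward true
set_option backward.isDefEq.respectTransparency false
namespace Groth.L10.DevissageFF

variable {C : Type u} [Category.{v} C] [Preadditive C] [HasZeroObject C] [HasShift C ℤ]
  [∀ n : ℤ, (shiftFunctor C n).Additive] [Pretriangulated C]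
  {C' : Type u'} [Category.{v'} C'] [Preadditive C'] [HasZeroObject C'] [HasShift C' ℤ]
  [∀ n : ℤ, (shiftFunctor C' n).Additive] [Pretriangulated C']
  (F : C ⥤ C') [F.CommShift ℤ] [F.IsTriangulated]

/-- `F` is bijective on all graded maps from `K` to `L`. -/
def HomBij (K L : C) : Prop := ∀ n : ℤ, Function.Bijective (fun φ : K ⟶ L⟦n⟧ => F.map φ)

theorem bij_iso_right {K L L' : C} (e : L ≅ L') (h : Function.Bijective (fun φ : K ⟶ L => F.map φ)) :
    Function.Bijective (fun φ : K ⟶ L' => F.map φ) := by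
  refine ⟨fun φ φ' hφ => ?_, fun ψ => ?_⟩
  · rw [← cancel_mono e.inv]
    exact h.1 (show F.map (φ ≫ e.inv) = F.map (φ' ≫ e.inv) by simp [show F.map φ = F.map φ' from hφ])
  · obtain ⟨φ, hφ⟩ := h.2 (ψ ≫ F.map e.inv)
    refine ⟨φ ≫ e.hom, ?_⟩
    simp only [Functor.map_comp] at hφ ⊢
    rw [hφ, Category.assoc, ← Functor.map_comp, Iso.inv_hom_id, CategoryTheory.Functor.map_id, Category.comp_id]

theorem bij_iso_left {K K' L : C} (e : K ≅ K') (h : Function.Bijective (fun φ : K ⟶ L => F.map φ)) :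
    Function.Bijective (fun φ : K' ⟶ L => F.map φ) := by
  refine ⟨fun φ φ' hφ => ?_, fun ψ => ?_⟩
  · rw [← cancel_epi e.hom]
    exact h.1 (show F.map (e.hom ≫ φ) = F.map (e.hom ≫ φ') by simp [show F.map φ = F.map φ' from hφ])
  · obtain ⟨φ, hφ⟩ := h.2 (F.map e.hom ≫ ψ)
    refine ⟨e.inv ≫ φ, ?_⟩
    simp only [Functor.map_comp] at hφ ⊢
    rw [hφ, ← Category.assoc, ← Functor.map_comp, Iso.inv_hom_id, CategoryTheory.Functor.map_id, Category.id_comp]

theorem bij_shift {K L : C} (a : ℤ) (h : Function.Bijective (fun φ : K ⟶ L => F.map φ)) :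
    Function.Bijective (fun φ : K⟦a⟧ ⟶ L⟦a⟧ => F.map φ) := by
  refine ⟨fun φ φ' hφ => ?_, fun ψ => ?_⟩
  · obtain ⟨φ, rfl⟩ := (shiftFunctor C a).map_surjective φ
    obtain ⟨φ', rfl⟩ := (shiftFunctor C a).map_surjective φ'
    congr 1
    refine h.1 ((shiftFunctor C' a).map_injective ?_)
    have n₁ := (F.commShiftIso a).hom.naturality φ
    have n₂ := (F.commShiftIso a).hom.naturality φ'
    dsimp at n₁ n₂ hφ ⊢
    rw [← cancel_epi ((F.commShiftIso a).hom.app K), ← n₁, ← n₂, hφ]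
  · obtain ⟨χ, hχ⟩ := (shiftFunctor C' a).map_surjective
      ((F.commShiftIso a).inv.app K ≫ ψ ≫ (F.commShiftIso a).hom.app L)
    obtain ⟨φ, rfl⟩ := h.2 χ
    refine ⟨φ⟦a⟧', ?_⟩
    have n₁ := (F.commShiftIso a).hom.naturality φ
    dsimp at n₁ hχ ⊢
    rw [← cancel_mono ((F.commShiftIso a).hom.app L), n₁, hχ]
    simp

theorem homBij_iso_right {K L L' : C} (e : L ≅ L') (h : HomBij F K L) : HomBij F K L' := fun n =>
  bij_iso_right F ((shiftFunctor C n).mapIso e) (h n)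

theorem homBij_iso_left {K K' L : C} (e : K ≅ K') (h : HomBij F K L) : HomBij F K' L := fun n =>
  bij_iso_left F e (h n)

theorem homBij_shift_left {K L : C} (a : ℤ) (h : HomBij F K L) : HomBij F (K⟦a⟧) L := fun n =>
  bij_iso_right F ((shiftFunctorAdd' C (n - a) a n (by omega)).app L).symm (bij_shift F a (h (n - a)))

theorem homBij_shift_right {K L : C} (a : ℤ) (h : HomBij F K L) : HomBij F K (L⟦a⟧) := fun n =>
  bij_iso_right F ((shiftFunctorAdd' C a n (a + n) rfl).app L) (h (a + n))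

theorem homBij_of_isZero_left {K L : C} (hK : IsZero K) : HomBij F K L := fun _ =>
  ⟨fun _ _ _ => hK.eq_of_src _ _, fun ψ => ⟨0, (F.map_isZero hK).eq_of_src _ ψ⟩⟩

theorem homBij_of_isZero_right {K L : C} (hL : IsZero L) : HomBij F K L := fun n =>
  have h := (shiftFunctor C n).map_isZero hL
  ⟨fun _ _ _ => h.eq_of_tgt _ _, fun ψ => ⟨0, (F.map_isZero h).eq_of_tgt _ ψ⟩⟩

theorem homBij_ext_left (T : Triangle C) (hT : T ∈ distTriang C) {L : C} (h₁ : HomBij F T.obj₁ L)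
    (h₃ : HomBij F T.obj₃ L) : HomBij F T.obj₂ L := fun n => by
  have hFT := F.map_distinguished T hT
  have hFT' := inv_rot_of_distTriang _ hT
  refine ⟨?_, fun θ => ?_⟩
  · suffices ∀ φ : T.obj₂ ⟶ L⟦n⟧, F.map φ = 0 → φ = 0 from fun φ φ' hφ =>
      sub_eq_zero.1 (this _ (by rw [Functor.map_sub]; exact sub_eq_zero.2 hφ))
    intro φ hφ
    obtain ⟨ψ, rfl⟩ := Triangle.yoneda_exact₂ T hT φ ((h₁ n).1 (by simp [hφ]))
    obtain ⟨χ, hχ⟩ := Triangle.yoneda_exact₂ _ (rot_of_distTriang _ hFT) (F.map ψ) (by simpa using hφ)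
    obtain ⟨χ', hχ'⟩ := (homBij_shift_left F 1 h₁ n).2 ((F.commShiftIso (1 : ℤ)).hom.app T.obj₁ ≫ χ)
    have : ψ = T.mor₃ ≫ χ' := (h₃ n).1 (by
      dsimp at hχ hχ' ⊢
      rw [Functor.map_comp, hχ', hχ, Category.assoc])
    rw [this, comp_distTriang_mor_zero₂₃_assoc _ hT, zero_comp]
  · obtain ⟨a, ha⟩ := (h₁ n).2 (F.map T.mor₁ ≫ θ)
    obtain ⟨b, hb⟩ : ∃ b : T.obj₂ ⟶ L⟦n⟧, a = T.mor₁ ≫ b := Triangle.yoneda_exact₂ _ hFT' a ((homBij_shift_left F (-1 : ℤ) h₃ n).1 (by
      dsimp at ha ⊢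
      rw [Functor.map_comp, ha, Functor.map_zero, ← Category.assoc, ← Functor.map_comp]
      exact (congrArg (fun g => F.map g ≫ θ) (comp_distTriang_mor_zero₁₂ _ hFT')).trans (by simp)))
    obtain ⟨χ, hχ⟩ := Triangle.yoneda_exact₂ _ hFT (θ - F.map b) (by
      dsimp at ha hb ⊢
      rw [Preadditive.comp_sub, ← ha, hb, Functor.map_comp, sub_self])
    obtain ⟨c, hc⟩ := (h₃ n).2 χ
    refine ⟨b + T.mor₂ ≫ c, ?_⟩
    dsimp at hc hχ ⊢
    rw [Functor.map_add, Functor.map_comp, hc, ← hχ]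
    abel

theorem homBij_ext_right (T : Triangle C) (hT : T ∈ distTriang C) {K : C} (h₁ : HomBij F K T.obj₁)
    (h₃ : HomBij F K T.obj₃) : HomBij F K T.obj₂ := fun n => by
  let S := (Triangle.shiftFunctor C n).obj T
  have hS : S ∈ distTriang C := Triangle.shift_distinguished T hT n
  have hFS := F.map_distinguished S hS
  have g₁ : Function.Bijective (fun φ : K ⟶ S.obj₁ => F.map φ) := h₁ n
  have g₃ : Function.Bijective (fun φ : K ⟶ S.obj₃ => F.map φ) := h₃ n
  have g₁' : Function.Bijective (fun φ : K ⟶ S.obj₁⟦(1 : ℤ)⟧ => F.map φ) :=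
    bij_iso_right F ((shiftFunctorAdd' C n 1 (n + 1) rfl).app T.obj₁) (h₁ (n + 1))
  have g₃' : Function.Bijective (fun φ : K ⟶ S.obj₃⟦(-1 : ℤ)⟧ => F.map φ) :=
    bij_iso_right F ((shiftFunctorAdd' C n (-1) (n - 1) (by omega)).app T.obj₃) (h₃ (n - 1))
  change Function.Bijective (fun φ : K ⟶ S.obj₂ => F.map φ)
  refine ⟨?_, fun θ => ?_⟩
  · suffices ∀ φ : K ⟶ S.obj₂, F.map φ = 0 → φ = 0 from fun φ φ' hφ =>
      sub_eq_zero.1 (this _ (by rw [Functor.map_sub]; exact sub_eq_zero.2 hφ))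
    intro φ hφ
    obtain ⟨ψ, rfl⟩ := Triangle.coyoneda_exact₂ S hS φ (g₃.1 (by simp [hφ]))
    have hFS' := F.map_distinguished _ (inv_rot_of_distTriang _ hS)
    obtain ⟨χ, hχ⟩ := Triangle.coyoneda_exact₂ _ hFS' (F.map ψ) (by simpa using hφ)
    obtain ⟨χ', hχ'⟩ := g₃'.2 χ
    have : ψ = χ' ≫ S.invRotate.mor₁ := g₁.1 (by
      dsimp at hχ hχ' ⊢
      rw [Functor.map_comp, hχ', hχ])
    rw [this, Category.assoc]
    exact (congrArg (χ' ≫ ·) (comp_distTriang_mor_zero₁₂ _ (inv_rot_of_distTriang _ hS))).trans comp_zero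
  · obtain ⟨a, ha⟩ := g₃.2 (θ ≫ F.map S.mor₂)
    obtain ⟨b, hb⟩ := Triangle.coyoneda_exact₃ S hS a (g₁'.1 (by
      dsimp at ha ⊢
      rw [Functor.map_comp, ha, Functor.map_zero, Category.assoc, ← Functor.map_comp,
        comp_distTriang_mor_zero₂₃ _ hS, Functor.map_zero, comp_zero]))
    obtain ⟨χ, hχ⟩ := Triangle.coyoneda_exact₂ _ hFS (θ - F.map b) (by
      dsimp at ha hb ⊢
      rw [Preadditive.sub_comp, ← ha, hb, Functor.map_comp, sub_self])
    obtain ⟨c, hc⟩ := g₁.2 χ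
    refine ⟨b + c ≫ S.mor₁, ?_⟩
    dsimp at hc hχ ⊢
    rw [Functor.map_add, Functor.map_comp, hc, ← hχ]
    abel

/-- The objects `K` with `HomBij F K L`. -/
def leftProp (L : C) : ObjectProperty C := fun K => HomBij F K L

/-- The objects `L` with `HomBij F K L`. -/
def rightProp (K : C) : ObjectProperty C := fun L => HomBij F K L

instance (L : C) : (leftProp F L).IsClosedUnderIsomorphisms := ⟨fun e h => homBij_iso_left F e h⟩

instance (K : C) : (rightProp F K).IsClosedUnderIsomorphisms := ⟨fun e h => homBij_iso_right F e h⟩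

instance (L : C) : (leftProp F L).IsTriangulated where
  exists_zero := ⟨_, Limits.isZero_zero C, homBij_of_isZero_left F (Limits.isZero_zero C)⟩
  isStableUnderShiftBy a := ⟨fun _ h => homBij_shift_left F a h⟩
  toIsTriangulatedClosed₂ := .mk' fun T hT h₁ h₃ => homBij_ext_left F T hT h₁ h₃

instance (K : C) : (rightProp F K).IsTriangulated where
  exists_zero := ⟨_, Limits.isZero_zero C, homBij_of_isZero_right F (Limits.isZero_zero C)⟩
  isStableUnderShiftBy a := ⟨fun _ h => homBij_shift_right F a h⟩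
  toIsTriangulatedClosed₂ := .mk' fun T hT h₁ h₃ => homBij_ext_right F T hT h₁ h₃

/-- Image of a property. -/
def imageProp (P : ObjectProperty C) : ObjectProperty C' := fun M => ∃ K, P K ∧ Nonempty (F.obj K ≅ M)

instance (P : ObjectProperty C) : (imageProp F P).IsClosedUnderIsomorphisms :=
  ⟨fun e ⟨K, hK, ⟨e'⟩⟩ => ⟨K, hK, ⟨e' ≪≫ e⟩⟩⟩

theorem imageProp_isTriangulated (P : ObjectProperty C) [P.IsTriangulated] [P.IsClosedUnderIsomorphisms]
    (h : ∀ K L, P K → P L → HomBij F K L) : (imageProp F P).IsTriangulated where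
  exists_zero := by
    obtain ⟨Z, hZ, hP⟩ := P.exists_prop_of_containsZero
    exact ⟨F.obj Z, F.map_isZero hZ, Z, hP, ⟨Iso.refl _⟩⟩
  isStableUnderShiftBy a := ⟨fun M ⟨K, hK, ⟨e⟩⟩ =>
    ⟨K⟦a⟧, P.le_shift a _ hK, ⟨(F.commShiftIso a).app K ≪≫ (shiftFunctor C' a).mapIso e⟩⟩⟩
  toIsTriangulatedClosed₂ := .mk' fun T hT ⟨K₁, hK₁, ⟨e₁⟩⟩ ⟨K₃, hK₃, ⟨e₃⟩⟩ => by
    obtain ⟨δ, hδ⟩ := (h K₃ K₁ hK₃ hK₁ 1).2
      (e₃.hom ≫ T.mor₃ ≫ e₁.inv⟦(1 : ℤ)⟧' ≫ (F.commShiftIso (1 : ℤ)).inv.app K₁)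
    obtain ⟨K₂, i, p, hS⟩ := distinguished_cocone_triangle₂ δ
    refine ⟨K₂, P.ext_of_isTriangulatedClosed₂ _ hS hK₁ hK₃, ?_⟩
    obtain ⟨φ, hφ₁, hφ₂⟩ := complete_distinguished_triangle_morphism₂ _ T (F.map_distinguished _ hS) hT
      e₁.hom e₃.hom (by
        dsimp at hδ ⊢
        rw [hδ]
        simp [← Functor.map_comp])
    have := isIso₂_of_isIso₁₃ (T := F.mapTriangle.obj (Triangle.mk i p δ)) (T' := T)
      { hom₁ := e₁.hom, hom₂ := φ, hom₃ := e₃.hom
        comm₁ := hφ₁, comm₂ := hφ₂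
        comm₃ := by dsimp at hδ ⊢; rw [hδ]; simp [← Functor.map_comp] }
      (F.map_distinguished _ hS) hT inferInstance inferInstance
    exact ⟨asIso φ⟩

section Derived

open DerivedCategory

variable {A : Type u} [Category.{v} A] [Abelian A] [HasDerivedCategory.{w} A]
  {B : Type u'} [Category.{v'} B] [Abelian B] [HasDerivedCategory.{w'} B]
  (G : DerivedCategory A ⥤ DerivedCategory B) [G.CommShift ℤ] [G.IsTriangulated]
  (P : ObjectProperty A) [P.IsClosedUnderIsomorphisms]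

theorem prop_of_cohInBdd (Q : ObjectProperty (DerivedCategory A)) [Q.IsTriangulated] [Q.IsClosedUnderIsomorphisms]
    (h : ∀ M, P M → Q ((singleFunctor A 0).obj M)) {K : DerivedCategory A} (hK : WSerre.cohInBdd P K) : Q K := by
  obtain ⟨hK, ⟨a, ha⟩, b, hb⟩ := hK
  exact WayOut.prop_of_bounded Q P h a (b - a + 1).toNat K ha
    (have : DerivedCategory.IsLE K b := hb
     DerivedCategory.TStructure.t.isLE_of_le K b _ (by omega)) (fun i _ _ => hK i)

theorem homBij_of_cohInBdd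
    (h : ∀ M N, P M → P N → HomBij G ((singleFunctor A 0).obj M) ((singleFunctor A 0).obj N))
    {K L : DerivedCategory A} (hK : WSerre.cohInBdd P K) (hL : WSerre.cohInBdd P L) : HomBij G K L :=
  prop_of_cohInBdd P (rightProp G K) (fun N hN =>
    prop_of_cohInBdd P (leftProp G ((singleFunctor A 0).obj N)) (fun M hM => h M N hM hN) hK) hL

end Derived

end Groth.L10.DevissageFF

namespace Groth.L10.DevissageFF

open DerivedCategory

variable {A : Type u} [Category.{v} A] [Abelian A] [HasDerivedCategory.{w} A]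
  {B : Type u'} [Category.{v'} B] [Abelian B] [HasDerivedCategory.{w'} B]

theorem cohInBdd_single (P : ObjectProperty A) [WSerre.IsWeakSerre P] (M : A) (hM : P M) :
    WSerre.cohInBdd P ((singleFunctor A 0).obj M) := by
  refine ⟨fun q => ?_, ⟨0, inferInstanceAs (DerivedCategory.IsGE ((singleFunctor A 0).obj M) 0)⟩,
    ⟨0, inferInstanceAs (DerivedCategory.IsLE ((singleFunctor A 0).obj M) 0)⟩⟩
  by_cases h0 : q = 0
  · subst h0
    exact P.prop_of_iso ((singleFunctorCompHomologyFunctorIso A 0).app M).symm hM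
  · obtain ⟨Z, hZ, hPZ⟩ := P.exists_prop_of_containsZero
    have hz : IsZero ((DerivedCategory.homologyFunctor A q).obj ((singleFunctor A 0).obj M)) := by
      rcases lt_or_gt_of_ne h0 with h | h
      · exact DerivedCategory.isZero_of_isGE _ 0 q h
      · exact DerivedCategory.isZero_of_isLE _ 0 q h
    exact P.prop_of_iso (hZ.iso hz) hPZ

theorem s15234 (u : A ⥤ B) [u.Additive] [PreservesFiniteLimits u] [PreservesFiniteColimits u]
    (P : ObjectProperty A) (P' : ObjectProperty B) [WSerre.IsWeakSerre P] [WSerre.IsWeakSerre P']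
    (h1 : ∀ F, P F → P' (u.obj F)) (hess : ∀ M, P' M → ∃ F, P F ∧ Nonempty (u.obj F ≅ M))
    (h2 : ∀ (F F' : A), P F → P F' → HomBij u.mapDerivedCategory ((singleFunctor A 0).obj F) ((singleFunctor A 0).obj F')) :
    (∀ K, WSerre.cohInBdd P K → WSerre.cohInBdd P' (u.mapDerivedCategory.obj K)) ∧
      (∀ K L, WSerre.cohInBdd P K → WSerre.cohInBdd P L →
        Function.Bijective (fun φ : (K ⟶ L) => u.mapDerivedCategory.map φ)) ∧
      (∀ M, WSerre.cohInBdd P' M → ∃ K, WSerre.cohInBdd P K ∧ Nonempty (u.mapDerivedCategory.obj K ≅ M)) := by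
  have hb : ∀ K L, WSerre.cohInBdd P K → WSerre.cohInBdd P L → HomBij u.mapDerivedCategory K L := fun K L =>
    homBij_of_cohInBdd u.mapDerivedCategory P h2
  refine ⟨fun K ⟨hK, ⟨a, ha⟩, b, hb'⟩ => ?_, fun K L hK hL => bij_iso_right _ ((shiftFunctorZero _ ℤ).app L) (hb K L hK hL 0), fun M hM => ?_⟩
  · have : K.IsGE a := ha
    have : K.IsLE b := hb'
    exact ⟨WSerreLib.cohIn_mapDerivedCategory u P P' h1 K hK, ⟨a, DerivedAdj.isGE_map (w := u) K a⟩,
      ⟨b, DerivedAdj.isLE_map (w := u) K b⟩⟩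
  · have := (WSerreLib.cohIn_isTriangulated P).1
    have : (WSerre.cohIn P).IsClosedUnderIsomorphisms :=
      ⟨fun e he i => P.prop_of_iso ((DerivedCategory.homologyFunctor A i).mapIso e) (he i)⟩
    have : (WSerre.cohInBdd P).IsTriangulated :=
      inferInstanceAs (WSerre.cohIn P ⊓ (DerivedCategory.TStructure.t (C := A)).bounded).IsTriangulated
    have : (WSerre.cohInBdd P).IsClosedUnderIsomorphisms :=
      inferInstanceAs (WSerre.cohIn P ⊓ (DerivedCategory.TStructure.t (C := A)).bounded).IsClosedUnderIsomorphisms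
    have := imageProp_isTriangulated u.mapDerivedCategory (WSerre.cohInBdd P) hb
    refine prop_of_cohInBdd P' (imageProp u.mapDerivedCategory (WSerre.cohInBdd P)) (fun N hN => ?_) hM
    obtain ⟨F, hF, ⟨e⟩⟩ := hess N hN
    exact ⟨_, cohInBdd_single P F hF, ⟨(u.mapDerivedCategorySingleFunctor 0).app F ≪≫ (singleFunctor B 0).mapIso e⟩⟩

end Groth.L10.DevissageFF
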