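import Groth.Agent.L10.UnitIso
import Groth.Agent.L10.FreeOn
import Groth.Prelude.Def_SiteCmp

/-! Comparison of modules for two topologies, given vanishing of higher cohomology on a cover of the coarser one. -/

universe u

open CategoryTheory CategoryTheory.Limits CategoryTheory.Abelian Opposite DerivedCategory SiteCmp

set_option backward.defeqAttrib.useBackward true
set_option backward.isDefEq.respectTransparency false

namespace Groth.L10.EpsEquiv

open Groth.L10

attribute [local instance] HasDerivedCategory.standard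

variable {C : Type u} [SmallCategory C] {J J' : GrothendieckTopology C} (h : J' ≤ J) (O : Sheaf J CommRingCat.{u})

instance push_faithful : (eps h O).push.Faithful where
  map_injective {F G} a b hab := SheafOfModules.hom_ext (PresheafOfModules.hom_ext fun V => by
    ext s
    exact congrArg (fun φ : (eps h O).push.obj F ⟶ (eps h O).push.obj G => (φ.val.app V).hom s) hab)

instance push_full : (eps h O).push.Full where
  map_surjective {F G} φ := by
    refine ⟨⟨PresheafOfModules.homMk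
      { app := fun V => AddCommGrpCat.ofHom (φ.val.app V).hom.toAddMonoidHom
        naturality := fun V W g => AddCommGrpCat.hom_ext (AddMonoidHom.ext fun s => PresheafOfModules.naturality_apply φ.val g s) }
      (fun V r m => (φ.val.app V).hom.map_smul r m)⟩, ?_⟩
    refine SheafOfModules.hom_ext (PresheafOfModules.hom_ext fun V => ?_)
    ext s
    rfl

instance counit_iso : IsIso (eps h O).adj.counit := inferInstance

variable (A : ObjectProperty (ModSite.Mod O)) [WSerre.IsWeakSerre A] (B : Set C)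
  (h3 : ∀ U : C, ∃ (ι : Type u) (Y : ι → C) (g : ∀ i, Y i ⟶ U), Sieve.ofArrows Y g ∈ J' U ∧ ∀ i, Y i ∈ B)
  (h4 : ∀ U ∈ B, ∀ F : ModSite.Mod O, A F → ∀ p : ℕ, 0 < p → Subsingleton (ModSite.HU O F p U))

include h3 in
theorem separating {M N : ModSite.Mod (epsRing h O)} (φ : M ⟶ N)
    (hφ : ∀ V ∈ B, ∀ q : SiteCover.P (epsRing h O) V ⟶ M, q ≫ φ = 0) : φ = 0 := by
  refine (FreeOn.isSeparating (epsRing h O) B h3) φ 0 fun Q hQ q => ?_
  obtain ⟨V⟩ := hQ
  rw [comp_zero, ← cancel_epi (FreeOn.iso (epsRing h O) (V : C)).inv, comp_zero]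
  exact ((Category.assoc _ _ _).symm).trans (hφ V V.2 _)

include h3 h4 in
theorem epi_push {S : ShortComplex (ModSite.Mod O)} (hS : S.ShortExact) (hA : A S.X₁) : Epi ((eps h O).push.map S.g) := by
  obtain ⟨_, _, _⟩ := ModRDer.insts O
  refine Preadditive.epi_of_cancel_zero _ fun {Z} ψ hψ => separating h O B h3 ψ fun V hV q => ?_
  let z : SiteCover.P O ((eps h O).fn.obj V) ⟶ S.X₃ := ModRDer.pullEquiv (eps h O) V _ (((eps h O).adj.homEquiv _ _).symm q)
  have : Subsingleton (Ext (SiteCover.P O ((eps h O).fn.obj V)) S.X₁ 1) := by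
    have h1 : Subsingleton (Ext (SiteCoh.fs J V) (ModSite.toAb S.X₁) 1) := h4 V hV _ hA 1 Nat.one_pos
    exact SiteCover.subsingleton_ext_free O (SiteFr.rep J V) _ 0
      ((SiteFr.extFsRep (J := J) V (ModSite.toAb S.X₁) 1).toEquiv.symm.subsingleton)
  obtain ⟨a, ha⟩ := Ext.covariant_sequence_exact₃ _ hS (Ext.mk₀ z) (zero_add 1) (Subsingleton.elim _ _)
  obtain ⟨a, rfl⟩ := (Ext.mk₀_bijective _ _).2 a
  have ha' := (Ext.mk₀_bijective _ _).1 ((Ext.mk₀_comp_mk₀ _ _).symm.trans ha)
  let q' := (eps h O).adj.homEquiv _ _ ((ModRDer.pullEquiv (eps h O) V _).symm a)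
  have hq : q = q' ≫ (eps h O).push.map S.g := by
    rw [← (eps h O).adj.homEquiv_naturality_right, ← Equiv.symm_apply_eq]
    apply (ModRDer.pullEquiv (eps h O) V _).injective
    rw [ModRDer.pullEquiv_comp, Equiv.apply_symm_apply]
    exact ha'.symm
  rw [hq, Category.assoc, hψ, comp_zero]

include h3 h4 in
theorem shortExact_push {S : ShortComplex (ModSite.Mod O)} (hS : S.ShortExact) (hA : A S.X₁) :
    (S.map (eps h O).push).ShortExact :=
  have := hS.mono_f
  have := epi_push h O A B h3 h4 hS hA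
  { exact := ShortComplex.exact_of_f_is_kernel _ (KernelFork.mapIsLimit _ hS.fIsKernel (eps h O).push)
    mono_f := inferInstanceAs (Mono ((eps h O).push.map S.f))
    epi_g := inferInstanceAs (Epi ((eps h O).push.map S.g)) }

include h3 h4 in
theorem isClosedUnderKernels : (A.map (eps h O).push).IsClosedUnderKernels :=
  ⟨by
    rintro _ ⟨f, k, hk, ⟨F, hF, ⟨eF⟩⟩, ⟨G, hG, ⟨eG⟩⟩⟩
    refine (A.map (eps h O).push).prop_of_iso ((kernelIsKernel f).conePointUniqueUpToIso hk) ?_
    obtain ⟨φ, hφ⟩ := (eps h O).push.map_surjective (eF.hom ≫ f ≫ eG.inv)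
    refine ⟨kernel φ, A.prop_of_isLimit_kernelFork (k := KernelFork.ofι (kernel.ι φ) (kernel.condition φ)) (kernelIsKernel φ) hF hG,
      ⟨PreservesKernel.iso _ _ ≪≫ kernel.mapIso _ _ eF eG ?_⟩⟩
    rw [hφ, Category.assoc, Category.assoc, Iso.inv_hom_id, Category.comp_id]⟩

include h3 h4 in
theorem isClosedUnderCokernels : (A.map (eps h O).push).IsClosedUnderCokernels :=
  ⟨by
    rintro _ ⟨f, k, hk, ⟨F, hF, ⟨eF⟩⟩, ⟨G, hG, ⟨eG⟩⟩⟩
    refine (A.map (eps h O).push).prop_of_iso ((cokernelIsCokernel f).coconePointUniqueUpToIso hk) ?_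
    obtain ⟨φ, hφ⟩ := (eps h O).push.map_surjective (eF.hom ≫ f ≫ eG.inv)
    have hC : A (cokernel φ) := A.prop_of_isColimit_cokernelCofork (k := CokernelCofork.ofπ (cokernel.π φ) (cokernel.condition φ)) (cokernelIsCokernel φ) hF hG
    have hI : A (kernel (cokernel.π φ)) := A.prop_of_isLimit_kernelFork (k := KernelFork.ofι (kernel.ι (cokernel.π φ)) (kernel.condition _)) (kernelIsKernel _) hG hC
    have hK : A (kernel φ) := A.prop_of_isLimit_kernelFork (k := KernelFork.ofι (kernel.ι φ) (kernel.condition φ)) (kernelIsKernel φ) hF hG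
    let g : F ⟶ kernel (cokernel.π φ) := kernel.lift _ φ (cokernel.condition φ)
    have : Epi g := inferInstanceAs (Epi (Abelian.factorThruImage φ))
    have hS₂ : (ShortComplex.mk (kernel.ι (cokernel.π φ)) (cokernel.π φ) (kernel.condition _)).ShortExact :=
      { exact := ShortComplex.exact_of_f_is_kernel _ (kernelIsKernel _) }
    have hg : kernel.ι φ ≫ g = 0 := by
      rw [← cancel_mono (kernel.ι (cokernel.π φ))]
      simp [g]
    have hS₁ : (ShortComplex.mk (kernel.ι φ) g hg).ShortExact :=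
      { exact := ShortComplex.exact_of_f_is_kernel _ (KernelFork.IsLimit.ofι' _ _ fun {W} k hk =>
          ⟨kernel.lift φ k (by rw [← kernel.lift_ι (cokernel.π φ) φ (cokernel.condition φ), ← Category.assoc, hk, zero_comp]), kernel.lift_ι _ _ _⟩) }
    have e₂ := shortExact_push h O A B h3 h4 hS₂ hI
    have := epi_push h O A B h3 h4 hS₁ hK
    have hf : f = eF.inv ≫ (eps h O).push.map φ ≫ eG.hom := by rw [hφ]; simp
    have hc : f ≫ eG.inv ≫ (eps h O).push.map (cokernel.π φ) = 0 := by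
      rw [hf]; simp [← Functor.map_comp]
    have : Epi ((eps h O).push.map (cokernel.π φ)) := e₂.epi_g
    refine ⟨cokernel φ, hC, ⟨(IsColimit.coconePointUniqueUpToIso (cokernelIsCokernel f)
      (CokernelCofork.IsColimit.ofπ' (eG.inv ≫ (eps h O).push.map (cokernel.π φ)) hc fun {W} k hk => ?_)).symm⟩⟩
    have hk' : (eps h O).push.map (kernel.ι (cokernel.π φ)) ≫ eG.hom ≫ k = 0 := by
      rw [← cancel_epi ((eps h O).push.map g), comp_zero, ← Category.assoc, ← Functor.map_comp, kernel.lift_ι, hφ]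
      simp [hk]
    have := e₂.epi_g
    refine ⟨e₂.exact.desc (eG.hom ≫ k) hk', ?_⟩
    erw [Category.assoc, e₂.exact.g_desc, Iso.inv_hom_id_assoc]⟩

variable [PreservesFiniteLimits (eps h O).pull]

include h3 h4 in
theorem isClosedUnderExtensions : (A.map (eps h O).push).IsClosedUnderExtensions where
  prop_X₂_of_shortExact {S} hS h₁ h₃ := by
    obtain ⟨F, hF, ⟨eF⟩⟩ := h₁
    obtain ⟨G, hG, ⟨eG⟩⟩ := h₃
    let eA : ∀ (K : ModSite.Mod O) {X : ModSite.Mod (epsRing h O)}, ((eps h O).push.obj K ≅ X) → ((eps h O).pull.obj X ≅ K) :=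
      fun K _ e => (eps h O).pull.mapIso e.symm ≪≫ asIso ((eps h O).adj.counit.app K)
    have hT := hS.map_of_exact (eps h O).pull
    have hA₁ : A (S.map (eps h O).pull).X₁ := A.prop_of_iso (eA F eF).symm hF
    have hA₂ : A (S.map (eps h O).pull).X₂ := A.prop_X₂_of_shortExact hT hA₁ (A.prop_of_iso (eA G eG).symm hG)
    have hP := shortExact_push h O A B h3 h4 hT hA₁
    let u : S ⟶ (S.map (eps h O).pull).map (eps h O).push :=
      { τ₁ := (eps h O).adj.unit.app S.X₁, τ₂ := (eps h O).adj.unit.app S.X₂, τ₃ := (eps h O).adj.unit.app S.X₃,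
        comm₁₂ := (eps h O).adj.unit_naturality S.f, comm₂₃ := (eps h O).adj.unit_naturality S.g }
    have hu : ∀ (K : ModSite.Mod O) {X : ModSite.Mod (epsRing h O)}, ((eps h O).push.obj K ≅ X) → IsIso ((eps h O).adj.unit.app X) :=
      fun K _ e => (NatTrans.isIso_app_iff_of_iso (eps h O).adj.unit e).1
        (IsIso.of_isIso_fac_right ((eps h O).adj.right_triangle_components K))
    have : IsIso u.τ₁ := hu F eF
    have : IsIso u.τ₃ := hu G eG
    have : IsIso u.τ₂ := ShortComplex.isIso₂_of_shortExact_of_isIso₁₃ u hS hP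
    exact ⟨_, hA₂, ⟨(asIso u.τ₂).symm⟩⟩

include h3 h4 in
theorem isWeakSerre : WSerre.IsWeakSerre (A.map (eps h O).push) :=
  { toContainsZero := ⟨(eps h O).push.obj A.exists_prop_of_containsZero.choose,
      (eps h O).push.map_isZero A.exists_prop_of_containsZero.choose_spec.1,
      ⟨_, A.exists_prop_of_containsZero.choose_spec.2, ⟨Iso.refl _⟩⟩⟩
    toIsClosedUnderKernels := isClosedUnderKernels h O A B h3 h4
    toIsClosedUnderCokernels := isClosedUnderCokernels h O A B h3 h4
    toIsClosedUnderExtensions := isClosedUnderExtensions h O A B h3 h4 }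

variable [HasRpushD (eps h O)] (adj : pullD (eps h O) ⊣ RpushD (eps h O))

include h3 h4 adj in
theorem isLE_rpush (F : ModSite.Mod O) (hF : A F) : ((RpushD (eps h O)).obj (inD O F)).IsLE 0 := by
  obtain ⟨_, _, _⟩ := ModRDer.insts O
  obtain ⟨_, _, _⟩ := ModRDer.insts (epsRing h O)
  rw [DerivedCategory.isLE_iff]
  intro m hm
  let Z := ((RpushD (eps h O)).obj (inD O F))⟦m⟧
  refine IsZero.of_iso ?_ (hShiftIso ((RpushD (eps h O)).obj (inD O F)) m 0 m (by omega)).symm
  rw [IsZero.iff_id_eq_zero]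
  obtain ⟨T', p, hp, ξ, hξ⟩ := LocalDetect.exists_lift (X := Z) (𝟙 _)
  rw [← cancel_epi p, comp_zero, ← hξ]
  refine separating h O B h3 _ fun V hV q => ?_
  rw [← LocalDetect.cls_map]
  convert LocalDetect.cls_zero using 2
  let g := (singleFunctor (ModSite.Mod (epsRing h O)) 0).map q ≫ ξ
  let e₁ : (singleFunctor (ModSite.Mod (epsRing h O)) m).obj (SiteCover.P (epsRing h O) V) ≅
      ((singleFunctor _ 0).obj (SiteCover.P (epsRing h O) V))⟦-m⟧ :=
    ((singleFunctors _).shiftIso (-m) m 0 (by omega)).symm.app _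
  let e₂ : Z⟦-m⟧ ≅ (RpushD (eps h O)).obj (inD O F) := (shiftEquiv _ m).unitIso.symm.app _
  let e₃ : (singleFunctor (ModSite.Mod O) m).obj (SiteCover.P O ((eps h O).fn.obj V)) ≅
      (pullD (eps h O)).obj ((singleFunctor _ m).obj (SiteCover.P (epsRing h O) V)) :=
    (singleFunctor _ m).mapIso (ModRDer.pullIso (eps h O) V).symm ≪≫ (((eps h O).pull.mapDerivedCategorySingleFunctor m).app _).symm
  let e₄ : (singleFunctor (ModSite.Mod O) m).obj (SiteCover.P O ((eps h O).fn.obj V)) ≅
      ((singleFunctor _ 0).obj (SiteCover.P O ((eps h O).fn.obj V)))⟦-m⟧ :=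
    ((singleFunctors _).shiftIso (-m) m 0 (by omega)).symm.app _
  let g' := (adj.homEquiv _ _).symm (e₁.hom ≫ g⟦-m⟧' ≫ e₂.hom)
  have hsm := SiteCover.small_of_HU O ((eps h O).fn.obj V) F 0 fun k hk => h4 V hV F hF k hk
  have h0 := TowerStab.small_single hsm 0 (-m) (by omega) (e₄.inv ≫ e₃.hom ≫ g')
  have h1 : g' = 0 := by
    rw [← cancel_epi (e₄.inv ≫ e₃.hom), Category.assoc, h0, comp_zero]
  have h2 : e₁.hom ≫ g⟦-m⟧' ≫ e₂.hom = 0 :=
    ((adj.homEquiv _ _).symm.injective (h1.trans (by simp [Adjunction.homEquiv_counit])))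
  refine (shiftFunctor (DerivedCategory (ModSite.Mod (epsRing h O))) (-m)).map_injective ?_
  rw [Functor.map_zero, ← cancel_epi e₁.hom, ← cancel_mono e₂.hom, Category.assoc]
  simp only [comp_zero, zero_comp]
  exact h2

include h3 h4 in
theorem isIso_unit (F' : ModSite.Mod (epsRing h O)) (hF' : A.map (eps h O).push F') :
    IsIso (adj.unit.app (inD (epsRing h O) F')) := by
  obtain ⟨F, hF, ⟨e⟩⟩ := hF'
  let S := singleFunctor (ModSite.Mod (epsRing h O)) 0
  let S' := singleFunctor (ModSite.Mod O) 0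
  let w := (eps h O).pull
  let b := w.mapDerivedCategorySingleFunctor 0
  let u := adj.unit.app (S.obj F')
  let eA : w.obj F' ≅ F := w.mapIso e.symm ≪≫ asIso ((eps h O).adj.counit.app F)
  let T := (RpushD (eps h O)).obj ((pullD (eps h O)).obj (S.obj F'))
  let eT : (RpushD (eps h O)).obj (inD O F) ≅ T := (RpushD (eps h O)).mapIso (b.app F' ≪≫ S'.mapIso eA).symm
  have h0 : DerivedCategory.IsGE T 0 := by
    have : DerivedCategory.IsGE (S.obj F') 0 := inferInstance
    have := DerivedAdj.isGE_map (w := w) (S.obj F') 0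
    exact DerivedAdj.isGE_rightAdjoint adj _ 0
  have h1 : DerivedCategory.IsLE T 0 := by
    have : DerivedCategory.TStructure.t.IsLE ((RpushD (eps h O)).obj (inD O F)) 0 := isLE_rpush h O A B h3 h4 adj F hF
    exact DerivedCategory.TStructure.t.isLE_of_iso eT 0
  obtain ⟨eG⟩ := exists_iso_single_H T 0
  have : IsIso ((eps h O).adj.unit.app F') := (NatTrans.isIso_app_iff_of_iso (eps h O).adj.unit e).1
    (IsIso.of_isIso_fac_right ((eps h O).adj.right_triangle_components F))
  have hbij : ∀ M, Function.Bijective (fun v : M ⟶ F' => w.map v) := fun M => by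
    have hd : (fun v : M ⟶ F' => w.map v) = ((eps h O).adj.homEquiv _ _).symm ∘ (fun v => v ≫ (eps h O).adj.unit.app F') := by
      funext v
      simp [Adjunction.homEquiv_counit, w]
    rw [hd]
    exact ((eps h O).adj.homEquiv _ _).symm.bijective.comp ⟨fun a b hab => (cancel_mono _).1 hab,
      fun c => ⟨c ≫ inv ((eps h O).adj.unit.app F'), by simp⟩⟩
  have key : ∀ M, Function.Bijective (fun v : M ⟶ F' => S.map v ≫ u) := fun M => by
    have hd : (fun v : M ⟶ F' => S.map v ≫ u) = adj.homEquiv _ _ ∘ (fun c => b.hom.app M ≫ S'.map c ≫ b.inv.app F') ∘ fun v => w.map v := by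
      funext v
      simp only [Function.comp_apply, Adjunction.homEquiv_unit]
      refine (adj.unit.naturality (S.map v)).trans ?_
      refine congrArg (fun r => adj.unit.app (S.obj M) ≫ (RpushD (eps h O)).map r) ?_
      have hn := b.hom.naturality v
      simp only [Functor.comp_map] at hn
      rw [← Category.assoc, ← hn, Category.assoc, Iso.hom_inv_id_app]
      exact (Category.comp_id _).symm
    rw [hd]
    exact (adj.homEquiv _ _).bijective.comp (Function.Bijective.comp
      ⟨fun c d hcd => S'.map_injective ((cancel_mono _).1 ((cancel_epi _).1 hcd)),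
       fun c => ⟨S'.preimage (b.inv.app M ≫ c ≫ b.hom.app F'), by simp⟩⟩ (hbij M))
  obtain ⟨v, hv⟩ := (key ((homologyFunctor _ 0).obj T)).2 eG.inv
  refine ⟨eG.hom ≫ S.map v, ?_, by rw [Category.assoc]; exact (congrArg (eG.hom ≫ ·) hv).trans eG.hom_inv_id⟩
  obtain ⟨x, hx⟩ := S.map_surjective (u ≫ eG.hom ≫ S.map v)
  have hx' : x = 𝟙 F' := (key F').1 (by
    change S.map x ≫ u = S.map (𝟙 F') ≫ u
    rw [hx, CategoryTheory.Functor.map_id]
    simp only [Category.assoc, Category.id_comp]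
    rw [show S.map v ≫ u = eG.inv from hv, Iso.hom_inv_id]
    exact Category.comp_id u)
  rw [← hx, hx', CategoryTheory.Functor.map_id]
  rfl

include h3 h4 in
theorem main : WSerre.IsWeakSerre (A.map (eps h O).push) ∧
    (∀ Y : DerivedCategory (ModSite.Mod (epsRing h O)), WSerre.cohIn (A.map (eps h O).push) Y →
      WSerre.cohIn A ((pullD (eps h O)).obj Y) ∧ IsIso (adj.unit.app Y)) ∧
    (∀ X : DerivedCategory (ModSite.Mod O), WSerre.cohIn A X →
      WSerre.cohIn (A.map (eps h O).push) ((RpushD (eps h O)).obj X) ∧ IsIso (adj.counit.app X)) := by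
  have hW := isWeakSerre h O A B h3 h4
  obtain ⟨_, _, _⟩ := ModRDer.insts O
  have h2a : ∀ F' : ModSite.Mod (epsRing h O), A.map (eps h O).push F' → A ((eps h O).pull.obj F') := fun F' ⟨F, hF, ⟨e⟩⟩ =>
    A.prop_of_iso ((eps h O).pull.mapIso e.symm ≪≫ asIso ((eps h O).adj.counit.app F)).symm hF
  have h2c : ∀ F : ModSite.Mod O, A F → ∃ F' : ModSite.Mod (epsRing h O), A.map (eps h O).push F' ∧
      Nonempty ((eps h O).pull.obj F' ≅ F) := fun F hF =>
    ⟨_, ⟨F, hF, ⟨Iso.refl _⟩⟩, ⟨asIso ((eps h O).adj.counit.app F)⟩⟩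
  have hu := isIso_unit h O A B h3 h4 adj
  refine ⟨hW, UnitIso.main (eps h O) adj A _ h2a h2c hu fun X hX n j hj => ?_⟩
  let α := (pushKh (eps h O)).totalRightDerivedUnit DerivedCategory.Qh
    (HomotopyCategory.quasiIso (ModSite.Mod O) (ComplexShape.up ℤ))
  have hB : ∀ U : C, ∃ (ι : Type u) (Y : ι → C) (g : ∀ i, Y i ⟶ U), Sieve.ofArrows Y g ∈ J U ∧ ∀ i, Y i ∈ B := fun U => by
    obtain ⟨ι, Y, g, h1, h2⟩ := h3 U
    exact ⟨ι, Y, g, h U h1, h2⟩
  have href : ∀ (K : GrothendieckTopology C), (∀ U : C, ∃ (ι : Type u) (Y : ι → C) (g : ∀ i, Y i ⟶ U), Sieve.ofArrows Y g ∈ K U ∧ ∀ i, Y i ∈ B) →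
      ∀ V ∈ B, ∀ T ∈ K V, ∃ (ι : Type u) (Y : ι → C) (g : ∀ i, Y i ⟶ V),
      (∀ i, T.arrows (g i)) ∧ Sieve.ofArrows Y g ∈ K V ∧
      ∀ (i : ι) (F : ModSite.Mod O), A F → ∀ k : ℕ, 0 < k → Subsingleton (ModSite.HU O F k (Y i)) := by
    intro K hK V hV T hT
    refine ⟨Σ W : C, { g : W ⟶ V // T.arrows g ∧ W ∈ B }, fun x => x.1, fun x => x.2.1, fun x => x.2.2.1, ?_,
      fun x F hF k hk => h4 _ x.2.2.2 F hF k hk⟩
    refine K.transitive hT _ fun W g hg => ?_
    obtain ⟨ι, Z, q, hq, hY⟩ := hK W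
    refine K.superset_covering ?_ hq
    rintro Q _ ⟨_, r, _, hr, rfl⟩
    obtain ⟨i⟩ := hr
    exact ⟨_, r, q i ≫ g, Presieve.ofArrows.mk (Y := fun x : Σ W : C, { g : W ⟶ V // T.arrows g ∧ W ∈ B } => x.1)
      (f := fun x => x.2.1) ⟨Z i, q i ≫ g, T.downward_closed hg _, hY i⟩, (Category.assoc _ _ _).symm⟩
  exact ModRDer.isIso_left (eps h O) α A B B hB (fun V hV => ⟨0, href J hB V hV⟩) h3 0
    (fun F hF p => (UnitIso.rpush_props (eps h O) adj A _ h2c hu F hF p).2) X hX n j hj
    (fun V hV => ⟨0, href J' h3 V hV⟩)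

end Groth.L10.EpsEquiv
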