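import Groth.Prelude.Def_SpSeq
import Groth.Agent.L10.KInj
import Groth.Agent.L10.KInjRes.Resolution
import Mathlib.CategoryTheory.Abelian.GrothendieckAxioms.FunctorCategory
import Mathlib.CategoryTheory.Generator.Presheaf
import Mathlib.CategoryTheory.Adjunction.Evaluation
import Mathlib.Order.WithBot
import Mathlib.Algebra.Homology.DerivedCategory.ShortExact
import Mathlib.Algebra.Homology.HomotopyCategory.Triangulated
import Mathlib.CategoryTheory.Limits.Preserves.FunctorCategory

/-! Filtered K-injective resolutions. -/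

universe v u

open CategoryTheory CategoryTheory.Limits Opposite

set_option backward.defeqAttrib.useBackward true
set_option backward.isDefEq.respectTransparency false
set_option linter.unusedSectionVars false
namespace Groth.L10.FilKInj

variable {A : Type u} [Category.{v} A] [Abelian A] [IsGrothendieckAbelian.{v} A]

/-- The index poset `ℤ ∪ {⊤}`. -/
structure Idx : Type v where
  /-- The underlying element. -/
  val : WithTop ℤ

instance : Preorder Idx.{v} := Preorder.lift Idx.val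

/-- The top index. -/
def top : Idx.{v} := ⟨⊤⟩

/-- An integral index. -/
def at' (p : ℤ) : Idx.{v} := ⟨(p : WithTop ℤ)⟩

theorem le_top (p : Idx.{v}) : p ≤ top := (_root_.le_top : p.val ≤ ⊤)

theorem at'_le {p q : ℤ} (h : p ≤ q) : at'.{v} p ≤ at' q := (WithTop.coe_le_coe.2 h : ((p : WithTop ℤ) ≤ q))

theorem grothendieck_diagrams : IsGrothendieckAbelian.{v} (Idx.{v}ᵒᵖ ⥤ A) := by
  have : AB5OfSize.{v, v} (Idx.{v}ᵒᵖ ⥤ A) := ⟨fun _ _ _ => inferInstance⟩
  have : HasFilteredColimitsOfSize.{v, v} (Idx.{v}ᵒᵖ ⥤ A) := ⟨fun _ _ _ => inferInstance⟩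
  exact {}

attribute [local instance] grothendieck_diagrams

theorem left_exact (a : Idx.{v}ᵒᵖ) : PreservesFiniteLimits (evaluationLeftAdjoint A a) := by
  refine ⟨fun J _ _ => preservesLimitsOfShape_of_evaluation _ _ fun t => ?_⟩
  let e : evaluationLeftAdjoint A a ⋙ (evaluation _ A).obj t ≅
      Functor.const (Discrete (a ⟶ t)) ⋙ colim :=
    NatIso.ofComponents (fun X => HasColimit.isoOfNatIso (Discrete.natIso fun _ => Iso.refl X)) (fun {X Y} f => by
      dsimp
      ext g
      simp)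
  exact preservesLimitsOfShape_of_natIso e.symm

theorem mono_pre {a b : Idx.{v}ᵒᵖ} (h : a ⟶ b) (X : A) :
    ∃ m : (evaluationLeftAdjoint A b).obj X ⟶ (evaluationLeftAdjoint A a).obj X, Mono m ∧
      ∀ t : b ⟶ b, Sigma.ι (fun _ : b ⟶ b => X) t ≫ m.app b = Sigma.ι (fun _ : a ⟶ b => X) (h ≫ t) := by
  let m : (evaluationLeftAdjoint A b).obj X ⟶ (evaluationLeftAdjoint A a).obj X :=
    { app := fun q => Sigma.desc fun t : b ⟶ q => Sigma.ι (fun _ : a ⟶ q => X) (h ≫ t)
      naturality := fun q q' g => by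
        dsimp
        ext t
        simp }
  refine ⟨m, ?_, fun t => Sigma.ι_desc _ _⟩
  have : ∀ q, Mono (m.app q) := fun q => by
    by_cases hq : Nonempty (b ⟶ q)
    · obtain ⟨t⟩ := hq
      let r : (∐ fun _ : a ⟶ q => X) ⟶ ∐ fun _ : b ⟶ q => X := Sigma.desc fun _ => Sigma.ι (fun _ : b ⟶ q => X) t
      have hr : m.app q ≫ r = 𝟙 _ := Sigma.hom_ext _ _ fun t' => by simp [m, r, Subsingleton.elim t' t]
      exact ⟨fun f g hfg => by
        have := congr($hfg ≫ r)
        simp only [Category.assoc, hr] at this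
        exact (Category.comp_id f).symm.trans (this.trans (Category.comp_id g))⟩
    · refine ⟨fun {W} f g _ => ?_⟩
      have hz : IsZero (((evaluationLeftAdjoint A b).obj X).obj q) :=
        (IsZero.iff_id_eq_zero _).2 (Sigma.hom_ext _ _ fun t => (hq ⟨t⟩).elim)
      exact hz.eq_of_tgt _ _
  exact NatTrans.mono_of_mono_app m

/-- Injective diagrams have split epimorphisms as transition maps. -/
theorem exists_section (F : Idx.{v}ᵒᵖ ⥤ A) [Injective F] {a b : Idx.{v}ᵒᵖ} (h : a ⟶ b) :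
    ∃ s : F.obj b ⟶ F.obj a, s ≫ F.map h = 𝟙 _ := by
  obtain ⟨m, hm, hmb⟩ := mono_pre (A := A) h (F.obj b)
  let g := ((evaluationAdjunctionRight A b).homEquiv (F.obj b) F).symm (𝟙 _)
  obtain ⟨g', hg'⟩ := Injective.factors g m
  refine ⟨Sigma.ι (fun _ : a ⟶ a => F.obj b) (𝟙 a) ≫ g'.app a, ?_⟩
  have h1 := congr(Sigma.ι (fun _ : b ⟶ b => F.obj b) (𝟙 b) ≫ ($hg').app b)
  simp only [NatTrans.comp_app, reassoc_of% hmb, Category.comp_id] at h1
  have h2 : Sigma.ι (fun _ : b ⟶ b => F.obj b) (𝟙 b) ≫ g.app b = 𝟙 _ := by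
    simp [g, evaluationAdjunctionRight]
  refine Eq.trans ?_ (h1.trans h2)
  rw [Category.assoc, ← g'.naturality]
  simp

theorem injective_obj (F : Idx.{v}ᵒᵖ ⥤ A) [Injective F] (a : Idx.{v}ᵒᵖ) : Injective (F.obj a) :=
  have := left_exact (A := A) a
  Injective.injective_of_adjoint (evaluationAdjunctionRight A a) F

theorem isKInjective_eval (I : CochainComplex (Idx.{v}ᵒᵖ ⥤ A) ℤ) [I.IsKInjective] (a : Idx.{v}ᵒᵖ) :
    CochainComplex.IsKInjective ((((evaluation _ A).obj a).mapHomologicalComplex (ComplexShape.up ℤ)).obj I) := by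
  have := left_exact (A := A) a
  have := (evaluationAdjunctionRight A a).left_adjoint_additive
  have := (evaluationAdjunctionRight A a).leftAdjoint_preservesColimits
  have : PreservesFiniteColimits (evaluationLeftAdjoint A a) := PreservesColimits.preservesFiniteColimits _
  exact Groth.L10.s0481 _ _ (evaluationAdjunctionRight A a) I inferInstance

/-- A complex of diagrams from a diagram of complexes. -/
noncomputable def ofDiagram (D : Idx.{v}ᵒᵖ ⥤ CochainComplex A ℤ) : CochainComplex (Idx.{v}ᵒᵖ ⥤ A) ℤ where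
  X n := D ⋙ HomologicalComplex.eval A (ComplexShape.up ℤ) n
  d i j := { app := fun p => (D.obj p).d i j, naturality := fun p q f => (D.map f).comm i j }
  shape i j h := by ext p; exact (D.obj p).shape i j h
  d_comp_d' i j k _ _ := by ext p; exact (D.obj p).d_comp_d i j k

open Pretriangulated in
theorem isKInjective_X₁ (S : ShortComplex (CochainComplex A ℤ))
    (σ : ∀ n, (S.map (HomologicalComplex.eval A (ComplexShape.up ℤ) n)).Splitting)
    (h₂ : CochainComplex.IsKInjective S.X₂) (h₃ : CochainComplex.IsKInjective S.X₃) :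
    CochainComplex.IsKInjective S.X₁ := by
  rw [CochainComplex.isKInjective_iff_rightOrthogonal] at h₂ h₃ ⊢
  exact ObjectProperty.ext_of_isTriangulatedClosed₁ _ (CochainComplex.trianglehOfDegreewiseSplit S σ)
    ((HomotopyCategory.distinguished_iff_iso_trianglehOfDegreewiseSplit _).2 ⟨S, σ, ⟨Iso.refl _⟩⟩) h₂ h₃

theorem quasiIso_τ₁ {S₁ S₂ : ShortComplex (CochainComplex A ℤ)} (φ : S₁ ⟶ S₂) (h₁ : S₁.ShortExact) (h₂ : S₂.ShortExact)
    (i₂ : QuasiIso φ.τ₂) (i₃ : QuasiIso φ.τ₃) : QuasiIso φ.τ₁ := by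
  let := HasDerivedCategory.standard A
  rw [← DerivedCategory.isIso_Q_map_iff_quasiIso] at i₂ i₃ ⊢
  exact Pretriangulated.isIso₁_of_isIso₂₃ (DerivedCategory.triangleOfSES.map h₁ h₂ φ)
    (DerivedCategory.triangleOfSES_distinguished _) (DerivedCategory.triangleOfSES_distinguished _) i₂ i₃

open Pretriangulated in
theorem isKInjective_X₃ (S : ShortComplex (CochainComplex A ℤ))
    (σ : ∀ n, (S.map (HomologicalComplex.eval A (ComplexShape.up ℤ) n)).Splitting)
    (h₁ : CochainComplex.IsKInjective S.X₁) (h₂ : CochainComplex.IsKInjective S.X₂) :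
    CochainComplex.IsKInjective S.X₃ := by
  rw [CochainComplex.isKInjective_iff_rightOrthogonal] at h₁ h₂ ⊢
  exact ObjectProperty.ext_of_isTriangulatedClosed₃ _ (CochainComplex.trianglehOfDegreewiseSplit S σ)
    ((HomotopyCategory.distinguished_iff_iso_trianglehOfDegreewiseSplit _).2 ⟨S, σ, ⟨Iso.refl _⟩⟩) h₁ h₂

theorem injective_of_retract {X Y : A} (i : X ⟶ Y) (r : Y ⟶ X) (h : i ≫ r = 𝟙 X) [Injective Y] : Injective X :=
  ⟨fun g f _ => ⟨Injective.factorThru (g ≫ i) f ≫ r, by simp [h]⟩⟩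

/-- The steps of the filtration, extended by zero at the top index. -/
noncomputable def G (K : SpSeq.FilCx A) (p : Idx.{v}) : Subobject K.obj :=
  match p.val with
  | ⊤ => ⊥
  | (n : ℤ) => K.fil n

theorem G_anti (K : SpSeq.FilCx A) {p q : Idx.{v}} (h : p ≤ q) : G K q ≤ G K p := by
  obtain ⟨a⟩ := p
  obtain ⟨b⟩ := q
  change a ≤ b at h
  induction b with
  | top => exact bot_le
  | coe b =>
    induction a with
    | top => simp at h
    | coe a => exact K.anti (WithTop.coe_le_coe.1 h)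

/-- The tower of quotients. -/
noncomputable def quotDiagram (K : SpSeq.FilCx A) : Idx.{v}ᵒᵖ ⥤ CochainComplex A ℤ where
  obj p := cokernel (G K p.unop).arrow
  map {p q} f := cokernel.desc _ (cokernel.π (G K q.unop).arrow) (by
    rw [← Subobject.ofLE_arrow (G_anti K (leOfHom f.unop)), Category.assoc, cokernel.condition, comp_zero])
  map_id p := coequalizer.hom_ext (by simp)
  map_comp f g := coequalizer.hom_ext (by simp)

/-- Evaluating a complex of diagrams built from a diagram of complexes. -/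
noncomputable def evalIso (D : Idx.{v}ᵒᵖ ⥤ CochainComplex A ℤ) (p : Idx.{v}ᵒᵖ) :
    (((evaluation _ A).obj p).mapHomologicalComplex (ComplexShape.up ℤ)).obj (ofDiagram D) ≅ D.obj p :=
  HomologicalComplex.Hom.isoOfComponents (fun _ => Iso.refl _) (fun i j _ => by
    dsimp [ofDiagram]
    simp)

theorem exists_resolution (K : SpSeq.FilCx A) :
    ∃ (J : SpSeq.FilCx A) (j : K ⟶ J),
      (∀ n p : ℤ, Injective (J.obj.X n) ∧ Injective ((J.XFil n).step p) ∧ Injective ((J.XFil n).quot p) ∧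
        ∀ (p' : ℤ) (h : p ≤ p'), Injective (cokernel ((J.XFil n).stepLE h))) ∧
      (CochainComplex.IsKInjective J.obj ∧ ∀ p : ℤ, CochainComplex.IsKInjective (J.step p) ∧
        CochainComplex.IsKInjective (J.quot p) ∧
        ∀ (p' : ℤ) (h : p ≤ p'), CochainComplex.IsKInjective (cokernel (J.stepLE h))) ∧
      QuasiIso j.hom ∧
      (∀ p : ℤ, ∃ jp : K.step p ⟶ J.step p, jp ≫ (J.fil p).arrow = (K.fil p).arrow ≫ j.hom ∧ QuasiIso jp ∧
        (∀ (p' : ℤ) (h : p ≤ p'), ∃ (jp' : K.step p' ⟶ J.step p') (jg : cokernel (K.stepLE h) ⟶ cokernel (J.stepLE h)),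
          jp' ≫ (J.fil p').arrow = (K.fil p').arrow ≫ j.hom ∧ jp' ≫ J.stepLE h = K.stepLE h ≫ jp ∧
          cokernel.π (K.stepLE h) ≫ jg = jp ≫ cokernel.π (J.stepLE h) ∧ QuasiIso jg)) ∧
      (∀ p : ℤ, ∃ jq : K.quot p ⟶ J.quot p,
        cokernel.π (K.fil p).arrow ≫ jq = j.hom ≫ cokernel.π (J.fil p).arrow ∧ QuasiIso jq) := by
  let D := quotDiagram K
  let η := KInjRes.resι (ofDiagram D)
  let I := KInjRes.res (ofDiagram D)
  let E := fun p : Idx.{v}ᵒᵖ => (((evaluation _ A).obj p).mapHomologicalComplex (ComplexShape.up ℤ)).obj I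
  let Em : ∀ {a b : Idx.{v}ᵒᵖ} (_ : a ⟶ b), E a ⟶ E b := fun h =>
    (NatTrans.mapHomologicalComplex ((evaluation _ A).map h) (ComplexShape.up ℤ)).app I
  have hEc : ∀ {a b c : Idx.{v}ᵒᵖ} (h : a ⟶ b) (h' : b ⟶ c), Em h ≫ Em h' = Em (h ≫ h') := fun h h' => by
    ext n
    simp [Em]
  let e : ∀ p, D.obj p ⟶ E p := fun p =>
    (evalIso D p).inv ≫ (((evaluation _ A).obj p).mapHomologicalComplex (ComplexShape.up ℤ)).map η
  have he : ∀ {a b} (h : a ⟶ b), e a ≫ Em h = D.map h ≫ e b := fun {a b} h => by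
    ext n
    simpa [e, Em, evalIso, ofDiagram] using ((η.f n).naturality h).symm
  have heq : ∀ p, QuasiIso (e p) := fun p => inferInstanceAs (QuasiIso (_ ≫ _))
  have hsec : ∀ {a b : Idx.{v}ᵒᵖ} (h : a ⟶ b) (n : ℤ), ∃ s, s ≫ (Em h).f n = 𝟙 ((E b).X n) := fun h n =>
    exists_section (I.X n) h
  have hepi : ∀ {a b : Idx.{v}ᵒᵖ} (h : a ⟶ b), Epi (Em h) := fun h => by
    have : ∀ n, Epi ((Em h).f n) := fun n => by
      obtain ⟨s, hs⟩ := hsec h n
      exact epi_of_epi_fac hs
    exact HomologicalComplex.epi_of_epi_f _ this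
  have hEI : ∀ p n, Injective ((E p).X n) := fun p n => injective_obj (I.X n) p
  have hEK : ∀ p, CochainComplex.IsKInjective (E p) := fun p => isKInjective_eval I p
  let T : Idx.{v}ᵒᵖ := op top
  let hh : ∀ p : ℤ, T ⟶ op (at' p) := fun p => (homOfLE (le_top _)).op
  let π : ∀ p : ℤ, E T ⟶ E (op (at' p)) := fun p => Em (hh p)
  let tr : ∀ {p q : ℤ} (_ : p ≤ q), op (at'.{v} q) ⟶ op (at' p) := fun h => (homOfLE (at'_le h)).op
  have hπ : ∀ {p q : ℤ} (h : p ≤ q), π q ≫ Em (tr h) = π p := fun h => hEc _ _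
  have : ∀ p, Epi (π p) := fun p => hepi _
  let J : SpSeq.FilCx A := ⟨E T, fun p => kernelSubobject (π p), fun p q h =>
    le_kernelSubobject _ _ (by rw [← hπ h, kernelSubobject_arrow_comp_assoc, zero_comp])⟩
  have hJc : ∀ p, (J.fil p).arrow ≫ π p = 0 := fun p => kernelSubobject_arrow_comp _
  let SJ : ℤ → ShortComplex (CochainComplex A ℤ) := fun p => ShortComplex.mk (J.fil p).arrow (π p) (hJc p)
  have hSJ : ∀ p, (SJ p).ShortExact := fun p =>
    { exact := ShortComplex.exact_of_iso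
        (ShortComplex.isoMk (S₁ := ShortComplex.mk (kernel.ι (π p)) (π p) (kernel.condition _)) (kernelSubobjectIso (π p)).symm (Iso.refl _) (Iso.refl _) (by simp [SJ, J]) (by simp [SJ]))
        (ShortComplex.exact_of_f_is_kernel (ShortComplex.mk (kernel.ι (π p)) (π p) (kernel.condition _)) (kernelIsKernel _))
      mono_f := inferInstanceAs (Mono (J.fil p).arrow)
      epi_g := inferInstanceAs (Epi (π p)) }
  let evn := fun n : ℤ => HomologicalComplex.eval A (ComplexShape.up ℤ) n
  have hσ : ∀ p n, Nonempty ((SJ p).map (evn n)).Splitting := fun p n => by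
    obtain ⟨s, hs⟩ := hsec (hh p) n
    exact ⟨ShortComplex.Splitting.ofExactOfSection _ ((hSJ p).map_of_exact (evn n)).exact s hs
      ((hSJ p).map_of_exact (evn n)).mono_f⟩
  have hstepI : ∀ p n, Injective ((J.step p).X n) := fun p n =>
    have : Injective ((SJ p).map (evn n)).X₂ := hEI T n
    injective_of_retract _ _ (hσ p n).some.f_r
  have hstepK : ∀ p, CochainComplex.IsKInjective (J.step p) := fun p =>
    isKInjective_X₁ (SJ p) (fun n => (hσ p n).some) (hEK _) (hEK _)
  have hqi : ∀ p, ∃ qi : E (op (at' p)) ≅ J.quot p, π p ≫ qi.hom = cokernel.π (J.fil p).arrow := fun p =>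
    ⟨(hSJ p).gIsCokernel.coconePointUniqueUpToIso (colimit.isColimit _),
      IsColimit.comp_coconePointUniqueUpToIso_hom (hSJ p).gIsCokernel (colimit.isColimit _) WalkingParallelPair.one⟩
  choose qi hqi using hqi
  let c₀ := cokernel.π (G K (unop T)).arrow
  have : IsIso c₀ := by
    have h0 : (G K (unop T)).arrow = 0 := Subobject.bot_arrow
    show IsIso (cokernel.π _)
    rw [h0]
    infer_instance
  let j₀ : K.obj ⟶ E T := c₀ ≫ e T
  have hj₀ : ∀ p, j₀ ≫ π p = cokernel.π (K.fil p).arrow ≫ e (op (at' p)) := fun p => by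
    simp only [j₀, π, Category.assoc, he]
    rw [← Category.assoc]
    congr 1
    exact cokernel.π_desc _ _ _
  have hj0 : ∀ p, ((K.fil p).arrow ≫ j₀) ≫ π p = 0 := fun p => by
    rw [Category.assoc, hj₀, cokernel.condition_assoc, zero_comp]
  let jp : ∀ p, K.step p ⟶ J.step p := fun p => factorThruKernelSubobject (π p) _ (hj0 p)
  have hjp : ∀ p, jp p ≫ (J.fil p).arrow = (K.fil p).arrow ≫ j₀ := fun p => factorThruKernelSubobject_comp_arrow _ _ _
  let j : K ⟶ J := ⟨j₀, fun p => by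
    rw [Subobject.pullback_obj]
    exact Subobject.le_mk_of_comm (pullback.lift (jp p) (K.fil p).arrow (hjp p)) (pullback.lift_snd _ _ _)⟩
  have : QuasiIso j₀ := inferInstanceAs (QuasiIso (c₀ ≫ e T))
  let SK : ℤ → ShortComplex (CochainComplex A ℤ) := fun p =>
    ShortComplex.mk (K.fil p).arrow (cokernel.π (K.fil p).arrow) (cokernel.condition _)
  have hSK : ∀ p, (SK p).ShortExact := fun p => { exact := ShortComplex.exact_cokernel _ }
  have hjq : ∀ p, QuasiIso (jp p) := fun p =>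
    quasiIso_τ₁ (ShortComplex.homMk (S₁ := SK p) (S₂ := SJ p) (jp p) j₀ (e (op (at' p))) (hjp p) (hj₀ p))
      (hSK p) (hSJ p) ‹QuasiIso j₀› (heq _)
  have hcomm : ∀ {p p' : ℤ} (h : p ≤ p'), jp p' ≫ J.stepLE h = K.stepLE h ≫ jp p := fun {p p'} h => by
    rw [← cancel_mono (J.fil p).arrow, Category.assoc, Category.assoc, Subobject.ofLE_arrow, hjp, hjp,
      Subobject.ofLE_arrow_assoc]
  let SG : ∀ {p p' : ℤ} (_ : p ≤ p'), ShortComplex (CochainComplex A ℤ) := fun h =>
    ShortComplex.mk (J.stepLE h) (cokernel.π (J.stepLE h)) (cokernel.condition _)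
  have hSG : ∀ {p p' : ℤ} (h : p ≤ p'), (SG h).ShortExact := fun h => { exact := ShortComplex.exact_cokernel _ }
  have hσG : ∀ {p p' : ℤ} (h : p ≤ p') (n : ℤ), Nonempty ((SG h).map (evn n)).Splitting := fun {p p'} h n =>
    have : Injective ((SG h).map (evn n)).X₁ := hstepI p' n
    ⟨((hSG h).map_of_exact (evn n)).splittingOfInjective⟩
  have hGI : ∀ {p p' : ℤ} (h : p ≤ p') (n : ℤ), Injective ((cokernel (J.stepLE h)).X n) := fun {p p'} h n =>
    have : Injective ((SG h).map (evn n)).X₂ := hstepI p n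
    injective_of_retract _ _ (hσG h n).some.s_g
  refine ⟨J, j, fun n p => ⟨hEI T n, ?_, ?_, fun p' h => ?_⟩,
    ⟨hEK T, fun p => ⟨hstepK p, (have := hEK (op (at' p)); CochainComplex.isKInjective_of_iso (qi p)),
      fun p' h => isKInjective_X₃ (SG h) (fun n => (hσG h n).some) (hstepK p') (hstepK p)⟩⟩,
    ‹QuasiIso j₀›, fun p => ⟨jp p, hjp p, hjq p, fun p' h => ?_⟩, fun p => ?_⟩
  · exact Injective.of_iso (Subobject.underlyingIso ((J.fil p).arrow.f n)).symm (hstepI p n)
  · refine Injective.of_iso (P := (J.quot p).X n) ?_ (Injective.of_iso ((evn n).mapIso (qi p)) (hEI _ n))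
    exact PreservesCokernel.iso (evn n) (J.fil p).arrow ≪≫
      cokernel.mapIso _ _ (Subobject.underlyingIso ((J.fil p).arrow.f n)).symm (Iso.refl _)
        (by simp [evn, SpSeq.FilCx.XFil, SpSeq.FilCx.filX])
  · refine Injective.of_iso (P := (cokernel (J.stepLE h)).X n) ?_ (hGI h n)
    exact PreservesCokernel.iso (evn n) (J.stepLE h) ≪≫
      cokernel.mapIso _ _ (Subobject.underlyingIso ((J.fil p').arrow.f n)).symm
        (Subobject.underlyingIso ((J.fil p).arrow.f n)).symm (by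
          rw [← cancel_mono ((J.XFil n).fil p).arrow]
          simp [evn, SpSeq.FilCx.XFil, SpSeq.FilCx.filX, ← HomologicalComplex.comp_f])
  · refine ⟨jp p', cokernel.map _ _ (jp p') (jp p) (hcomm h).symm, hjp p', hcomm h, cokernel.π_desc _ _ _, ?_⟩
    exact HomologicalComplex.HomologySequence.quasiIso_τ₃
      (ShortComplex.homMk (S₁ := ShortComplex.mk (K.stepLE h) (cokernel.π (K.stepLE h)) (cokernel.condition _))
        (S₂ := SG h) (jp p') (jp p) (cokernel.map _ _ (jp p') (jp p) (hcomm h).symm) (hcomm h) (cokernel.π_desc _ _ _).symm)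
      { exact := ShortComplex.exact_cokernel _ } (hSG h) (hjq p') (hjq p)
  · refine ⟨e (op (at' p)) ≫ (qi p).hom, ?_, inferInstance⟩
    rw [← Category.assoc, ← hj₀, Category.assoc, hqi]

end Groth.L10.FilKInj
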