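import Groth.Agent.L10.KInjRes.Resolution
import Groth.Prelude.Def_SpSeq
import Mathlib.Algebra.Homology.DerivedCategory.KInjective
import Mathlib.Algebra.Homology.HomotopyCategory.Pretriangulated
import Mathlib.Algebra.Homology.GrothendieckAbelian
import Mathlib.CategoryTheory.Abelian.GrothendieckAxioms.Colim
import Mathlib.CategoryTheory.Category.ULift
import Mathlib.CategoryTheory.Functor.OfSequence

/-! Representing inverse systems in the derived category by filtered complexes. -/

universe w v u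

open CategoryTheory CategoryTheory.Limits CochainComplex CochainComplex.HomComplex

set_option backward.defeqAttrib.useBackward true
set_option backward.isDefEq.respectTransparency false
set_option linter.style.haveILetI false

namespace Groth.L10.FilRep

section Embed

variable {C : Type u} [Category.{v} C] [Abelian C] [IsGrothendieckAbelian.{v} C]

/-- a system of monomorphisms indexed by the integers embeds compatibly in one object -/
theorem exists_embed (J : ℤ → C) (t : ∀ i, J (i + 1) ⟶ J i) (ht : ∀ i, Mono (t i)) :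
    ∃ (T : C) (l : ∀ i, J i ⟶ T), (∀ i, Mono (l i)) ∧ ∀ i, t i ≫ l i = l (i + 1) := by
  let G : ℕ → C := fun k => match k with
    | 0 => J 0
    | k + 1 => J (Int.negSucc k)
  let g : ∀ k, G k ⟶ G (k + 1) := fun k => match k with
    | 0 => t (Int.negSucc 0)
    | k + 1 => t (Int.negSucc (k + 1))
  have hg : ∀ k, Mono (g k) := fun k => match k with
    | 0 => ht _
    | k + 1 => ht _
  let F : AsSmall.{v} ℕ ⥤ C := AsSmall.down ⋙ Functor.ofSequence g
  have hF : ∀ (a b : ℕ) (h : a ⟶ b), Mono ((Functor.ofSequence g).map h) := by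
    intro a b h
    obtain ⟨k, rfl⟩ := Nat.exists_eq_add_of_le (leOfHom h)
    induction k with
    | zero => rw [Subsingleton.elim h (𝟙 a), CategoryTheory.Functor.map_id]; infer_instance
    | succ k ih =>
      rw [Subsingleton.elim h (homOfLE (Nat.le_add_right a k) ≫ homOfLE (Nat.le_succ (a + k))), Functor.map_comp,
        Functor.ofSequence_map_homOfLE_succ]
      haveI := ih (homOfLE (Nat.le_add_right a k))
      haveI := hg (a + k)
      infer_instance
  haveI : ∀ (a b : AsSmall.{v} ℕ) (h : a ⟶ b), Mono (F.map h) := fun a b h => hF (AsSmall.down.obj a) (AsSmall.down.obj b) (AsSmall.down.map h)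
  let ι : ∀ k, G k ⟶ colimit F := fun k => colimit.ι F (AsSmall.up.obj k)
  have hι : ∀ k, g k ≫ ι (k + 1) = ι k := fun k => by
    have h := colimit.w F ((AsSmall.up (C := ℕ)).map (homOfLE (Nat.le_succ k)))
    change (Functor.ofSequence g).map (homOfLE (Nat.le_succ k)) ≫ _ = _ at h
    rwa [Functor.ofSequence_map_homOfLE_succ] at h
  have hm : ∀ k, Mono (ι k) := fun k => IsColimit.mono_ι_app_of_isFiltered (colimit.isColimit F) _
  let lp : ∀ k : ℕ, J (Int.ofNat k) ⟶ colimit F := fun k => k.rec (ι 0) (fun k f => t (Int.ofNat k) ≫ f)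
  refine ⟨colimit F, fun i => match i with
    | Int.ofNat k => lp k
    | Int.negSucc k => ι (k + 1), fun i => ?_, fun i => ?_⟩
  · match i with
    | Int.ofNat k =>
      induction k with
      | zero => exact hm 0
      | succ k ih => exact @mono_comp _ _ _ _ _ (t (Int.ofNat k)) (ht _) (lp k) ih
    | Int.negSucc k => exact hm (k + 1)
  · match i with
    | Int.ofNat k => rfl
    | Int.negSucc 0 => exact hι 0
    | Int.negSucc (k + 1) => exact hι (k + 1)

end Embed

variable {A : Type u} [Category.{v} A] [Abelian A] [IsGrothendieckAbelian.{v} A] [HasDerivedCategory.{w} A]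

theorem exists_map {X J : CochainComplex A ℤ} [J.IsKInjective]
    (φ : DerivedCategory.Q.obj X ⟶ DerivedCategory.Q.obj J) : ∃ f : X ⟶ J, DerivedCategory.Q.map f = φ := by
  let c := DerivedCategory.quotientCompQhIso A
  let q := HomotopyCategory.quotient A (ComplexShape.up ℤ)
  obtain ⟨f', hf⟩ := (CochainComplex.IsKInjective.Qh_map_bijective (q.obj X) J).2
    (c.hom.app X ≫ φ ≫ c.inv.app J)
  obtain ⟨f, rfl⟩ := q.map_surjective f'
  refine ⟨f, ?_⟩
  rw [← cancel_epi (c.hom.app X), ← cancel_mono (c.inv.app J), Category.assoc, Category.assoc, ← hf]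
  have hn := c.hom.naturality f
  simp only [Functor.comp_map] at hn
  rw [← reassoc_of% hn, Iso.hom_inv_id_app]
  exact Category.comp_id _

theorem exists_cochain {X J : CochainComplex A ℤ} [J.IsKInjective] (f g : X ⟶ J)
    (h : DerivedCategory.Q.map f = DerivedCategory.Q.map g) :
    ∃ z : Cochain X J (-1), δ (-1) 0 z = Cochain.ofHom (f - g) := by
  let c := DerivedCategory.quotientCompQhIso A
  let q := HomotopyCategory.quotient A (ComplexShape.up ℤ)
  have h1 : q.map f = q.map g := (CochainComplex.IsKInjective.Qh_map_bijective (q.obj X) J).1 (by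
    rw [← cancel_mono (c.hom.app J)]
    exact (c.hom.naturality f).trans ((congrArg (c.hom.app X ≫ ·) h).trans (c.hom.naturality g).symm))
  obtain ⟨z, hz⟩ := Cochain.equivHomotopy f g (HomotopyCategory.homotopyOfEq _ _ h1)
  exact ⟨z, by rw [Cochain.ofHom_sub, hz, add_sub_cancel_right]⟩

theorem mono_inr {K L : CochainComplex A ℤ} (φ : K ⟶ L) : Mono (mappingCone.inr φ) := by
  haveI : ∀ n, Mono ((mappingCone.inr φ).f n) := fun n =>
    SplitMono.mono ⟨(mappingCone.snd φ).v n n (add_zero n), mappingCone.inr_f_snd_v φ n⟩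
  exact HomologicalComplex.mono_of_mono_f _ inferInstance

/-- the cone of the identity -/
noncomputable abbrev cn (K : CochainComplex A ℤ) : CochainComplex A ℤ := mappingCone (𝟙 K)

/-- its functoriality -/
noncomputable abbrev cnMap {K L : CochainComplex A ℤ} (f : K ⟶ L) : cn K ⟶ cn L :=
  mappingCone.map (𝟙 K) (𝟙 L) f f (by simp)

theorem inr_cnMap {K L : CochainComplex A ℤ} (f : K ⟶ L) :
    mappingCone.inr (𝟙 K) ≫ cnMap f = f ≫ mappingCone.inr (𝟙 L) := mappingCone.inr_desc _ _ _ _

theorem cnMap_comp {K L M : CochainComplex A ℤ} (f : K ⟶ L) (g : L ⟶ M) :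
    cnMap (f ≫ g) = cnMap f ≫ cnMap g := mappingCone.map_comp _ _ _ _ _ _ _ _ _

theorem cnMap_id (K : CochainComplex A ℤ) : cnMap (𝟙 K) = 𝟙 _ := mappingCone.map_id _

theorem cnMap_zero (K L : CochainComplex A ℤ) : cnMap (0 : K ⟶ L) = 0 := by
  ext n
  simp [mappingCone.map, mappingCone.ext_from_iff _ (n + 1) n rfl]

theorem isZero_Q_cn (K : CochainComplex A ℤ) : IsZero (DerivedCategory.Q.obj (cn K)) :=
  (Functor.map_isZero DerivedCategory.Qh ((HomotopyCategory.isZero_quotient_obj_iff _).2
    ⟨CochainComplex.mappingCone.homotopyToZeroOfId K⟩)).of_iso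
      ((DerivedCategory.quotientCompQhIso A).app (cn K)).symm

theorem isIso_Q_fst (I K : CochainComplex A ℤ) :
    IsIso (DerivedCategory.Q.map (biprod.fst : I ⊞ cn K ⟶ I)) := by
  refine ⟨DerivedCategory.Q.map biprod.inl, ?_, ?_⟩
  · have h : DerivedCategory.Q.map (biprod.snd : I ⊞ cn K ⟶ cn K) = 0 := (isZero_Q_cn K).eq_of_tgt _ _
    rw [← Functor.map_comp, ← CategoryTheory.Functor.map_id, ← biprod.total, Functor.map_add,
      Functor.map_comp DerivedCategory.Q biprod.snd, h, zero_comp, add_zero]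
  · rw [← Functor.map_comp, biprod.inl_fst, CategoryTheory.Functor.map_id]

section System

variable (I : ℤ → CochainComplex A ℤ) (f : ∀ i, I (i + 1) ⟶ I i)

/-- indices from `i` on -/
abbrev Ge (i : ℤ) : Type := {j : ℤ // i ≤ j}

/-- the later terms -/
noncomputable def N (i : ℤ) : CochainComplex A ℤ := ∐ fun j : Ge i => I (j.1 + 1)

/-- the thickened terms -/
noncomputable abbrev J (i : ℤ) : CochainComplex A ℤ := I i ⊞ cn (N I i)

/-- inclusion of a later term -/
noncomputable abbrev inN (i : ℤ) (j : Ge i) : I (j.1 + 1) ⟶ N I i := Sigma.ι (fun j : Ge i => I (j.1 + 1)) j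

/-- the shift -/
noncomputable def sN (i : ℤ) : N I (i + 1) ⟶ N I i :=
  Sigma.desc fun j => inN I i ⟨j.1, by have := j.2; omega⟩

/-- the thickened transition maps -/
noncomputable def tr (i : ℤ) : J I (i + 1) ⟶ J I i :=
  biprod.desc (biprod.lift (f i) (inN I i ⟨i, le_rfl⟩ ≫ mappingCone.inr _)) (cnMap (sN I i) ≫ biprod.inr)

theorem mono_tr (i : ℤ) : Mono (tr I f i) := by
  let π : N I i ⟶ I (i + 1) := Sigma.desc fun j => if h : j.1 = i then eqToHom (by rw [h]) else 0
  let r : N I i ⟶ N I (i + 1) := Sigma.desc fun j =>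
    if h : i + 1 ≤ j.1 then inN I (i + 1) ⟨j.1, h⟩ else 0
  have h1 : inN I i ⟨i, le_rfl⟩ ≫ π = 𝟙 _ := by simp [π, inN, N]
  have h2 : inN I i ⟨i, le_rfl⟩ ≫ r = 0 := by simp [r, inN, N]
  have h3 : sN I i ≫ π = 0 := Sigma.hom_ext _ _ fun j => by
    have := j.2
    simp [sN, π, inN, N, show j.1 ≠ i by omega]
  have h4 : sN I i ≫ r = 𝟙 _ := Sigma.hom_ext _ _ fun j => by
    have := j.2
    simp [sN, r, inN, N, show i + 1 ≤ j.1 by omega]
  haveI := mono_inr (𝟙 (I (i + 1)))
  have key : tr I f i ≫ biprod.snd ≫ biprod.lift (cnMap π) (cnMap r) =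
      biprod.map (mappingCone.inr (𝟙 (I (i + 1)))) (𝟙 _) := by
    refine biprod.hom_ext' _ _ (biprod.hom_ext _ _ ?_ ?_) (biprod.hom_ext _ _ ?_ ?_)
    · simp [tr, inr_cnMap, reassoc_of% h1]
    · simp [tr, inr_cnMap, reassoc_of% h2]
    · simp [tr, ← cnMap_comp, h3, cnMap_zero]
    · simp [tr, ← cnMap_comp, h4, cnMap_id]
  haveI : Mono (tr I f i ≫ biprod.snd ≫ biprod.lift (cnMap π) (cnMap r)) := by
    rw [key]; infer_instance
  exact mono_of_mono _ (biprod.snd ≫ biprod.lift (cnMap π) (cnMap r))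

theorem tr_fst (i : ℤ) : tr I f i ≫ biprod.fst = biprod.fst ≫ f i := by
  apply biprod.hom_ext' <;> simp [tr]

variable {E : CochainComplex A ℤ} (h : ∀ i, I i ⟶ E) (z : ∀ i, Cochain (I (i + 1)) E (-1))
  (hz : ∀ i, δ (-1) 0 (z i) = Cochain.ofHom (h (i + 1) - f i ≫ h i))

/-- the degrees of the coproduct -/
noncomputable def cofanX (i n : ℤ) : IsColimit (Cofan.mk ((N I i).X n)
    fun j : Ge i => (inN I i j).f n) :=
  isColimitCofanMkObjOfIsColimit (HomologicalComplex.eval A (ComplexShape.up ℤ) n) _ _ (coproductIsCoproduct _)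

/-- the summed homotopy -/
noncomputable def zN (i : ℤ) : Cochain (N I i) E (-1) :=
  Cochain.mk fun p q hpq => Cofan.IsColimit.desc (cofanX I i p) fun j => (z j.1).v p q hpq

theorem in_zN (i : ℤ) (j : Ge i) (p q : ℤ) (hpq : p + -1 = q) :
    (inN I i j).f p ≫ (zN I z i).v p q hpq = (z j.1).v p q hpq :=
  Cofan.IsColimit.fac (cofanX I i p) _ j

include hz in
theorem δ_zN (i : ℤ) :
    δ (-1) 0 (zN I z i) = Cochain.ofHom (Sigma.desc fun j : Ge i => h (j.1 + 1) - f j.1 ≫ h j.1 : N I i ⟶ E) := by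
  refine Cochain.ext _ _ fun p q hpq => ?_
  obtain rfl : p = q := by omega
  refine Cofan.IsColimit.hom_ext (cofanX I i p) _ _ fun j => ?_
  have hz' := Cochain.congr_v (hz j.1) p p (add_zero p)
  change (inN I i j).f p ≫ _ = (inN I i j).f p ≫ _
  rw [Cochain.ofHom_v, ← HomologicalComplex.comp_f]
  simp only [inN, N, Sigma.ι_desc]
  rw [← Cochain.ofHom_v (h (j.1 + 1) - f j.1 ≫ h j.1) p, ← hz']
  rw [δ_v (-1) 0 (by norm_num) _ p p (add_zero p) (p - 1) (p + 1) (by omega) rfl,
    δ_v (-1) 0 (by norm_num) _ p p (add_zero p) (p - 1) (p + 1) (by omega) rfl, Preadditive.comp_add]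
  have e1 : (inN I i j).f p ≫ (zN I z i).v p (p - 1) (by omega) ≫ E.d (p - 1) p =
      (z j.1).v p (p - 1) (by omega) ≫ E.d (p - 1) p := by rw [← Category.assoc, in_zN]
  have e2 : (inN I i j).f p ≫ (N I i).d p (p + 1) ≫ (zN I z i).v (p + 1) p (by omega) =
      (I (j.1 + 1)).d p (p + 1) ≫ (z j.1).v (p + 1) p (by omega) := by
    rw [← Category.assoc, HomologicalComplex.Hom.comm, Category.assoc, in_zN]
  rw [Linear.comp_units_smul]
  exact congrArg₂ (· + ·) e1 (congrArg (_ • ·) e2)

/-- the map to the total object -/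
noncomputable def g (i : ℤ) : J I i ⟶ E :=
  biprod.desc (h i) (mappingCone.desc (𝟙 (N I i)) (zN I z i)
    (Sigma.desc fun j : Ge i => h (j.1 + 1) - f j.1 ≫ h j.1) (by rw [Category.id_comp]; exact δ_zN I f h z hz i))

theorem tr_g (i : ℤ) : tr I f i ≫ g I f h z hz i = g I f h z hz (i + 1) := by
  refine biprod.hom_ext' _ _ ?_ ?_
  · simp [tr, g, inN, N]
  · simp only [tr, g, biprod.inr_desc_assoc, biprod.inr_desc, Category.assoc]
    ext n
    rw [HomologicalComplex.comp_f, mappingCone.ext_from_iff _ (n + 1) n rfl]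
    constructor
    · simp only [cnMap, mappingCone.map, mappingCone.inl_v_desc_f_assoc, Cochain.zero_cochain_comp_v,
        Cochain.ofHom_v, Category.assoc, mappingCone.inl_v_desc_f]
      refine Cofan.IsColimit.hom_ext (cofanX I (i + 1) (n + 1)) _ _ fun j => ?_
      change (inN I (i + 1) j).f (n + 1) ≫ _ = (inN I (i + 1) j).f (n + 1) ≫ _
      rw [in_zN, ← Category.assoc, ← HomologicalComplex.comp_f]
      simp only [inN, N, sN, Sigma.ι_desc]
      exact in_zN I z i ⟨j.1, _⟩ _ _ _
    · simp only [cnMap, mappingCone.map, mappingCone.inr_f_desc_f_assoc, HomologicalComplex.comp_f, Category.assoc,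
        mappingCone.inr_f_desc_f]
      rw [← HomologicalComplex.comp_f]
      congr 1
      exact Sigma.hom_ext _ _ fun j => by simp [sN, inN, N]

end System

theorem main (E : DerivedCategory A) (Es : ℤ → DerivedCategory A) (t : ∀ i : ℤ, Es (i + 1) ⟶ Es i)
    (a : ∀ i : ℤ, Es i ⟶ E) (hat : ∀ i : ℤ, t i ≫ a i = a (i + 1)) :
    ∃ (K : SpSeq.FilCx A) (e : DerivedCategory.Q.obj K.obj ≅ E)
      (ei : ∀ i : ℤ, DerivedCategory.Q.obj (K.step i) ≅ Es i),
      (∀ i : ℤ, DerivedCategory.Q.map (K.fil i).arrow ≫ e.hom = (ei i).hom ≫ a i) ∧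
      (∀ i : ℤ, DerivedCategory.Q.map (K.stepLE (le_of_lt (Int.lt_succ_self i))) ≫ (ei i).hom =
        (ei (i + 1)).hom ≫ t i) := by
  have hrep : ∀ X : DerivedCategory A, ∃ (Z : CochainComplex A ℤ), Z.IsKInjective ∧
      Nonempty (DerivedCategory.Q.obj Z ≅ X) := fun X =>
    haveI : IsIso (DerivedCategory.Q.map (KInjRes.resι (DerivedCategory.Q.objPreimage X))) :=
      (DerivedCategory.isIso_Q_map_iff_quasiIso A _).2 inferInstance
    ⟨KInjRes.res (DerivedCategory.Q.objPreimage X), inferInstance,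
      ⟨(asIso (DerivedCategory.Q.map (KInjRes.resι (DerivedCategory.Q.objPreimage X)))).symm ≪≫
        DerivedCategory.Q.objObjPreimageIso X⟩⟩
  obtain ⟨Z, hZ, ⟨eE⟩⟩ := hrep E
  choose I hI eI using fun i => hrep (Es i)
  have eI' := fun i => (eI i).some
  choose f hf using fun i => haveI := hI i; exists_map ((eI' (i + 1)).hom ≫ t i ≫ (eI' i).inv)
  haveI := hZ
  choose h hh using fun i => exists_map ((eI' i).hom ≫ a i ≫ eE.inv)
  have hcomm : ∀ i, DerivedCategory.Q.map (h (i + 1)) = DerivedCategory.Q.map (f i ≫ h i) := fun i => by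
    rw [Functor.map_comp, hf, hh, hh, ← hat i]
    simp
  choose z hz using fun i => exists_cochain (h (i + 1)) (f i ≫ h i) (hcomm i)
  haveI := mono_tr I f
  obtain ⟨T, l, hl, hlc⟩ := exists_embed (J I) (tr I f) (mono_tr I f)
  let emb : ∀ i, J I i ⟶ Z ⊞ cn T := fun i => biprod.lift (g I f h z hz i) (l i ≫ mappingCone.inr _)
  haveI : ∀ i, Mono (emb i) := fun i => by
    haveI := hl i
    haveI := mono_inr (𝟙 T)
    haveI : Mono (emb i ≫ biprod.snd) := by simp only [emb, biprod.lift_snd]; infer_instance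
    exact mono_of_mono _ biprod.snd
  have hemb : ∀ i, tr I f i ≫ emb i = emb (i + 1) := fun i => by
    refine biprod.hom_ext _ _ ?_ ?_
    · simp [emb, tr_g]
    · simp [emb, reassoc_of% (hlc i)]
  have hle : ∀ i, Subobject.mk (emb (i + 1)) ≤ Subobject.mk (emb i) := fun i =>
    Subobject.mk_le_mk_of_comm (tr I f i) (hemb i)
  let K : SpSeq.FilCx A := ⟨Z ⊞ cn T, fun i => Subobject.mk (emb i), antitone_int_of_succ_le hle⟩
  haveI : ∀ i, IsIso (DerivedCategory.Q.map (biprod.fst : J I i ⟶ I i)) := fun i => isIso_Q_fst _ _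
  haveI := isIso_Q_fst Z T
  refine ⟨K, asIso (DerivedCategory.Q.map (biprod.fst : Z ⊞ cn T ⟶ Z)) ≪≫ eE,
    fun i => DerivedCategory.Q.mapIso (Subobject.underlyingIso (emb i)) ≪≫
      asIso (DerivedCategory.Q.map (biprod.fst : J I i ⟶ I i)) ≪≫ eI' i, fun i => ?_, fun i => ?_⟩
  · have harr : (K.fil i).arrow = (Subobject.underlyingIso (emb i)).hom ≫ emb i :=
      (Subobject.underlyingIso_hom_comp_eq_mk _).symm
    have hgi : DerivedCategory.Q.map (g I f h z hz i) =
        DerivedCategory.Q.map (biprod.fst : J I i ⟶ I i) ≫ DerivedCategory.Q.map (h i) := by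
      haveI : IsIso (DerivedCategory.Q.map (biprod.inl : I i ⟶ J I i)) := by
        rw [show DerivedCategory.Q.map (biprod.inl : I i ⟶ J I i) = inv (DerivedCategory.Q.map biprod.fst) from
          IsIso.eq_inv_of_inv_hom_id (by rw [← Functor.map_comp, biprod.inl_fst, CategoryTheory.Functor.map_id])]
        infer_instance
      rw [← cancel_epi (DerivedCategory.Q.map (biprod.inl : I i ⟶ J I i)), ← Functor.map_comp, ← Functor.map_comp,
        ← Functor.map_comp]
      simp [g]
    simp only [Iso.trans_hom, asIso_hom, Functor.mapIso_hom, Category.assoc]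
    rw [harr, ← Functor.map_comp_assoc, Category.assoc]
    simp only [emb, biprod.lift_fst]
    rw [Functor.map_comp, Category.assoc, hgi, Category.assoc, hh]
    simp
  · let v : K.step (i + 1) ⟶ K.step i :=
      (Subobject.underlyingIso (emb (i + 1))).hom ≫ tr I f i ≫ (Subobject.underlyingIso (emb i)).inv
    have hst : K.stepLE (p := i) (q := i + 1) (by omega) = v := by
      rw [← cancel_mono (K.fil i).arrow, Subobject.ofLE_arrow]
      change (Subobject.mk (emb (i + 1))).arrow = v ≫ (Subobject.mk (emb i)).arrow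
      simp only [v, Category.assoc]
      rw [Subobject.underlyingIso_arrow, hemb, Subobject.underlyingIso_hom_comp_eq_mk]
    change DerivedCategory.Q.map (K.stepLE (p := i) (q := i + 1) (by omega)) ≫ _ = _
    rw [hst]
    simp only [v, Iso.trans_hom, asIso_hom, Functor.mapIso_hom, Category.assoc, Functor.map_comp,
      Iso.map_inv_hom_id_assoc]
    rw [← Functor.map_comp_assoc DerivedCategory.Q (tr I f i), tr_fst, Functor.map_comp, Category.assoc, hf]
    simp

end Groth.L10.FilRep
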