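import Mathlib.Algebra.Homology.HomologicalComplexLimits
import Mathlib.Algebra.Homology.HomologicalComplexAbelian
import Mathlib.CategoryTheory.Abelian.GrothendieckAxioms.Basic
import Mathlib.Algebra.Homology.ShortComplex.PreservesHomology
import Mathlib.Algebra.Homology.ShortComplex.FunctorEquivalence
import Mathlib.Algebra.Homology.QuasiIso

/-! Homology of sequential colimits. -/

universe v u

open CategoryTheory CategoryTheory.Limits

set_option backward.defeqAttrib.useBackward true
set_option backward.isDefEq.respectTransparency false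
namespace Groth.L10.HomColimNat

variable {A : Type u} [Category.{v} A] [Abelian A] [HasColimitsOfShape ℕ A] [HasExactColimitsOfShape ℕ A]

theorem joint_epi (D : ℕ ⥤ CochainComplex A ℤ) (i : ℤ) {W : A} (a b : (colimit D).homology i ⟶ W)
    (h : ∀ j, HomologicalComplex.homologyMap (colimit.ι D j) i ≫ a =
      HomologicalComplex.homologyMap (colimit.ι D j) i ≫ b) : a = b := by
  let SC : ShortComplex (ℕ ⥤ A) := (ShortComplex.functorEquivalence ℕ A).inverse.obj
    (D ⋙ HomologicalComplex.shortComplexFunctor A (ComplexShape.up ℤ) i)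
  let e := fun k => preservesColimitIso (HomologicalComplex.eval A (ComplexShape.up ℤ) k) D
  have he : ∀ (k : ℤ) (j : ℕ), colimit.ι (D ⋙ HomologicalComplex.eval A (ComplexShape.up ℤ) k) j ≫ (e k).inv =
      (colimit.ι D j).f k := fun k j => ι_preservesColimitIso_inv _ _ _
  let f : SC.map colim ≅ (colimit D).sc i := ShortComplex.isoMk (e _).symm (e _).symm (e _).symm
    (by
      refine colimit.hom_ext fun j => ?_
      simp [e, SC, ShortComplex.functorEquivalence, ShortComplex.FunctorEquivalence.inverse]
      exact (Category.assoc _ _ _).symm.trans ((congrArg (· ≫ _) (he _ j)).trans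
        (((colimit.ι D j).comm _ _).trans (congrArg (_ ≫ ·) (he _ j).symm))))
    (by
      refine colimit.hom_ext fun j => ?_
      simp [e, SC, ShortComplex.functorEquivalence, ShortComplex.FunctorEquivalence.inverse]
      exact (Category.assoc _ _ _).symm.trans ((congrArg (· ≫ _) (he _ j)).trans
        (((colimit.ι D j).comm _ _).trans (congrArg (_ ≫ ·) (he _ j).symm))))
  let τ : ∀ j, (evaluation ℕ A).obj j ⟶ colim := fun j => { app := fun F => colimit.ι F j }
  let g : (colim.obj SC.homology) ≅ (colimit D).homology i :=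
    (SC.mapHomologyIso colim).symm ≪≫ ShortComplex.homologyMapIso f
  rw [← cancel_epi g.hom]
  refine colimit.hom_ext fun j => ?_
  have hτ : colimit.ι SC.homology j ≫ g.hom =
      (SC.mapHomologyIso ((evaluation ℕ A).obj j)).inv ≫ HomologicalComplex.homologyMap (colimit.ι D j) i := by
    have hcomp : SC.mapNatTrans (τ j) ≫ f.hom =
        ((HomologicalComplex.shortComplexFunctor A (ComplexShape.up ℤ) i).map (colimit.ι D j) :
          SC.map ((evaluation ℕ A).obj j) ⟶ (colimit D).sc i) := by
      ext
      · exact he _ j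
      · exact he _ j
      · exact he _ j
    change (τ j).app SC.homology ≫ _ = _
    rw [NatTrans.app_homology]
    simp only [g, Iso.trans_hom, Iso.symm_hom, ShortComplex.homologyMapIso_hom, Category.assoc, Iso.hom_inv_id_assoc]
    rw [← ShortComplex.homologyMap_comp, hcomp]
    rfl
  rw [reassoc_of% hτ, reassoc_of% hτ, h j]

theorem quasiIsoAt_colimit_desc (D : ℕ ⥤ CochainComplex A ℤ) {G : CochainComplex A ℤ} (φ : ∀ n, D.obj n ⟶ G)
    (c : colimit D ⟶ G) (hc : ∀ n, colimit.ι D n ≫ c = φ n) (i : ℤ) (N : ℕ)
    (hN : ∀ n, N ≤ n → QuasiIsoAt (φ n) i) : QuasiIsoAt c i := by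
  rw [quasiIsoAt_iff_isIso_homologyMap]
  have hiso : ∀ n, N ≤ n → IsIso (HomologicalComplex.homologyMap (φ n) i) := fun n hn =>
    (quasiIsoAt_iff_isIso_homologyMap _ _).1 (hN n hn)
  have := hiso N le_rfl
  let a := inv (HomologicalComplex.homologyMap (φ N) i) ≫ HomologicalComplex.homologyMap (colimit.ι D N) i
  have hw : ∀ (p q : ℕ) (h : p ≤ q), D.map (homOfLE h) ≫ φ q = φ p := fun p q h => by
    rw [← hc, colimit.w_assoc, hc]
  refine ⟨a, joint_epi D i _ _ fun j => ?_, ?_⟩
  · let M := max j N
    have := hiso M (le_max_right _ _)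
    have ha : a = inv (HomologicalComplex.homologyMap (φ M) i) ≫ HomologicalComplex.homologyMap (colimit.ι D M) i := by
      rw [IsIso.inv_comp_eq, ← colimit.w D (homOfLE (le_max_right j N)), HomologicalComplex.homologyMap_comp]
      have hb := congrArg (fun t => HomologicalComplex.homologyMap t i) (hw N M (le_max_right _ _))
      simp only [HomologicalComplex.homologyMap_comp] at hb
      rw [← reassoc_of% hb, IsIso.hom_inv_id_assoc]
    rw [Category.comp_id, ← Category.assoc, ← HomologicalComplex.homologyMap_comp, hc, ha,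
      ← hw j M (le_max_left _ _), HomologicalComplex.homologyMap_comp, Category.assoc, IsIso.hom_inv_id_assoc,
      ← HomologicalComplex.homologyMap_comp, colimit.w]
  · rw [Category.assoc, ← HomologicalComplex.homologyMap_comp, hc, IsIso.inv_hom_id]

end Groth.L10.HomColimNat
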