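import Groth.Agent.L10.ResStep
import Groth.Agent.L10.HomColimNat
import Groth.Agent.L10.FreeOn
import Groth.Agent.L10.SheafModGroth
import Mathlib.CategoryTheory.Functor.OfSequence
import Mathlib.Algebra.Homology.Embedding.CochainComplex

/-! Systems of resolutions by sums of free modules. -/

universe u

open CategoryTheory CategoryTheory.Limits Opposite

set_option backward.defeqAttrib.useBackward true
set_option backward.isDefEq.respectTransparency false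
namespace Groth.L10.FreeResSystem

variable {C : Type u} [SmallCategory C] {J : GrothendieckTopology C} (O : Sheaf J CommRingCat.{u})

/-- Sums of free modules. -/
def FreeSum (M : ModSite.Mod O) : Prop :=
  ∃ (ι : Type u) (U : ι → C), Nonempty (M ≅ ∐ fun j => ModSite.freeOn O (U j))

theorem freeSum_iso {M N : ModSite.Mod O} (e : M ≅ N) (h : FreeSum O M) : FreeSum O N := by
  obtain ⟨ι, U, ⟨i⟩⟩ := h
  exact ⟨ι, U, ⟨e.symm ≪≫ i⟩⟩

theorem freeSum_zero : ∃ Z : ModSite.Mod O, IsZero Z ∧ FreeSum O Z := by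
  refine ⟨∐ fun j : PEmpty.{u + 1} => ModSite.freeOn O (j.elim : C), ?_, PEmpty.{u + 1}, fun j => j.elim, ⟨Iso.refl _⟩⟩
  rw [IsZero.iff_id_eq_zero]
  exact Sigma.hom_ext _ _ fun j => j.elim

theorem freeSum_biprod {M N : ModSite.Mod O} (hM : FreeSum O M) (hN : FreeSum O N) : FreeSum O (M ⊞ N) := by
  obtain ⟨ι, U, ⟨i⟩⟩ := hM
  obtain ⟨κ, V, ⟨j⟩⟩ := hN
  refine ⟨ι ⊕ κ, Sum.elim U V, ⟨biprod.mapIso i j ≪≫ ?_⟩⟩
  let F := fun s : ι ⊕ κ => ModSite.freeOn O (Sum.elim U V s)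
  exact
    { hom := biprod.desc (Sigma.desc fun a => Sigma.ι F (Sum.inl a)) (Sigma.desc fun b => Sigma.ι F (Sum.inr b))
      inv := Sigma.desc (Sum.rec (fun a => Sigma.ι (fun a => ModSite.freeOn O (U a)) a ≫ biprod.inl)
        (fun b => Sigma.ι (fun b => ModSite.freeOn O (V b)) b ≫ biprod.inr))
      hom_inv_id := biprod.hom_ext' _ _ (Sigma.hom_ext _ _ fun a => by simp [F]) (Sigma.hom_ext _ _ fun b => by simp [F])
      inv_hom_id := Sigma.hom_ext _ _ fun s => by cases s <;> simp [F] }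

theorem freeSum_cover (M : ModSite.Mod O) : ∃ (Y : ModSite.Mod O) (π : Y ⟶ M), FreeSum O Y ∧ Epi π := by
  let κ := Σ U : C, (ModSite.freeOn O U ⟶ M)
  refine ⟨∐ fun k : κ => ModSite.freeOn O k.1, Sigma.desc fun k => k.2, ⟨κ, fun k => k.1, ⟨Iso.refl _⟩⟩,
    ⟨fun a b h => ?_⟩⟩
  refine FreeOn.isSeparating O (G := Set.univ) (fun X => ⟨PUnit, fun _ => X, fun _ => 𝟙 X, ?_, fun _ => Set.mem_univ _⟩)
    a b ?_
  · convert J.top_mem X
    ext Y g
    simp only [Sieve.top_apply, iff_true]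
    exact ⟨X, g, 𝟙 X, ⟨PUnit.unit⟩, Category.comp_id g⟩
  · rintro G ⟨⟨V, hV⟩⟩ q
    have := Sigma.ι (fun k : κ => ModSite.freeOn O k.1) ⟨V, q⟩ ≫= h
    simpa using this

/-- A bounded above resolution of a truncation. -/
structure Stage (G : CochainComplex (ModSite.Mod O) ℤ) (n : ℕ) where
  K : CochainComplex (ModSite.Mod O) ℤ
  π : K ⟶ G.truncLE ((n : ℤ) + 1)
  le : K.IsStrictlyLE ((n : ℤ) + 1)
  free : ∀ i, FreeSum O (K.X i)
  qis : QuasiIso π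
  epi : ∀ i, Epi (π.f i)

variable {O} in
theorem exists_trans (G : CochainComplex (ModSite.Mod O) ℤ) (p q : ℤ) (h : p ≤ q) :
    ∃ t : G.truncLE p ⟶ G.truncLE q, t ≫ G.ιTruncLE q = G.ιTruncLE p := by
  have : (G.truncLE p).IsStrictlyLE q := CochainComplex.isStrictlyLE_of_le _ p q h
  have : IsIso ((G.truncLE p).ιTruncLE q) := (CochainComplex.isIso_ιTruncLE_iff _ _).2 inferInstance
  refine ⟨inv ((G.truncLE p).ιTruncLE q) ≫ CochainComplex.truncLEMap (G.ιTruncLE p) q, ?_⟩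
  rw [Category.assoc, CochainComplex.ιTruncLE_naturality, IsIso.inv_hom_id_assoc]

theorem exists_system (G : CochainComplex (ModSite.Mod O) ℤ) :
    ∃ (Kc : ℕ ⥤ CochainComplex (ModSite.Mod O) ℤ) (π : ∀ n : ℕ, Kc.obj n ⟶ G.truncLE ((n : ℤ) + 1)),
      (∀ n : ℕ, Kc.map (homOfLE (Nat.le_succ n)) ≫ π (n + 1) ≫ G.ιTruncLE (((n + 1 : ℕ) : ℤ) + 1) =
        π n ≫ G.ιTruncLE ((n : ℤ) + 1)) ∧
      (∀ n : ℕ, QuasiIso (π n) ∧ ∀ i : ℤ, Epi ((π n).f i)) ∧
      (∀ n : ℕ, ∃ b : ℤ, (Kc.obj n).IsStrictlyLE b) ∧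
      (∀ (n : ℕ) (i : ℤ), ∃ (ι : Type u) (U : ι → C),
        Nonempty ((Kc.obj n).X i ≅ ∐ fun j => ModSite.freeOn O (U j))) ∧
      (∀ (n : ℕ) (i : ℤ), ∃ r : (Kc.obj (n + 1)).X i ⟶ (Kc.obj n).X i,
        (Kc.map (homOfLE (Nat.le_succ n))).f i ≫ r = 𝟙 _ ∧
        ∃ (ι : Type u) (U : ι → C),
          Nonempty (cokernel ((Kc.map (homOfLE (Nat.le_succ n))).f i) ≅ ∐ fun j => ModSite.freeOn O (U j))) ∧
      ∃ c : colimit Kc ⟶ G, (∀ n : ℕ, colimit.ι Kc n ≫ c = π n ≫ G.ιTruncLE ((n : ℤ) + 1)) ∧ QuasiIso c := by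
  have h0 : Nonempty (Stage O G 0) := by
    obtain ⟨K, α, hK, hP, he, hq⟩ := Groth.L00.ClassResLeft.exists_res (FreeSum O) (freeSum_zero O) (freeSum_cover O)
      (G.truncLE (((0 : ℕ) : ℤ) + 1)) (((0 : ℕ) : ℤ) + 1)
    exact ⟨⟨K, α, hK, hP, hq, he⟩⟩
  have hstep : ∀ (n : ℕ) (s : Stage O G n), ∃ (s' : Stage O G (n + 1)) (j : s.K ⟶ s'.K),
      j ≫ s'.π ≫ G.ιTruncLE (((n + 1 : ℕ) : ℤ) + 1) = s.π ≫ G.ιTruncLE ((n : ℤ) + 1) ∧
      ∀ i, ∃ r : s'.K.X i ⟶ s.K.X i, j.f i ≫ r = 𝟙 _ ∧ FreeSum O (cokernel (j.f i)) := by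
    intro n s
    obtain ⟨t, ht⟩ := exists_trans G ((n : ℤ) + 1) (((n + 1 : ℕ) : ℤ) + 1) (by omega)
    have := s.le
    have : s.K.IsStrictlyLE (((n + 1 : ℕ) : ℤ) + 1) := CochainComplex.isStrictlyLE_of_le _ ((n : ℤ) + 1) _ (by omega)
    obtain ⟨K', incl, π, hπ, hle, he, hq, hsplit⟩ := ResStep.exists_step (FreeSum O) (freeSum_zero O) (freeSum_cover O)
      (s.π ≫ t) (((n + 1 : ℕ) : ℤ) + 1)
    refine ⟨⟨K', π, hle, fun i => ?_, hq, he⟩, incl, by rw [reassoc_of% hπ, ht], fun i => ?_⟩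
    · obtain ⟨r, hr, R, hR, ⟨e⟩, -⟩ := hsplit i
      exact freeSum_iso O e.symm (freeSum_biprod O (s.free i) hR)
    · obtain ⟨r, hr, R, hR, -, ⟨e⟩⟩ := hsplit i
      exact ⟨r, hr, freeSum_iso O e.symm hR⟩
  choose next j hj hjs using hstep
  let S : ∀ n, Stage O G n := fun n => Nat.rec h0.some next n
  let Kc : ℕ ⥤ CochainComplex (ModSite.Mod O) ℤ := Functor.ofSequence (X := fun n => (S n).K) (fun n => j n (S n))
  have hmap : ∀ n, Kc.map (homOfLE (Nat.le_succ n)) = j n (S n) := fun n => Functor.ofSequence_map_homOfLE_succ _ n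
  let φ : ∀ n, Kc.obj n ⟶ G := fun n => (S n).π ≫ G.ιTruncLE ((n : ℤ) + 1)
  let co : Cocone Kc :=
    { pt := G
      ι := NatTrans.ofSequence φ (fun n => by
        rw [hmap]
        exact (hj n (S n)).trans (Category.comp_id _).symm) }
  refine ⟨Kc, fun n => (S n).π, fun n => by rw [hmap]; exact hj n (S n), fun n => ⟨(S n).qis, (S n).epi⟩,
    fun n => ⟨_, (S n).le⟩, fun n i => (S n).free i, fun n i => ?_, colimit.desc Kc co, fun n => colimit.ι_desc co n, ?_⟩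
  · obtain ⟨r, hr, hf⟩ := hjs n (S n) i
    rw [hmap]
    exact ⟨r, hr, hf⟩
  · have := Groth.L10.shMod_isGrothendieckAbelian (ModSite.ringSh O)
    have : HasExactColimitsOfShape ℕ (ModSite.Mod O) :=
      HasExactColimitsOfShape.of_domain_equivalence _ (AsSmall.equiv.{0, 0, u} (C := ℕ)).symm
    refine ⟨fun i => HomColimNat.quasiIsoAt_colimit_desc Kc φ _ (fun n => colimit.ι_desc co n) i i.toNat fun n hn => ?_⟩
    have := (S n).qis
    have := (quasiIso_iff (S n).π).1 (S n).qis i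
    have := CochainComplex.quasiIsoAt_ιTruncLE G ((n : ℤ) + 1) i (by omega)
    exact quasiIsoAt_comp (S n).π (G.ιTruncLE ((n : ℤ) + 1)) i

end Groth.L10.FreeResSystem
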