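import Mathlib.CategoryTheory.Abelian.GrothendieckCategory.EnoughInjectives

/-! Functorial injective embeddings in Grothendieck abelian categories. -/

universe w v u

open CategoryTheory Limits MorphismProperty ZeroObject

namespace Groth.L10

variable (C : Type u) [Category.{v} C] [Abelian C] [IsGrothendieckAbelian.{w} C]

theorem exists_functorial_injective_embedding :
    ∃ (J : C ⥤ C) (j : 𝟭 C ⟶ J), ∀ X, Injective (J.obj X) ∧ Mono (j.app X) := by
  let Φ : C ⥤ Arrow C :=
    { obj := fun X => Arrow.mk (0 : X ⟶ 0)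
      map := fun f => Arrow.homMk f 0 (by simp) }
  let d := functorialFactorizationData (monomorphisms C) (monomorphisms C).rlp
  let j : 𝟭 C ⟶ Φ ⋙ d.Z :=
    { app := fun X => d.i.app (Φ.obj X)
      naturality := fun X Y f => d.i.naturality (Φ.map f) }
  refine ⟨Φ ⋙ d.Z, j, fun X => ⟨?_, ?_⟩⟩
  · change Injective (IsGrothendieckAbelian.monoMapFactorizationDataRlp (0 : X ⟶ 0)).Z
    infer_instance
  · exact d.hi (Φ.obj X)

end Groth.L10
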