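import Groth.Prelude.Def_CohCx
import Groth.Agent.L10.SiteCoh
import Groth.Agent.L10.TowerStab
import Groth.Agent.L10.HomotopyProd
import Mathlib.CategoryTheory.Abelian.GrothendieckAxioms.Sheaf
import Mathlib.CategoryTheory.Generator.Sheaf
import Mathlib.Algebra.Category.Grp.AB

/-! Hypercohomology on objects which are acyclic for all cohomology sheaves. -/

universe u

open CategoryTheory CategoryTheory.Limits CategoryTheory.Abelian CategoryTheory.Pretriangulated Opposite DerivedCategory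

set_option autoImplicit false
set_option backward.defeqAttrib.useBackward true
set_option backward.isDefEq.respectTransparency false
set_option backward.isDefEq.respectTransparency.types false
namespace Groth.L10.HDUAcyclic

open Groth.L10.SiteCoh

variable {C : Type u} [SmallCategory C] {J : GrothendieckTopology C}

theorem eq_zero_of_locally (M : Sheaf J AddCommGrpCat.{u}) {V : C} (S : Sieve V) (hS : S ∈ J V)
    (x : M.obj.obj (op V)) (h : ∀ ⦃W : C⦄ (g : W ⟶ V), S g → M.obj.map g.op x = 0) : x = 0 :=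
  (((isSheaf_iff_isSheaf_of_type J _).1 ((sheafCompose J (forget AddCommGrpCat.{u})).obj M).property) S hS).isSeparatedFor.ext
    fun _ g hg => (h g hg).trans (map_zero (M.obj.map g.op).hom).symm

/-- The test objects of a class covering every object. -/
noncomputable def cover (B : Set C)
    (hB : ∀ U : C, ∃ (ι : Type u) (Y : ι → C) (f : ∀ i, Y i ⟶ U), Sieve.ofArrows Y f ∈ J U ∧ ∀ i, Y i ∈ B) :
    LocalDetect.Cover (Sheaf J AddCommGrpCat.{u}) B where
  P V := fs J V.1
  good _ Q := ∃ W ∈ B, Q = fs J W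
  sep M N φ h := by
    refine Sheaf.hom_ext (NatTrans.ext (funext fun U => AddCommGrpCat.hom_ext (AddMonoidHom.ext fun s => ?_)))
    obtain ⟨ι, F, g, hY, hYB⟩ := hB U.unop
    refine eq_zero_of_locally N _ hY _ ?_
    rintro W _ ⟨Z, q, g', hg', rfl⟩
    obtain ⟨i⟩ := hg'
    have h1 : secEquiv J (F i) N ((secEquiv J (F i) M).symm (M.obj.map (g i).op s) ≫ φ) = 0 := by
      rw [h ⟨F i, hYB i⟩ _, map_zero]
    rw [secEquiv_comp, AddEquiv.apply_symm_apply] at h1
    have h3 : N.obj.map (g i).op (φ.hom.app U s) = 0 := (congr($(φ.hom.naturality (g i).op) s)).symm.trans h1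
    rw [op_comp, Functor.map_comp]
    exact (congrArg (N.obj.map q.op) h3).trans (map_zero (N.obj.map q.op).hom)
  cov V T p _ N b h := by
    obtain ⟨S, hS⟩ := locally_surjective_of_epi p (secEquiv J V.1 (fs J V.1) (𝟙 _))
    apply (secEquiv J V.1 N).injective
    rw [map_zero]
    refine eq_zero_of_locally N S.1 S.2 _ fun W g hg => ?_
    obtain ⟨ι, F, f, hY, hFB⟩ := hB W
    refine eq_zero_of_locally N _ hY _ ?_
    rintro W' _ ⟨Z, q, g', hg', rfl⟩
    obtain ⟨i⟩ := hg'
    obtain ⟨t, ht⟩ := hS ⟨F i, f i ≫ g, S.1.downward_closed hg _⟩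
    let r := (secEquiv J (F i) T).symm t
    have hr : r ≫ p = fsMap J (f i ≫ g) := by
      apply (secEquiv J (F i) _).injective
      rw [secEquiv_comp, AddEquiv.apply_symm_apply, ← Category.comp_id (fsMap J (f i ≫ g)), secEquiv_map]
      exact ht
    have h1 := h (fs J (F i)) r ⟨F i, hFB i, rfl⟩
    rw [← Category.assoc, hr] at h1
    have h3 : N.obj.map (f i).op (N.obj.map g.op (secEquiv J V.1 N b)) = 0 := by
      have h4 := congrArg (secEquiv J (F i) N) h1
      rw [secEquiv_map, map_zero, op_comp, Functor.map_comp] at h4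
      exact h4
    rw [op_comp, Functor.map_comp]
    exact (congrArg (N.obj.map q.op) h3).trans (map_zero (N.obj.map q.op).hom)

section Derived

variable {A : Type (u + 1)} [Category.{u} A] [Abelian A] [HasDerivedCategory.{u} A]

local notation "tt" => DerivedCategory.TStructure.t
local notation "S0" => singleFunctor A 0

theorem bijective_comp_mor₂ (T : Triangle (DerivedCategory A)) (hT : T ∈ distTriang _) (W : DerivedCategory A)
    (h1 : ∀ g : W ⟶ T.obj₁, g = 0) (h2 : ∀ g : W ⟶ T.obj₁⟦(1 : ℤ)⟧, g = 0) :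
    Function.Bijective (fun x : W ⟶ T.obj₂ => x ≫ T.mor₂) := by
  refine ⟨fun x x' hx => ?_, fun y => ?_⟩
  · rw [← sub_eq_zero]
    obtain ⟨g, hg⟩ := Triangle.coyoneda_exact₂ T hT (x - x') (by rw [Preadditive.sub_comp, sub_eq_zero]; exact hx)
    rw [hg, h1 g, zero_comp]
  · obtain ⟨x, hx⟩ := Triangle.coyoneda_exact₃ T hT y (h2 _)
    exact ⟨x, hx.symm⟩

/-- Maps from an object in degree `0` into an object in degrees `≥ 0` are maps into its `H⁰`. -/
theorem nonempty_hom_isGE (Q : A) (Z : DerivedCategory A) [Z.IsGE 0] :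
    Nonempty (((S0).obj Q ⟶ Z) ≃+ (Q ⟶ (DerivedCategory.homologyFunctor A 0).obj Z)) := by
  let T := ((tt).triangleLTGE 1).obj Z
  have hT : T ∈ distTriang _ := (tt).triangleLTGE_distinguished 1 Z
  let F := ((tt).truncLT (1 : ℤ)).obj Z
  have hFle : DerivedCategory.IsLE F 0 := (tt).isLE_truncLT_obj _ _ _ (by omega)
  have hFge : DerivedCategory.IsGE F 0 := by
    rw [DerivedCategory.isGE_iff]
    intro i hi
    have := isIso_H_ι 1 i (by omega) Z
    exact ((DerivedCategory.isGE_iff Z 0).1 inferInstance i hi).of_iso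
      (asIso ((DerivedCategory.homologyFunctor A i).map (((tt).truncLTι (1 : ℤ)).app Z)))
  obtain ⟨e⟩ := exists_iso_single_H F 0
  have := isIso_H_ι 1 0 (by omega) Z
  let e' : F ≅ (S0).obj ((DerivedCategory.homologyFunctor A 0).obj Z) :=
    e ≪≫ (S0).mapIso (asIso ((DerivedCategory.homologyFunctor A 0).map (((tt).truncLTι (1 : ℤ)).app Z)))
  have h3 : ∀ g : (S0).obj Q ⟶ T.obj₃, g = 0 := fun g => by
    have : (tt).IsGE T.obj₃ 1 := inferInstanceAs ((tt).IsGE (((tt).truncGE (1 : ℤ)).obj Z) 1)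
    have : (tt).IsLE ((S0).obj Q) 0 := inferInstanceAs (DerivedCategory.IsLE ((S0).obj Q) 0)
    exact (tt).zero g 0 1 (by omega)
  have h3' : ∀ g : (S0).obj Q ⟶ T.obj₃⟦(-1 : ℤ)⟧, g = 0 := fun g => by
    have : (tt).IsGE T.obj₃ 1 := inferInstanceAs ((tt).IsGE (((tt).truncGE (1 : ℤ)).obj Z) 1)
    have : (tt).IsGE (T.obj₃⟦(-1 : ℤ)⟧) 2 := (tt).isGE_shift _ 1 (-1) 2 (by omega)
    have : (tt).IsLE ((S0).obj Q) 0 := inferInstanceAs (DerivedCategory.IsLE ((S0).obj Q) 0)
    exact (tt).zero g 0 2 (by omega)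
  have hb : Function.Bijective (fun x : (S0).obj Q ⟶ T.obj₁ => x ≫ T.mor₁) := by
    refine ⟨fun x x' hx => ?_, fun y => ?_⟩
    · rw [← sub_eq_zero]
      obtain ⟨g, hg⟩ := Triangle.coyoneda_exact₂ _ (inv_rot_of_distTriang _ hT) (x - x')
        (show (x - x') ≫ T.invRotate.mor₂ = 0 by
          change (x - x') ≫ T.mor₁ = 0
          rw [Preadditive.sub_comp, sub_eq_zero]; exact hx)
      rw [hg, h3' g, zero_comp]
    · obtain ⟨x, hx⟩ := Triangle.coyoneda_exact₂ _ hT y (h3 _)
      exact ⟨x, hx.symm⟩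
  exact ⟨((AddEquiv.ofBijective (Preadditive.rightComp _ T.mor₁) hb).symm.trans
    { toFun := fun x => x ≫ e'.hom
      invFun := fun x => x ≫ e'.inv
      left_inv := fun x => (Category.assoc _ _ _).trans ((congrArg (x ≫ ·) e'.hom_inv_id).trans (Category.comp_id _))
      right_inv := fun x => (Category.assoc _ _ _).trans ((congrArg (x ≫ ·) e'.inv_hom_id).trans (Category.comp_id _))
      map_add' := fun x y => Preadditive.add_comp _ _ _ _ _ _ }).trans
    (AddEquiv.ofBijective (S0).mapAddHom ⟨(S0).map_injective, (S0).map_surjective⟩).symm⟩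

/-- Maps from `Q` into an object which is the limit of its truncations, with `Q` acyclic for its cohomology. -/
theorem nonempty_hom_rlim (Q : A) (X : DerivedCategory A)
    (hs : ∀ i, TowerStab.Small 0 Q ((DerivedCategory.homologyFunctor A i).obj X))
    [HasProduct fun n : ℕ => ((tt).truncGE (-(n : ℤ))).obj X]
    (hL : CohCx.IsRlimVia _ (TowerStab.tr X) X (fun n => ((tt).truncGEπ (-(n : ℤ))).app X)) :
    Nonempty (((S0).obj Q ⟶ X) ≃+ (Q ⟶ (DerivedCategory.homologyFunctor A 0).obj X)) := by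
  let W := ((S0).obj Q)⟦(0 : ℤ)⟧
  have hb₂ := TowerStab.bijective_rlim hL W 2 (fun n hn => TowerStab.bijective_tr X hs 0 n (by omega)) (fun n hn x => by
    let e := (shiftFunctorAdd' (DerivedCategory A) (0 : ℤ) 1 1 (zero_add 1)).app ((S0).obj Q)
    obtain ⟨y, hy⟩ := (TowerStab.bijective_tr X hs 1 n (by omega)).2 (e.hom ≫ x)
    exact ⟨e.inv ≫ y, (Category.assoc _ _ _).trans ((congrArg (e.inv ≫ ·) hy).trans (Iso.inv_hom_id_assoc _ _))⟩)
  have hb : Function.Bijective (fun x : W ⟶ X => x ≫ ((tt).truncGEπ (-((1 : ℕ) : ℤ))).app X) := by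
    have hc : (fun x : W ⟶ X => x ≫ ((tt).truncGEπ (-((1 : ℕ) : ℤ))).app X) =
        (fun y => y ≫ TowerStab.tr X 1) ∘ (fun x : W ⟶ X => x ≫ ((tt).truncGEπ (-((2 : ℕ) : ℤ))).app X) := funext fun x => by
      change _ = (x ≫ _) ≫ _
      rw [Category.assoc, TowerStab.rlim_w hL 1]
    rw [hc]
    exact (TowerStab.bijective_tr X hs 0 1 (by omega)).comp hb₂
  let Y := ((tt).truncGE (-((1 : ℕ) : ℤ))).obj X
  let F := ((tt).truncLT (0 : ℤ)).obj Y
  have hFle : DerivedCategory.IsLE F (-1) := (tt).isLE_truncLT_obj _ _ _ (by omega)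
  have hFge : DerivedCategory.IsGE F (-1) := by
    rw [DerivedCategory.isGE_iff]
    intro i hi
    have := isIso_H_ι 0 i (by omega) Y
    exact (isZero_H_GE (-((1 : ℕ) : ℤ)) i (by omega) X).of_iso
      (asIso ((DerivedCategory.homologyFunctor A i).map (((tt).truncLTι (0 : ℤ)).app Y)))
  obtain ⟨eF⟩ := exists_iso_single_H F (-1)
  have := isIso_H_ι 0 (-1) (by omega) Y
  have := isIso_H_π (-((1 : ℕ) : ℤ)) (-1) (by omega) X
  let eF' : F ≅ (singleFunctor A (-1)).obj ((DerivedCategory.homologyFunctor A (-1)).obj X) :=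
    eF ≪≫ (singleFunctor A (-1)).mapIso
      ((asIso ((DerivedCategory.homologyFunctor A (-1)).map (((tt).truncLTι (0 : ℤ)).app Y))) ≪≫
        (asIso ((DerivedCategory.homologyFunctor A (-1)).map (((tt).truncGEπ (-((1 : ℕ) : ℤ))).app X))).symm)
  let u := (shiftFunctorZero (DerivedCategory A) ℤ).app ((S0).obj Q)
  have hF : ∀ g : (S0).obj Q ⟶ F, g = 0 := fun g => by
    rw [← cancel_epi u.hom, comp_zero, ← cancel_mono eF'.hom, zero_comp]
    exact TowerStab.small_single (hs (-1)) (-1) 0 (by omega) _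
  have hF1 : ∀ g : (S0).obj Q ⟶ F⟦(1 : ℤ)⟧, g = 0 := fun g => by
    let e₂ : ((S0).obj Q)⟦(-1 : ℤ)⟧ ⟶ F := g⟦(-1 : ℤ)⟧' ≫ ((shiftEquiv (DerivedCategory A) (1 : ℤ)).unitIso.symm.app F).hom
    have h0 := TowerStab.small_single (hs (-1)) (-1) (-1) (by omega) (e₂ ≫ eF'.hom)
    refine (CategoryTheory.shiftFunctor _ (-1 : ℤ)).map_injective ?_
    rw [Functor.map_zero, ← cancel_mono (((shiftEquiv (DerivedCategory A) (1 : ℤ)).unitIso.symm.app F).hom ≫ eF'.hom),
      zero_comp, ← Category.assoc]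
    exact h0
  have h2 := bijective_comp_mor₂ _ ((tt).triangleLTGE_distinguished 0 Y) ((S0).obj Q) hF hF1
  let Z := ((tt).truncGE (0 : ℤ)).obj Y
  have : Z.IsGE 0 := inferInstanceAs ((tt).IsGE (((tt).truncGE (0 : ℤ)).obj Y) 0)
  obtain ⟨e₃⟩ := nonempty_hom_isGE Q Z
  have := isIso_H_π 0 0 le_rfl Y
  have := isIso_H_π (-((1 : ℕ) : ℤ)) 0 (by omega) X
  let eH : (DerivedCategory.homologyFunctor A 0).obj Z ≅ (DerivedCategory.homologyFunctor A 0).obj X :=
    (asIso ((DerivedCategory.homologyFunctor A 0).map (((tt).truncGEπ (0 : ℤ)).app Y))).symm ≪≫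
      (asIso ((DerivedCategory.homologyFunctor A 0).map (((tt).truncGEπ (-((1 : ℕ) : ℤ))).app X))).symm
  have hb' : Function.Bijective (fun x : (S0).obj Q ⟶ X => x ≫ ((tt).truncGEπ (-((1 : ℕ) : ℤ))).app X) := by
    have hc : (fun x : (S0).obj Q ⟶ X => x ≫ ((tt).truncGEπ (-((1 : ℕ) : ℤ))).app X) =
        (u.homCongr (Iso.refl _)) ∘ (fun x : W ⟶ X => x ≫ ((tt).truncGEπ (-((1 : ℕ) : ℤ))).app X) ∘
          (u.homCongr (Iso.refl _)).symm := funext fun x => by
      simp [Iso.homCongr]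
    rw [hc]
    exact (Equiv.bijective _).comp (hb.comp (Equiv.bijective _))
  exact ⟨((AddEquiv.ofBijective (Preadditive.rightComp _ _) hb').trans
    (AddEquiv.ofBijective (Preadditive.rightComp _ _) h2)).trans (e₃.trans
      (AddEquiv.ofBijective (Preadditive.rightComp Q eH.hom)
        ((Iso.homCongr (Iso.refl Q) eH).bijective.comp Function.bijective_id |> fun h => by
          convert h using 1
          funext x
          simp [Iso.homCongr]
          rfl)))⟩

end Derived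

variable [HasDerivedCategory.{u} (Sheaf J AddCommGrpCat.{u})]

theorem small_of_subsingleton (M : Sheaf J AddCommGrpCat.{u}) (W : C)
    (h : ∀ p : ℕ, Subsingleton (CohSite.HU M (p + 1) W)) : TowerStab.Small 0 (fs J W) M := fun m hm g => by
  obtain ⟨q, rfl⟩ : ∃ q : ℕ, ((q + 1 : ℕ) : ℤ) = m := ⟨m.toNat - 1, by omega⟩
  have : Subsingleton (Ext (fs J W) M (q + 1)) := h q
  have h2 := (Ext.homEquiv.{u} (X := fs J W) (Y := M) (n := q + 1)).symm.subsingleton
  exact h2.elim g 0

/-- Cohomology on `U` is the sections of the cohomology sheaf if these are acyclic on a covering class. -/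
theorem nonempty_HDU_equiv (K : DerivedCategory (Sheaf J AddCommGrpCat.{u})) (B : Set C)
    (hB : ∀ U : C, ∃ (ι : Type u) (Y : ι → C) (f : ∀ i, Y i ⟶ U), Sieve.ofArrows Y f ∈ J U ∧ ∀ i, Y i ∈ B)
    (h : ∀ U ∈ B, ∀ (p : ℕ) (q : ℤ), Subsingleton (CohSite.HU (CohCx.HD K q) (p + 1) U))
    (U : C) (hU : U ∈ B) (q : ℤ) :
    Nonempty (CohCx.HDU K q U ≃+ (CohCx.HD K q).obj.obj (op U)) := by
  let X := (CategoryTheory.shiftFunctor (DerivedCategory (Sheaf J AddCommGrpCat.{u})) q).obj K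
  have hsm : ∀ W ∈ B, ∀ i, TowerStab.Small 0 (fs J W) ((DerivedCategory.homologyFunctor _ i).obj X) := fun W hW i => by
    intro m hm g
    let e := hShiftIso K q i (q + i) rfl
    rw [← cancel_mono ((CategoryTheory.shiftFunctor _ m).map ((singleFunctor _ 0).map e.hom)), zero_comp]
    exact small_of_subsingleton _ W (fun p => h W hW p (q + i)) m hm _
  have : HasProductsOfShape ℕ (DerivedCategory (Sheaf J AddCommGrpCat.{u})) :=
    DerivedProd.hasProductsOfShape
  have hL := TowerStab.isRlimVia_truncGE (X := X) (𝒞 := cover B hB)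
    (fun i => ⟨0, by rintro _ ⟨W, hW, rfl⟩ p; exact hsm W hW p⟩)
  obtain ⟨e₁⟩ := nonempty_hom_rlim (fs J U) X (hsm U hU) hL
  exact ⟨(e₁.trans (secEquiv J U _)).trans
    ((((sheafToPresheaf J AddCommGrpCat.{u} ⋙ (evaluation _ _).obj (op U)).mapIso
      (hShiftIso K q 0 q (by omega))).addCommGroupIsoToAddEquiv))⟩

end Groth.L10.HDUAcyclic
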