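import Groth.Prelude.Def_CohCx
import Mathlib.Algebra.Homology.DerivedCategory.SingleTriangle
import Mathlib.CategoryTheory.Sites.MayerVietorisSquare
import Mathlib.Algebra.Homology.ShortComplex.Ab

/-! Mayer–Vietoris for hypercohomology. -/

universe w u

open CategoryTheory CategoryTheory.Limits CategoryTheory.Pretriangulated

set_option autoImplicit false
set_option backward.defeqAttrib.useBackward true
set_option backward.isDefEq.respectTransparency false
set_option backward.isDefEq.respectTransparency.types false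
namespace Groth.L10.HDUMV

theorem exact_mk₂ {A B D : AddCommGrpCat.{w}} (f : A ⟶ B) (g : B ⟶ D) (h0 : ∀ a, g (f a) = 0)
    (h : ∀ b, g b = 0 → ∃ a, f a = b) : (ComposableArrows.mk₂ f g).Exact := by
  refine ComposableArrows.exact₂_mk _ (AddCommGrpCat.hom_ext (AddMonoidHom.ext h0)) ?_
  rw [ShortComplex.ab_exact_iff]
  exact h

variable {C : Type u} [SmallCategory C] {J : GrothendieckTopology C}
  [HasWeakSheafify J (Type u)] [HasDerivedCategory.{u} (Sheaf J AddCommGrpCat.{u})]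
  (S : J.MayerVietorisSquare) (K : DerivedCategory (Sheaf J AddCommGrpCat.{u}))

theorem exists_δ : ∃ δ : ∀ n : ℤ, CohCx.HDU K n S.X₁ →+ CohCx.HDU K (n + 1) S.X₄,
      ∀ n : ℤ,
        (ComposableArrows.mk₂
          (AddCommGrpCat.ofHom ((CohCx.HDUres K n S.f₂₄).prod (CohCx.HDUres K n S.f₃₄)))
          (AddCommGrpCat.ofHom ((CohCx.HDUres K n S.f₁₂).coprod (-(CohCx.HDUres K n S.f₁₃))))).Exact ∧
        (ComposableArrows.mk₂
          (AddCommGrpCat.ofHom ((CohCx.HDUres K n S.f₁₂).coprod (-(CohCx.HDUres K n S.f₁₃))))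
          (AddCommGrpCat.ofHom (δ n))).Exact ∧
        (ComposableArrows.mk₂ (AddCommGrpCat.ofHom (δ n))
          (AddCommGrpCat.ofHom ((CohCx.HDUres K (n + 1) S.f₂₄).prod (CohCx.HDUres K (n + 1) S.f₃₄)))).Exact := by
  let Φ := DerivedCategory.singleFunctor (Sheaf J AddCommGrpCat.{u}) 0
  have hS := S.shortComplex_shortExact
  let T := hS.singleTriangle
  have hT : T ∈ distTriang (DerivedCategory _) := hS.singleTriangle_distinguished
  let F := fun m : ℤ => (CategoryTheory.shiftFunctor (DerivedCategory (Sheaf J AddCommGrpCat.{u})) m).obj K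
  let e : ∀ m : ℤ, (CategoryTheory.shiftFunctor _ (1 : ℤ)).obj (F m) ≅ F (m + 1) :=
    fun m => ((shiftFunctorAdd' (DerivedCategory (Sheaf J AddCommGrpCat.{u})) m 1 (m + 1) rfl).app K).symm
  let i₂ : Φ.obj (CohCx.freeSheaf J S.X₂) ⟶ T.obj₂ := Φ.map (biprod.inl : _ ⟶ S.shortComplex.X₂)
  let i₃ : Φ.obj (CohCx.freeSheaf J S.X₃) ⟶ T.obj₂ := Φ.map (biprod.inr : _ ⟶ S.shortComplex.X₂)
  have hg₂ : i₂ ≫ T.mor₂ = Φ.map (CohCx.freeSheafMap J S.f₂₄) :=
    (Φ.map_comp _ _).symm.trans (congrArg Φ.map (biprod.inl_desc _ _))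
  have hg₃ : i₃ ≫ T.mor₂ = Φ.map (CohCx.freeSheafMap J S.f₃₄) :=
    (Φ.map_comp _ _).symm.trans (congrArg Φ.map (biprod.inr_desc _ _))
  have hf : ∀ {M : DerivedCategory (Sheaf J AddCommGrpCat.{u})} (h : T.obj₂ ⟶ M), T.mor₁ ≫ h =
      Φ.map (CohCx.freeSheafMap J S.f₁₂) ≫ i₂ ≫ h - Φ.map (CohCx.freeSheafMap J S.f₁₃) ≫ i₃ ≫ h := fun h => by
    change Φ.map S.shortComplex.f ≫ h = _
    rw [GrothendieckTopology.MayerVietorisSquare.shortComplex_f, biprod.lift_eq, Preadditive.neg_comp,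
      Functor.map_add, Functor.map_neg, Functor.map_comp, Functor.map_comp, Preadditive.add_comp,
      Preadditive.neg_comp, Category.assoc, Category.assoc, ← sub_eq_add_neg]
  have hsum : ∀ {M : DerivedCategory (Sheaf J AddCommGrpCat.{u})} (a : Φ.obj (CohCx.freeSheaf J S.X₂) ⟶ M)
      (b : Φ.obj (CohCx.freeSheaf J S.X₃) ⟶ M), ∃ h : T.obj₂ ⟶ M, i₂ ≫ h = a ∧ i₃ ≫ h = b := by
    intro M a b
    refine ⟨Φ.map (biprod.fst : S.shortComplex.X₂ ⟶ _) ≫ a + Φ.map (biprod.snd : S.shortComplex.X₂ ⟶ _) ≫ b, ?_, ?_⟩ <;>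
      simp [i₂, i₃, Preadditive.comp_add, ← Functor.map_comp_assoc]
  have hext : ∀ {M : DerivedCategory (Sheaf J AddCommGrpCat.{u})} (h : T.obj₂ ⟶ M),
      i₂ ≫ h = 0 → i₃ ≫ h = 0 → h = 0 := by
    intro M h h₂ h₃
    have : 𝟙 T.obj₂ = Φ.map (biprod.fst : S.shortComplex.X₂ ⟶ _) ≫ i₂ +
        Φ.map (biprod.snd : S.shortComplex.X₂ ⟶ _) ≫ i₃ := by
      rw [← Functor.map_comp, ← Functor.map_comp, ← Functor.map_add]
      exact (Φ.map_id _).symm.trans (congrArg Φ.map biprod.total.symm)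
    rw [← Category.id_comp h, this, Preadditive.add_comp, Category.assoc, Category.assoc, h₂, h₃, comp_zero,
      comp_zero, add_zero]
  refine ⟨fun n => AddMonoidHom.mk' (fun x => T.mor₃ ≫ (CategoryTheory.shiftFunctor _ (1 : ℤ)).map x ≫ (e n).hom)
    (fun x y => by rw [Functor.map_add, Preadditive.add_comp, Preadditive.comp_add]), fun n => ⟨?_, ?_, ?_⟩⟩
  · refine exact_mk₂ _ _ (fun c => ?_) ?_
    · change Φ.map _ ≫ Φ.map _ ≫ c + -(Φ.map _ ≫ Φ.map _ ≫ c) = 0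
      rw [← hg₂, ← hg₃, Category.assoc, Category.assoc, ← sub_eq_add_neg, ← hf, ← Category.assoc,
        comp_distTriang_mor_zero₁₂ _ hT, zero_comp]
    · rintro ⟨a, b⟩ hab
      change Φ.map _ ≫ a + -(Φ.map _ ≫ b) = 0 at hab
      obtain ⟨h, rfl, rfl⟩ := hsum a b
      obtain ⟨g, rfl⟩ := Triangle.yoneda_exact₂ T hT h (by rw [hf, sub_eq_add_neg]; exact hab)
      exact ⟨g, Prod.ext ((congrArg (· ≫ g) hg₂).symm.trans (Category.assoc _ _ _))
        ((congrArg (· ≫ g) hg₃).symm.trans (Category.assoc _ _ _))⟩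
  · refine exact_mk₂ _ _ ?_ ?_
    · rintro ⟨a, b⟩
      obtain ⟨h, rfl, rfl⟩ := hsum a b
      change T.mor₃ ≫ (CategoryTheory.shiftFunctor _ (1 : ℤ)).map (Φ.map _ ≫ i₂ ≫ h + -(Φ.map _ ≫ i₃ ≫ h)) ≫ (e n).hom = 0
      rw [← sub_eq_add_neg, ← hf, Functor.map_comp, Category.assoc, ← Category.assoc T.mor₃,
        comp_distTriang_mor_zero₃₁ _ hT, zero_comp]
    · intro x hx
      change T.mor₃ ≫ (CategoryTheory.shiftFunctor _ (1 : ℤ)).map x ≫ (e n).hom = 0 at hx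
      obtain ⟨g, hg⟩ := Triangle.yoneda_exact₃ T.rotate (rot_of_distTriang _ hT)
        ((CategoryTheory.shiftFunctor (DerivedCategory (Sheaf J AddCommGrpCat.{u})) (1 : ℤ)).map x)
        (by rw [← cancel_mono (e n).hom, zero_comp, Category.assoc]; exact hx)
      obtain ⟨h, rfl⟩ := (CategoryTheory.shiftFunctor (DerivedCategory (Sheaf J AddCommGrpCat.{u})) (1 : ℤ)).map_surjective g
      refine ⟨(i₂ ≫ (-h), i₃ ≫ (-h)), ?_⟩
      change Φ.map _ ≫ i₂ ≫ (-h) + -(Φ.map _ ≫ i₃ ≫ (-h)) = x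
      rw [← sub_eq_add_neg, ← hf]
      apply (CategoryTheory.shiftFunctor (DerivedCategory (Sheaf J AddCommGrpCat.{u})) (1 : ℤ)).map_injective
      rw [hg, Preadditive.comp_neg, Functor.map_neg, Functor.map_comp]
      exact (Preadditive.neg_comp _ _).symm
  · refine exact_mk₂ _ _ (fun x => ?_) ?_
    · refine Prod.ext ?_ ?_
      · change Φ.map _ ≫ T.mor₃ ≫ _ = 0
        rw [← hg₂, Category.assoc, ← Category.assoc T.mor₂, comp_distTriang_mor_zero₂₃ _ hT, zero_comp, comp_zero]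
      · change Φ.map _ ≫ T.mor₃ ≫ _ = 0
        rw [← hg₃, Category.assoc, ← Category.assoc T.mor₂, comp_distTriang_mor_zero₂₃ _ hT, zero_comp, comp_zero]
    · intro y hy
      have h₂ : i₂ ≫ T.mor₂ ≫ y = 0 := by rw [← Category.assoc, hg₂]; exact congrArg Prod.fst hy
      have h₃ : i₃ ≫ T.mor₂ ≫ y = 0 := by rw [← Category.assoc, hg₃]; exact congrArg Prod.snd hy
      obtain ⟨g, rfl⟩ := Triangle.yoneda_exact₃ T hT y (hext _ h₂ h₃)
      obtain ⟨x, hx⟩ := (CategoryTheory.shiftFunctor (DerivedCategory (Sheaf J AddCommGrpCat.{u})) (1 : ℤ)).map_surjective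
        (g ≫ (e n).inv)
      refine ⟨x, ?_⟩
      change T.mor₃ ≫ (CategoryTheory.shiftFunctor _ (1 : ℤ)).map x ≫ (e n).hom = _
      rw [hx, Category.assoc, Iso.inv_hom_id, Category.comp_id]

end Groth.L10.HDUMV
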