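import Groth.Agent.L10.SiteFr
import Mathlib.AlgebraicTopology.CechNerve
import Mathlib.AlgebraicTopology.AlternatingFaceMapComplex
import Mathlib.Algebra.Homology.ShortComplex.FunctorEquivalence
import Mathlib.Algebra.Homology.ShortComplex.Ab
import Mathlib.Data.Fin.Tuple.Basic

/-! Exactness of the free abelian complex of a Čech nerve. -/

universe v u

open CategoryTheory CategoryTheory.Limits Opposite Simplicial

set_option backward.defeqAttrib.useBackward true
set_option backward.isDefEq.respectTransparency false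
namespace Groth.L10.Nerve

section General

variable {E : Type*} [Category.{v} E] [HasFiniteWidePullbacks E] {K' K : E} (f : K' ⟶ K)

/-- The terms of the nerve. -/
noncomputable abbrev N (n : ℕ) : E := (Arrow.mk f).cechNerve.obj (op ⦋n⦌)

/-- Face maps of the nerve. -/
noncomputable abbrev δ {n : ℕ} (j : Fin (n+2)) : N f (n+1) ⟶ N f n := (Arrow.mk f).cechNerve.δ j

/-- Projections. -/
noncomputable abbrev pr {n : ℕ} (i : Fin (n+1)) : N f n ⟶ K' :=
  WidePullback.π (fun _ : Fin (n+1) => (Arrow.mk f).hom) i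

/-- The structure map. -/
noncomputable abbrev bs (n : ℕ) : N f n ⟶ K := WidePullback.base (fun _ : Fin (n+1) => (Arrow.mk f).hom)

theorem pr_w {n : ℕ} (i : Fin (n+1)) : pr f i ≫ f = bs f n := WidePullback.π_arrow _ i

theorem δ_pr {n : ℕ} (j : Fin (n+2)) (i : Fin (n+1)) : δ f j ≫ pr f i = pr f (j.succAbove i) :=
  WidePullback.lift_π _ _ _ _ _

theorem δ_bs {n : ℕ} (j : Fin (n+2)) : δ f j ≫ bs f n = bs f (n+1) := WidePullback.lift_base _ _ _ _

theorem hom_ext {Q : E} {n : ℕ} {a b : Q ⟶ N f n} (h : ∀ i, a ≫ pr f i = b ≫ pr f i) : a = b :=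
  WidePullback.hom_ext _ _ _ h (by
    change a ≫ bs f n = b ≫ bs f n
    rw [← pr_w f 0, ← Category.assoc, ← Category.assoc, h])

variable (Q : E)

/-- A chosen preimage of a liftable element. -/
noncomputable def sec (v : Q ⟶ K) (h : ∃ p : Q ⟶ K', p ≫ f = v) : Q ⟶ K' := h.choose

theorem sec_w (v : Q ⟶ K) (h : ∃ p : Q ⟶ K', p ≫ f = v) : sec f Q v h ≫ f = v := h.choose_spec

theorem sec_congr {v v' : Q ⟶ K} (e : v = v') (h : ∃ p : Q ⟶ K', p ≫ f = v) (h' : ∃ p : Q ⟶ K', p ≫ f = v') :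
    sec f Q v h = sec f Q v' h' := by
  subst e; rfl

variable {Q}

theorem liftable {n : ℕ} (x : Q ⟶ N f n) : ∃ p : Q ⟶ K', p ≫ f = x ≫ bs f n :=
  ⟨x ≫ pr f 0, by rw [Category.assoc, pr_w]⟩

/-- The extra degeneracy on points. -/
noncomputable def s {n : ℕ} (x : Q ⟶ N f n) : Q ⟶ N f (n+1) :=
  WidePullback.lift (x ≫ bs f n)
    (Fin.cons (sec f Q _ (liftable f x)) fun i => x ≫ pr f i : Fin (n+2) → (Q ⟶ K'))
    (fun j => Fin.cases (by rw [Fin.cons_zero]; exact sec_w f Q _ _)
      (fun i => by rw [Fin.cons_succ, Category.assoc]; exact congrArg (x ≫ ·) (pr_w f i)) j)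

theorem s_pr_zero {n : ℕ} (x : Q ⟶ N f n) : s f x ≫ pr f 0 = sec f Q _ (liftable f x) :=
  WidePullback.lift_π _ _ _ _ _

theorem s_pr_succ {n : ℕ} (x : Q ⟶ N f n) (i : Fin (n+1)) : s f x ≫ pr f i.succ = x ≫ pr f i :=
  WidePullback.lift_π _ _ _ _ _

theorem s_δ_zero {n : ℕ} (x : Q ⟶ N f n) : s f x ≫ δ f 0 = x :=
  hom_ext f fun i => by rw [Category.assoc, δ_pr, Fin.succAbove_zero, s_pr_succ]

theorem s_δ_succ {n : ℕ} (x : Q ⟶ N f (n+1)) (j : Fin (n+2)) : s f x ≫ δ f j.succ = s f (x ≫ δ f j) :=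
  hom_ext f fun i => Fin.cases
    (by
      rw [Category.assoc, δ_pr, Fin.succ_succAbove_zero, s_pr_zero, s_pr_zero]
      exact sec_congr f Q (by rw [Category.assoc, δ_bs]) _ _)
    (fun i => by rw [Category.assoc, δ_pr, Fin.succ_succAbove_succ, s_pr_succ, s_pr_succ, Category.assoc, δ_pr]) i

variable (Q)

/-- The differential on free groups of points. -/
noncomputable def dQ (n : ℕ) : FreeAbelianGroup (Q ⟶ N f (n+1)) →+ FreeAbelianGroup (Q ⟶ N f n) :=
  ∑ j : Fin (n+2), (-1 : ℤ) ^ (j : ℕ) • FreeAbelianGroup.map (· ≫ δ f j)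

theorem dQ_of (n : ℕ) (x : Q ⟶ N f (n+1)) :
    dQ f Q n (FreeAbelianGroup.of x) = ∑ j : Fin (n+2), (-1 : ℤ) ^ (j : ℕ) • FreeAbelianGroup.of (x ≫ δ f j) := by
  simp [dQ, AddMonoidHom.finsetSum_apply]

theorem homotopy (n : ℕ) (c : FreeAbelianGroup (Q ⟶ N f (n+1))) :
    dQ f Q (n+1) (FreeAbelianGroup.map (s f) c) + FreeAbelianGroup.map (s f) (dQ f Q n c) = c := by
  induction c using FreeAbelianGroup.induction_on with
  | zero => repeat erw [map_zero]
            simp
  | of x =>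
    rw [FreeAbelianGroup.map_of_apply, dQ_of, dQ_of, Fin.sum_univ_succ, map_sum]
    simp only [Fin.val_zero, pow_zero, one_smul, Fin.val_succ, pow_succ, mul_neg, mul_one, neg_smul, s_δ_zero,
      s_δ_succ, map_zsmul, FreeAbelianGroup.map_of_apply, Finset.sum_neg_distrib]
    abel
  | neg x hx => rw [map_neg, map_neg, map_neg, map_neg, ← neg_add, hx]
  | add x y hx hy => rw [map_add, map_add, map_add, map_add, add_add_add_comm, hx, hy]

theorem exact_dQ (n : ℕ) (c : FreeAbelianGroup (Q ⟶ N f (n+1))) (hc : dQ f Q n c = 0) :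
    ∃ e, dQ f Q (n+1) e = c :=
  ⟨FreeAbelianGroup.map (s f) c, by
    have h := homotopy f Q n c
    rwa [hc, map_zero, add_zero] at h⟩

/-- The augmentation on free groups of points. -/
noncomputable def εQ : FreeAbelianGroup (Q ⟶ N f 0) →+ FreeAbelianGroup (Q ⟶ K) :=
  FreeAbelianGroup.map (· ≫ bs f 0)

open Classical in
/-- A chosen point of the nerve over a point of the base. -/
noncomputable def r : FreeAbelianGroup (Q ⟶ K) →+ FreeAbelianGroup (Q ⟶ N f 0) :=
  FreeAbelianGroup.lift fun v => if h : ∃ p : Q ⟶ K', p ≫ f = v then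
    FreeAbelianGroup.of (WidePullback.lift v (fun _ => sec f Q v h) (fun _ => sec_w f Q v h)) else 0

theorem exact_εQ (c : FreeAbelianGroup (Q ⟶ N f 0)) (hc : εQ f Q c = 0) : ∃ e, dQ f Q 0 e = c := by
  refine ⟨FreeAbelianGroup.map (s f) c, ?_⟩
  suffices h : ∀ c, dQ f Q 0 (FreeAbelianGroup.map (s f) c) = c - r f Q (εQ f Q c) by
    rw [h, hc, map_zero, sub_zero]
  intro c
  induction c using FreeAbelianGroup.induction_on with
  | zero => repeat erw [map_zero]
            simp
  | of x =>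
    rw [FreeAbelianGroup.map_of_apply, dQ_of, Fin.sum_univ_two, s_δ_zero, εQ, FreeAbelianGroup.map_of_apply, r,
      FreeAbelianGroup.lift_apply_of, dif_pos (liftable f x)]
    simp only [Fin.val_zero, Fin.val_one, pow_zero, pow_one, one_smul, neg_smul, ← sub_eq_add_neg]
    refine congrArg (fun y => FreeAbelianGroup.of x - FreeAbelianGroup.of y) (hom_ext f fun i => ?_)
    obtain rfl : i = 0 := Subsingleton.elim (α := Fin 1) i 0
    exact ((Category.assoc _ _ _).trans (congrArg (s f x ≫ ·) (δ_pr f (1 : Fin 2) 0))).trans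
      ((s_pr_zero f x).trans (WidePullback.lift_π (fun _ : Fin 1 => (Arrow.mk f).hom) (x ≫ bs f 0)
        (fun _ => sec f Q (x ≫ bs f 0) (liftable f x)) (fun _ => sec_w f Q _ _) 0).symm)
  | neg x hx => rw [map_neg, map_neg, map_neg, map_neg, hx]; abel
  | add x y hx hy => rw [map_add, map_add, map_add, map_add, hx, hy]; abel

end General

section Sheaves

open Groth.L10.SiteFr

variable {C : Type u} [SmallCategory C] {J : GrothendieckTopology C} {K' K : Sheaf J (Type u)} (f : K' ⟶ K)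

variable (J) in
/-- The free presheaf on the underlying presheaf of a sheaf of sets. -/
noncomputable abbrev frP : Sheaf J (Type u) ⥤ Cᵒᵖ ⥤ AddCommGrpCat.{u} :=
  sheafToPresheaf J (Type u) ⋙ (Functor.whiskeringRight _ _ _).obj AddCommGrpCat.free.{u}

/-- Presheaf differential. -/
noncomputable def dP (n : ℕ) : (frP J).obj (N f (n+1)) ⟶ (frP J).obj (N f n) :=
  ∑ j : Fin (n+2), (-1 : ℤ) ^ (j : ℕ) • (frP J).map (δ f j)

/-- Sheaf differential. -/
noncomputable def d (n : ℕ) : (fr J).obj (N f (n+1)) ⟶ (fr J).obj (N f n) :=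
  ∑ j : Fin (n+2), (-1 : ℤ) ^ (j : ℕ) • (fr J).map (δ f j)

theorem map_dP (n : ℕ) : (presheafToSheaf J AddCommGrpCat.{u}).map (dP f n) = d f n := by
  simp only [dP, d, Functor.map_sum, Functor.map_zsmul]
  rfl

/-- Points to sections. -/
noncomputable def pt (V : Cᵒᵖ) (X : Sheaf J (Type u)) :
    FreeAbelianGroup (rep J V.unop ⟶ X) ≃+ ((frP J).obj X).obj V :=
  FreeAbelianGroup.equivOfEquiv (repEquiv V.unop X)

theorem pt_map (V : Cᵒᵖ) {X Y : Sheaf J (Type u)} (φ : X ⟶ Y) (c : FreeAbelianGroup (rep J V.unop ⟶ X)) :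
    ((frP J).map φ).app V (pt V X c) = pt V Y (FreeAbelianGroup.map (· ≫ φ) c) := by
  induction c using FreeAbelianGroup.induction_on with
  | zero => simp only [map_zero]
  | of x =>
    change FreeAbelianGroup.map (φ.hom.app V) (FreeAbelianGroup.map (repEquiv V.unop X) (FreeAbelianGroup.of x)) =
      FreeAbelianGroup.map (repEquiv V.unop Y) (FreeAbelianGroup.map (· ≫ φ) (FreeAbelianGroup.of x))
    simp only [FreeAbelianGroup.map_of_apply]
    exact congrArg FreeAbelianGroup.of (repEquiv_comp x φ).symm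
  | neg x hx => rw [map_neg, map_neg, map_neg, map_neg, hx]
  | add x y hx hy => rw [map_add, map_add, map_add, map_add, hx, hy]

theorem dP_app (V : Cᵒᵖ) (n : ℕ) (c : FreeAbelianGroup (rep J V.unop ⟶ N f (n+1))) :
    (dP f n).app V (pt V _ c) = pt V _ (dQ f (rep J V.unop) n c) := by
  rw [dP, dQ, NatTrans.app_sum, AddMonoidHom.finsetSum_apply, map_sum]
  change AddCommGrpCat.homAddEquiv (∑ i : Fin (n+2), ((-1 : ℤ) ^ (i : ℕ) • (frP J).map (δ f i)).app V) (pt V _ c) = _
  rw [map_sum, AddMonoidHom.finsetSum_apply]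
  refine Finset.sum_congr rfl fun j _ => ?_
  rw [AddMonoidHom.smul_apply, map_zsmul]
  exact congrArg (((-1 : ℤ) ^ (j : ℕ)) • ·) (pt_map V (δ f j) c)

theorem dP_comp_dP (n : ℕ) : dP f (n+1) ≫ dP f n = 0 :=
  AlgebraicTopology.AlternatingFaceMapComplex.d_squared ((Arrow.mk f).cechNerve ⋙ frP J) n

theorem dP_comp_ε : dP f 0 ≫ (frP J).map (bs f 0) = 0 := by
  rw [dP, Preadditive.sum_comp, Fin.sum_univ_two]
  simp only [Fin.val_zero, Fin.val_one, pow_zero, pow_one, one_smul, neg_smul]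
  rw [Preadditive.neg_comp]
  rw [← Functor.map_comp, ← Functor.map_comp, δ_bs, δ_bs, add_neg_cancel]

theorem exact_of_eval {A : Type*} [Category A] {S : ShortComplex (A ⥤ AddCommGrpCat.{u})}
    (h : ∀ V, (S.map ((evaluation _ _).obj V)).Exact) : S.Exact := by
  rw [ShortComplex.exact_iff_isZero_homology]
  exact Functor.isZero _ fun V =>
    ((ShortComplex.exact_iff_isZero_homology _).1 (h V)).of_iso (S.mapHomologyIso ((evaluation _ _).obj V)).symm

theorem exact_dP (n : ℕ) : (ShortComplex.mk (dP f (n+1)) (dP f n) (dP_comp_dP f n)).Exact := by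
  refine exact_of_eval fun V => (ShortComplex.ab_exact_iff _).2 fun x hx => ?_
  obtain ⟨c, rfl⟩ := (pt V (N f (n+1))).surjective x
  change (dP f n).app V (pt V _ c) = 0 at hx
  rw [dP_app, AddEquiv.map_eq_zero_iff] at hx
  obtain ⟨e, he⟩ := exact_dQ f _ n c hx
  exact ⟨pt V _ e, (dP_app f V (n+1) e).trans (congrArg (pt V _) he)⟩

theorem exact_εP : (ShortComplex.mk (dP f 0) ((frP J).map (bs f 0)) (dP_comp_ε f)).Exact := by
  refine exact_of_eval fun V => (ShortComplex.ab_exact_iff _).2 fun x hx => ?_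
  obtain ⟨c, rfl⟩ := (pt V (N f 0)).surjective x
  change ((frP J).map (bs f 0)).app V (pt V _ c) = 0 at hx
  rw [pt_map, AddEquiv.map_eq_zero_iff] at hx
  obtain ⟨e, he⟩ := exact_εQ f _ c hx
  exact ⟨pt V _ e, (dP_app f V 0 e).trans (congrArg (pt V _) he)⟩

theorem d_comp_d (n : ℕ) : d f (n+1) ≫ d f n = 0 := by
  rw [← map_dP, ← map_dP, ← Functor.map_comp, dP_comp_dP, Functor.map_zero]

theorem d_comp_ε : d f 0 ≫ (fr J).map (bs f 0) = 0 := by
  rw [← map_dP]
  exact (((presheafToSheaf J AddCommGrpCat.{u}).map_comp _ _).symm.trans (congrArg (presheafToSheaf J AddCommGrpCat.{u}).map (dP_comp_ε f))).trans (Functor.map_zero _ _ _)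

theorem exact_d (n : ℕ) : (ShortComplex.mk (d f (n+1)) (d f n) (d_comp_d f n)).Exact := by
  simp only [← map_dP]
  exact (exact_dP f n).map (presheafToSheaf J AddCommGrpCat.{u})

theorem exact_ε : (ShortComplex.mk (d f 0) ((fr J).map (bs f 0)) (d_comp_ε f)).Exact := by
  simp only [← map_dP]
  exact (exact_εP f).map (presheafToSheaf J AddCommGrpCat.{u})

theorem isIso_pr_zero : IsIso (pr f (0 : Fin 1)) :=
  ⟨WidePullback.lift f (fun _ => 𝟙 _) (fun _ => Category.id_comp _), hom_ext f fun i => by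
    obtain rfl : i = 0 := Subsingleton.elim (α := Fin 1) i 0
    rw [Category.assoc, WidePullback.lift_π, Category.id_comp, Category.comp_id], WidePullback.lift_π _ _ _ _ _⟩

theorem epi_ε [Epi f] : Epi ((fr J).map (bs f 0)) := by
  have := isIso_pr_zero f
  have : (fr J).IsLeftAdjoint := (adj J).isLeftAdjoint
  rw [← pr_w f (0 : Fin 1), Functor.map_comp]
  exact epi_comp _ _

end Sheaves

end Groth.L10.Nerve
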