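import Groth.Agent.L10.SeqColim
import Mathlib.CategoryTheory.Triangulated.HomologicalFunctor
import Mathlib.CategoryTheory.Limits.Preserves.Shapes.Products
import Mathlib.CategoryTheory.Shift.ShiftSequence

/-! Homological functors and homotopy colimits. -/

universe v v' u u'

open CategoryTheory CategoryTheory.Limits CategoryTheory.Pretriangulated

set_option backward.defeqAttrib.useBackward true
set_option backward.isDefEq.respectTransparency false

namespace Groth.L10.HocolimHom

variable {D : Type u} [Category.{v} D] [Preadditive D] {A : Type u'} [Category.{v'} A] [Preadditive A]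

theorem exists_iso (G : D ⥤ A) [G.Additive] (K : ℕ → D) (f : ∀ n, K n ⟶ K (n + 1)) [HasCoproduct K]
    [PreservesColimit (Discrete.functor K) G] [HasCoproduct (fun n => G.obj (K n))] :
    ∃ e : (∐ fun n => G.obj (K n)) ≅ G.obj (∐ K),
      (∀ n, Sigma.ι (fun n => G.obj (K n)) n ≫ e.hom = G.map (Sigma.ι K n)) ∧
      e.hom ≫ G.map (𝟙 (∐ K) - DerLim.shiftMap K f) =
        (𝟙 (∐ fun n => G.obj (K n)) - DerLim.shiftMap (fun n => G.obj (K n)) (fun n => G.map (f n))) ≫ e.hom := by
  let e : (∐ fun n => G.obj (K n)) ≅ G.obj (∐ K) := (PreservesCoproduct.iso G K).symm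
  have he : ∀ n, Sigma.ι (fun n => G.obj (K n)) n ≫ e.hom = G.map (Sigma.ι K n) := fun n => by simp [e]
  refine ⟨e, he, Sigma.hom_ext _ _ fun n => ?_⟩
  have h1 := he n
  have h2 := he (n + 1)
  simp [DerLim.shiftMap, reassoc_of% h1, h1, h2, Functor.map_sub]
  rw [← Functor.map_comp, ← Functor.map_comp]
  simp

end Groth.L10.HocolimHom
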