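import Groth.Prelude.Def_DerLim
import Mathlib.CategoryTheory.Triangulated.Yoneda
import Mathlib.CategoryTheory.Category.Preorder
import Mathlib.Algebra.BigOperators.Intervals
import Mathlib.Order.Interval.Finset.Nat

/-! Homotopy colimits of subsequences. -/

universe v u

open CategoryTheory CategoryTheory.Limits CategoryTheory.Pretriangulated

set_option backward.defeqAttrib.useBackward true
set_option backward.isDefEq.respectTransparency false

namespace Groth.L10.HocolimSub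

variable {D : Type u} [Category.{v} D] [Preadditive D] (F : ℕ ⥤ D) [HasCoproduct (fun m : ℕ => F.obj m)]

/-- `Σ_{m ≤ k < N} F(m → k) ≫ ι_k`. -/
noncomputable def tel (m N : ℕ) : F.obj m ⟶ ∐ fun m : ℕ => F.obj m :=
  ∑ k ∈ Finset.Ico m N, if h : m ≤ k then F.map (homOfLE h) ≫ Sigma.ι (fun m : ℕ => F.obj m) k else 0

theorem tel_self (m : ℕ) : tel F m m = 0 := by simp [tel]

theorem tel_succ {m N : ℕ} (h : m ≤ N) :
    tel F m (N + 1) = tel F m N + F.map (homOfLE h) ≫ Sigma.ι (fun m : ℕ => F.obj m) N := by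
  rw [tel, Finset.sum_Ico_succ_top h, dif_pos h]
  rfl

theorem tel_left {m N : ℕ} (h : m + 1 ≤ N) :
    tel F m N = Sigma.ι (fun m : ℕ => F.obj m) m + F.map (homOfLE (Nat.le_succ m)) ≫ tel F (m + 1) N := by
  induction N, h using Nat.le_induction with
  | base => rw [tel_succ F le_rfl, tel_self, tel_self]; simp
  | succ N hN ih =>
    rw [tel_succ F (by omega : m ≤ N), tel_succ F hN, ih, Preadditive.comp_add, ← Functor.map_comp_assoc, homOfLE_comp]
    abel

theorem tel_comp_f {m N : ℕ} (h : m ≤ N) :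
    tel F m N ≫ (𝟙 _ - DerLim.shiftMap (fun m : ℕ => F.obj m) (fun m => F.map (homOfLE (Nat.le_succ m)))) =
      Sigma.ι (fun m : ℕ => F.obj m) m - F.map (homOfLE h) ≫ Sigma.ι (fun m : ℕ => F.obj m) N := by
  induction N, h using Nat.le_induction with
  | base => rw [tel_self]; simp
  | succ N hN ih =>
    rw [tel_succ F hN, Preadditive.add_comp, ih, Category.assoc, Preadditive.comp_sub, Category.comp_id, Preadditive.comp_sub]
    simp only [DerLim.shiftMap, colimit.ι_desc, Cofan.mk_pt, Cofan.mk_ι_app]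
    rw [← Functor.map_comp_assoc, homOfLE_comp]
    abel

variable [HasZeroObject D] [HasShift D ℤ] [∀ n : ℤ, (shiftFunctor D n).Additive] [Pretriangulated D]

theorem subsequence_iso (n : ℕ → ℕ) (hn : StrictMono n) [HasCoproduct (fun i : ℕ => F.obj (n i))]
    (L : D) (ι : ∀ m : ℕ, F.obj m ⟶ L)
    (hL : DerLim.IsHocolim (fun m : ℕ => F.obj m) (fun m : ℕ => F.map (homOfLE (Nat.le_succ m))) L ι)
    (L' : D) (ι' : ∀ i : ℕ, F.obj (n i) ⟶ L')
    (hL' : DerLim.IsHocolim (fun i : ℕ => F.obj (n i)) (fun i : ℕ => F.map (homOfLE (hn.monotone (Nat.le_succ i)))) L' ι') :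
    ∃ e : L' ≅ L, ∀ i : ℕ, ι' i ≫ e.hom = ι (n i) := by
  obtain ⟨c₀, hT⟩ := hL
  obtain ⟨c₁, hT'⟩ := hL'
  have hex : ∀ m, ∃ i, m ≤ n i := fun m => ⟨m, hn.id_le m⟩
  let j : ℕ → ℕ := fun m => Nat.find (hex m)
  have hj : ∀ m, m ≤ n (j m) := fun m => Nat.find_spec (hex m)
  have hjn : ∀ i, j (n i) = i := fun i =>
    le_antisymm (Nat.find_min' (hex (n i)) le_rfl) (hn.le_iff_le.mp (hj (n i)))
  have hj1 : ∀ i, j (n i + 1) = i + 1 := fun i =>
    le_antisymm (Nat.find_min' (hex (n i + 1)) (hn (Nat.lt_succ_self i))) (hn.lt_iff_lt.mp (hj (n i + 1)))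
  have hj2 : ∀ m, (∀ i, n i ≠ m) → j (m + 1) = j m := fun m hm => by
    have h1 : m + 1 ≤ n (j m) := Nat.lt_of_le_of_ne (hj m) (Ne.symm (hm _))
    exact le_antisymm (Nat.find_min' (hex (m + 1)) h1) (Nat.find_min' (hex m) ((Nat.le_succ m).trans (hj (m + 1))))
  have cong' : ∀ (x : ℕ) (p q : ℕ) (e : p = q) (hp : x ≤ n p) (hq : x ≤ n q),
      F.map (homOfLE hp) ≫ Sigma.ι (fun i : ℕ => F.obj (n i)) p = F.map (homOfLE hq) ≫ Sigma.ι (fun i : ℕ => F.obj (n i)) q := by
    rintro x p q rfl hp hq; rfl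
  let a : (∐ fun i : ℕ => F.obj (n i)) ⟶ ∐ fun m : ℕ => F.obj m :=
    Sigma.desc fun i => Sigma.ι (fun m : ℕ => F.obj m) (n i)
  let b : (∐ fun i : ℕ => F.obj (n i)) ⟶ ∐ fun m : ℕ => F.obj m :=
    Sigma.desc fun i => tel F (n i) (n (i + 1))
  let c : (∐ fun m : ℕ => F.obj m) ⟶ ∐ fun i : ℕ => F.obj (n i) :=
    Sigma.desc fun m => F.map (homOfLE (hj m)) ≫ Sigma.ι (fun i : ℕ => F.obj (n i)) (j m)
  let d : (∐ fun m : ℕ => F.obj m) ⟶ ∐ fun i : ℕ => F.obj (n i) :=
    Sigma.desc fun m => if n (j m) = m then F.map (homOfLE (hj m)) ≫ Sigma.ι (fun i : ℕ => F.obj (n i)) (j m) else 0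
  let h : (∐ fun m : ℕ => F.obj m) ⟶ ∐ fun m : ℕ => F.obj m := Sigma.desc fun m => tel F m (n (j m))
  have hd : ∀ i, Sigma.ι (fun m : ℕ => F.obj m) (n i) ≫ d = Sigma.ι (fun i : ℕ => F.obj (n i)) i := fun i => by
    simp only [d, colimit.ι_desc, Cofan.mk_pt, Cofan.mk_ι_app]
    rw [if_pos (by rw [hjn]), cong' (n i) (j (n i)) i (hjn i) _ le_rfl]
    simp
  have hd' : ∀ m, (∀ i, n i ≠ m) → Sigma.ι (fun m : ℕ => F.obj m) m ≫ d = 0 := fun m hm => by
    simp [d, hm (j m)]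
  let f := 𝟙 (∐ fun m : ℕ => F.obj m) - DerLim.shiftMap (fun m : ℕ => F.obj m) (fun m => F.map (homOfLE (Nat.le_succ m)))
  let f' := 𝟙 (∐ fun i : ℕ => F.obj (n i)) - DerLim.shiftMap (fun i : ℕ => F.obj (n i)) (fun i => F.map (homOfLE (hn.monotone (Nat.le_succ i))))
  have sq1 : f' ≫ a = b ≫ f := Sigma.hom_ext _ _ fun i => by
    simp only [b, colimit.ι_desc_assoc, Cofan.mk_pt, Cofan.mk_ι_app]
    rw [tel_comp_f F (hn.monotone (Nat.le_succ i))]
    simp [a, f', DerLim.shiftMap]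
  have sq2 : f ≫ c = d ≫ f' := Sigma.hom_ext _ _ fun m => by
    by_cases hm : ∃ i, n i = m
    · obtain ⟨i, rfl⟩ := hm
      rw [reassoc_of% (hd i)]
      simp only [f, f', c, DerLim.shiftMap, Preadditive.sub_comp, Category.id_comp, Preadditive.comp_sub, Category.comp_id,
        colimit.ι_desc_assoc, colimit.ι_desc, Cofan.mk_pt, Cofan.mk_ι_app, Category.assoc]
      rw [← Functor.map_comp_assoc, homOfLE_comp, cong' (n i) (j (n i)) i (hjn i) _ le_rfl,
        cong' (n i) (j (n i + 1)) (i + 1) (hj1 i) _ (hn.monotone (Nat.le_succ i))]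
      simp
    · push_neg at hm
      rw [reassoc_of% (hd' m hm), zero_comp]
      simp only [f, c, DerLim.shiftMap, Preadditive.sub_comp, Category.id_comp, Preadditive.comp_sub,
        colimit.ι_desc_assoc, colimit.ι_desc, Cofan.mk_pt, Cofan.mk_ι_app, Category.assoc]
      rw [← Functor.map_comp_assoc, homOfLE_comp, cong' m (j (m + 1)) (j m) (hj2 m hm) _ (hj m), sub_self]
  have hac : a ≫ c = 𝟙 _ := Sigma.hom_ext _ _ fun i => by
    simp only [a, c, colimit.ι_desc_assoc, colimit.ι_desc, Cofan.mk_pt, Cofan.mk_ι_app]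
    rw [cong' (n i) (j (n i)) i (hjn i) _ le_rfl]
    simp
  have hbd : b ≫ d = 𝟙 _ := Sigma.hom_ext _ _ fun i => by
    simp only [b, colimit.ι_desc_assoc, Cofan.mk_pt, Cofan.mk_ι_app, Category.comp_id]
    rw [tel, Preadditive.sum_comp, Finset.sum_eq_single (n i)]
    · rw [dif_pos le_rfl, Category.assoc, hd i]
      simp
    · intro k hk hk'
      rw [Finset.mem_Ico] at hk
      rw [dif_pos hk.1, Category.assoc, hd' k, comp_zero]
      rintro l rfl
      have h1 := hn.lt_iff_lt.mp hk.2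
      have h2 := hn.le_iff_le.mp hk.1
      exact hk' (congrArg n (by omega))
    · intro hk
      exact absurd (Finset.mem_Ico.mpr ⟨le_rfl, hn (Nat.lt_succ_self i)⟩) hk
  have hdb : f ≫ h = 𝟙 _ - d ≫ b := Sigma.hom_ext _ _ fun m => by
    simp only [f, h, DerLim.shiftMap, Preadditive.sub_comp, Category.id_comp, Preadditive.comp_sub,
      colimit.ι_desc_assoc, colimit.ι_desc, Cofan.mk_pt, Cofan.mk_ι_app, Category.assoc]
    by_cases hm : ∃ i, n i = m
    · obtain ⟨i, rfl⟩ := hm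
      rw [reassoc_of% (hd i), hjn, hj1, tel_self]
      simp only [b, colimit.ι_desc, Cofan.mk_pt, Cofan.mk_ι_app, Category.comp_id]
      rw [tel_left F (hn (Nat.lt_succ_self i))]
      simp only [Nat.succ_eq_add_one]
      rw [sub_add_eq_sub_sub, sub_self]
    · push_neg at hm
      rw [reassoc_of% (hd' m hm), zero_comp, hj2 m hm, tel_left F (Nat.lt_of_le_of_ne (hj m) (Ne.symm (hm (j m))))]
      simp
  obtain ⟨φ, hφ2, hφ3⟩ := complete_distinguished_triangle_morphism _ _ hT' hT b a sq1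
  obtain ⟨ψ, hψ2, hψ3⟩ := complete_distinguished_triangle_morphism _ _ hT hT' d c sq2
  dsimp at φ ψ hφ2 hφ3 hψ2 hψ3
  have hu2 : Sigma.desc ι' ≫ φ ≫ ψ = Sigma.desc ι' := by
    rw [reassoc_of% hφ2, hψ2, reassoc_of% hac]
  have hu3 : c₁ = (φ ≫ ψ) ≫ c₁ := by
    rw [Category.assoc, ← hψ3, ← Category.assoc, ← hφ3, Category.assoc, ← Functor.map_comp, hbd, CategoryTheory.Functor.map_id, Category.comp_id]
  let u : Triangle.mk f' (Sigma.desc ι') c₁ ⟶ Triangle.mk f' (Sigma.desc ι') c₁ :=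
    Triangle.homMk _ _ (𝟙 _) (𝟙 _) (φ ≫ ψ) (by simp) (by dsimp; rw [hu2, Category.id_comp]) (by dsimp; rw [CategoryTheory.Functor.map_id, Category.comp_id, ← hu3])
  have : IsIso (φ ≫ ψ) := isIso₃_of_isIso₁₂ u hT' hT' (by dsimp [u]; infer_instance) (by dsimp [u]; infer_instance)
  have hιφ : ∀ i, ι' i ≫ φ = ι (n i) := fun i => by
    have := congrArg (Sigma.ι (fun i : ℕ => F.obj (n i)) i ≫ ·) hφ2
    simpa [a] using this
  have hι1 : ∀ m, F.map (homOfLE (Nat.le_succ m)) ≫ ι (m + 1) = ι m := fun m => by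
    have h0 := comp_distTriang_mor_zero₁₂ _ hT
    dsimp at h0
    have := congrArg (Sigma.ι (fun m : ℕ => F.obj m) m ≫ ·) h0
    simp [DerLim.shiftMap, sub_eq_zero] at this
    exact this.symm
  have hι : ∀ (m N : ℕ) (h : m ≤ N), F.map (homOfLE h) ≫ ι N = ι m := fun m N h => by
    induction N, h using Nat.le_induction with
    | base => simp
    | succ N hN ih => rw [← homOfLE_comp hN (Nat.le_succ N), Functor.map_comp, Category.assoc, hι1, ih]
  let v : L' ⟶ L' := inv (φ ≫ ψ)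
  have hv2 : Sigma.desc ι' ≫ v = Sigma.desc ι' := (IsIso.comp_inv_eq (φ ≫ ψ)).mpr hu2.symm
  have hv3 : v ≫ c₁ = c₁ := (IsIso.inv_comp_eq (φ ≫ ψ)).mpr hu3
  have hφψ : φ ≫ ψ ≫ v = 𝟙 _ := by rw [← Category.assoc, IsIso.hom_inv_id]
  let z : L ⟶ L := 𝟙 _ - ψ ≫ v ≫ φ
  have hz2 : Sigma.desc ι ≫ z = 0 := by
    rw [Preadditive.comp_sub, Category.comp_id, reassoc_of% hψ2, reassoc_of% hv2, hφ2, sub_eq_zero]
    refine Sigma.hom_ext _ _ fun m => ?_
    simp [c, a, hι m (n (j m)) (hj m)]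
  have hc0 : c₀ ≫ (shiftFunctor D (1 : ℤ)).map f = 0 := by
    have h0 := comp_distTriang_mor_zero₂₃ _ (rot_of_distTriang _ hT)
    dsimp [Triangle.rotate] at h0
    rwa [Preadditive.comp_neg, neg_eq_zero] at h0
  have hz3 : z ≫ c₀ = 0 := by
    rw [Preadditive.sub_comp, Category.id_comp, Category.assoc, Category.assoc, ← hφ3, reassoc_of% hv3,
      ← reassoc_of% hψ3, ← Functor.map_comp]
    have h0 : d ≫ b = 𝟙 _ - f ≫ h := by rw [hdb]; abel
    rw [h0, Functor.map_sub, Preadditive.comp_sub, CategoryTheory.Functor.map_id, Category.comp_id, Functor.map_comp,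
      reassoc_of% hc0, zero_comp, sub_zero, sub_self]
  obtain ⟨y, hy⟩ := Triangle.coyoneda_exact₃ _ hT z hz3
  dsimp at y hy
  have hzz : z ≫ z = 0 := by
    conv_lhs => arg 1; rw [hy]
    rw [Category.assoc, hz2, comp_zero]
  have hz : z = 0 := by
    have h1 : z ≫ z = z := by
      simp only [z, Preadditive.sub_comp, Category.id_comp, Preadditive.comp_sub, Category.comp_id, Category.assoc, reassoc_of% hφψ]
      abel
    rw [← h1, hzz]
  exact ⟨⟨φ, ψ ≫ v, hφψ, (Category.assoc _ _ _).trans (sub_eq_zero.mp hz).symm⟩, hιφ⟩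

end Groth.L10.HocolimSub
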