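import Mathlib.CategoryTheory.Triangulated.Opposite.Pretriangulated
import Mathlib.CategoryTheory.Idempotents.Basic
import Mathlib.CategoryTheory.Limits.Shapes.Opposites.Products

/-! Idempotents split in triangulated categories with countable sums. -/

universe v u

open CategoryTheory CategoryTheory.Limits CategoryTheory.Pretriangulated
open scoped CategoryTheory.Pretriangulated.Opposite

namespace Groth.L10.IdemComplete

variable {D : Type u} [Category.{v} D] [Preadditive D] [HasZeroObject D] [HasShift D ℤ]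
  [∀ n : ℤ, (shiftFunctor D n).Additive] [Pretriangulated D]

theorem of_coproducts [HasColimitsOfShape (Discrete ℕ) D] : IsIdempotentComplete D := by
  refine ⟨fun X e he => ?_⟩
  let ι : ℕ → (X ⟶ ∐ fun _ : ℕ => X) := fun n => Sigma.ι (fun _ : ℕ => X) n
  let φ : (∐ fun _ : ℕ => X) ⟶ ∐ fun _ : ℕ => X := Sigma.desc fun n => ι n - e ≫ ι (n + 1)
  let r : (∐ fun _ : ℕ => X) ⟶ ∐ fun _ : ℕ => X :=
    Sigma.desc fun n => ι n - e ≫ ι n - e ≫ (∑ k ∈ Finset.range n, ι k)
  have hφ : ∀ n, ι n ≫ φ = ι n - e ≫ ι (n + 1) := fun n => Sigma.ι_desc _ _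
  have hr : ∀ n, ι n ≫ r = ι n - e ≫ ι n - e ≫ (∑ k ∈ Finset.range n, ι k) := fun n => Sigma.ι_desc _ _
  have hφr : φ ≫ r = 𝟙 _ := Limits.Sigma.hom_ext _ _ fun n => by
    change ι n ≫ φ ≫ r = ι n ≫ 𝟙 _
    rw [Category.comp_id, ← Category.assoc, hφ, Preadditive.sub_comp, Category.assoc, hr, hr]
    simp only [Preadditive.comp_sub, Finset.sum_range_succ, Preadditive.comp_add, reassoc_of% he]
    abel
  have hsum : ∀ n, (∑ k ∈ Finset.range n, ι k) ≫ φ + e ≫ (∑ k ∈ Finset.range n, ι (k + 1)) = ∑ k ∈ Finset.range n, ι k :=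
    fun n => by
      simp only [Preadditive.sum_comp, hφ, Finset.sum_sub_distrib, Preadditive.comp_sum]
      abel
  have hrφ : ∀ n, ι n ≫ r ≫ φ = ι n - e ≫ ι 0 := fun n => by
    rw [← Category.assoc, hr, Preadditive.sub_comp, Preadditive.sub_comp, Category.assoc, Category.assoc, hφ,
      eq_sub_of_add_eq (hsum n)]
    simp only [Preadditive.comp_sub, reassoc_of% he]
    have : (∑ k ∈ Finset.range n, ι k) + ι n = (∑ k ∈ Finset.range n, ι (k + 1)) + ι 0 := by
      rw [← Finset.sum_range_succ, Finset.sum_range_succ']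
    rw [eq_sub_of_add_eq this]
    simp only [Preadditive.comp_sub, Preadditive.comp_add]
    abel
  obtain ⟨Y, g, h, hT⟩ := distinguished_cocone_triangle φ
  let T := Triangle.mk φ g h
  have hmono : Mono φ := (SplitMono.mk r hφr).mono
  have : Epi g := T.epi₂ hT (T.mor₃_eq_zero_of_mono₁ hT hmono)
  have h0 : φ ≫ (𝟙 _ - r ≫ φ) = 0 := by
    rw [Preadditive.comp_sub, Category.comp_id, reassoc_of% hφr, sub_self]
  obtain ⟨s, hs⟩ : ∃ s : Y ⟶ ∐ fun _ : ℕ => X, 𝟙 _ - r ≫ φ = g ≫ s := T.yoneda_exact₂ hT _ h0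
  have hsg : s ≫ g = 𝟙 Y := by
    rw [← cancel_epi g, ← Category.assoc, ← hs, Preadditive.sub_comp, Category.id_comp, Category.assoc,
      show φ ≫ g = 0 from comp_distTriang_mor_zero₁₂ T hT, comp_zero, sub_zero, Category.comp_id]
  have hq : Sigma.desc (fun _ : ℕ => 𝟙 X) ≫ e ≫ ι 0 = g ≫ s := by
    rw [← hs]
    refine Limits.Sigma.hom_ext _ _ fun n => ?_
    rw [Sigma.ι_desc_assoc, Category.id_comp, Preadditive.comp_sub, Category.comp_id, hrφ]
    abel
  refine ⟨Y, s ≫ Sigma.desc (fun _ : ℕ => 𝟙 X) ≫ e, ι 0 ≫ g, ?_, ?_⟩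
  · simp only [Category.assoc]
    rw [reassoc_of% hq, hsg, Category.comp_id, hsg]
  · rw [Category.assoc, ← reassoc_of% hs, Preadditive.sub_comp, Category.id_comp, Preadditive.comp_sub,
      Sigma.ι_desc_assoc, Category.id_comp, Category.assoc, reassoc_of% (hrφ 0), Preadditive.sub_comp,
      Sigma.ι_desc_assoc, Category.id_comp, Category.assoc, Sigma.ι_desc_assoc, Category.id_comp, he]
    abel

theorem of_products [HasLimitsOfShape (Discrete ℕ) D] : IsIdempotentComplete D := by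
  rw [← Idempotents.isIdempotentComplete_iff_opposite]
  exact of_coproducts

end Groth.L10.IdemComplete
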