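import Groth.Agent.L10.KInj
import Groth.Agent.L10.InjOverRes
import Groth.Agent.L10.SiteCoh
import Mathlib.CategoryTheory.Abelian.GrothendieckCategory.EnoughInjectives
import Mathlib.CategoryTheory.Abelian.GrothendieckAxioms.Sheaf
import Mathlib.CategoryTheory.Generator.Sheaf
import Mathlib.CategoryTheory.Abelian.Exact
import Mathlib.Algebra.Homology.ShortComplex.ExactFunctor

/-! Right adjoints preserving injectives have exact left adjoints. -/

universe v v' u u'

open CategoryTheory CategoryTheory.Limits

set_option backward.defeqAttrib.useBackward true
set_option backward.isDefEq.respectTransparency false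
namespace Groth.L10.InjPreserved

variable {A : Type u} [Category.{v} A] [Abelian A] [EnoughInjectives A] {B : Type u'} [Category.{v'} B] [Abelian B]
  {R : A ⥤ B} [R.Additive] {L : B ⥤ A} (adj : L ⊣ R)

include adj in
theorem preservesFiniteLimits_leftAdjoint (h : ∀ I : A, Injective I → Injective (R.obj I)) :
    PreservesFiniteLimits L := by
  have := adj.left_adjoint_additive
  have := adj.leftAdjoint_preservesColimits
  have : L.PreservesMonomorphisms := ⟨fun {X Y} i _ => by
    obtain ⟨P⟩ := EnoughInjectives.presentation (L.obj X)
    have := h P.J P.injective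
    have hk : L.map i ≫ (adj.homEquiv _ _).symm (Injective.factorThru (adj.homEquiv _ _ P.f) i) = P.f := by
      rw [← adj.homEquiv_naturality_left_symm, Injective.comp_factorThru, Equiv.symm_apply_apply]
    have : Mono (L.map i ≫ (adj.homEquiv _ _).symm (Injective.factorThru (adj.homEquiv _ _ P.f) i)) := by
      rw [hk]; exact P.mono
    exact mono_of_mono _ ((adj.homEquiv _ _).symm (Injective.factorThru (adj.homEquiv _ _ P.f) i))⟩
  refine (Functor.preservesFiniteLimits_iff_forall_exact_map_and_mono L).2 fun S hS => ?_
  have := hS.mono_f
  have : L.PreservesHomology := L.preservesHomology_of_preservesMonos_and_cokernels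
  exact ⟨hS.exact.map L, inferInstance⟩

include adj in
theorem isKInjective_map (h : ∀ I : A, Injective I → Injective (R.obj I)) (I : CochainComplex A ℤ)
    (hI : I.IsKInjective) : CochainComplex.IsKInjective ((R.mapHomologicalComplex (ComplexShape.up ℤ)).obj I) := by
  have := preservesFiniteLimits_leftAdjoint adj h
  have := adj.left_adjoint_additive
  have := adj.leftAdjoint_preservesColimits
  exact Groth.L10.s0481 R L adj I hI

end Groth.L10.InjPreserved
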