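import Mathlib.Algebra.Homology.Refinements
import Mathlib.Algebra.Homology.DerivedCategory.ExactFunctor
import Mathlib.Algebra.Homology.DerivedCategory.TStructure
import Mathlib.CategoryTheory.Abelian.CommSq
import Mathlib.CategoryTheory.Abelian.Injective.Basic
import Mathlib.CategoryTheory.Limits.Preserves.Shapes.Kernels
import Mathlib.Algebra.Homology.ShortComplex.ExactFunctor

/-! Injective resolutions with terms in a thick abelian subcategory. -/

universe w w' v u v' u'

open CategoryTheory CategoryTheory.Limits HomologicalComplex ZeroObject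

set_option backward.defeqAttrib.useBackward true
set_option backward.isDefEq.respectTransparency false
namespace Groth.L10.InjResSub

variable {A' : Type u'} [Category.{v'} A'] [Abelian A'] {A : Type u} [Category.{v} A] [Abelian A]
  (ι : A' ⥤ A) [ι.Additive] [PreservesFiniteLimits ι] [PreservesFiniteColimits ι] [ι.Full] [ι.Faithful]

/-- The hypotheses. -/
structure Hyp : Prop where
  hext : ∀ S : ShortComplex A, S.ShortExact → ι.essImage S.X₁ → ι.essImage S.X₃ → ι.essImage S.X₂
  hinj : ∀ X' : A', ∃ (Y' : A') (i : X' ⟶ Y'), Mono i ∧ Injective (ι.obj Y')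

variable {ι} (h : Hyp ι)

include h in
theorem exists_embedding {X : A} (hX : ι.essImage X) :
    ∃ (Y' : A') (ν : X ⟶ ι.obj Y'), Mono ν ∧ Injective (ι.obj Y') := by
  obtain ⟨X', ⟨e⟩⟩ := hX
  obtain ⟨Y', i, hi, hI⟩ := h.hinj X'
  exact ⟨Y', e.inv ≫ ι.map i, inferInstance, hI⟩

theorem essImage_cokernel {X : A} (hX : ι.essImage X) {N : A'} (g : X ⟶ ι.obj N) : ι.essImage (cokernel g) := by
  obtain ⟨X', ⟨e⟩⟩ := hX
  refine ⟨cokernel (ι.preimage (e.hom ≫ g)), ⟨PreservesCokernel.iso ι (ι.preimage (e.hom ≫ g)) ≪≫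
    cokernelIsoOfEq (ι.map_preimage _) ≪≫ cokernelEpiComp e.hom g⟩⟩

variable (K : CochainComplex A ℤ)

/-- A stage of the construction. -/
structure Stage (ι : A' ⥤ A) (n : ℤ) where
  P : A'
  N : A'
  δ : P ⟶ N
  f : K.X n ⟶ ι.obj N
  inj : Injective (ι.obj N)
  cyc : ∀ ⦃T : A⦄ (x : T ⟶ K.X n) (m : ℤ), m + 1 = n → x ≫ K.d n (n + 1) = 0 →
    ∀ q : T ⟶ ι.obj P, x ≫ f = q ≫ ι.map δ →
      ∃ (T' : A) (e : T' ⟶ T) (_ : Epi e) (t : T' ⟶ K.X m), e ≫ x = t ≫ K.d m n
  bdry : ∀ ⦃T : A⦄ (m : ℤ) (t : T ⟶ K.X m), m + 1 = n →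
    ∃ (T' : A) (e : T' ⟶ T) (_ : Epi e) (q : T' ⟶ ι.obj P), e ≫ t ≫ K.d m n ≫ f = q ≫ ι.map δ

variable {K} {n : ℤ} (S : Stage K ι n)

noncomputable abbrev π' : ι.obj S.N ⟶ ι.obj (cokernel S.δ) := ι.map (cokernel.π S.δ)

noncomputable abbrev g : K.X n ⟶ ι.obj (cokernel S.δ) := S.f ≫ π' S

noncomputable abbrev X : A := pushout (g S) (K.toCycles n (n + 1))

theorem exact_π' : (ShortComplex.mk (ι.map S.δ) (π' S) (by rw [← ι.map_comp, cokernel.condition, ι.map_zero])).Exact :=
  (ShortComplex.exact_cokernel S.δ).map ι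

noncomputable def hbar : K.homology n ⟶ ι.obj (cokernel S.δ) :=
  Abelian.epiDesc (K.homologyπ n) (K.iCycles n ≫ g S) (by
    obtain ⟨T, e, he, t, ht⟩ := (K.comp_homologyπ_eq_zero_iff_up_to_refinements (n - 1) n (by simp) _).1
      (kernel.condition (K.homologyπ n))
    obtain ⟨T', e', he', q, hq⟩ := S.bdry (n - 1) t (by omega)
    rw [← cancel_epi (e' ≫ e), comp_zero, Category.assoc, reassoc_of% ht, toCycles_i_assoc, reassoc_of% hq,
      ← ι.map_comp, cokernel.condition, ι.map_zero, comp_zero])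

theorem π_hbar : K.homologyπ n ≫ hbar S = K.iCycles n ≫ g S := Abelian.comp_epiDesc _ _ _

theorem iCycles_toCycles : K.iCycles n ≫ K.toCycles n (n + 1) = 0 := by
  rw [← cancel_mono (K.iCycles (n + 1)), Category.assoc, toCycles_i, iCycles_d, zero_comp]

noncomputable def γ : cokernel (hbar S) ⟶ X S :=
  cokernel.desc _ (pushout.inl _ _) (by
    rw [← cancel_epi (K.homologyπ n), ← Category.assoc, π_hbar, comp_zero, Category.assoc, pushout.condition,
      ← Category.assoc, iCycles_toCycles, zero_comp])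

noncomputable def toH : X S ⟶ K.homology (n + 1) :=
  pushout.desc 0 (K.homologyπ (n + 1)) (by rw [comp_zero, toCycles_comp_homologyπ])

theorem γ_toH : γ S ≫ toH S = 0 := by
  rw [← cancel_epi (cokernel.π (hbar S)), γ, cokernel.π_desc_assoc, comp_zero, toH, pushout.inl_desc]

theorem pushout_kernel {T : A} (a : T ⟶ ι.obj (cokernel S.δ)) (b : T ⟶ K.cycles (n + 1))
    (hab : a ≫ pushout.inl (g S) (K.toCycles n (n + 1)) = b ≫ pushout.inr (g S) (K.toCycles n (n + 1))) :
    ∃ (T' : A) (e : T' ⟶ T) (_ : Epi e) (k : T' ⟶ K.X n), e ≫ a = k ≫ g S ∧ e ≫ b = k ≫ K.toCycles n (n + 1) := by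
  have hex := (IsPushout.of_hasPushout (g S) (K.toCycles n (n + 1))).exact_shortComplex
  rw [ShortComplex.exact_iff_exact_up_to_refinements] at hex
  obtain ⟨T', e, he, k, hk⟩ := hex (biprod.lift a (-b)) (by simp [hab, biprod.lift_desc])
  have h1 := hk =≫ biprod.fst
  have h2 := hk =≫ biprod.snd
  simp at h1 h2
  exact ⟨T', e, he, k, h1, by simpa using h2⟩

instance mono_γ : Mono (γ S) := Preadditive.mono_of_cancel_zero _ fun {T} c hc => by
  obtain ⟨T₁, e₁, _, a, ha⟩ := surjective_up_to_refinements_of_epi (cokernel.π (hbar S)) c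
  have h0 : a ≫ pushout.inl (g S) (K.toCycles n (n + 1)) = (0 : T₁ ⟶ _) ≫ pushout.inr (g S) (K.toCycles n (n + 1)) := by
    have h1 : cokernel.π (hbar S) ≫ γ S = pushout.inl (g S) (K.toCycles n (n + 1)) := cokernel.π_desc _ _ _
    rw [zero_comp, ← h1, ← reassoc_of% ha, hc, comp_zero]
  obtain ⟨T₂, e₂, _, k, hk, hk'⟩ := pushout_kernel S a 0 h0
  have hk0 : k ≫ K.toCycles n (n + 1) = 0 := by simpa using hk'.symm
  have hd : k ≫ K.d n (n + 1) = 0 := by rw [← K.toCycles_i, reassoc_of% hk0, zero_comp]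
  rw [← cancel_epi (e₂ ≫ e₁), comp_zero, Category.assoc, ha, reassoc_of% hk,
    ← K.liftCycles_i k (n + 1) (by simp) hd, Category.assoc, ← reassoc_of% (π_hbar S),
    cokernel.condition, comp_zero, comp_zero]

variable (hH : ∀ i, ι.essImage (K.homology i))

include h hH in
theorem essImage_X : ι.essImage (X S) := by
  have : Epi (toH S) := epi_of_epi_fac (pushout.inr_desc (f := g S) (g := K.toCycles n (n + 1))
    0 (K.homologyπ (n + 1)) (by rw [comp_zero, toCycles_comp_homologyπ]))
  refine h.hext (ShortComplex.mk (γ S) (toH S) (γ_toH S)) { exact := ?_ } (essImage_cokernel (hH n) (hbar S)) (hH _)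
  rw [ShortComplex.exact_iff_exact_up_to_refinements]
  intro T x hx
  dsimp at x hx
  obtain ⟨T₁, e₁, _, a, b, hab⟩ := (IsPushout.of_hasPushout (g S) (K.toCycles n (n + 1))).hom_eq_add_up_to_refinements x
  have hb : b ≫ K.homologyπ (n + 1) = 0 := by
    have h' : (a ≫ pushout.inl _ _ + b ≫ pushout.inr _ _) ≫ toH S = 0 := by
      rw [← hab, Category.assoc, hx, comp_zero]
    simpa [toH] using h'
  obtain ⟨T₂, e₂, _, k, hk⟩ := (K.comp_homologyπ_eq_zero_iff_up_to_refinements n (n + 1) (by simp) b).1 hb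
  refine ⟨T₂, e₂ ≫ e₁, inferInstance, (e₂ ≫ a + k ≫ g S) ≫ cokernel.π (hbar S), ?_⟩
  dsimp
  rw [Category.assoc, hab, Preadditive.comp_add, reassoc_of% hk, ← pushout.condition]
  simp [γ, Preadditive.add_comp]

noncomputable def Y : A' := (exists_embedding h (essImage_X h S hH)).choose

noncomputable def ν : X S ⟶ ι.obj (Y h S hH) := (exists_embedding h (essImage_X h S hH)).choose_spec.choose

instance mono_ν : Mono (ν h S hH) := (exists_embedding h (essImage_X h S hH)).choose_spec.choose_spec.1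

theorem injective_Y : Injective (ι.obj (Y h S hH)) := (exists_embedding h (essImage_X h S hH)).choose_spec.choose_spec.2

noncomputable def f' : K.X (n + 1) ⟶ ι.obj (Y h S hH) :=
  have := injective_Y h S hH
  Injective.factorThru (pushout.inr _ _ ≫ ν h S hH) (K.iCycles (n + 1))

theorem iCycles_f' : K.iCycles (n + 1) ≫ f' h S hH = pushout.inr _ _ ≫ ν h S hH :=
  have := injective_Y h S hH
  Injective.comp_factorThru _ _

noncomputable def δ' : S.N ⟶ Y h S hH := ι.preimage (π' S ≫ pushout.inl _ _ ≫ ν h S hH)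

theorem map_δ' : ι.map (δ' h S hH) = π' S ≫ pushout.inl _ _ ≫ ν h S hH := ι.map_preimage _

theorem comm : S.f ≫ ι.map (δ' h S hH) = K.d n (n + 1) ≫ f' h S hH := by
  rw [map_δ', ← K.toCycles_i, Category.assoc, iCycles_f', ← pushout.condition_assoc, Category.assoc]

theorem δ_δ' : S.δ ≫ δ' h S hH = 0 := by
  apply ι.map_injective
  rw [ι.map_comp, map_δ', ι.map_zero, ← ι.map_comp_assoc, cokernel.condition, ι.map_zero, zero_comp]

theorem exact_at {T : A} (q : T ⟶ ι.obj S.N) (hq : q ≫ ι.map (δ' h S hH) = 0) :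
    ∃ (T' : A) (e : T' ⟶ T) (_ : Epi e) (x : T' ⟶ K.X n) (_ : x ≫ K.d n (n + 1) = 0) (p : T' ⟶ ι.obj S.P),
      e ≫ q = x ≫ S.f + p ≫ ι.map S.δ := by
  rw [map_δ'] at hq
  have h0 : (q ≫ π' S) ≫ pushout.inl (g S) (K.toCycles n (n + 1)) = (0 : T ⟶ _) ≫ pushout.inr (g S) (K.toCycles n (n + 1)) := by
    rw [zero_comp, ← cancel_mono (ν h S hH), zero_comp]; simpa using hq
  obtain ⟨T₁, e₁, _, k, hk, hk'⟩ := pushout_kernel S _ _ h0
  have hk0 : k ≫ K.toCycles n (n + 1) = 0 := by simpa using hk'.symm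
  have hd : k ≫ K.d n (n + 1) = 0 := by rw [← K.toCycles_i, reassoc_of% hk0, zero_comp]
  have h1 : (e₁ ≫ q - k ≫ S.f) ≫ π' S = 0 := by simp [Preadditive.sub_comp, hk]
  obtain ⟨T₂, e₂, _, p, hp⟩ := (ShortComplex.exact_iff_exact_up_to_refinements _).1 (exact_π' S) _ h1
  dsimp at p hp
  refine ⟨T₂, e₂ ≫ e₁, inferInstance, e₂ ≫ k, by simp [hd], p, ?_⟩
  rw [← hp]; simp

/-- The next stage. -/
noncomputable def next : Stage K ι (n + 1) where
  P := S.N
  N := Y h S hH
  δ := δ' h S hH
  f := f' h S hH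
  inj := injective_Y h S hH
  cyc T x m hm hx q hq := by
    obtain rfl : m = n := by omega
    have h0 : (q ≫ π' S) ≫ pushout.inl (g S) (K.toCycles m (m + 1)) =
        K.liftCycles x (m + 1 + 1) (by simp) hx ≫ pushout.inr (g S) (K.toCycles m (m + 1)) := by
      rw [← cancel_mono (ν h S hH)]
      simp only [Category.assoc]
      rw [← iCycles_f', liftCycles_i_assoc, hq, map_δ']
    obtain ⟨T', e, he, k, -, hk⟩ := pushout_kernel S _ _ h0
    refine ⟨T', e, he, k, ?_⟩
    have := hk =≫ K.iCycles (m + 1)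
    simpa using this
  bdry T m t hm := by
    obtain rfl : m = n := by omega
    exact ⟨T, 𝟙 T, inferInstance, t ≫ S.f, by rw [Category.id_comp, Category.assoc, comm]⟩

variable (K)

include h hH in
theorem exists_embedding_zero : ∃ (Y' : A') (ν : K.homology 0 ⟶ ι.obj Y'), Mono ν ∧ Injective (ι.obj Y') :=
  exists_embedding h (hH 0)

/-- The initial stage. -/
noncomputable def init [K.IsStrictlyGE 0] : Stage K ι 0 where
  P := 0
  N := (exists_embedding_zero h K hH).choose
  δ := 0
  f :=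
    have := (exists_embedding_zero h K hH).choose_spec.choose_spec.2
    Injective.factorThru (K.homologyπ 0 ≫ (exists_embedding_zero h K hH).choose_spec.choose) (K.iCycles 0)
  inj := (exists_embedding_zero h K hH).choose_spec.choose_spec.2
  cyc T x m hm hx q hq := by
    have := (exists_embedding_zero h K hH).choose_spec.choose_spec.1
    have := (exists_embedding_zero h K hH).choose_spec.choose_spec.2
    refine (K.liftCycles_comp_homologyπ_eq_zero_iff_up_to_refinements m _ _ (by simp; omega) (by simp) x hx).1 ?_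
    rw [ι.map_zero, comp_zero] at hq
    rw [← cancel_mono (exists_embedding_zero h K hH).choose_spec.choose, zero_comp, Category.assoc,
      ← Injective.comp_factorThru (K.homologyπ 0 ≫ (exists_embedding_zero h K hH).choose_spec.choose) (K.iCycles 0)]
    erw [liftCycles_i_assoc]
    exact hq
  bdry T m t hm := ⟨T, 𝟙 T, inferInstance, 0, by
    rw [(CochainComplex.isZero_of_isStrictlyGE K 0 m (by omega)).eq_of_tgt t 0]; simp⟩

variable [K.IsStrictlyGE 0]

/-- All stages. -/
noncomputable def stg : ∀ k : ℕ, Stage K ι (k : ℤ)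
  | 0 => init h K hH
  | k + 1 => next h (stg k) hH

/-- The terms. -/
noncomputable def term : ℤ → A'
  | Int.ofNat k => (stg h K hH k).N
  | Int.negSucc _ => 0

/-- The differential. -/
noncomputable def termD : ∀ q : ℤ, term h K hH q ⟶ term h K hH (q + 1)
  | Int.ofNat k => δ' h (stg h K hH k) hH
  | Int.negSucc _ => 0

theorem termD_sq (q : ℤ) : termD h K hH q ≫ termD h K hH (q + 1) = 0 := by
  match q with
  | Int.ofNat k => exact δ_δ' h (next h (stg h K hH k) hH) hH
  | Int.negSucc k => exact zero_comp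

/-- The complex in the subcategory. -/
noncomputable def res : CochainComplex A' ℤ := CochainComplex.of (term h K hH) (termD h K hH) (termD_sq h K hH)

theorem res_d (k : ℕ) : (res h K hH).d (k : ℤ) ((k : ℤ) + 1) = δ' h (stg h K hH k) hH := by simp [res]; rfl

noncomputable def toResF : ∀ q : ℤ, K.X q ⟶ ι.obj (term h K hH q)
  | Int.ofNat k => (stg h K hH k).f
  | Int.negSucc _ => 0

/-- The comparison map. -/
noncomputable def toRes : K ⟶ (ι.mapHomologicalComplex (ComplexShape.up ℤ)).obj (res h K hH) where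
  f q := toResF h K hH q
  comm' i j hij := by
    obtain rfl : i + 1 = j := hij
    match i with
    | Int.ofNat k =>
      change (stg h K hH k).f ≫ ι.map ((res h K hH).d (k : ℤ) ((k : ℤ) + 1)) = K.d (k : ℤ) ((k : ℤ) + 1) ≫ f' h (stg h K hH k) hH
      rw [res_d, comm]
    | Int.negSucc k => exact (CochainComplex.isZero_of_isStrictlyGE K 0 (Int.negSucc k) (Int.negSucc_lt_zero k)).eq_of_src _ _

theorem injective_res (n : ℤ) : Injective (ι.obj ((res h K hH).X n)) := by
  match n with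
  | Int.ofNat k => exact (stg h K hH k).inj
  | Int.negSucc k => exact ⟨fun _ _ _ => ⟨0, (ι.map_isZero (Limits.isZero_zero A')).eq_of_tgt _ _⟩⟩

instance isStrictlyGE_res : (res h K hH).IsStrictlyGE 0 := by
  rw [CochainComplex.isStrictlyGE_iff]
  intro i hi
  match i, hi with
  | Int.negSucc k, _ => exact Limits.isZero_zero A'

instance quasiIso_toRes : QuasiIso (toRes h K hH) := by
  rw [quasiIso_iff]
  intro q
  match q with
  | Int.negSucc k =>
    exact (quasiIsoAt_iff_exactAt' _ _ ((exactAt_iff_isZero_homology _ _).2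
      (ShortComplex.isZero_homology_of_isZero_X₂ _ (ι.map_isZero (Limits.isZero_zero A'))))).2
      ((exactAt_iff_isZero_homology _ _).2 (ShortComplex.isZero_homology_of_isZero_X₂ _
        (CochainComplex.isZero_of_isStrictlyGE K 0 (Int.negSucc k) (Int.negSucc_lt_zero k))))
  | Int.ofNat k =>
    rw [quasiIsoAt_iff_isIso_homologyMap]
    have hz0 : IsZero (ι.obj ((res h K hH).X (Int.negSucc 0))) := ι.map_isZero (Limits.isZero_zero A')
    have hM : Mono (homologyMap (toRes h K hH) (k : ℤ)) := by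
      cases k with
      | zero =>
        rw [mono_homologyMap_iff_up_to_refinements _ (Int.negSucc 0) ((0 : ℕ) : ℤ) (((0 : ℕ) : ℤ) + 1) (by simp) (by simp)]
        intro T x hx y hy
        refine (stg h K hH 0).cyc x _ (by omega) hx 0 ?_
        change x ≫ (toRes h K hH).f _ = 0 ≫ _
        rw [hy, IsZero.eq_of_tgt hz0 y 0]
        simp
      | succ j =>
        rw [mono_homologyMap_iff_up_to_refinements _ (j : ℤ) ((j + 1 : ℕ) : ℤ) (((j + 1 : ℕ) : ℤ) + 1) (by simp) (by simp)]
        intro T x hx y hy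
        change T ⟶ ι.obj (stg h K hH j).N at y
        change x ≫ (stg h K hH (j + 1)).f = y ≫ ι.map ((res h K hH).d (j : ℤ) ((j : ℤ) + 1)) at hy
        rw [res_d] at hy
        exact (stg h K hH (j + 1)).cyc x (j : ℤ) (by omega) hx y hy
    have hE : Epi (homologyMap (toRes h K hH) (k : ℤ)) := by
      cases k with
      | zero =>
        rw [epi_homologyMap_iff_up_to_refinements _ (Int.negSucc 0) ((0 : ℕ) : ℤ) (((0 : ℕ) : ℤ) + 1) (by simp) (by simp)]
        intro T q hq
        change q ≫ ι.map ((res h K hH).d ((0 : ℕ) : ℤ) (((0 : ℕ) : ℤ) + 1)) = 0 at hq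
        rw [res_d] at hq
        obtain ⟨T', e, he, x, hx, p, hp⟩ := exact_at h (stg h K hH 0) hH q hq
        refine ⟨T', e, he, x, hx, 0, ?_⟩
        rw [zero_comp]
        refine hp.trans ?_
        rw [IsZero.eq_of_tgt (ι.map_isZero (Limits.isZero_zero A')) p 0, zero_comp]
        rfl
      | succ j =>
        rw [epi_homologyMap_iff_up_to_refinements _ (j : ℤ) ((j + 1 : ℕ) : ℤ) (((j + 1 : ℕ) : ℤ) + 1) (by simp) (by simp)]
        intro T q hq
        change q ≫ ι.map ((res h K hH).d ((j + 1 : ℕ) : ℤ) (((j + 1 : ℕ) : ℤ) + 1)) = 0 at hq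
        rw [res_d] at hq
        obtain ⟨T', e, he, x, hx, p, hp⟩ := exact_at h (stg h K hH (j + 1)) hH q hq
        refine ⟨T', e, he, x, hx, p, hp.trans ?_⟩
        have hd : (res h K hH).d (j : ℤ) ((j + 1 : ℕ) : ℤ) = δ' h (stg h K hH j) hH := res_d h K hH j
        simp only [Functor.mapHomologicalComplex_obj_d, hd]
        rfl
    exact isIso_of_mono_of_epi _

variable [HasDerivedCategory.{w} A] [HasDerivedCategory.{w'} A']

open DerivedCategory in
omit [K.IsStrictlyGE 0] in
theorem main_result (hext : ∀ S : ShortComplex A, S.ShortExact → ι.essImage S.X₁ → ι.essImage S.X₃ → ι.essImage S.X₂)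
    (hinj : ∀ X' : A', ∃ (Y' : A') (i : X' ⟶ Y'), Mono i ∧ Injective (ι.obj Y'))
    (Z : DerivedCategory A) (a : ℤ) [Z.IsGE a] (hZ : ∀ i : ℤ, ι.essImage ((homologyFunctor A i).obj Z)) :
    ∃ (I : CochainComplex A' ℤ), I.IsStrictlyGE a ∧ (∀ n : ℤ, Injective (ι.obj (I.X n))) ∧
      Nonempty (ι.mapDerivedCategory.obj (Q.obj I) ≅ Z) := by
  have : DerivedCategory.IsGE (Z⟦a⟧) 0 := DerivedCategory.TStructure.t.isGE_shift Z a a 0 (by omega)
  obtain ⟨K, hK, ⟨e⟩⟩ := exists_iso_Q_obj_of_isGE (Z⟦a⟧) 0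
  have hH : ∀ i, ι.essImage (K.homology i) := fun i => by
    refine ObjectProperty.prop_of_iso _ ?_ (hZ (a + i))
    exact ((((homologyFunctor A 0).shiftIso a i (a + i) rfl).app Z).symm ≪≫ (homologyFunctor A i).mapIso e ≪≫
      (homologyFunctorFactors A i).app K)
  have h : Hyp ι := ⟨hext, hinj⟩
  let I := res h K hH
  refine ⟨I⟦-a⟧, I.isStrictlyGE_shift 0 (-a) a (by omega), fun n => injective_res h K hH (n + -a), ⟨?_⟩⟩
  exact ι.mapDerivedCategory.mapIso ((Q.commShiftIso (-a)).app I) ≪≫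
    (ι.mapDerivedCategory.commShiftIso (-a)).app (Q.obj I) ≪≫
    (shiftFunctor (DerivedCategory A) (-a)).mapIso
      (ι.mapDerivedCategoryFactors.app I ≪≫ (asIso (Q.map (toRes h K hH))).symm ≪≫ e.symm) ≪≫
    (shiftEquiv (DerivedCategory A) a).unitIso.symm.app Z

end Groth.L10.InjResSub
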