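import Groth.Agent.L17.HomAcyclic
import Groth.Agent.L10.PushAcyclic
import Groth.Agent.L10.SheafModGroth
import Mathlib.Algebra.Category.ModuleCat.Sheaf.Abelian
import Mathlib.Algebra.Category.ModuleCat.Presheaf.Sheafification

/-! Injective modules over a sheaf of rings are totally acyclic; their cohomology is `Ext` out of the unit. -/

universe u

open CategoryTheory CategoryTheory.Limits CategoryTheory.Abelian Opposite

set_option autoImplicit false
set_option backward.defeqAttrib.useBackward true
set_option backward.isDefEq.respectTransparency false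
set_option backward.isDefEq.respectTransparency.types false

noncomputable section

namespace Groth.L10.InjTAR

open Groth.L10 Groth.L10.SiteFr Groth.L17.HomAcyclic

variable {C : Type u} [SmallCategory C] {J : GrothendieckTopology C} (R : Sheaf J RingCat.{u})

/-- Sheafification of presheaves of modules. -/
abbrev shR : PresheafOfModules.{u} R.obj ⥤ SheafOfModules.{u} R := PresheafOfModules.sheafification (𝟙 R.obj)

/-- The sheafification adjunction. -/
abbrev shAdj : shR R ⊣ SheafOfModules.forget R ⋙ PresheafOfModules.restrictScalars (𝟙 R.obj) :=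
  PresheafOfModules.sheafificationAdjunction (𝟙 R.obj)

/-- The free presheaf of modules on a sheaf of sets. -/
abbrev freeR : Sheaf J (Type u) ⥤ PresheafOfModules.{u} R.obj :=
  sheafToPresheaf J (Type u) ⋙ PresheafOfModules.free R.obj

theorem shR_preservesFiniteLimits : PreservesFiniteLimits (shR R) :=
  inferInstanceAs (PreservesFiniteLimits (PresheafOfModules.sheafification.{u} (𝟙 R.obj)))

instance shR_additive : (shR R).Additive :=
  haveI := (shAdj R).isLeftAdjoint
  haveI := preservesBinaryBiproducts_of_preservesBinaryCoproducts (shR R)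
  Functor.additive_of_preservesBinaryBiproducts _

variable {K' K : Sheaf J (Type u)} (f : K' ⟶ K)

/-- The presheaf differential. -/
def D (n : ℕ) : (freeR R).obj (Nerve.N f (n+1)) ⟶ (freeR R).obj (Nerve.N f n) :=
  ∑ j : Fin (n+2), (-1 : ℤ) ^ (j : ℕ) • (freeR R).map (Nerve.δ f j)

theorem D_comp_D (n : ℕ) : D R f (n+1) ≫ D R f n = 0 :=
  AlgebraicTopology.AlternatingFaceMapComplex.d_squared ((Arrow.mk f).cechNerve ⋙ freeR R) n

theorem exact_D (n : ℕ) : (ShortComplex.mk (D R f (n+1)) (D R f n) (D_comp_D R f n)).Exact := by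
  rw [ShortComplex.exact_iff_isZero_homology, IsZero.iff_id_eq_zero]
  refine PresheafOfModules.hom_ext fun V => ?_
  have e := ((ShortComplex.mk (D R f (n+1)) (D R f n) (D_comp_D R f n)).mapHomologyIso
    (PresheafOfModules.evaluation R.obj V))
  refine ((ShortComplex.exact_iff_isZero_homology _).1 ?_).of_iso e.symm |>.eq_of_src _ _
  let T := ModuleCat.free.{u} (R.obj.obj V)
  have hd : ∀ m, (PresheafOfModules.evaluation R.obj V).map (D R f m) =
      ∑ j : Fin (m+2), (-1 : ℤ) ^ (j : ℕ) • T.map ((Nerve.δ f j).hom.app V) := fun m => by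
    rw [D, Functor.map_sum]
    refine Finset.sum_congr rfl fun j _ => ?_
    rw [Functor.map_zsmul]
    rfl
  let A₂ := T.obj ((Nerve.N f (n+1+1)).obj.obj V)
  let A₁ := T.obj ((Nerve.N f (n+1)).obj.obj V)
  let A₀ := T.obj ((Nerve.N f n).obj.obj V)
  let u₁ : A₂ ⟶ A₁ := (PresheafOfModules.evaluation R.obj V).map (D R f (n+1))
  let u₀ : A₁ ⟶ A₀ := (PresheafOfModules.evaluation R.obj V).map (D R f n)
  let a : A₁ ⟶ A₂ := T.map (sV f V (n+1))
  let b : A₀ ⟶ A₁ := T.map (sV f V n)
  have hu : a ≫ u₁ + u₀ ≫ b = 𝟙 A₁ :=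
    (congrArg₂ (fun (p : A₂ ⟶ A₁) (q : A₁ ⟶ A₀) => a ≫ p + q ≫ b) (hd (n+1)) (hd n)).trans
      (homotopy_of_extra (T := T) (fun j => (Nerve.δ f j).hom.app V) (fun j => (Nerve.δ f j).hom.app V) _ _
        (sV_δ_zero f V (n+1)) (sV_δ_succ f V n))
  exact exact_of_homotopy _ a b hu

omit K' K f

/-- The module map attached to a map out of a free abelian sheaf. -/
def freeFun {G : SheafOfModules.{u} R} {X : Sheaf J (Type u)}
    (z : (fr J).obj X ⟶ (SheafOfModules.toSheaf R).obj G) : (freeR R).obj X ⟶ G.val :=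
  (PresheafOfModules.freeHomEquiv (G := G.val) (F := X.obj)).symm ((adj J).homEquiv X _ z).hom

theorem freeFun_comp {G : SheafOfModules.{u} R} {X Y : Sheaf J (Type u)} (a : X ⟶ Y)
    (z : (fr J).obj Y ⟶ (SheafOfModules.toSheaf R).obj G) :
    freeFun R ((fr J).map a ≫ z) = (freeR R).map a ≫ freeFun R z := by
  rw [freeFun, (adj J).homEquiv_naturality_left]
  have h := (PresheafOfModules.freeAdjunction R.obj).homEquiv_naturality_left_symm
    a.hom (Y := G.val) ((adj J).homEquiv Y _ z).hom
  rw [PresheafOfModules.freeAdjunction_homEquiv, PresheafOfModules.freeAdjunction_homEquiv] at h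
  exact h

/-- Maps out of a free abelian sheaf into an abelian sheaf underlying a module. -/
def freeEquiv (G : SheafOfModules.{u} R) (X : Sheaf J (Type u)) :
    ((fr J).obj X ⟶ (SheafOfModules.toSheaf R).obj G) ≃+ ((freeR R).obj X ⟶ G.val) where
  toFun := freeFun R
  invFun w := ((adj J).homEquiv X _).symm ⟨PresheafOfModules.freeHomEquiv w⟩
  left_inv z := ((adj J).homEquiv X _).symm_apply_eq.2
    (Sheaf.hom_ext (PresheafOfModules.freeHomEquiv.apply_symm_apply _))
  right_inv w := PresheafOfModules.freeHomEquiv.symm_apply_eq.2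
    (congrArg (fun q : X ⟶ (U J).obj ((SheafOfModules.toSheaf R).obj G) => q.hom) (((adj J).homEquiv X _).apply_symm_apply _))
  map_add' z z' := by
    apply PresheafOfModules.freeHomEquiv.injective
    erw [freeFun, Equiv.apply_symm_apply, adj_homEquiv_add]
    refine NatTrans.ext (funext fun V => ConcreteCategory.hom_ext _ _ fun x => ?_)
    refine Eq.trans ?_ (congrArg₂ (· + ·)
      (congr(($(PresheafOfModules.freeHomEquiv.apply_symm_apply ((adj J).homEquiv X _ z).hom)).app V x)).symm
      (congr(($(PresheafOfModules.freeHomEquiv.apply_symm_apply ((adj J).homEquiv X _ z').hom)).app V x)).symm)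
    rfl

/-- Maps out of the sheafification. -/
def shEquiv (G : SheafOfModules.{u} R) (P : PresheafOfModules.{u} R.obj) :
    (P ⟶ (SheafOfModules.forget R ⋙ PresheafOfModules.restrictScalars (𝟙 R.obj)).obj G) ≃+ ((shR R).obj P ⟶ G) :=
  ((shAdj R).homAddEquiv P G).symm

/-- Maps out of a free abelian sheaf into the abelian sheaf underlying a module. -/
def homEquiv (G : SheafOfModules.{u} R) (X : Sheaf J (Type u)) :
    ((fr J).obj X ⟶ (SheafOfModules.toSheaf R).obj G) ≃+ ((shR R).obj ((freeR R).obj X) ⟶ G) :=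
  (freeEquiv R G X).trans (shEquiv R G _)

theorem homEquiv_natural (G : SheafOfModules.{u} R) {X Y : Sheaf J (Type u)} (a : X ⟶ Y)
    (z : (fr J).obj Y ⟶ (SheafOfModules.toSheaf R).obj G) :
    homEquiv R G X ((fr J).map a ≫ z) = (shR R).map ((freeR R).map a) ≫ homEquiv R G Y z :=
  (congrArg (shEquiv R G _) (freeFun_comp R a z)).trans ((shAdj R).homEquiv_naturality_left_symm _ _)

theorem homEquiv_d {K' K : Sheaf J (Type u)} (f : K' ⟶ K) (G : SheafOfModules.{u} R) (n : ℕ)
    (z : (fr J).obj (Nerve.N f n) ⟶ (SheafOfModules.toSheaf R).obj G) :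
    homEquiv R G _ (Nerve.d f n ≫ z) = (shR R).map (D R f n) ≫ homEquiv R G _ z := by
  rw [D, Functor.map_sum, Nerve.d, Preadditive.sum_comp, map_sum, Preadditive.sum_comp]
  refine Finset.sum_congr rfl fun j _ => ?_
  rw [Functor.map_zsmul, Preadditive.zsmul_comp, map_zsmul, Preadditive.zsmul_comp, homEquiv_natural]

/-- An injective module is totally acyclic. -/
theorem isTotallyAcyclic (G : SheafOfModules.{u} R) [Injective G] :
    CohCx.IsTotallyAcyclic ((SheafOfModules.toSheaf R).obj G) :=
  Nerve.CechAcyclic.isTotallyAcyclic fun K' K f _ n z hz => by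
    have := shR_preservesFiniteLimits R
    have : PreservesFiniteColimits (shR R) := haveI := (shAdj R).isLeftAdjoint; inferInstance
    have h0 : (shR R).map (D R f (n+1)) ≫ homEquiv R G _ z = 0 := by
      rw [← homEquiv_d, hz, map_zero]
    have he := (exact_D R f n).map (shR R)
    refine ⟨(homEquiv R G _).symm (he.descToInjective _ h0), ?_⟩
    apply (homEquiv R G (Nerve.N f (n+1))).injective
    rw [homEquiv_d, AddEquiv.apply_symm_apply]
    exact he.comp_descToInjective _ h0

/-- The terminal sheaf of sets. -/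
abbrev pt (J : GrothendieckTopology C) : Sheaf J (Type u) :=
  (presheafToSheaf J (Type u)).obj ((Functor.const Cᵒᵖ).obj PUnit.{u+1})

/-- The free abelian group on a point. -/
def freePointIso : AddCommGrpCat.free.{u}.obj PUnit.{u+1} ≅ AddCommGrpCat.of (ULift.{u} ℤ) :=
  AddEquiv.toAddCommGrpIso
    ((FreeAbelianGroup.uniqueEquiv PUnit.{u+1}).trans AddEquiv.ulift.symm)

/-- The free abelian sheaf on a point is the constant sheaf. -/
def frPtIso : (fr J).obj (pt J) ≅ (constantSheaf J AddCommGrpCat.{u}).obj (AddCommGrpCat.of (ULift.{u} ℤ)) :=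
  (presheafToSheafCompComposeAndSheafifyIso J AddCommGrpCat.free.{u}).app _ ≪≫
    (presheafToSheaf J AddCommGrpCat.{u}).mapIso (NatIso.ofComponents (fun _ => freePointIso) (fun f => by
      change AddCommGrpCat.free.map (𝟙 _) ≫ _ = _ ≫ 𝟙 _
      rw [CategoryTheory.Functor.map_id, Category.id_comp, Category.comp_id]))

/-- The free presheaf of modules on a point is the unit. -/
def homUnitEquiv (G : SheafOfModules.{u} R) :
    (SheafOfModules.unit R ⟶ G) ≃+
      ((constantSheaf J AddCommGrpCat.{u}).obj (AddCommGrpCat.of (ULift.{u} ℤ)) ⟶ (SheafOfModules.toSheaf R).obj G) where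
  toFun φ := ((sheafificationAdjunction J AddCommGrpCat.{u}).homEquiv _ _).symm
    { app := fun V => AddCommGrpCat.ofHom ((zmultiplesHom _ (show G.val.obj V from (G.unitHomEquiv φ).val V)).comp
        AddEquiv.ulift.toAddMonoidHom)
      naturality := fun V W g => by
        refine AddCommGrpCat.hom_ext (AddMonoidHom.ext fun z => ?_)
        change z.down • _ = G.val.presheaf.map g (z.down • _)
        rw [map_zsmul]
        exact congrArg (z.down • ·) ((G.unitHomEquiv φ).property g).symm }
  invFun ψ := G.unitHomEquiv.symm ⟨fun V => (((sheafificationAdjunction J AddCommGrpCat.{u}).homEquiv _ _) ψ).app V ⟨1⟩,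
    fun {V W} g => (congr($((((sheafificationAdjunction J AddCommGrpCat.{u}).homEquiv _ _) ψ).naturality g) (⟨1⟩ : ULift.{u} ℤ))).symm⟩
  left_inv φ := by
    rw [Equiv.symm_apply_eq]
    refine Subtype.ext (funext fun V => ?_)
    rw [Equiv.apply_symm_apply]
    exact one_zsmul _
  right_inv ψ := by
    refine (Equiv.symm_apply_eq _).2 ?_
    refine NatTrans.ext (funext fun V => AddCommGrpCat.hom_ext (AddMonoidHom.ext fun z => ?_))
    obtain ⟨k⟩ := z
    rw [Equiv.apply_symm_apply]
    have hk : (⟨k⟩ : ULift.{u} ℤ) = k • ⟨1⟩ := ULift.ext _ _ (by simp)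
    refine Eq.trans ?_ ((congrArg _ hk).trans (map_zsmul _ _ _)).symm
    rfl
  map_add' φ φ' := by
    refine (Equiv.symm_apply_eq _).2 (Eq.trans ?_
      (((sheafificationAdjunction J AddCommGrpCat.{u}).homAddEquiv _ _).map_add _ _).symm)
    simp only [Adjunction.homAddEquiv_apply, Equiv.apply_symm_apply]
    refine NatTrans.ext (funext fun V => AddCommGrpCat.hom_ext (AddMonoidHom.ext fun z => ?_))
    change z.down • (show G.val.obj V from (G.unitHomEquiv (φ + φ')).val V) =
      z.down • (show G.val.obj V from (G.unitHomEquiv φ).val V) +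
        z.down • (show G.val.obj V from (G.unitHomEquiv φ').val V)
    rw [← zsmul_add]
    rfl

theorem homUnitEquiv_comp {G G' : SheafOfModules.{u} R} (φ : SheafOfModules.unit R ⟶ G) (g : G ⟶ G') :
    homUnitEquiv R G' (φ ≫ g) = homUnitEquiv R G φ ≫ (SheafOfModules.toSheaf R).map g := by
  apply ((sheafificationAdjunction J AddCommGrpCat.{u}).homEquiv _ _).injective
  rw [Adjunction.homEquiv_naturality_right]
  simp only [homUnitEquiv, AddEquiv.coe_mk, Equiv.coe_fn_mk, Equiv.apply_symm_apply]
  refine NatTrans.ext (funext fun V => AddCommGrpCat.hom_ext (AddMonoidHom.ext fun z => ?_))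
  change z.down • _ = ((SheafOfModules.toSheaf R).map g).hom.app V (z.down • _)
  rw [map_zsmul]
  rfl

instance toSheaf_preservesFiniteLimits : PreservesFiniteLimits (SheafOfModules.toSheaf.{u} R) := by
  have : PreservesFiniteLimits (SheafOfModules.toSheaf.{u} R ⋙ sheafToPresheaf J AddCommGrpCat.{u}) :=
    inferInstanceAs (PreservesFiniteLimits (SheafOfModules.forget.{u} R ⋙ PresheafOfModules.toPresheaf R.obj))
  exact preservesFiniteLimits_of_reflects_of_preserves _ (sheafToPresheaf J AddCommGrpCat.{u})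

instance toSheaf_preservesFiniteColimits : PreservesFiniteColimits (SheafOfModules.toSheaf.{u} R) where
  preservesFiniteColimits K₀ _ _ :=
    ⟨fun {K} =>
      haveI : PreservesFiniteColimits (presheafToSheaf J AddCommGrpCat.{u}) :=
        haveI := (sheafificationAdjunction J AddCommGrpCat.{u}).isLeftAdjoint
        inferInstance
      haveI : PreservesFiniteColimits (shR R ⋙ SheafOfModules.toSheaf R) :=
        @preservesFiniteColimits_of_natIso _ _ _ _ _ _
          (PresheafOfModules.sheafificationCompToSheaf (𝟙 R.obj)).symm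
          (@comp_preservesFiniteColimits _ _ _ _ _ _ _ _ (PresheafOfModules.Finite.toPresheaf_preservesFiniteColimits _) inferInstance)
      Groth.L00.ModSiteTensor.preservesColimit_of_reflective (shAdj R) _ K⟩

/-- `Ext` out of the unit is the cohomology of the underlying abelian sheaf. -/
theorem nonempty_ext_unit_equiv [HasExt.{u} (SheafOfModules.{u} R)] (n : ℕ) : ∀ (M : SheafOfModules.{u} R),
    Nonempty (Ext (SheafOfModules.unit R) M n ≃+ Sheaf.H.{u} ((SheafOfModules.toSheaf R).obj M) n) := by
  have := shMod_isGrothendieckAbelian R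
  have : EnoughInjectives (SheafOfModules.{u} R) := inferInstance
  have hacy : ∀ (I : SheafOfModules.{u} R), Injective I → ∀ p : ℕ,
      Subsingleton (Sheaf.H.{u} ((SheafOfModules.toSheaf R).obj I) (p + 1)) := fun I _ p =>
    have := isTotallyAcyclic R I (pt J) p
    @Equiv.subsingleton _ _ ((Abelian.extFunctor (p+1)).mapIso (frPtIso (J := J)).op |>.app _
      |>.addCommGroupIsoToAddEquiv).toEquiv this
  induction n with
  | zero => exact fun M => ⟨(Ext.addEquiv₀.trans (homUnitEquiv R M)).trans Ext.addEquiv₀.symm⟩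
  | succ n ih =>
    intro M
    let S := ShortComplex.mk (Injective.ι M) (cokernel.π (Injective.ι M)) (cokernel.condition _)
    have hS : S.ShortExact :=
      { exact := ShortComplex.exact_of_g_is_cokernel _ (cokernelIsCokernel _) }
    have : Injective S.X₂ := inferInstanceAs (Injective (Injective.under M))
    have hS' := hS.map_of_exact (SheafOfModules.toSheaf R)
    let Z : Sheaf J AddCommGrpCat.{u} := (constantSheaf J AddCommGrpCat.{u}).obj (AddCommGrpCat.of (ULift.{u} ℤ))
    have : ∀ p, Subsingleton (Ext Z (S.map (SheafOfModules.toSheaf R)).X₂ (p + 1)) := hacy S.X₂ inferInstance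
    let δ : Ext (SheafOfModules.unit R) S.X₃ n →+ Ext (SheafOfModules.unit R) S.X₁ (n + 1) :=
      hS.extClass.postcomp _ rfl
    let δ' : Ext Z (S.map (SheafOfModules.toSheaf R)).X₃ n →+ Ext Z (S.map (SheafOfModules.toSheaf R)).X₁ (n + 1) :=
      hS'.extClass.postcomp _ rfl
    have hδ : Function.Surjective δ := fun x => Ext.covariant_sequence_exact₁ _ hS x (Ext.eq_zero_of_injective _) rfl
    have hδ' : Function.Surjective δ' := fun x =>
      Ext.covariant_sequence_exact₁ _ hS' x (Subsingleton.elim _ _) rfl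
    cases n with
    | zero =>
      let e₀ : Ext (SheafOfModules.unit R) S.X₃ 0 ≃+ Ext Z (S.map (SheafOfModules.toSheaf R)).X₃ 0 :=
        (Ext.addEquiv₀.trans (homUnitEquiv R S.X₃)).trans Ext.addEquiv₀.symm
      have key : δ.ker.map e₀.toAddMonoidHom = δ'.ker := by
        ext z
        constructor
        · rintro ⟨x, hx, rfl⟩
          obtain ⟨y, hy⟩ := Ext.covariant_sequence_exact₃ _ hS x rfl hx
          obtain ⟨y, rfl⟩ := (Ext.mk₀_bijective _ _).2 y
          rw [Ext.mk₀_comp_mk₀] at hy
          rw [← hy]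
          change (Ext.addEquiv₀.symm (homUnitEquiv R S.X₃ (Ext.addEquiv₀ (Ext.mk₀ (y ≫ S.g))))).comp hS'.extClass rfl = 0
          rw [show Ext.addEquiv₀ (Ext.mk₀ (y ≫ S.g)) = y ≫ S.g from Ext.addEquiv₀.apply_symm_apply _, homUnitEquiv_comp]
          change (Ext.mk₀ (homUnitEquiv R S.X₂ y ≫ (S.map (SheafOfModules.toSheaf R)).g)).comp hS'.extClass rfl = 0
          rw [← Ext.mk₀_comp_mk₀, Ext.comp_assoc_of_second_deg_zero, hS'.comp_extClass, Ext.comp_zero]
        · intro hz
          obtain ⟨w, hw⟩ := Ext.covariant_sequence_exact₃ _ hS' z rfl hz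
          obtain ⟨w, rfl⟩ := (Ext.mk₀_bijective _ _).2 w
          rw [Ext.mk₀_comp_mk₀] at hw
          obtain ⟨y, rfl⟩ := (homUnitEquiv R S.X₂).surjective w
          refine ⟨Ext.mk₀ (y ≫ S.g), ?_, ?_⟩
          · change (Ext.mk₀ (y ≫ S.g)).comp hS.extClass rfl = 0
            rw [← Ext.mk₀_comp_mk₀, Ext.comp_assoc_of_second_deg_zero, hS.comp_extClass, Ext.comp_zero]
          · rw [← hw]
            change Ext.addEquiv₀.symm (homUnitEquiv R S.X₃ (Ext.addEquiv₀ (Ext.mk₀ (y ≫ S.g)))) = _
            rw [show Ext.addEquiv₀ (Ext.mk₀ (y ≫ S.g)) = y ≫ S.g from Ext.addEquiv₀.apply_symm_apply _, homUnitEquiv_comp]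
            rfl
      exact ⟨((QuotientAddGroup.quotientKerEquivOfSurjective δ hδ).symm.trans
        (QuotientAddGroup.congr _ _ e₀ key)).trans (QuotientAddGroup.quotientKerEquivOfSurjective δ' hδ')⟩
    | succ n =>
      obtain ⟨e⟩ := ih S.X₃
      have hi : Function.Injective δ := (injective_iff_map_eq_zero δ).2 fun x hx => by
        obtain ⟨y, rfl⟩ := Ext.covariant_sequence_exact₃ _ hS x rfl hx
        rw [Ext.eq_zero_of_injective y, Ext.zero_comp]
      have hi' : Function.Injective δ' := (injective_iff_map_eq_zero δ').2 fun x hx => by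
        obtain ⟨y, rfl⟩ := Ext.covariant_sequence_exact₃ _ hS' x rfl hx
        rw [Subsingleton.elim y 0, Ext.zero_comp]
      exact ⟨((AddEquiv.ofBijective δ ⟨hi, hδ⟩).symm.trans e).trans (AddEquiv.ofBijective δ' ⟨hi', hδ'⟩)⟩

end Groth.L10.InjTAR
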