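import Groth.Agent.L10.KInj

universe v u
open CategoryTheory CategoryTheory.Limits
open CochainComplex CochainComplex.HomComplex

set_option backward.defeqAttrib.useBackward true
set_option backward.isDefEq.respectTransparency false
namespace Groth.L10

variable {A : Type u} [Category.{v} A] [Abelian A]

theorem acyclic_mappingCone_id (K : CochainComplex A ℤ) : (mappingCone (𝟙 K)).Acyclic := fun n => by
  rw [HomologicalComplex.exactAt_iff_isZero_homology, IsZero.iff_id_eq_zero,
    ← HomologicalComplex.homologyMap_id, (mappingCone.homotopyToZeroOfId K).homologyMap_eq, HomologicalComplex.homologyMap_zero]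

theorem s11125 (I : CochainComplex A ℤ) :
    (I.IsKInjective ∧ ∀ n : ℤ, Injective (I.X n)) ↔
      ∀ (S : ShortComplex (CochainComplex A ℤ)), S.ShortExact → S.X₃.Acyclic →
        ∀ φ : S.X₁ ⟶ I, ∃ ψ : S.X₂ ⟶ I, S.f ≫ ψ = φ := by
  constructor
  · rintro ⟨h1, h2⟩ S hS hA φ
    exact exists_extension S hS hA I φ
  intro h
  have ext' : ∀ {P Q : CochainComplex A ℤ} (j : P ⟶ Q), (∀ n, Mono (j.f n)) → P.Acyclic → Q.Acyclic →
      ∀ φ : P ⟶ I, ∃ ψ, j ≫ ψ = φ := by
    intro P Q j hj hP hQ φ
    have : Mono j := HomologicalComplex.mono_of_mono_f j hj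
    have : QuasiIso j := ⟨fun n => (quasiIsoAt_iff_exactAt j n (hP n)).2 (hQ n)⟩
    let S := ShortComplex.mk j (cokernel.π j) (cokernel.condition j)
    have hS : S.ShortExact := { exact := ShortComplex.exact_cokernel j }
    exact h S hS (hS.acyclic_X₃ inferInstance) φ
  refine ⟨⟨fun {K} f hK => ?_⟩, fun n => ⟨fun {X Y} k g hg => ?_⟩⟩
  · refine ⟨((nullHomotopic_iff_factor f).2 (ext' (mappingCone.inr (𝟙 K)) (fun n => ?_) hK (acyclic_mappingCone_id K) f)).some⟩
    exact mono_of_mono_fac (mappingCone.inr_f_snd_v (𝟙 K) n)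
  · let a := (HomologicalComplex.single A (ComplexShape.up ℤ) (n+1)).map g
    have : ∀ p, Mono (a.f p) := fun p => by
      by_cases hp : p = n + 1
      · subst hp
        simp only [a, HomologicalComplex.single_map_f_self]
        infer_instance
      · exact ⟨fun _ _ _ => (HomologicalComplex.isZero_single_obj_X _ _ _ p hp).eq_of_tgt _ _⟩
    let m := mappingCone.map (𝟙 _) (𝟙 _) a a (by simp)
    have hm : ∀ p, Mono (m.f p) := fun p => Preadditive.mono_of_cancel_zero _ fun {W} w hw => by
      rw [mappingCone.ext_to_iff _ p (p+1) rfl]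
      have h1 := hw =≫ (mappingCone.fst (𝟙 _)).1.v p (p+1) rfl
      have h2 := hw =≫ (mappingCone.snd (𝟙 _)).v p p (add_zero p)
      simp [m, mappingCone.map, mappingCone.desc_f _ _ _ _ p (p+1) rfl] at h1 h2
      exact ⟨by simp only [zero_comp]; rw [← cancel_mono (a.f (p+1))]; simpa using h1,
        by simp only [zero_comp]; rw [← cancel_mono (a.f p)]; simpa using h2⟩
    let X' := (HomologicalComplex.single A (ComplexShape.up ℤ) (n+1)).obj X
    let α : Cochain X' I (-1) := Cochain.single ((HomologicalComplex.singleObjXSelf _ (n+1) X).hom ≫ k) (-1)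
    let φ : mappingCone (𝟙 X') ⟶ I := mappingCone.desc (𝟙 X') α
      (Cocycle.homOf (Cocycle.mk (δ (-1) 0 α) 1 rfl (δ_δ _ _ _ _))) (by simp)
    obtain ⟨ψ, hψ⟩ := ext' m hm (acyclic_mappingCone_id _) (acyclic_mappingCone_id _) φ
    refine ⟨(HomologicalComplex.singleObjXSelf _ (n+1) Y).inv ≫
      (mappingCone.inl (𝟙 _)).v (n+1) n (by omega) ≫ ψ.f n, ?_⟩
    have := congrArg (fun r => (HomologicalComplex.singleObjXSelf (ComplexShape.up ℤ) (n+1) X).inv ≫
      (mappingCone.inl (𝟙 X')).v (n+1) n (by omega) ≫ r) (HomologicalComplex.congr_hom hψ n)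
    simp [X', m, φ, α, a, mappingCone.map, HomologicalComplex.single_map_f_self] at this
    simpa [HomologicalComplex.single_map_f_self] using this

end Groth.L10
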