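import Groth.Agent.L10.KInjRes.Resolution

/-! Functorial K-injective resolutions. -/

universe v u

open CategoryTheory CategoryTheory.Limits ZeroObject MorphismProperty

set_option backward.defeqAttrib.useBackward true
set_option backward.isDefEq.respectTransparency false
namespace Groth.L10.KInjFunctorial

open Groth.L10.KInjRes

theorem exists_functorial {A : Type u} [Category.{v} A] [Abelian A] [IsGrothendieckAbelian.{v} A] :
    ∃ (N : CochainComplex A ℤ ⥤ CochainComplex A ℤ) (j : 𝟭 _ ⟶ N), ∀ M : CochainComplex A ℤ,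
      (∀ n : ℤ, Mono ((j.app M).f n)) ∧ QuasiIso (j.app M) ∧ (N.obj M).IsKInjective ∧
        ∀ n : ℤ, Injective ((N.obj M).X n) := by
  have := hasSmallObjectArgument (A := A)
  let Φ : CochainComplex A ℤ ⥤ Arrow (CochainComplex A ℤ) :=
    { obj := fun X => Arrow.mk (0 : X ⟶ 0)
      map := fun f => Arrow.homMk f 0 (by simp) }
  let d := functorialFactorizationData (gens' A).rlp.llp (gens' A).rlp
  let j : 𝟭 (CochainComplex A ℤ) ⟶ Φ ⋙ d.Z :=
    { app := fun X => d.i.app (Φ.obj X)
      naturality := fun X Y f => d.i.naturality (Φ.map f) }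
  refine ⟨Φ ⋙ d.Z, j, fun M => ?_⟩
  have hi := d.hi (Φ.obj M)
  have hp := d.hp (Φ.obj M)
  have hfib : Fibrant ((Φ ⋙ d.Z).obj M) := fun X Y g hg u => by
    have := hp g hg
    have sq : CommSq u g (d.p.app (Φ.obj M)) 0 := ⟨(isZero_zero _).eq_of_tgt _ _⟩
    exact ⟨sq.lift, sq.fac_left⟩
  refine ⟨fun n => mono_of_llp hi n, ?_, hfib.isKInjective, hfib.injective⟩
  rw [quasiIso_iff]
  intro n
  rw [quasiIsoAt_iff_isIso_homologyMap]
  have := mono_homologyMap_of_llp hi n
  have := epi_homologyMap_of_llp hi n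
  exact isIso_of_mono_of_epi _

end Groth.L10.KInjFunctorial
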