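import Groth.Agent.L10.KInj
import Mathlib.CategoryTheory.Functor.OfSequence

universe v u
open CategoryTheory CategoryTheory.Limits Opposite
open CochainComplex CochainComplex.HomComplex

set_option backward.defeqAttrib.useBackward true
set_option backward.isDefEq.respectTransparency false
namespace Groth.L10

variable {A : Type u} [Category.{v} A] [Abelian A]

theorem s0489 [HasLimitsOfShape ℕᵒᵖ A]
    (I : ℕᵒᵖ ⥤ CochainComplex A ℤ) (h1 : ∀ n : ℕ, (I.obj (op n)).IsKInjective)
    (h2 : ∀ (n : ℕ) (m : ℤ), IsSplitEpi ((I.map (homOfLE (Nat.le_succ n)).op).f m)) :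
    (limit I).IsKInjective where
  nonempty_homotopy_zero {K} f hK := by
    have := h1
    let π : ∀ n : ℕ, limit I ⟶ I.obj (op n) := fun n => limit.π I (op n)
    let p : ∀ n : ℕ, I.obj (op (n+1)) ⟶ I.obj (op n) := fun n => I.map (homOfLE (Nat.le_succ n)).op
    have hπ : ∀ n, π (n+1) ≫ p n = π n := fun n => limit.w I _
    let T : ℕ → Type _ := fun n => {α : Cochain K (I.obj (op n)) (-1) // δ (-1) 0 α = Cochain.ofHom (f ≫ π n)}
    have base : ∀ n, Nonempty (T n) := fun n => by
      obtain ⟨α, hα⟩ := (nullHomotopic_iff _).1 ((h1 n).nonempty_homotopy_zero (f ≫ π n) hK)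
      exact ⟨⟨α, hα⟩⟩
    have step : ∀ n (a : T n), ∃ b : T (n+1), b.1.comp (Cochain.ofHom (p n)) (add_zero _) = a.1 := by
      intro n a
      obtain ⟨β, hβ⟩ := base (n+1)
      have hc : δ (-1) 0 (β.comp (Cochain.ofHom (p n)) (add_zero _) - a.1) = 0 := by
        rw [δ_sub, δ_comp_ofHom, hβ, a.2, ← Cochain.ofHom_comp, Category.assoc, hπ, sub_self]
      obtain ⟨γ, hγ⟩ := IsKInjective.eq_δ_of_cocycle (Cocycle.mk _ 0 (by omega) hc) hK (-2) (by omega)
      let γ' : Cochain K (I.obj (op (n+1))) (-2) := Cochain.mk fun i j hij =>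
        γ.v i j hij ≫ @section_ _ _ _ _ ((p n).f j) (h2 n j)
      have hγ' : γ'.comp (Cochain.ofHom (p n)) (add_zero _) = γ := by
        ext i j hij
        have := h2 n j
        simp [γ', p]
      refine ⟨⟨β - δ (-2) (-1) γ', by rw [δ_sub, hβ, δ_δ, sub_zero]⟩, ?_⟩
      simp only [Cochain.sub_comp]
      rw [← δ_comp_ofHom, hγ', hγ]
      simp
    choose g hg using step
    let seq : ∀ n, T n := fun n => n.rec (base 0).some fun k a => g k a
    have hseq : ∀ n, (seq (n+1)).1.comp (Cochain.ofHom (p n)) (add_zero _) = (seq n).1 := fun n => hg n (seq n)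
    let L : ∀ q : ℤ, IsLimit ((HomologicalComplex.eval A (ComplexShape.up ℤ) q).mapCone (limit.cone I)) :=
      fun q => isLimitOfPreserves _ (limit.isLimit I)
    let α : Cochain K (limit I) (-1) := Cochain.mk fun i j hij => (L j).lift
      { pt := K.X i
        π := NatTrans.ofOpSequence (fun n => (seq n).1.v i j hij) fun n => by
          have := Cochain.congr_v (hseq n) i j hij
          simp [p] at this
          simpa using this.symm }
    have hα : ∀ n, α.comp (Cochain.ofHom (π n)) (add_zero _) = (seq n).1 := fun n => by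
      ext i j hij
      simp only [Cochain.comp_zero_cochain_v, Cochain.ofHom_v, α, Cochain.mk_v]
      exact (L j).fac _ (op n)
    refine (nullHomotopic_iff f).2 ⟨α, ?_⟩
    ext i
    refine (L i).hom_ext fun ⟨n⟩ => ?_
    have := Cochain.congr_v ((δ_comp_ofHom α (π n) 0).symm.trans ((congrArg (δ (-1) 0) (hα n)).trans (seq n).2)) i i (add_zero i)
    simpa [π] using this

end Groth.L10
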