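import Mathlib.Algebra.Homology.Homotopy
import Mathlib.Algebra.Homology.HomologySequence
import Mathlib.Algebra.Homology.HomologicalComplexAbelian
import Mathlib.Algebra.Homology.ShortComplex.Abelian
import Mathlib.Algebra.Homology.Refinements
import Mathlib.CategoryTheory.Abelian.Refinements
import Mathlib.CategoryTheory.Preadditive.Injective.Basic

/-! Lifting ladders to maps of acyclic complexes into injective complexes. -/

universe v u

open CategoryTheory CategoryTheory.Limits HomologicalComplex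

set_option backward.defeqAttrib.useBackward true
set_option backward.isDefEq.respectTransparency false
namespace Groth.L10.LadderLift

variable {V : Type u} [Category.{v} V] [Abelian V] {X I : CochainComplex V ℕ}
  (hX : ∀ n, 0 < n → X.ExactAt n) (hI : ∀ n, Injective (I.X n))

include hX in
theorem exact_succ (n : ℕ) :
    (ShortComplex.mk (X.d n (n + 1)) (X.d (n + 1) (n + 2)) (X.d_comp_d _ _ _)).Exact :=
  (X.exactAt_iff' n (n + 1) (n + 2) (by simp) (by simp)).1 (hX (n + 1) (by omega))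

theorem exact_zero (X : CochainComplex V ℕ) :
    (ShortComplex.mk (X.iCycles 0) (X.d 0 1) (X.iCycles_d _ _)).Exact :=
  ShortComplex.exact_of_f_is_kernel _ (X.cyclesIsKernel 0 1 (by simp))

include hX hI in
/-- Any map in degree zero cohomology extends. -/
theorem exists_map (φ : X.homology 0 ⟶ I.homology 0) :
    ∃ f : X ⟶ I, HomologicalComplex.homologyMap f 0 = φ := by
  have := hI
  let t : X.cycles 0 ⟶ I.X 0 := X.homologyπ 0 ≫ φ ≫ inv (I.homologyπ 0) ≫ I.iCycles 0
  let f0 : X.X 0 ⟶ I.X 0 := Injective.factorThru t (X.iCycles 0)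
  have h0 : X.iCycles 0 ≫ f0 = t := Injective.comp_factorThru _ _
  have h1 : X.iCycles 0 ≫ f0 ≫ I.d 0 1 = 0 := by rw [reassoc_of% h0]; simp [t]
  let f1 : X.X 1 ⟶ I.X 1 := (exact_zero X).descToInjective (f0 ≫ I.d 0 1) h1
  have w1 : f0 ≫ I.d 0 1 = X.d 0 1 ≫ f1 := ((exact_zero X).comp_descToInjective _ h1).symm
  have hs : ∀ (n : ℕ) (p : Σ' (f : X.X n ⟶ I.X n) (f' : X.X (n + 1) ⟶ I.X (n + 1)),
      f ≫ I.d n (n + 1) = X.d n (n + 1) ≫ f'),
      X.d n (n + 1) ≫ p.2.1 ≫ I.d (n + 1) (n + 2) = 0 := fun n p => by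
    rw [← reassoc_of% p.2.2, I.d_comp_d, comp_zero]
  let f : X ⟶ I := CochainComplex.mkHom X I f0 f1 w1 fun n p =>
    ⟨(exact_succ hX n).descToInjective (p.2.1 ≫ I.d (n + 1) (n + 2)) (hs n p),
      ((exact_succ hX n).comp_descToInjective _ (hs n p)).symm⟩
  refine ⟨f, ?_⟩
  have hc : HomologicalComplex.cyclesMap f 0 = X.homologyπ 0 ≫ φ ≫ inv (I.homologyπ 0) := by
    rw [← cancel_mono (I.iCycles 0), HomologicalComplex.cyclesMap_i]
    simpa [f, t] using h0
  rw [← cancel_epi (X.homologyπ 0), HomologicalComplex.homologyπ_naturality, hc]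
  simp

include hX hI in
/-- A map inducing zero in degree zero is null-homotopic. -/
theorem exists_homotopy (f : X ⟶ I) (hf : HomologicalComplex.homologyMap f 0 = 0) : Nonempty (Homotopy f 0) := by
  have := hI
  have h0 : X.iCycles 0 ≫ f.f 0 = 0 := by
    have := HomologicalComplex.homologyπ_naturality f 0
    rw [hf, comp_zero] at this
    rw [← HomologicalComplex.cyclesMap_i]
    rw [(cancel_mono (I.homologyπ 0)).1 (this.symm.trans zero_comp.symm), zero_comp]
  let z : X.X 1 ⟶ I.X 0 := (exact_zero X).descToInjective (f.f 0) h0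
  have hz : X.d 0 1 ≫ z = f.f 0 := (exact_zero X).comp_descToInjective _ h0
  have h1 : X.d 0 1 ≫ (f.f 1 - z ≫ I.d 0 1) = 0 := by
    rw [Preadditive.comp_sub, reassoc_of% hz, f.comm, sub_self]
  let o : X.X 2 ⟶ I.X 1 := (exact_succ hX 0).descToInjective _ h1
  have ho : X.d 1 2 ≫ o = f.f 1 - z ≫ I.d 0 1 := (exact_succ hX 0).comp_descToInjective _ h1
  have hs : ∀ (n : ℕ) (p : Σ' (g : X.X (n + 1) ⟶ I.X n) (g' : X.X (n + 2) ⟶ I.X (n + 1)),
      f.f (n + 1) = g ≫ I.d n (n + 1) + X.d (n + 1) (n + 2) ≫ g'),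
      X.d (n + 1) (n + 2) ≫ (f.f (n + 2) - p.2.1 ≫ I.d (n + 1) (n + 2)) = 0 := fun n p => by
    have h := congrArg (fun u => u ≫ I.d (n + 1) (n + 2)) p.2.2
    simp only [Preadditive.add_comp, Category.assoc, I.d_comp_d, comp_zero, zero_add] at h
    rw [Preadditive.comp_sub, ← f.comm, h, sub_self]
  refine ⟨Homotopy.mkCoinductive f z hz.symm o (by rw [ho]; abel) fun n p =>
    ⟨(exact_succ hX (n + 1)).descToInjective _ (hs n p), ?_⟩⟩
  have := (exact_succ hX (n + 1)).comp_descToInjective _ (hs n p)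
  dsimp at this
  rw [this]
  abel

theorem homotopy_extend {Q : CochainComplex V ℕ} (ι : X ⟶ Q) (hι : ∀ n, Mono (ι.f n)) {f : X ⟶ I}
    (hI : ∀ n, Injective (I.X n)) (h : Homotopy f 0) :
    ∃ g : Q ⟶ I, Nonempty (Homotopy g 0) ∧ ι ≫ g = f := by
  classical
  have := hI
  have := hι
  let k : ∀ i j, Q.X i ⟶ I.X j := fun i j =>
    if (ComplexShape.up ℕ).Rel j i then Injective.factorThru (h.hom i j) (ι.f i) else 0
  have hk : ∀ i j, ι.f i ≫ k i j = h.hom i j := fun i j => by
    by_cases hij : (ComplexShape.up ℕ).Rel j i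
    · simp only [k, if_pos hij, Injective.comp_factorThru]
    · simp only [k, if_neg hij, comp_zero, h.zero i j hij]
  refine ⟨Homotopy.nullHomotopicMap k, ⟨Homotopy.nullHomotopy k fun i j hij => by simp only [k, if_neg hij]⟩, ?_⟩
  rw [Homotopy.comp_nullHomotopicMap]
  ext i
  rw [h.comm i]
  simp [Homotopy.nullHomotopicMap, hk]

/-- The ladder lifting theorem. -/
theorem exists_ladder {C' C C'' I' I I'' : CochainComplex V ℕ}
    (jC : C' ⟶ C) (πC : C ⟶ C'') (jI : I' ⟶ I) (πI : I ⟶ I'')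
    (mC : ∀ n, Mono (jC.f n)) (wC : ∀ n, jC.f n ≫ πC.f n = 0)
    (exC : ∀ n, (ShortComplex.mk (jC.f n) (πC.f n) (wC n)).Exact) (wI : ∀ n, jI.f n ≫ πI.f n = 0)
    (hC' : ∀ n, 0 < n → C'.ExactAt n) (hC : ∀ n, 0 < n → C.ExactAt n) (hC'' : ∀ n, 0 < n → C''.ExactAt n)
    (injI' : ∀ n, Injective (I'.X n)) (injI : ∀ n, Injective (I.X n)) (injI'' : ∀ n, Injective (I''.X n))
    (g' : C'.homology 0 ⟶ I'.homology 0) (g : C.homology 0 ⟶ I.homology 0)
    (g'' : C''.homology 0 ⟶ I''.homology 0)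
    (hg1 : HomologicalComplex.homologyMap jC 0 ≫ g = g' ≫ HomologicalComplex.homologyMap jI 0)
    (hg2 : HomologicalComplex.homologyMap πC 0 ≫ g'' = g ≫ HomologicalComplex.homologyMap πI 0) :
    ∃ (f' : C' ⟶ I') (f : C ⟶ I) (f'' : C'' ⟶ I''),
      jC ≫ f = f' ≫ jI ∧ πC ≫ f'' = f ≫ πI ∧
      HomologicalComplex.homologyMap f' 0 = g' ∧ HomologicalComplex.homologyMap f 0 = g ∧
      HomologicalComplex.homologyMap f'' 0 = g'' := by
  obtain ⟨f', hf'⟩ := exists_map hC' injI' g'
  obtain ⟨f₀, hf₀⟩ := exists_map hC injI g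
  obtain ⟨h⟩ := exists_homotopy hC' injI (jC ≫ f₀ - f' ≫ jI) (by
    rw [homologyMap_sub, homologyMap_comp, homologyMap_comp, hf', hf₀, hg1, sub_self])
  obtain ⟨d, ⟨hd⟩, hdc⟩ := homotopy_extend jC mC injI h
  let f := f₀ - d
  have hjf : jC ≫ f = f' ≫ jI := by simp [f, hdc]
  have hf : HomologicalComplex.homologyMap f 0 = g := by
    simp [f, homologyMap_sub, hd.homologyMap_eq, hf₀]
  obtain ⟨f₁, hf₁⟩ := exists_map hC'' injI'' g''
  let δ := f ≫ πI - πC ≫ f₁
  have hδ : HomologicalComplex.homologyMap δ 0 = 0 := by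
    simp only [δ, homologyMap_sub, homologyMap_comp, hf, hf₁, hg2, sub_self]
  have hjπ : jC ≫ πC = 0 := by ext n; exact wC n
  have hIπ : jI ≫ πI = 0 := by ext n; exact wI n
  have hjδ : jC ≫ δ = 0 := by
    simp [δ, Preadditive.comp_sub, reassoc_of% hjf, reassoc_of% hjπ, hIπ]
  have : Mono jC := HomologicalComplex.mono_of_mono_f jC mC
  let T := ShortComplex.mk jC (cokernel.π jC) (cokernel.condition _)
  have hT : T.ShortExact :=
    { exact := T.exact_of_g_is_cokernel (cokernelIsCokernel _)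
      mono_f := inferInstanceAs (Mono jC)
      epi_g := inferInstanceAs (Epi (cokernel.π jC)) }
  have hQ : ∀ n, 0 < n → (cokernel jC).ExactAt n := fun n hn => by
    rw [exactAt_iff_isZero_homology]
    exact (hT.homology_exact₃ n (n + 1) rfl).isZero_X₂
      (((C.exactAt_iff_isZero_homology n).1 (hC n hn)).eq_of_src _ _)
      (((C'.exactAt_iff_isZero_homology (n + 1)).1 (hC' (n + 1) (by omega))).eq_of_tgt _ _)
  let e : cokernel jC ⟶ I'' := cokernel.desc jC δ hjδ
  have he : HomologicalComplex.homologyMap e 0 = 0 := by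
    have : Epi (HomologicalComplex.homologyMap (cokernel.π jC) 0) :=
      (hT.homology_exact₃ 0 1 rfl).epi_f (((C'.exactAt_iff_isZero_homology 1).1 (hC' 1 (by omega))).eq_of_tgt _ _)
    rw [← cancel_epi (HomologicalComplex.homologyMap (cokernel.π jC) 0), ← homologyMap_comp, cokernel.π_desc, hδ,
      comp_zero]
  obtain ⟨he'⟩ := exists_homotopy hQ injI'' e he
  let u : cokernel jC ⟶ C'' := cokernel.desc jC πC hjπ
  have hu : ∀ n, Mono (u.f n) := fun n => by
    have hTn := hT.map_of_exact (HomologicalComplex.eval V (ComplexShape.up ℕ) n)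
    have : Epi ((cokernel.π jC).f n) := hTn.epi_g
    refine Preadditive.mono_of_cancel_zero _ fun {W} x hx => ?_
    obtain ⟨W', p, hp, y, hy⟩ := surjective_up_to_refinements_of_epi ((cokernel.π jC).f n) x
    have hy0 : y ≫ πC.f n = 0 := by
      have : (cokernel.π jC).f n ≫ u.f n = πC.f n := by rw [← comp_f, cokernel.π_desc]
      rw [← this, ← reassoc_of% hy, hx, comp_zero]
    obtain ⟨W'', p', hp', z, hz⟩ := (exC n).exact_up_to_refinements y hy0
    dsimp at hz
    rw [← cancel_epi (p' ≫ p), comp_zero, Category.assoc, hy, reassoc_of% hz, ← comp_f, cokernel.condition]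
    simp
  obtain ⟨d'', ⟨hd''⟩, hdc''⟩ := homotopy_extend u hu injI'' he'
  refine ⟨f', f, f₁ + d'', hjf, ?_, hf', hf, ?_⟩
  · have h1 : πC ≫ d'' = δ := by
      rw [← cokernel.π_desc jC πC hjπ, Category.assoc, hdc'', cokernel.π_desc]
    rw [Preadditive.comp_add, h1]
    simp [δ]
  · simp [homologyMap_add, hd''.homologyMap_eq, hf₁]

end Groth.L10.LadderLift
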