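import Mathlib.CategoryTheory.Abelian.GrothendieckAxioms.Basic
import Mathlib.CategoryTheory.ConnectedComponents
import Mathlib.CategoryTheory.Functor.Flat
import Mathlib.CategoryTheory.Sites.Pullback
import Mathlib.CategoryTheory.Sites.Abelian
import Mathlib.Algebra.Category.Grp.FilteredColimits
import Mathlib.CategoryTheory.Sites.LeftExact
import Mathlib.CategoryTheory.Abelian.Exact
import Mathlib.CategoryTheory.Preadditive.AdditiveFunctor
import Mathlib.Algebra.Category.Grp.AB
import Mathlib.Algebra.Category.Grp.Abelian
import Mathlib.Algebra.Homology.ShortComplex.ExactFunctor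

/-! Left Kan extensions of abelian presheaves along functors commuting with fibre products and equalizers
preserve monomorphisms. -/

universe u v w

open CategoryTheory CategoryTheory.Limits

set_option backward.defeqAttrib.useBackward true
set_option backward.isDefEq.respectTransparency false
namespace Groth.L10.LanMono

section Colim

variable {A : Type w} [Category.{v} A] [Abelian A] {J : Type v} [SmallCategory J]
  [HasColimitsOfSize.{v, v} A] [AB4OfSize.{v} A] [AB5OfSize.{v, v} A]

theorem exists_cocone_of_zigzag
    (hspan : ∀ {a b c : J} (f : a ⟶ b) (g : a ⟶ c), ∃ (d : J) (h : b ⟶ d) (k : c ⟶ d), f ≫ h = g ≫ k)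
    {a b : J} (h : Zigzag a b) : ∃ c : J, Nonempty (a ⟶ c) ∧ Nonempty (b ⟶ c) := by
  induction h with
  | refl => exact ⟨a, ⟨𝟙 a⟩, ⟨𝟙 a⟩⟩
  | tail _ hz ih =>
    obtain ⟨c, ⟨f⟩, ⟨g⟩⟩ := ih
    rcases hz with ⟨⟨e⟩⟩ | ⟨⟨e⟩⟩
    · obtain ⟨d, h, k, -⟩ := hspan g e
      exact ⟨d, ⟨f ≫ h⟩, ⟨k⟩⟩
    · exact ⟨c, ⟨f⟩, ⟨e ≫ g⟩⟩

theorem isFiltered_component
    (hspan : ∀ {a b c : J} (f : a ⟶ b) (g : a ⟶ c), ∃ (d : J) (h : b ⟶ d) (k : c ⟶ d), f ≫ h = g ≫ k)
    (hpar : ∀ {a b : J} (f g : a ⟶ b), ∃ (c : J) (h : b ⟶ c), f ≫ h = g ≫ h)
    (j : CategoryTheory.ConnectedComponents J) : IsFiltered j.Component := by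
  have hmem : ∀ {x : j.Component} {c : J} (_ : x.obj ⟶ c), CategoryTheory.ConnectedComponents.objectProperty j c :=
    fun {x c} f => (Quotient.sound' (Zigzag.of_inv f) : (Quotient.mk'' c : CategoryTheory.ConnectedComponents J) = _).trans x.property
  refine { cocone_objs := fun a b => ?_, cocone_maps := fun a b f g => ?_ }
  · obtain ⟨c, ⟨f⟩, ⟨g⟩⟩ := exists_cocone_of_zigzag hspan (Quotient.exact' (a.property.trans b.property.symm))
    exact ⟨⟨c, hmem f⟩, ObjectProperty.homMk f, ObjectProperty.homMk g, trivial⟩
  · obtain ⟨c, h, hc⟩ := hpar f.hom g.hom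
    exact ⟨⟨c, hmem h⟩, ObjectProperty.homMk h, ObjectProperty.hom_ext _ hc⟩

/-- The map from a colimit to the coproduct of the colimits over the components. -/
noncomputable def toSigma (G : J ⥤ A) :
    colimit G ⟶ ∐ fun j : CategoryTheory.ConnectedComponents J => colimit (j.ι ⋙ G) :=
  colimit.desc G
    { pt := ∐ fun j : CategoryTheory.ConnectedComponents J => colimit (j.ι ⋙ G)
      ι :=
        { app := fun x => colimit.ι ((CategoryTheory.ConnectedComponents.mk x).ι ⋙ G) ⟨x, rfl⟩ ≫
            Sigma.ι (fun j : CategoryTheory.ConnectedComponents J => colimit (j.ι ⋙ G)) (CategoryTheory.ConnectedComponents.mk x)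
          naturality := fun x y f => by
            have key : ∀ (j : CategoryTheory.ConnectedComponents J) (z : J) (hz : CategoryTheory.ConnectedComponents.objectProperty j z),
                colimit.ι ((CategoryTheory.ConnectedComponents.mk z).ι ⋙ G) ⟨z, rfl⟩ ≫
                  Sigma.ι (fun j : CategoryTheory.ConnectedComponents J => colimit (j.ι ⋙ G)) (CategoryTheory.ConnectedComponents.mk z) =
                colimit.ι (j.ι ⋙ G) ⟨z, hz⟩ ≫ Sigma.ι (fun j : CategoryTheory.ConnectedComponents J => colimit (j.ι ⋙ G)) j := by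
              intro j z hz
              obtain rfl : CategoryTheory.ConnectedComponents.mk z = j := hz
              rfl
            have hx : CategoryTheory.ConnectedComponents.objectProperty (CategoryTheory.ConnectedComponents.mk y) x :=
              Quotient.sound' (Zigzag.of_hom f)
            rw [key _ x hx]
            refine Eq.trans ?_ (Category.comp_id _).symm
            refine (Category.assoc _ _ _).symm.trans ?_
            exact congrArg (· ≫ _) (colimit.w ((CategoryTheory.ConnectedComponents.mk y).ι ⋙ G)
              (ObjectProperty.homMk f : (⟨x, hx⟩ : (CategoryTheory.ConnectedComponents.mk y).Component) ⟶ ⟨y, rfl⟩)) } }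

noncomputable def ofSigma (G : J ⥤ A) :
    (∐ fun j : CategoryTheory.ConnectedComponents J => colimit (j.ι ⋙ G)) ⟶ colimit G :=
  Sigma.desc fun j => colimit.pre G j.ι

theorem toSigma_ofSigma (G : J ⥤ A) : toSigma G ≫ ofSigma G = 𝟙 _ := by
  refine colimit.hom_ext fun x => ?_
  simp [toSigma, ofSigma]

theorem toSigma_naturality {G H : J ⥤ A} (α : G ⟶ H) :
    colimMap α ≫ toSigma H = toSigma G ≫ Limits.Sigma.map fun j => colimMap (Functor.whiskerLeft j.ι α) := by
  refine colimit.hom_ext fun x => ?_
  simp [toSigma]

theorem mono_colimMap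
    (hspan : ∀ {a b c : J} (f : a ⟶ b) (g : a ⟶ c), ∃ (d : J) (h : b ⟶ d) (k : c ⟶ d), f ≫ h = g ≫ k)
    (hpar : ∀ {a b : J} (f g : a ⟶ b), ∃ (c : J) (h : b ⟶ c), f ≫ h = g ≫ h)
    {G H : J ⥤ A} (α : G ⟶ H) [∀ x, Mono (α.app x)] : Mono (colimMap α) := by
  have hfac : ∀ j : CategoryTheory.ConnectedComponents J, Mono (colimMap (Functor.whiskerLeft j.ι α)) := fun j => by
    have := isFiltered_component hspan hpar j
    have : ∀ x, Mono ((Functor.whiskerLeft j.ι α).app x) := fun x => inferInstanceAs (Mono (α.app _))
    have : Mono (Functor.whiskerLeft j.ι α) := NatTrans.mono_of_mono_app _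
    exact inferInstanceAs (Mono (colim.map (Functor.whiskerLeft j.ι α)))
  have hσ : Mono (Limits.Sigma.map fun j : CategoryTheory.ConnectedComponents J => colimMap (Functor.whiskerLeft j.ι α)) := by
    have : Mono (Discrete.natTrans (F := Discrete.functor fun j : CategoryTheory.ConnectedComponents J => colimit (j.ι ⋙ G))
        (G := Discrete.functor fun j : CategoryTheory.ConnectedComponents J => colimit (j.ι ⋙ H))
        fun j => colimMap (Functor.whiskerLeft j.as.ι α)) := by
      have : ∀ j, Mono ((Discrete.natTrans (F := Discrete.functor fun j : CategoryTheory.ConnectedComponents J => colimit (j.ι ⋙ G))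
        (G := Discrete.functor fun j : CategoryTheory.ConnectedComponents J => colimit (j.ι ⋙ H))
        fun j => colimMap (Functor.whiskerLeft j.as.ι α)).app j) := fun j => hfac j.as
      exact NatTrans.mono_of_mono_app _
    exact inferInstanceAs (Mono (colim.map (Discrete.natTrans _)))
  have : Mono (toSigma G) := mono_of_mono_fac (toSigma_ofSigma G)
  have : Mono (colimMap α ≫ toSigma H) := by rw [toSigma_naturality]; exact mono_comp' inferInstance hσ
  exact mono_of_mono _ (toSigma H)

end Colim

section Site

variable {C D : Type u} [SmallCategory C] [SmallCategory D] (u : C ⥤ D) [HasPullbacks C] [HasEqualizers C]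
  [PreservesLimitsOfShape WalkingCospan u] [PreservesLimitsOfShape WalkingParallelPair u]

theorem lan_preservesMono : (u.op.lan : (Cᵒᵖ ⥤ AddCommGrpCat.{u}) ⥤ _).PreservesMonomorphisms where
  preserves {G H} α _ := by
    have : ∀ X : Dᵒᵖ, Mono ((u.op.lan.map α).app X) := fun X => by
      let e := lanEvaluationIsoColim (E := AddCommGrpCat.{u}) u.op X
      have : Mono (((Functor.whiskeringLeft _ _ AddCommGrpCat.{u}).obj (CostructuredArrow.proj u.op X) ⋙ colim).map α) := by
        have : ∀ x, Mono ((((Functor.whiskeringLeft _ _ AddCommGrpCat.{u}).obj (CostructuredArrow.proj u.op X)).map α).app x) :=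
          fun x => inferInstanceAs (Mono (α.app _))
        refine mono_colimMap (fun {a b c} f g => ?_) (fun {a b} f g => ?_)
          (((Functor.whiskeringLeft _ _ AddCommGrpCat.{u}).obj (CostructuredArrow.proj u.op X)).map α)
        · have hf := congrArg Quiver.Hom.unop (CostructuredArrow.w f)
          have hg := congrArg Quiver.Hom.unop (CostructuredArrow.w g)
          simp only [Functor.op_map, unop_comp, Quiver.Hom.unop_op] at hf hg
          obtain ⟨t, ht⟩ : ∃ t, t = (IsPullback.of_hasPullback f.left.unop g.left.unop).map u := ⟨_, rfl⟩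
          let l := t.lift b.hom.unop c.hom.unop (by rw [hf, hg])
          refine ⟨CostructuredArrow.mk (Y := Opposite.op (pullback f.left.unop g.left.unop)) (l.op : _ ⟶ X),
            CostructuredArrow.homMk (pullback.fst f.left.unop g.left.unop).op ?_,
            CostructuredArrow.homMk (pullback.snd f.left.unop g.left.unop).op ?_, ?_⟩
          · exact Quiver.Hom.unop_inj (t.lift_fst _ _ _)
          · exact Quiver.Hom.unop_inj (t.lift_snd _ _ _)
          · exact CostructuredArrow.hom_ext _ _ (Quiver.Hom.unop_inj pullback.condition)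
        · have hf := congrArg Quiver.Hom.unop (CostructuredArrow.w f)
          have hg := congrArg Quiver.Hom.unop (CostructuredArrow.w g)
          simp only [Functor.op_map, unop_comp, Quiver.Hom.unop_op] at hf hg
          let hl := isLimitForkMapOfIsLimit u (equalizer.condition f.left.unop g.left.unop)
            (equalizerIsEqualizer f.left.unop g.left.unop)
          obtain ⟨l, hle⟩ := Fork.IsLimit.lift' hl b.hom.unop (by rw [hf, hg])
          refine ⟨CostructuredArrow.mk (Y := Opposite.op (equalizer f.left.unop g.left.unop)) (l.op : _ ⟶ X),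
            CostructuredArrow.homMk (equalizer.ι f.left.unop g.left.unop).op (Quiver.Hom.unop_inj hle), ?_⟩
          exact CostructuredArrow.hom_ext _ _ (Quiver.Hom.unop_inj (equalizer.condition _ _))
      change Mono ((u.op.lan ⋙ (evaluation Dᵒᵖ AddCommGrpCat.{u}).obj X).map α)
      rw [← NatIso.naturality_2 e α]
      infer_instance
    exact NatTrans.mono_of_mono_app _

theorem sheafPullback_preservesFiniteLimits (J : GrothendieckTopology C) (K : GrothendieckTopology D)
    [u.IsContinuous J K] : PreservesFiniteLimits (u.sheafPullback AddCommGrpCat.{u} J K) := by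
  have := lan_preservesMono u
  let L := Functor.sheafPullbackConstruction.sheafPullback u AddCommGrpCat.{u} J K
  have : PreservesColimitsOfSize.{0, 0} (u.sheafPullback AddCommGrpCat.{u} J K) :=
    (u.sheafAdjunctionContinuous AddCommGrpCat.{u} J K).leftAdjoint_preservesColimits
  have : (u.sheafPullback AddCommGrpCat.{u} J K).Additive :=
    have : PreservesColimit (Functor.empty.{0} (Sheaf J AddCommGrpCat.{u})) (u.sheafPullback AddCommGrpCat.{u} J K) := inferInstance
    have : (u.sheafPullback AddCommGrpCat.{u} J K).PreservesZeroMorphisms := Functor.preservesZeroMorphisms_of_preserves_initial_object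
    have := preservesBinaryBiproducts_of_preservesBinaryCoproducts (u.sheafPullback AddCommGrpCat.{u} J K)
    Functor.additive_of_preservesBinaryBiproducts _
  have hL : L.PreservesMonomorphisms := ⟨fun {X Y} f _ => by
    have : Mono (u.op.lan.map ((sheafToPresheaf J AddCommGrpCat.{u}).map f)) := inferInstance
    exact inferInstanceAs (Mono ((presheafToSheaf K AddCommGrpCat.{u}).map (u.op.lan.map ((sheafToPresheaf J _).map f))))⟩
  have : (u.sheafPullback AddCommGrpCat.{u} J K).PreservesMonomorphisms :=
    Functor.PreservesMonomorphisms.of_iso (Functor.sheafPullbackConstruction.sheafPullbackIso u AddCommGrpCat.{u} J K).symm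
  have := Functor.preservesHomology_of_preservesMonos_and_cokernels (u.sheafPullback AddCommGrpCat.{u} J K)
  have : ∀ {X Y : Sheaf J AddCommGrpCat.{u}} (f : X ⟶ Y),
      PreservesLimit (parallelPair f 0) (u.sheafPullback AddCommGrpCat.{u} J K) :=
    fun f => Functor.PreservesHomology.preservesKernel _ f
  exact Functor.preservesFiniteLimits_of_preservesKernels (u.sheafPullback AddCommGrpCat.{u} J K)

end Site

end Groth.L10.LanMono
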