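import Groth.Agent.L10.HDesc.HIso
import Groth.Agent.L10.HDUAcyclic
import Mathlib.Algebra.Homology.HomologicalComplexLimits
import Mathlib.Algebra.Homology.ShortComplex.Abelian
import Mathlib.CategoryTheory.Functor.OfSequence

/-! Cohomology sheaves of limits of sequences of complexes. -/

universe u

open CategoryTheory CategoryTheory.Limits Opposite

set_option autoImplicit false
set_option backward.defeqAttrib.useBackward true
set_option backward.isDefEq.respectTransparency false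
set_option backward.isDefEq.respectTransparency.types false

noncomputable section

namespace Groth.L10.LimCx

open Groth.L10.HDesc

section Ab

variable (D : ℕᵒᵖ ⥤ CochainComplex AddCommGrpCat.{u} ℤ)

/-- The transition map. -/
abbrev T {n N : ℕ} (h : n ≤ N) : D.obj (op N) ⟶ D.obj (op n) := D.map (homOfLE h).op

theorem T_T {n N N' : ℕ} (h : n ≤ N) (h' : N ≤ N') (j : ℤ) (x : (D.obj (op N')).X j) :
    (T D h).f j ((T D h').f j x) = (T D (h.trans h')).f j x := by
  rw [← ConcreteCategory.comp_apply, ← HomologicalComplex.comp_f, ← Functor.map_comp]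
  rfl

theorem T_refl (n : ℕ) (j : ℤ) (x : (D.obj (op n)).X j) : (T D (le_refl n)).f j x = x := by
  rw [show T D (le_refl n) = 𝟙 _ from D.map_id (op n)]
  rfl

theorem compat_all {j : ℤ} (x : ∀ n, (D.obj (op n)).X j) (h : ∀ n, (T D n.le_succ).f j (x (n + 1)) = x n) :
    ∀ {n N : ℕ} (hn : n ≤ N), (T D hn).f j (x N) = x n := by
  intro n N hn
  induction hn with
  | refl => exact T_refl D n j _
  | @step M hM ih => rw [← T_T D hM M.le_succ, h, ih]

/-- Vanishing of the first derived limit of the terms in degree `j`. -/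
abbrev LimOneX (j : ℤ) : Prop :=
  CohCx.LimOneIsZero (fun n => (D.obj (op n)).X j) (fun n => ((T D n.le_succ).f j).hom)

/-- Vanishing of the first derived limit of the cohomology in degree `j`. -/
abbrev LimOneH (j : ℤ) : Prop :=
  CohCx.LimOneIsZero (fun n => (D.obj (op n)).homology j)
    (fun n => (HomologicalComplex.homologyMap (T D n.le_succ) j).hom)

theorem homologyπ_map {K L : CochainComplex AddCommGrpCat.{u} ℤ} (f : K ⟶ L) (n : ℤ) (z : K.cycles n) :
    HomologicalComplex.homologyMap f n (K.homologyπ n z) = L.homologyπ n (HomologicalComplex.cyclesMap f n z) := by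
  rw [← ConcreteCategory.comp_apply, ← ConcreteCategory.comp_apply, HomologicalComplex.homologyπ_naturality]

theorem iCycles_map {K L : CochainComplex AddCommGrpCat.{u} ℤ} (f : K ⟶ L) (n : ℤ) (z : K.cycles n) :
    L.iCycles n (HomologicalComplex.cyclesMap f n z) = f.f n (K.iCycles n z) := by
  rw [← ConcreteCategory.comp_apply, ← ConcreteCategory.comp_apply, HomologicalComplex.cyclesMap_i]

theorem exists_cycles_limOne {i j : ℤ} (hij : i + 1 = j) (hl : LimOneH D j)
    (c : ∀ n, (D.obj (op n)).X j) (hc : ∀ n, (D.obj (op n)).d j (j + 1) (c n) = 0) :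
    ∃ (b : ∀ n, (D.obj (op n)).X j) (a : ∀ n, (D.obj (op n)).X i),
      (∀ n, (D.obj (op n)).d j (j + 1) (b n) = 0) ∧
      ∀ n, b n - (T D n.le_succ).f j (b (n + 1)) = c n + (D.obj (op n)).d i j (a n) := by
  choose γ hγ using fun n => exists_cycle (D.obj (op n)) (c n) (hc n)
  obtain ⟨β, hβ⟩ := hl fun n => (D.obj (op n)).homologyπ j (γ n)
  choose z hz using fun n => homologyπ_surjective (D.obj (op n)) j (β n)
  choose a ha using fun n => (homologyπ_eq_zero_iff (D.obj (op n)) hij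
    (z n - HomologicalComplex.cyclesMap (T D n.le_succ) j (z (n + 1)) - γ n)).1 (by
      rw [map_sub, map_sub, ← homologyπ_map, hz, hz]
      exact sub_eq_zero.2 (congrFun hβ n))
  refine ⟨fun n => (D.obj (op n)).iCycles j (z n), a, fun n => iCycles_d_apply _ _, fun n => ?_⟩
  have h := ha n
  rw [map_sub, map_sub, iCycles_map, hγ] at h
  rw [← h]
  abel

variable (n₀ : ℕ)

theorem exists_exact_family {m m₁ m₂ : ℤ} (h₁ : m₁ + 1 = m) (h₂ : m₂ + 1 = m₁)
    (hI : ∀ (N : ℕ) (hN : n₀ ≤ N), InjH (T D hN) m) (hl₂ : LimOneX D m₂) (hl₁ : LimOneH D m₁)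
    (x : ∀ n, (D.obj (op n)).X m) (hx : ∀ n, (T D n.le_succ).f m (x (n + 1)) = x n)
    (hcyc : ∀ n, (D.obj (op n)).d m (m + 1) (x n) = 0) (w : (D.obj (op n₀)).X m₁)
    (hw : x n₀ = (D.obj (op n₀)).d m₁ m w) :
    ∃ y : ∀ n, (D.obj (op n)).X m₁,
      (∀ n, (T D n.le_succ).f m₁ (y (n + 1)) = y n) ∧ ∀ n, (D.obj (op n)).d m₁ m (y n) = x n := by
  have hex : ∀ n, ∃ y, (D.obj (op n)).d m₁ m y = x n := fun n => by
    obtain ⟨a, ha⟩ := hI (max n n₀) (le_max_right _ _) _ (hcyc _) m₁ w h₁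
      ((compat_all D x hx (le_max_right n n₀)).trans hw)
    exact ⟨(T D (le_max_left n n₀)).f m₁ a, by rw [← comm_apply, ← ha, compat_all D x hx]⟩
  choose y hy using hex
  obtain ⟨b, a, hb, hba⟩ := exists_cycles_limOne D h₂ hl₁ (fun n => y n - (T D n.le_succ).f m₁ (y (n + 1)))
    (fun n => by
      obtain rfl : m₁ + 1 = m := h₁
      rw [map_sub, ← comm_apply, hy, hy, hx, sub_self])
  obtain ⟨v, hv⟩ := hl₂ fun n => -a n
  refine ⟨fun n => y n - b n - (D.obj (op n)).d m₂ m₁ (v n), fun n => ?_, fun n => ?_⟩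
  · have h := hba n
    have h' : v n - (T D n.le_succ).f m₂ (v (n + 1)) = -a n := congrFun hv n
    have h'' := congrArg ((D.obj (op n)).d m₂ m₁) h'
    rw [map_sub, map_neg, ← comm_apply] at h''
    simp only [map_sub]
    rw [← sub_eq_zero] at h h'' ⊢
    rw [← neg_eq_zero]
    refine Eq.trans ?_ ((congrArg₂ (fun p q => -p - q) h h'').trans (by simp))
    abel
  · obtain rfl : m₁ + 1 = m := h₁
    simp only [map_sub, hy, hb, d_d, sub_zero]

theorem exists_cycle_family {m m₁ : ℤ} (h₁ : m₁ + 1 = m)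
    (hI : ∀ (N : ℕ) (hN : n₀ ≤ N), InjH (T D hN) m) (hS : ∀ (N : ℕ) (hN : n₀ ≤ N), SurjH (T D hN) m)
    (hl : LimOneX D m₁) (z : (D.obj (op n₀)).X m) (hz : (D.obj (op n₀)).d m (m + 1) z = 0) :
    ∃ x : ∀ n, (D.obj (op n)).X m, (∀ n, (T D n.le_succ).f m (x (n + 1)) = x n) ∧
      (∀ n, (D.obj (op n)).d m (m + 1) (x n) = 0) ∧ ∃ w, z = x n₀ + (D.obj (op n₀)).d m₁ m w := by
  choose c hc w hw using fun n => hS (max n n₀) (le_max_right n n₀) z hz m₁ h₁
  let p : ∀ n, (D.obj (op n)).X m := fun n => (T D (le_max_left n n₀)).f m (c n)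
  have hdiff : ∀ n, ∃ a, p n - (T D n.le_succ).f m (p (n + 1)) = (D.obj (op n)).d m₁ m a := fun n => by
    have hle : max n n₀ ≤ max (n + 1) n₀ := max_le_max n.le_succ le_rfl
    obtain ⟨a, ha⟩ := hI _ (le_max_right n n₀) (c n - (T D hle).f m (c (n + 1)))
      (by rw [map_sub, ← comm_apply, hc, hc, map_zero, sub_zero]) m₁ (w (n + 1) - w n) h₁
      (by
        rw [map_sub, T_T, map_sub, sub_eq_sub_iff_add_eq_add, add_comm _ ((T D _).f m (c (n + 1))), ← hw n]
        exact hw (n + 1))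
    refine ⟨(T D (le_max_left n n₀)).f m₁ a, ?_⟩
    rw [← comm_apply, ← ha, map_sub, T_T, T_T]
  choose a ha using hdiff
  obtain ⟨v, hv⟩ := hl a
  refine ⟨fun n => p n - (D.obj (op n)).d m₁ m (v n), fun n => ?_, fun n => ?_, w n₀ + v n₀, ?_⟩
  · have h' : v n - (T D n.le_succ).f m₁ (v (n + 1)) = a n := congrFun hv n
    have h := (ha n).trans (congrArg ((D.obj (op n)).d m₁ m) h'.symm)
    rw [map_sub, ← comm_apply] at h
    rw [← sub_eq_zero] at h ⊢
    rw [map_sub, ← neg_eq_zero, ← h]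
    abel
  · simp only [p, map_sub, d_d, ← comm_apply, hc, map_zero, sub_zero]
  · rw [map_add]
    exact (hw n₀).trans (sub_add_add_cancel _ _ _).symm

end Ab

variable {C : Type u} [SmallCategory C] {J : GrothendieckTopology C}
  (F : ℕ → CochainComplex (Sheaf J AddCommGrpCat.{u}) ℤ) (t : ∀ n, F (n + 1) ⟶ F n)

/-- The sequence of complexes of sections. -/
abbrev sectSeq (U : C) : ℕᵒᵖ ⥤ CochainComplex AddCommGrpCat.{u} ℤ :=
  CohCx.opSequence F t ⋙ CohCx.sectCx J U

theorem transition_eq (n : ℕ) : ∀ k : ℕ,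
    CohCx.transition F t n k = (CohCx.opSequence F t).map (homOfLE (Nat.le_add_right n k)).op
  | 0 => ((CohCx.opSequence F t).map_id (op n)).symm
  | k + 1 => by
    have h1 : (CohCx.opSequence F t).map (homOfLE (n + k).le_succ).op = t (n + k) :=
      Functor.ofOpSequence_map_homOfLE_succ t (n + k)
    rw [CohCx.transition, transition_eq n k, ← h1, ← Functor.map_comp]
    rfl

theorem T_sectSeq_succ (U : C) (n : ℕ) : T (sectSeq F t U) n.le_succ = (CohCx.sectCx J U).map (t n) :=
  congrArg (CohCx.sectCx J U).map (Functor.ofOpSequence_map_homOfLE_succ t n)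

/-- The functor of sections in a degree. -/
abbrev secX (U : C) (j : ℤ) : CochainComplex (Sheaf J AddCommGrpCat.{u}) ℤ ⥤ AddCommGrpCat.{u} :=
  HomologicalComplex.eval _ _ j ⋙ sheafToPresheaf J AddCommGrpCat.{u} ⋙ (evaluation _ _).obj (op U)

theorem lim_ext {U : C} {j : ℤ} (x y : ((limit (CohCx.opSequence F t)).X j).obj.obj (op U))
    (h : ∀ n, ((limit.π (CohCx.opSequence F t) (op n)).f j).hom.app (op U) x =
      ((limit.π (CohCx.opSequence F t) (op n)).f j).hom.app (op U) y) : x = y :=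
  Concrete.isLimit_ext _ (isLimitOfPreserves (secX U j) (limit.isLimit (CohCx.opSequence F t))) x y
    fun n => h n.unop

theorem exists_lim {U : C} {j : ℤ} (x : ∀ n, ((sectSeq F t U).obj (op n)).X j)
    (hx : ∀ n, (T (sectSeq F t U) n.le_succ).f j (x (n + 1)) = x n) :
    ∃ y : ((limit (CohCx.opSequence F t)).X j).obj.obj (op U),
      ∀ n, ((limit.π (CohCx.opSequence F t) (op n)).f j).hom.app (op U) y = x n := by
  let h := isLimitOfPreserves (secX U j ⋙ forget AddCommGrpCat.{u}) (limit.isLimit (CohCx.opSequence F t))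
  refine ⟨(Types.isLimitEquivSections h).symm ⟨fun n => x n.unop, fun {a b} f => ?_⟩, fun n => ?_⟩
  · exact compat_all (sectSeq F t U) x hx (leOfHom f.unop)
  · exact Types.isLimitEquivSections_symm_apply h _ (op n)

theorem π_sect_d {U : C} {i j : ℤ} (x : ((limit (CohCx.opSequence F t)).X i).obj.obj (op U)) (n : ℕ) :
    ((limit.π (CohCx.opSequence F t) (op n)).f j).hom.app (op U)
        (((limit (CohCx.opSequence F t)).d i j).hom.app (op U) x) =
      ((sectSeq F t U).obj (op n)).d i j (((limit.π (CohCx.opSequence F t) (op n)).f i).hom.app (op U) x) :=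
  comm_apply ((CohCx.sectCx J U).map (limit.π (CohCx.opSequence F t) (op n))) i j x

theorem π_compat {U : C} {j : ℤ} (x : ((limit (CohCx.opSequence F t)).X j).obj.obj (op U)) (n : ℕ) :
    (T (sectSeq F t U) n.le_succ).f j (((limit.π (CohCx.opSequence F t) (op (n + 1))).f j).hom.app (op U) x) =
      ((limit.π (CohCx.opSequence F t) (op n)).f j).hom.app (op U) x :=
  congr($(congrArg (fun φ => (secX U j).map φ) (limit.w (CohCx.opSequence F t) (homOfLE n.le_succ).op)) x)

open SiteCoh in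
/-- The sum of the free sheaves on the members of a class mapping to a sheaf. -/
theorem exists_free_cover (B : Set C)
    (hB : ∀ U : C, ∃ (ι : Type u) (Y : ι → C) (f : ∀ i, Y i ⟶ U), Sieve.ofArrows Y f ∈ J U ∧ ∀ i, Y i ∈ B)
    (A : Sheaf J AddCommGrpCat.{u}) :
    ∃ (π : (∐ fun i : (Σ V : B, A.obj.obj (op V.1)) => fs J i.1.1) ⟶ A),
      Epi π ∧ ∀ i, Sigma.ι (fun i : (Σ V : B, A.obj.obj (op V.1)) => fs J i.1.1) i ≫ π = (secEquiv J i.1.1 A).symm i.2 := by
  refine ⟨Sigma.desc fun i => (secEquiv J i.1.1 A).symm i.2, ⟨fun {N} g g' h => ?_⟩, fun i => Sigma.ι_desc _ _⟩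
  rw [← sub_eq_zero]
  refine (HDUAcyclic.cover B hB).sep (g - g') fun V b => ?_
  have h1 := congrArg (Sigma.ι (fun i : (Σ V : B, A.obj.obj (op V.1)) => fs J i.1.1) ⟨V, secEquiv J V.1 A b⟩ ≫ ·) h
  rw [Sigma.ι_desc_assoc, Sigma.ι_desc_assoc, AddEquiv.symm_apply_apply] at h1
  rw [Preadditive.comp_sub, sub_eq_zero]
  exact h1

open SiteCoh in
/-- Cohomology sheaves of the limit. -/
theorem isIso_homologyMap_π (m : ℤ) (B : Set C)
    (hB : ∀ U : C, ∃ (ι : Type u) (Y : ι → C) (f : ∀ i, Y i ⟶ U), Sieve.ofArrows Y f ∈ J U ∧ ∀ i, Y i ∈ B)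
    (n₀ : ℕ)
    (ha : ∀ U ∈ B, ∀ j : ℤ, (j = m - 2 ∨ j = m - 1) →
      CohCx.LimOneIsZero (fun n => ((F n).X j).obj.obj (op U)) (fun n => (((t n).f j).hom.app (op U)).hom))
    (hb : ∀ U ∈ B, CohCx.LimOneIsZero
      (fun n => ((CohCx.sectCx J U).obj (F n)).homology (m - 1))
      (fun n => (HomologicalComplex.homologyMap ((CohCx.sectCx J U).map (t n)) (m - 1)).hom))
    (hc : ∀ U ∈ B, ∀ k : ℕ, IsIso (HomologicalComplex.homologyMap
      ((CohCx.sectCx J U).map (CohCx.transition F t n₀ k)) m)) :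
    IsIso (HomologicalComplex.homologyMap (limit.π (CohCx.opSequence F t) (op n₀)) m) := by
  have hq : ∀ U ∈ B, ∀ (N : ℕ) (hN : n₀ ≤ N),
      SurjH (T (sectSeq F t U) hN) m ∧ InjH (T (sectSeq F t U) hN) m := fun U hU N hN => by
    obtain ⟨k, rfl⟩ := Nat.exists_eq_add_of_le hN
    refine (quasiIsoAt_iff_hIso _ m).1 ((quasiIsoAt_iff_isIso_homologyMap _ m).2 ?_)
    have := hc U hU k
    rw [transition_eq] at this
    exact this
  have hla : ∀ U ∈ B, ∀ j : ℤ, (j = m - 2 ∨ j = m - 1) → LimOneX (sectSeq F t U) j := fun U hU j hj => by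
    have := ha U hU j hj
    simp only [LimOneX, T_sectSeq_succ]
    exact this
  have hlb : ∀ U ∈ B, LimOneH (sectSeq F t U) (m - 1) := fun U hU => by
    have := hb U hU
    simp only [LimOneH, T_sectSeq_succ]
    exact this
  let G := limit (CohCx.opSequence F t)
  let φ := limit.π (CohCx.opSequence F t) (op n₀)
  have hsec : ∀ (V : C) (M N : Sheaf J AddCommGrpCat.{u}) (b : fs J V ⟶ M) (f : M ⟶ N),
      f.hom.app (op V) (secEquiv J V M b) = secEquiv J V N (b ≫ f) := fun V M N b f => (secEquiv_comp b f).symm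
  have : Mono (HomologicalComplex.homologyMap φ m) := by
    refine (HomologicalComplex.mono_homologyMap_iff_up_to_refinements φ (m - 1) m (m + 1) (by simp) (by simp)).2
      fun A x₂ hx₂ y₁ hy₁ => ?_
    obtain ⟨π, hπ, hι⟩ := exists_free_cover B hB A
    have key : ∀ i : (Σ V : B, A.obj.obj (op V.1)), ∃ z : (G.X (m - 1)).obj.obj (op i.1.1),
        (G.d (m - 1) m).hom.app (op i.1.1) z =
          x₂.hom.app (op i.1.1) i.2 := by
      rintro ⟨⟨V, hV⟩, a⟩
      let xn : ∀ n, ((sectSeq F t V).obj (op n)).X m := fun n =>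
        ((limit.π (CohCx.opSequence F t) (op n)).f m).hom.app (op V) (x₂.hom.app (op V) a)
      have hcyc : ∀ n, ((sectSeq F t V).obj (op n)).d m (m + 1) (xn n) = 0 := fun n => by
        rw [← π_sect_d, show (G.d m (m + 1)).hom.app (op V) (x₂.hom.app (op V) a) = 0 from
          congr(($hx₂).hom.app (op V) a), map_zero]
      obtain ⟨y, hy, hdy⟩ := exists_exact_family (sectSeq F t V) n₀ (sub_add_cancel m 1)
        (show m - 2 + 1 = m - 1 by omega) (fun N hN => (hq V hV N hN).2) (hla V hV _ (Or.inl rfl)) (hlb V hV)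
        xn (fun n => π_compat F t _ n) hcyc (y₁.hom.app (op V) a) congr(($hy₁).hom.app (op V) a)
      obtain ⟨z, hz⟩ := exists_lim F t y hy
      exact ⟨z, lim_ext F t _ _ fun n => (π_sect_d F t z n).trans ((congrArg _ (hz n)).trans (hdy n))⟩
    choose z hz using key
    refine ⟨_, π, hπ, Sigma.desc fun i => (secEquiv J i.1.1 _).symm (z i), Sigma.hom_ext _ _ fun i => ?_⟩
    rw [← Category.assoc, hι, Sigma.ι_desc_assoc]
    apply (secEquiv J i.1.1 _).injective
    rw [← hsec, ← hsec, AddEquiv.apply_symm_apply, AddEquiv.apply_symm_apply]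
    exact (hz i).symm
  have : Epi (HomologicalComplex.homologyMap φ m) := by
    refine (HomologicalComplex.epi_homologyMap_iff_up_to_refinements φ (m - 1) m (m + 1) (by simp) (by simp)).2
      fun A y₂ hy₂ => ?_
    obtain ⟨π, hπ, hι⟩ := exists_free_cover B hB A
    have key : ∀ i : (Σ V : B, A.obj.obj (op V.1)), ∃ (x : (G.X m).obj.obj (op i.1.1))
        (w : (((CohCx.opSequence F t).obj (op n₀)).X (m - 1)).obj.obj (op i.1.1)), (G.d m (m + 1)).hom.app (op i.1.1) x = 0 ∧
          y₂.hom.app (op i.1.1) i.2 = (φ.f m).hom.app (op i.1.1) x + (((CohCx.opSequence F t).obj (op n₀)).d (m - 1) m).hom.app (op i.1.1) w := by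
      rintro ⟨⟨V, hV⟩, a⟩
      obtain ⟨xn, hxn, hcyc, w, hw⟩ := exists_cycle_family (sectSeq F t V) n₀ (sub_add_cancel m 1)
        (fun N hN => (hq V hV N hN).2) (fun N hN => (hq V hV N hN).1) (hla V hV _ (Or.inr rfl))
        (y₂.hom.app (op V) a) congr(($hy₂).hom.app (op V) a)
      obtain ⟨x, hx⟩ := exists_lim F t xn hxn
      refine ⟨x, w, lim_ext F t _ _ fun n => ?_, hw.trans ?_⟩
      · rw [map_zero]
        exact (π_sect_d F t x n).trans ((congrArg _ (hx n)).trans (hcyc n))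
      · exact congrArg (· + _) (hx n₀).symm
    choose x w hx hy using key
    refine ⟨_, π, hπ, Sigma.desc fun i => (secEquiv J i.1.1 _).symm (x i), Sigma.hom_ext _ _ fun i => ?_,
      Sigma.desc fun i => (secEquiv J i.1.1 _).symm (w i), Sigma.hom_ext _ _ fun i => ?_⟩
    · rw [Sigma.ι_desc_assoc, comp_zero]
      apply (secEquiv J i.1.1 _).injective
      rw [← hsec, AddEquiv.apply_symm_apply, map_zero]
      exact hx i
    · rw [← Category.assoc, hι, Preadditive.comp_add, Sigma.ι_desc_assoc, Sigma.ι_desc_assoc]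
      apply (secEquiv J i.1.1 _).injective
      rw [map_add, ← hsec, ← hsec, ← hsec, AddEquiv.apply_symm_apply, AddEquiv.apply_symm_apply,
        AddEquiv.apply_symm_apply]
      exact hy i
  exact isIso_of_mono_of_epi _

end Groth.L10.LimCx
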