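import Groth.Agent.L10.KInjDerived
import Mathlib.Algebra.Homology.DerivedCategory.Fractions
import Mathlib.Algebra.Homology.Refinements

/-! Detecting monomorphisms and epimorphisms on cohomology objects locally, by morphisms out of test objects. -/

universe w v u t

open CategoryTheory CategoryTheory.Limits DerivedCategory

set_option backward.defeqAttrib.useBackward true
set_option backward.isDefEq.respectTransparency false
namespace Groth.L10.LocalDetect

variable {C : Type u} [Category.{v} C] [Abelian C] [HasDerivedCategory.{w} C]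

local notation "H0" => homologyFunctor C 0
local notation "S0" => singleFunctor C 0

/-- The class in `H⁰` of a morphism out of an object in degree `0`. -/
noncomputable def cls {T : C} {X : DerivedCategory C} (ξ : (S0).obj T ⟶ X) : T ⟶ (H0).obj X :=
  (HomologicalComplex.singleObjHomologySelfIso (ComplexShape.up ℤ) 0 T).inv ≫
    (homologyFunctorFactors C 0).inv.app ((CochainComplex.singleFunctor C 0).obj T) ≫ (H0).map ξ

theorem cls_comp {T : C} {X Y : DerivedCategory C} (ξ : (S0).obj T ⟶ X) (f : X ⟶ Y) :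
    cls (ξ ≫ f) = cls ξ ≫ (H0).map f := by
  simp [cls]

theorem cls_map {T T' : C} (p : T' ⟶ T) {X : DerivedCategory C} (ξ : (S0).obj T ⟶ X) :
    cls ((S0).map p ≫ ξ) = p ≫ cls ξ := by
  have h1 := (homologyFunctorFactors C 0).inv.naturality ((CochainComplex.singleFunctor C 0).map p)
  have h2 : p ≫ (HomologicalComplex.singleObjHomologySelfIso (ComplexShape.up ℤ) 0 T).inv =
      (HomologicalComplex.singleObjHomologySelfIso (ComplexShape.up ℤ) 0 T').inv ≫
        HomologicalComplex.homologyMap ((CochainComplex.singleFunctor C 0).map p) 0 :=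
    ((HomologicalComplex.homologyFunctorSingleIso C (ComplexShape.up ℤ) 0).inv.naturality p)
  rw [cls, cls, Functor.map_comp, reassoc_of% h2]
  refine congrArg (_ ≫ ·) ?_
  exact (Category.assoc _ _ _).symm.trans ((congrArg (· ≫ (H0).map ξ) h1).symm.trans (Category.assoc _ _ _))

@[simp] theorem cls_zero {T : C} {X : DerivedCategory C} : cls (0 : (S0).obj T ⟶ X) = 0 := by
  simp [cls]

theorem cls_Q {T : C} {I : CochainComplex C ℤ} (x : T ⟶ I.X 0) (hx : x ≫ I.d 0 1 = 0) :
    cls (Q.map (HomologicalComplex.mkHomFromSingle (c := ComplexShape.up ℤ) x (fun j hj => by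
      obtain rfl : (0 : ℤ) + 1 = j := hj
      exact hx))) = I.liftCycles x 1 (by simp) hx ≫ I.homologyπ 0 ≫ (homologyFunctorFactors C 0).inv.app I := by
  have h := (homologyFunctorFactors C 0).inv.naturality (HomologicalComplex.mkHomFromSingle (c := ComplexShape.up ℤ) x (fun j hj => by
      obtain rfl : (0 : ℤ) + 1 = j := hj
      exact hx))
  rw [cls]
  refine (congrArg (_ ≫ ·) h.symm).trans ?_
  rw [← HomologicalComplex.singleObjCyclesSelfIso_inv_homologyπ, Category.assoc]
  erw [HomologicalComplex.homologyπ_naturality_assoc]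
  rw [← Category.assoc]
  refine congrArg (· ≫ _) ?_
  rw [← cancel_mono (I.iCycles 0), Category.assoc, HomologicalComplex.cyclesMap_i,
    HomologicalComplex.singleObjCyclesSelfIso_inv_iCycles_assoc, HomologicalComplex.mkHomFromSingle_f,
    Iso.inv_hom_id_assoc, HomologicalComplex.liftCycles_i]

variable [KInjDerived.EnoughKInjectives C]

theorem exists_rep (X : DerivedCategory C) : ∃ (I : CochainComplex C ℤ) (_ : I.IsKInjective), Nonempty (Q.obj I ≅ X) := by
  obtain ⟨I, f, hI, hf⟩ := KInjDerived.EnoughKInjectives.exists_res (Q.objPreimage X)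
  exact ⟨I, hI, ⟨(asIso (Q.map f)).symm ≪≫ Q.objObjPreimageIso X⟩⟩

/-- Cohomology classes lift to morphisms after refinement. -/
theorem exists_lift {X : DerivedCategory C} {T : C} (y : T ⟶ (H0).obj X) :
    ∃ (T' : C) (p : T' ⟶ T) (_ : Epi p) (ξ : (S0).obj T' ⟶ X), cls ξ = p ≫ y := by
  obtain ⟨I, hI, ⟨e⟩⟩ := exists_rep X
  obtain ⟨T', p, hp, z, hz, h⟩ := I.eq_liftCycles_homologyπ_up_to_refinements
    (y ≫ (H0).map e.inv ≫ (homologyFunctorFactors C 0).hom.app I) 1 (by simp)
  refine ⟨T', p, hp, Q.map (HomologicalComplex.mkHomFromSingle (c := ComplexShape.up ℤ) z (fun j hj => by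
      obtain rfl : (0 : ℤ) + 1 = j := hj
      exact hz)) ≫ e.hom, ?_⟩
  rw [cls_comp, cls_Q z hz]
  simp only [Category.assoc]
  rw [← reassoc_of% h, Iso.hom_inv_id_app_assoc]
  simp [← Functor.map_comp]

/-- Morphisms with vanishing class vanish after refinement. -/
theorem exists_eq_zero {X : DerivedCategory C} {T : C} (ξ : (S0).obj T ⟶ X) (h : cls ξ = 0) :
    ∃ (T' : C) (p : T' ⟶ T) (_ : Epi p), (S0).map p ≫ ξ = 0 := by
  obtain ⟨I, hI, ⟨e⟩⟩ := exists_rep X
  obtain ⟨g, hg⟩ := (KInjDerived.qh_bijective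
    ((HomotopyCategory.quotient C (ComplexShape.up ℤ)).obj ((CochainComplex.singleFunctor C 0).obj T))
    ⟨(HomotopyCategory.quotient C (ComplexShape.up ℤ)).obj I, hI⟩).surjective
    ((quotientCompQhIso C).hom.app _ ≫ ξ ≫ e.inv ≫ (quotientCompQhIso C).inv.app I)
  obtain ⟨φ, rfl⟩ := (HomotopyCategory.quotient C (ComplexShape.up ℤ)).map_surjective g
  have hQ : ξ = Q.map φ ≫ e.hom := by
    have hn := (quotientCompQhIso C).hom.naturality φ
    have h1 : Q.map φ = (quotientCompQhIso C).inv.app _ ≫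
        Qh.map ((HomotopyCategory.quotient C (ComplexShape.up ℤ)).map φ) ≫ (quotientCompQhIso C).hom.app I := by
      erw [hn, Iso.inv_hom_id_app_assoc]
    rw [h1, hg]
    simp only [Category.assoc, Iso.inv_hom_id_app_assoc]
    simp
  let x : T ⟶ I.X 0 := (HomologicalComplex.singleObjXSelf (ComplexShape.up ℤ) 0 T).inv ≫ φ.f 0
  have hx : x ≫ I.d 0 1 = 0 := by
    simp [x, φ.comm, CochainComplex.singleFunctor, CochainComplex.singleFunctors]
  let mk : ∀ {T' : C} (z : T' ⟶ I.X 0), z ≫ I.d 0 1 = 0 → ((CochainComplex.singleFunctor C 0).obj T' ⟶ I) :=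
    fun z hz => HomologicalComplex.mkHomFromSingle (c := ComplexShape.up ℤ) z (fun j hj => by
      obtain rfl : (0 : ℤ) + 1 = j := hj
      exact hz)
  have hφ : φ = mk x hx := HomologicalComplex.from_single_hom_ext (by simp [mk, x])
  rw [hQ, cls_comp, hφ, cls_Q x hx, ← zero_comp (f := (H0).map e.hom), cancel_mono] at h
  rw [← Category.assoc, ← zero_comp (f := (homologyFunctorFactors C 0).inv.app I), cancel_mono,
    I.comp_homologyπ_eq_zero_iff_up_to_refinements (-1) 0 (by simp)] at h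
  obtain ⟨T', p, hp, w, hw⟩ := h
  refine ⟨T', p, hp, ?_⟩
  have hw' : p ≫ x = w ≫ I.d (-1) 0 := by
    have := congrArg (· ≫ I.iCycles 0) hw
    simpa using this
  let hh : ∀ i j, (ComplexShape.up ℤ).Rel j i →
      (((CochainComplex.singleFunctor C 0).obj T').X i ⟶ I.X j) := fun i j hij =>
    if hi : i = 0 then
      (HomologicalComplex.singleObjXIsoOfEq (ComplexShape.up ℤ) 0 T' i hi).hom ≫ w ≫
        (I.XIsoOfEq (show (-1 : ℤ) = j by simp at hij; omega)).hom
    else 0
  have heq : (CochainComplex.singleFunctor C 0).map p ≫ mk x hx = Homotopy.nullHomotopicMap' hh := by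
    refine HomologicalComplex.from_single_hom_ext ?_
    rw [HomologicalComplex.comp_f,
      Homotopy.nullHomotopicMap'_f (show (ComplexShape.up ℤ).Rel (-1) 0 by simp) (show (ComplexShape.up ℤ).Rel (0 : ℤ) 1 by simp)]
    simp [hh, mk, CochainComplex.singleFunctor, CochainComplex.singleFunctors, HomologicalComplex.singleObjXSelf]
    rw [← hw', HomologicalComplex.single_map_f_self]
    simp [HomologicalComplex.singleObjXSelf]
  have h0 : Q.map ((CochainComplex.singleFunctor C 0).map p ≫ mk x hx) = 0 := by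
    have hn := (quotientCompQhIso C).hom.naturality ((CochainComplex.singleFunctor C 0).map p ≫ mk x hx)
    have hh0 : (HomotopyCategory.quotient C (ComplexShape.up ℤ)).map ((CochainComplex.singleFunctor C 0).map p ≫ mk x hx) = 0 := by
      rw [← Functor.map_zero (HomotopyCategory.quotient C (ComplexShape.up ℤ)), heq]
      exact HomotopyCategory.eq_of_homotopy _ _ (Homotopy.nullHomotopy' hh)
    rw [← cancel_epi ((quotientCompQhIso C).hom.app _), comp_zero]
    refine hn.symm.trans ?_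
    simp [hh0]
  rw [Functor.map_comp] at h0
  rw [hQ, hφ, ← Category.assoc]
  exact (congrArg (· ≫ e.hom) h0).trans zero_comp

/-- The test data: separating base objects, each with enough good refinements of its covers. -/
structure Cover (C : Type u) [Category.{v} C] [Abelian C] (ι : Type t) where
  P : ι → C
  good : ι → C → Prop
  sep : ∀ ⦃M N : C⦄ (g : M ⟶ N), (∀ i (a : P i ⟶ M), a ≫ g = 0) → g = 0
  cov : ∀ i ⦃T : C⦄ (p : T ⟶ P i) [Epi p] ⦃N : C⦄ (b : P i ⟶ N),
    (∀ (Q' : C) (r : Q' ⟶ T), good i Q' → r ≫ p ≫ b = 0) → b = 0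

/-- A monomorphism on `H⁰` from injectivity on good test objects. -/
theorem mono_H0 {ι : Type t} (𝒞 : Cover C ι) {X Y : DerivedCategory C} (f : X ⟶ Y)
    (h : ∀ i, ∃ (Z : DerivedCategory C) (f' : X ⟶ Z) (g : Z ⟶ Y), f' ≫ g = f ∧ IsIso ((H0).map g) ∧
      ∀ Q', 𝒞.good i Q' → ∀ ξ : (S0).obj Q' ⟶ X, ξ ≫ f' = 0 → ξ = 0) :
    Mono ((H0).map f) := by
  refine Preadditive.mono_of_cancel_zero _ fun {M} k hk => 𝒞.sep k fun i a => ?_
  obtain ⟨Z, f', g, rfl, hg, hinj⟩ := h i
  rw [Functor.map_comp, ← Category.assoc, ← zero_comp (f := (H0).map g), cancel_mono] at hk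
  obtain ⟨T₁, p₁, hp₁, ξ, hξ⟩ := exists_lift (a ≫ k)
  obtain ⟨T₂, p₂, hp₂, h₂⟩ := exists_eq_zero (ξ ≫ f') (by rw [cls_comp, hξ, Category.assoc, Category.assoc, hk, comp_zero, comp_zero])
  refine 𝒞.cov i (p₂ ≫ p₁) (a ≫ k) fun Q' r hQ => ?_
  have := hinj Q' hQ ((S0).map (r ≫ p₂) ≫ ξ) (by
    rw [Functor.map_comp, Category.assoc, Category.assoc, h₂, comp_zero])
  have h3 := congrArg cls this
  rw [cls_zero, cls_map, hξ] at h3
  simpa [Category.assoc] using h3

/-- An epimorphism on `H⁰` from surjectivity on good test objects. -/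
theorem epi_H0 {ι : Type t} (𝒞 : Cover C ι) {X Y : DerivedCategory C} (f : X ⟶ Y)
    (h : ∀ i, ∃ (Z : DerivedCategory C) (f' : X ⟶ Z) (g : Z ⟶ Y), f' ≫ g = f ∧ IsIso ((H0).map g) ∧
      ∀ Q', 𝒞.good i Q' → ∀ η : (S0).obj Q' ⟶ Z, ∃ ξ : (S0).obj Q' ⟶ X, ξ ≫ f' = η) :
    Epi ((H0).map f) := by
  refine Preadditive.epi_of_cancel_zero _ fun {N} k hk => 𝒞.sep k fun i a => ?_
  obtain ⟨Z, f', g, rfl, hg, hsurj⟩ := h i
  obtain ⟨T₁, p₁, hp₁, η, hη⟩ := exists_lift (a ≫ inv ((H0).map g))
  refine 𝒞.cov i p₁ (a ≫ k) fun Q' r hQ => ?_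
  obtain ⟨ξ, hξ⟩ := hsurj Q' hQ ((S0).map r ≫ η)
  have h3 := congrArg cls hξ
  rw [cls_comp, cls_map, hη] at h3
  have h4 := congrArg (· ≫ (H0).map g ≫ k) h3
  simp only [Category.assoc, IsIso.inv_hom_id_assoc] at h4
  rw [← h4, ← Functor.map_comp_assoc, hk, comp_zero]

end Groth.L10.LocalDetect
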