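import Groth.Agent.L29.DCoh.ExtZero
import Groth.Prelude.Def_DCoh3
import Mathlib.CategoryTheory.Abelian.CommSq
import Mathlib.Algebra.Homology.HomologicalComplexBiprod
import Mathlib.Algebra.Homology.HomologicalComplexAbelian
import Mathlib.Algebra.Homology.DerivedCategory.ShortExact

/-!
The Mayer-Vietoris triangle of extensions by zero.
-/

set_option autoImplicit false
set_option backward.isDefEq.respectTransparency false
set_option backward.isDefEq.respectTransparency.types false

universe u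

open CategoryTheory CategoryTheory.Limits AlgebraicGeometry

attribute [local instance] HasDerivedCategory.standard

namespace Groth.L10.MVExt

open Groth.L00 Groth.L29.DC

variable {X : Scheme.{u}}

/-- restrict, then extend by zero -/
noncomputable abbrev G (W : X.Opens) : X.Modules ⥤ X.Modules := ExtZero.res W.ι ⋙ CxOX.extZero W.ι

/-- the counit -/
noncomputable abbrev ε (W : X.Opens) (M : X.Modules) : (G W).obj M ⟶ M :=
  (CxOX.extZeroAdj W.ι).counit.app M

theorem mem_range (W : X.Opens) (x : X) : x ∈ Set.range W.ι.base ↔ x ∈ W :=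
  ⟨fun h => by obtain ⟨y, rfl⟩ := h; exact y.2, fun h => ⟨⟨x, h⟩, rfl⟩⟩

theorem isZero_stalk_G {W : X.Opens} {x : X} (hx : x ∉ W) (M : X.Modules) :
    IsZero ((Stk.F X x).obj ((G W).obj M)) :=
  ExtZero.isZero_stalk W.ι (fun h => hx ((mem_range W x).1 h)) _

instance isIso_res_ε (W : X.Opens) (M : X.Modules) : IsIso ((ExtZero.res W.ι).map (ε W M)) := by
  have h := (CxOX.extZeroAdj W.ι).right_triangle_components M
  haveI : IsIso ((CxOX.extZeroAdj W.ι).unit.app ((ExtZero.res W.ι).obj M) ≫ (ExtZero.res W.ι).map (ε W M)) := by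
    change IsIso ((CxOX.extZeroAdj W.ι).unit.app _ ≫ _)
    exact h ▸ inferInstance
  exact IsIso.of_isIso_comp_left ((CxOX.extZeroAdj W.ι).unit.app _) _

/-- stalks at points of `W` vanish when the restriction vanishes -/
theorem isZero_stalk_of {W : X.Opens} {x : X} (hx : x ∈ W) {M : X.Modules}
    (h : IsZero ((ExtZero.res W.ι).obj M)) : IsZero ((Stk.F X x).obj M) := by
  obtain ⟨y, rfl⟩ := (mem_range W x).2 hx
  have h1 := (Stk.F _ y).map_isZero (h.of_iso ((Scheme.Modules.restrictFunctorIsoPullback W.ι).app M).symm)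
  have h2 : IsZero ((ModuleCat.extendScalars (PullStalk.φ W.ι y)).obj ((Stk.F X (W.ι y)).obj M)) :=
    h1.of_iso ((PullStalk.stalkIso W.ι y).app M).symm
  letI := (PullStalk.φ W.ι y).toAlgebra
  have hs : Subsingleton (TensorProduct (X.presheaf.stalk (W.ι y)) ((W : Scheme.{u}).presheaf.stalk y)
      ((Stk.F X (W.ι y)).obj M)) :=
    ModuleCat.subsingleton_of_isZero h2
  haveI : Subsingleton ((Stk.F X (W.ι y)).obj M) :=
    (Equiv.subsingleton_congr ((TensorProduct.lid (X.presheaf.stalk (W.ι y)) ((Stk.F X (W.ι y)).obj M)).symm.trans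
      (TensorProduct.congr (LinearEquiv.ofBijective (Algebra.linearMap (X.presheaf.stalk (W.ι y))
          ((W : Scheme.{u}).presheaf.stalk y))
        (ConcreteCategory.bijective_of_isIso (W.ι.stalkMap y))) (LinearEquiv.refl _ _))).toEquiv).2 hs
  exact ModuleCat.isZero_of_subsingleton _

instance mono_ε (W : X.Opens) (M : X.Modules) : Mono (ε W M) :=
  Preadditive.mono_of_isZero_kernel _ <| ExtZero.isZero_of W.ι _
    ((isZero_kernel_of_mono ((ExtZero.res W.ι).map (ε W M))).of_iso (PreservesKernel.iso (ExtZero.res W.ι) _))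
    fun x hx => (ExtZero.isZero_stalk W.ι hx _).of_mono ((Stk.F X x).map (kernel.ι (ε W M)))

theorem ε_π {W' W : X.Opens} (h : W' ≤ W) (M : X.Modules) : ε W' M ≫ cokernel.π (ε W M) = 0 := by
  apply ((CxOX.extZeroAdj W'.ι).homEquiv _ _).injective
  refine IsZero.eq_of_tgt ?_ _ _
  refine (Stk.isZero_iff _).2 fun y => ?_
  have hC : IsZero ((Stk.F X (W'.ι y)).obj (cokernel (ε W M))) :=
    isZero_stalk_of (h y.2)
      ((isZero_cokernel_of_epi ((ExtZero.res W.ι).map (ε W M))).of_iso (PreservesCokernel.iso (ExtZero.res W.ι) _))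
  exact (((ModuleCat.extendScalars (PullStalk.φ W'.ι y)).map_isZero hC).of_iso
    ((PullStalk.stalkIso W'.ι y).app _)).of_iso
    ((Stk.F _ y).mapIso ((Scheme.Modules.restrictFunctorIsoPullback W'.ι).app _))

/-- the inclusion for `W' ≤ W` -/
noncomputable def incl {W' W : X.Opens} (h : W' ≤ W) : G W' ⟶ G W where
  app M := Abelian.monoLift (ε W M) (ε W' M) (ε_π h M)
  naturality A B f := by
    rw [← cancel_mono (ε W B)]
    have h1 : (G W').map f ≫ ε W' B = ε W' A ≫ f := (CxOX.extZeroAdj W'.ι).counit.naturality f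
    have h2 : (G W).map f ≫ ε W B = ε W A ≫ f := (CxOX.extZeroAdj W.ι).counit.naturality f
    rw [Category.assoc, Category.assoc, Abelian.monoLift_comp, h1, h2, Abelian.monoLift_comp_assoc]

@[reassoc]
theorem incl_ε {W' W : X.Opens} (h : W' ≤ W) (M : X.Modules) : (incl h).app M ≫ ε W M = ε W' M :=
  Abelian.monoLift_comp _ _ _

variable (U V : X.Opens)

theorem isPullback (M : X.Modules) :
    IsPullback ((incl (inf_le_left : U ⊓ V ≤ U)).app M) ((incl (inf_le_right : U ⊓ V ≤ V)).app M)
      (ε U M) (ε V M) := by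
  let i := pullback.lift ((incl (inf_le_left : U ⊓ V ≤ U)).app M) ((incl (inf_le_right : U ⊓ V ≤ V)).app M)
    ((incl_ε _ M).trans (incl_ε _ M).symm)
  have hi : i ≫ pullback.fst (ε U M) (ε V M) ≫ ε U M = ε (U ⊓ V) M := by
    rw [pullback.lift_fst_assoc, incl_ε]
  haveI : Mono (pullback.fst (ε U M) (ε V M) ≫ ε U M) := mono_comp _ _
  haveI : IsIso ((ExtZero.res (U ⊓ V).ι).map i) := by
    let a := (ExtZero.res (U ⊓ V).ι).map (pullback.fst (ε U M) (ε V M) ≫ ε U M)
    have h : (ExtZero.res (U ⊓ V).ι).map i ≫ a = (ExtZero.res (U ⊓ V).ι).map (ε (U ⊓ V) M) := by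
      rw [← Functor.map_comp, hi]
    haveI : Mono a := Functor.map_mono (ExtZero.res (U ⊓ V).ι) _
    haveI : IsIso ((ExtZero.res (U ⊓ V).ι).map i ≫ a) := h ▸ inferInstance
    haveI : Epi a := epi_of_epi ((ExtZero.res (U ⊓ V).ι).map i) a
    haveI : IsIso a := isIso_of_mono_of_epi _
    exact IsIso.of_isIso_comp_right _ a
  have hx : ∀ x : X, x ∉ Set.range (U ⊓ V).ι.base → IsZero ((Stk.F X x).obj (pullback (ε U M) (ε V M))) := by
    intro x hx
    by_cases hU : x ∈ U
    · exact (isZero_stalk_G (fun hV => hx ((mem_range _ x).2 ⟨hU, hV⟩)) M).of_mono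
        ((Stk.F X x).map (pullback.snd (ε U M) (ε V M)))
    · exact (isZero_stalk_G hU M).of_mono ((Stk.F X x).map (pullback.fst (ε U M) (ε V M)))
  haveI : IsIso i := ExtZero.isIso_of (U ⊓ V).ι i (fun x hx' => ExtZero.isZero_stalk _ hx' _) hx
  exact (IsPullback.of_hasPullback (ε U M) (ε V M)).of_iso (asIso i).symm (Iso.refl _) (Iso.refl _) (Iso.refl _)
    (by simp [i]) (by simp [i]) (by simp) (by simp)

theorem epi_desc (hUV : U ⊔ V = ⊤) (M : X.Modules) : Epi (biprod.desc (ε U M) (-ε V M)) := by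
  refine Preadditive.epi_of_isZero_cokernel _ ?_
  let p := cokernel.π (biprod.desc (ε U M) (-ε V M))
  have hU : ε U M ≫ p = 0 :=
    ((biprod.inl_desc_assoc (ε U M) (-ε V M) p).symm).trans (by simp [p, cokernel.condition])
  have hV : ε V M ≫ p = 0 := by
    have h : (-ε V M) ≫ p = 0 :=
      ((biprod.inr_desc_assoc (ε U M) (-ε V M) p).symm).trans (by simp [p, cokernel.condition])
    simpa using h
  have key : ∀ W : X.Opens, ε W M ≫ p = 0 →
      IsZero ((ExtZero.res W.ι).obj (cokernel (biprod.desc (ε U M) (-ε V M)))) := by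
    intro W hW
    haveI : Epi ((ExtZero.res W.ι).map p) := Functor.map_epi (ExtZero.res W.ι) p
    refine IsZero.of_epi_eq_zero ((ExtZero.res W.ι).map p) ?_
    rw [← cancel_epi ((ExtZero.res W.ι).map (ε W M)), ← Functor.map_comp, hW, Functor.map_zero, comp_zero]
  refine (Stk.isZero_iff _).2 fun x => ?_
  rcases (show x ∈ U ∨ x ∈ V by simpa using (hUV.symm ▸ trivial : x ∈ U ⊔ V)) with h | h
  exacts [isZero_stalk_of h (key U hU), isZero_stalk_of h (key V hV)]

/-- complexes: restrict, then extend by zero -/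
noncomputable abbrev GC (W : X.Opens) (K : CochainComplex X.Modules ℤ) : CochainComplex X.Modules ℤ :=
  ((CxOX.extZero W.ι).mapHomologicalComplex _).obj (((ExtZero.res W.ι).mapHomologicalComplex _).obj K)

/-- the counit on complexes -/
noncomputable def εC (W : X.Opens) (K : CochainComplex X.Modules ℤ) : GC W K ⟶ K where
  f i := ε W (K.X i)
  comm' i j _ := ((CxOX.extZeroAdj W.ι).counit.naturality (K.d i j)).symm

/-- the inclusion on complexes -/
noncomputable def inclC {W' W : X.Opens} (h : W' ≤ W) (K : CochainComplex X.Modules ℤ) : GC W' K ⟶ GC W K where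
  f i := (incl h).app (K.X i)
  comm' i j _ := ((incl h).naturality (K.d i j)).symm

theorem lift_f {A B C : CochainComplex X.Modules ℤ} (α : A ⟶ B) (β : A ⟶ C) (i : ℤ) :
    (biprod.lift α β).f i ≫ (HomologicalComplex.biprodXIso B C i).hom = biprod.lift (α.f i) (β.f i) := by
  apply biprod.hom_ext <;> simp

theorem desc_f {A B C : CochainComplex X.Modules ℤ} (α : B ⟶ A) (β : C ⟶ A) (i : ℤ) :
    (HomologicalComplex.biprodXIso B C i).inv ≫ (biprod.desc α β).f i = biprod.desc (α.f i) (β.f i) := by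
  apply biprod.hom_ext' <;> simp

/-- the Mayer-Vietoris short complex -/
noncomputable def sc (K : CochainComplex X.Modules ℤ) : ShortComplex (CochainComplex X.Modules ℤ) :=
  ShortComplex.mk (biprod.lift (inclC (inf_le_left : U ⊓ V ≤ U) K) (inclC (inf_le_right : U ⊓ V ≤ V) K))
    (biprod.desc (εC U K) (-εC V K)) (by
      rw [biprod.lift_desc]
      ext i
      simp [εC, inclC, incl_ε])

theorem shortExact (hUV : U ⊔ V = ⊤) (K : CochainComplex X.Modules ℤ) : (sc U V K).ShortExact := by
  refine HomologicalComplex.shortExact_of_degreewise_shortExact _ fun i => ?_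
  have h := isPullback U V (K.X i)
  haveI := h.mono_shortComplex'_f
  haveI : Epi h.shortComplex'.g := epi_desc U V hUV (K.X i)
  refine ShortComplex.shortExact_of_iso ?_ (ShortComplex.ShortExact.mk h.exact_shortComplex')
  refine ShortComplex.isoMk (Iso.refl _) (HomologicalComplex.biprodXIso (GC U K) (GC V K) i).symm (Iso.refl _) ?_ ?_
  · refine (Category.id_comp _).trans ?_
    exact ((Iso.eq_comp_inv _).2 (lift_f (inclC (inf_le_left : U ⊓ V ≤ U) K) (inclC (inf_le_right : U ⊓ V ≤ V) K) i))
  · exact (desc_f (εC U K) (-εC V K) i).trans (Category.comp_id _).symm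

/-- extension by zero of the restriction, computed on a complex -/
noncomputable def GD (W : X.Opens) [PreservesFiniteLimits (CxOX.extZero W.ι)] (K : CochainComplex X.Modules ℤ) :
    (CxOX.extZeroD W.ι).obj ((DCoh.restrictD W.ι).obj (DerivedCategory.Q.obj K)) ≅
      DerivedCategory.Q.obj (GC W K) :=
  (CxOX.extZeroD W.ι).mapIso ((ExtZero.res W.ι).mapDerivedCategoryFactors.app K) ≪≫
    (CxOX.extZero W.ι).mapDerivedCategoryFactors.app _

end Groth.L10.MVExt
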