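import Groth.Prelude.Def_CohTop
import Groth.Agent.L04.SupportSh.ClosedEmbedding
import Groth.Agent.L10.SheafModGroth
import Groth.Agent.L10.InjTAR
import Mathlib.Algebra.Category.ModuleCat.Sheaf.PushforwardContinuous
import Mathlib.Algebra.Category.ModuleCat.Sheaf.Abelian
import Mathlib.Algebra.Category.ModuleCat.Sheaf.Limits
import Mathlib.Algebra.Category.ModuleCat.Sheaf.Colimits
import Mathlib.Topology.Sheaves.SheafCondition.UniqueGluing
import Mathlib.CategoryTheory.Sites.EpiMono

/-! Direct image of sheaves of modules along a closed embedding of ringed spaces. -/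

universe u

open CategoryTheory CategoryTheory.Limits Opposite TopologicalSpace

set_option autoImplicit false
set_option backward.defeqAttrib.useBackward true
set_option backward.isDefEq.respectTransparency false
set_option backward.isDefEq.respectTransparency.types false

namespace Groth.L10.ModClosedPush

variable {Z X : TopCat.{u}} {i : Z ⟶ X}
  {RZ : Sheaf (Opens.grothendieckTopology Z) RingCat.{u}} {RX : Sheaf (Opens.grothendieckTopology X) RingCat.{u}}
  (φ : RX ⟶ ((Opens.map i).sheafPushforwardContinuous RingCat.{u}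
    (Opens.grothendieckTopology X) (Opens.grothendieckTopology Z)).obj RZ)

/-- The comorphism on sections. -/
noncomputable abbrev σ (U : Opens X) : RX.obj.obj (op U) →+* RZ.obj.obj (op ((Opens.map i).obj U)) :=
  (φ.hom.app (op U)).hom

/-- The direct image. -/
noncomputable abbrev push : SheafOfModules.{u} RZ ⥤ SheafOfModules.{u} RX := SheafOfModules.pushforward.{u} φ

variable {T : TopCat.{u}} {R : Sheaf (Opens.grothendieckTopology T) RingCat.{u}}

/-- Restriction of sections of a module. -/
noncomputable abbrev rs (G : SheafOfModules.{u} R) {U V : Opens T} (h : V ≤ U) (s : G.val.obj (op U)) :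
    G.val.obj (op V) :=
  G.val.presheaf.map (homOfLE h).op s

/-- Restriction of functions. -/
noncomputable abbrev rr {U V : Opens T} (h : V ≤ U) (a : R.obj.obj (op U)) : R.obj.obj (op V) :=
  R.obj.map (homOfLE h).op a

theorem rs_smul (G : SheafOfModules.{u} R) {U V : Opens T} (h : V ≤ U) (a : R.obj.obj (op U))
    (s : G.val.obj (op U)) : rs G h (a • s) = rr h a • rs G h s :=
  G.val.map_smul _ _ _

theorem rs_rs (G : SheafOfModules.{u} R) {U V W : Opens T} (h : V ≤ U) (h' : W ≤ V) (s : G.val.obj (op U)) :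
    rs G h' (rs G h s) = rs G (h'.trans h) s :=
  (ConcreteCategory.congr_hom (G.val.presheaf.map_comp (homOfLE h).op (homOfLE h').op) s).symm

theorem rs_refl (G : SheafOfModules.{u} R) {U : Opens T} (h : U ≤ U) (s : G.val.obj (op U)) : rs G h s = s :=
  ConcreteCategory.congr_hom (G.val.presheaf.map_id (op U)) s

theorem rr_rr {U V W : Opens T} (h : V ≤ U) (h' : W ≤ V) (a : R.obj.obj (op U)) :
    rr h' (rr h a) = rr (h'.trans h) a :=
  (ConcreteCategory.congr_hom (R.obj.map_comp (homOfLE h).op (homOfLE h').op) a).symm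

theorem ext_of_cover (G : SheafOfModules.{u} R) {U : Opens T} {ι : Type u} (W : ι → Opens T) (hW : ∀ k, W k ≤ U)
    (hc : ∀ x ∈ U, ∃ k, x ∈ W k) (s t : G.val.obj (op U)) (h : ∀ k, rs G (hW k) s = rs G (hW k) t) : s = t :=
  TopCat.Sheaf.eq_of_locally_eq' (⟨G.val.presheaf, G.isSheaf⟩ : TopCat.Sheaf AddCommGrpCat.{u} T) W U
    (fun k => homOfLE (hW k)) (fun x hx => Opens.mem_iSup.2 (hc x hx)) s t h

omit T R in
theorem σ_res {U U' : Opens X} (h : U' ≤ U) (b : RX.obj.obj (op U)) :
    σ φ U' (rr h b) = rr ((Opens.map i).monotone h) (σ φ U b) :=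
  ConcreteCategory.congr_hom (φ.hom.naturality (homOfLE h).op) b

variable (hi : Topology.IsClosedEmbedding i)
  (hloc : ∀ (U : Opens X) (a : RZ.obj.obj (op ((Opens.map i).obj U))), ∀ x ∈ U, ∃ (W : Opens X) (h : W ≤ U),
    x ∈ W ∧ ∃ b : RX.obj.obj (op W), σ φ W b = rr ((Opens.map i).monotone h) a)

omit T R in
include hi in
theorem preservesFiniteColimits_push : PreservesFiniteColimits (push φ) := by
  have hZ : PreservesFiniteColimits (SheafOfModules.toSheaf.{u} RZ) := by infer_instance
  have hX : PreservesFiniteColimits (SheafOfModules.toSheaf.{u} RX) := by infer_instance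
  have := (Groth.L04.ClosedEmbedding.main hi).1
  have : PreservesFiniteColimits (push φ ⋙ SheafOfModules.toSheaf.{u} RX) :=
    inferInstanceAs (PreservesFiniteColimits (SheafOfModules.toSheaf.{u} RZ ⋙ CohTop.push i))
  exact ⟨fun J _ _ => by
    have : ReflectsColimitsOfShape J (SheafOfModules.toSheaf.{u} RX) :=
      reflectsColimitsOfShape_of_reflectsIsomorphisms
    exact preservesColimitsOfShape_of_reflects_of_preserves (push φ) (SheafOfModules.toSheaf.{u} RX)⟩

omit T R in
include hi in
theorem faithful_push : (push φ).Faithful := by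
  have := (Groth.L04.ClosedEmbedding.main hi).2.2.1
  exact ⟨fun {M N f g} h => (SheafOfModules.toSheaf RZ).map_injective ((CohTop.push i).map_injective
    (congrArg (SheafOfModules.toSheaf RX).map h))⟩

omit T R in
include hi in
theorem exists_preimage_le {V : Opens Z} {z : Z} (hz : z ∈ V) :
    ∃ U : Opens X, i z ∈ U ∧ (Opens.map i).obj U = V := by
  obtain ⟨U, hU, e⟩ := hi.isInducing.isOpen_iff.1 V.isOpen
  have he : (Opens.map i).obj ⟨U, hU⟩ = V := Opens.ext e
  exact ⟨⟨U, hU⟩, (show z ∈ (Opens.map i).obj ⟨U, hU⟩ by rw [he]; exact hz), he⟩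

omit T R in
include hi hloc in
theorem full_push : (push φ).Full := by
  have := (Groth.L04.ClosedEmbedding.main hi).2.1
  refine ⟨fun {M N} ψ => ?_⟩
  let ψ' : (CohTop.push i).obj ((SheafOfModules.toSheaf RZ).obj M) ⟶
      (CohTop.push i).obj ((SheafOfModules.toSheaf RZ).obj N) := (SheafOfModules.toSheaf RX).map ψ
  let χ : (SheafOfModules.toSheaf RZ).obj M ⟶ (SheafOfModules.toSheaf RZ).obj N :=
    (CohTop.push i).preimage ψ'
  let χ' : M.val.presheaf ⟶ N.val.presheaf := χ.hom
  have hχ : ∀ (U : Opens X) (s : M.val.obj (op ((Opens.map i).obj U))),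
      χ'.app (op ((Opens.map i).obj U)) s = ψ.val.app (op U) s := fun U s =>
    ConcreteCategory.congr_hom (NatTrans.congr_app (congrArg (fun k => k.hom)
      ((CohTop.push i).map_preimage ψ')) (op U)) s
  have hlin : ∀ (V : (Opens Z)ᵒᵖ) (a : RZ.obj.obj V) (s : M.val.obj V),
      (show N.val.obj V from χ'.app V (a • s)) = a • (show N.val.obj V from χ'.app V s) := by
    intro V a s
    obtain ⟨V, rfl⟩ : ∃ V', V = op V' := ⟨V.unop, rfl⟩
    have hW : ∀ z : V, ∃ W : Opens X, i z.1 ∈ W ∧ ∃ hWV : (Opens.map i).obj W ≤ V,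
        ∃ b : RX.obj.obj (op W), σ φ W b = rr hWV a := by
      rintro ⟨z, hz⟩
      obtain ⟨U, hzU, hU⟩ := exists_preimage_le hi hz
      obtain ⟨W, h, hzW, b, hb⟩ := hloc U (rr hU.le a) (i z) hzU
      exact ⟨W, hzW, ((Opens.map i).monotone h).trans hU.le, b, hb.trans (rr_rr _ _ _)⟩
    choose W hzW hWV b hb using hW
    refine ext_of_cover N (fun z : V => (Opens.map i).obj (W z)) hWV (fun z hz => ⟨⟨z, hz⟩, hzW ⟨z, hz⟩⟩) _ _ fun z => ?_
    have hn : ∀ x : M.val.obj (op V), rs N (hWV z) (χ'.app (op V) x) =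
        χ'.app (op ((Opens.map i).obj (W z))) (rs M (hWV z) x) := fun x =>
      (ConcreteCategory.congr_hom (χ.hom.naturality (homOfLE (hWV z)).op) x).symm
    rw [hn, rs_smul, rs_smul, hn, hχ, hχ, ← hb]
    exact LinearMap.map_smul (ψ.val.app (op (W z))).hom (b z) (rs M (hWV z) s)
  refine ⟨⟨PresheafOfModules.homMk χ' hlin⟩, ?_⟩
  refine (SheafOfModules.toSheaf RX).map_injective ?_
  exact (CohTop.push i).map_preimage ψ'

omit T R in
theorem essImage_kills {G : SheafOfModules.{u} RX} (hG : (push φ).essImage G) (U : Opens X)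
    (a : RX.obj.obj (op U)) (ha : σ φ U a = 0) (s : G.val.obj (op U)) : a • s = 0 := by
  obtain ⟨M, ⟨e⟩⟩ := hG
  have hs : e.hom.val.app (op U) (e.inv.val.app (op U) s) = s :=
    ConcreteCategory.congr_hom (congrArg (fun k : G ⟶ G => k.val.app (op U)) e.inv_hom_id) s
  rw [← hs]
  refine (LinearMap.map_smul (e.hom.val.app (op U)).hom a _).symm.trans ?_
  refine (congrArg (e.hom.val.app (op U)) ?_).trans (map_zero _)
  change σ φ U a • (show M.val.obj (op ((Opens.map i).obj U)) from e.inv.val.app (op U) s) = 0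
  rw [ha, zero_smul]

/-- The largest open of `X` with given trace on `Z`. -/
def big (hi : Topology.IsClosedEmbedding i) (V : Opens Z) : Opens X :=
  ⟨(i '' (V : Set Z)ᶜ)ᶜ, (hi.isClosedMap _ V.isOpen.isClosed_compl).isOpen_compl⟩

omit T R in
theorem map_big (V : Opens Z) : (Opens.map i).obj (big hi V) = V := by
  ext z
  change i z ∈ (i '' (V : Set Z)ᶜ)ᶜ ↔ z ∈ V
  rw [Set.mem_compl_iff, hi.injective.mem_set_image, Set.mem_compl_iff, not_not]
  rfl

omit T R in
theorem le_big (U : Opens X) : U ≤ big hi ((Opens.map i).obj U) := fun x hx => by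
  rintro ⟨z, hz, rfl⟩
  exact hz hx

omit T R in
theorem big_mono {V V' : Opens Z} (h : V' ≤ V) : big hi V' ≤ big hi V := fun x hx => by
  rintro ⟨z, hz, rfl⟩
  exact hx ⟨z, fun hz' => hz (h hz'), rfl⟩

section Ess

variable {G : SheafOfModules.{u} RX}
  (hk : ∀ (U : Opens X) (a : RX.obj.obj (op U)), σ φ U a = 0 → ∀ s : G.val.obj (op U), a • s = 0)

omit T R in
theorem subsingleton_RZ {V : Opens Z} (h : V ≤ ⊥) : Subsingleton (RZ.obj.obj (op V)) := by
  obtain rfl : V = ⊥ := le_bot_iff.1 h
  exact subsingleton_of_forall_eq 0 fun a =>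
    TopCat.Sheaf.eq_of_locally_eq' (RZ : TopCat.Sheaf RingCat.{u} Z) (fun k : PEmpty.{u+1} => k.elim) ⊥
      (fun k => k.elim) (fun x hx => False.elim hx) a 0 (fun k => k.elim)

omit T R in
include hk in
theorem subsingleton_sections {U : Opens X} (h : (Opens.map i).obj U ≤ ⊥) : Subsingleton (G.val.obj (op U)) := by
  refine subsingleton_of_forall_eq 0 fun s => ?_
  have := subsingleton_RZ (RZ := RZ) h
  rw [← one_smul (RX.obj.obj (op U)) s]
  exact hk U 1 (Subsingleton.elim _ _) s

omit T R in
include hi hk in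
theorem exists_push_iso : ∃ M₀ : CohTop.Ab Z, Nonempty ((CohTop.push i).obj M₀ ≅ (SheafOfModules.toSheaf RX).obj G) := by
  refine ((Groth.L04.ClosedEmbedding.main hi).2.2.2.1 _).2 fun x hx => ?_
  let P : TopCat.Presheaf AddCommGrpCat.{u} X := ((SheafOfModules.toSheaf RX).obj G).obj
  have : Subsingleton (P.stalk x) := by
    refine subsingleton_of_forall_eq 0 fun t => ?_
    obtain ⟨U, hxU, s, rfl⟩ := TopCat.Presheaf.exists_germ_eq P (x := x) t
    let W : Opens X := U ⊓ ⟨(Set.range i)ᶜ, hi.isClosed_range.isOpen_compl⟩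
    have := subsingleton_sections φ hk (U := W) (fun z hz => hz.2 ⟨z, rfl⟩)
    have h0 : P.map (homOfLE (inf_le_left : W ≤ U)).op s = 0 := @Subsingleton.elim (G.val.obj (op W)) this _ _
    have h1 := P.germ_res_apply (homOfLE (inf_le_left : W ≤ U)) x ⟨hxU, hx⟩ s
    rw [← h1, h0, map_zero]
  exact AddCommGrpCat.isZero_of_subsingleton _

omit T R in
include hi hk in
theorem bijective_res {U U' : Opens X} (h : U ≤ U') (e : (Opens.map i).obj U' ≤ (Opens.map i).obj U) :
    Function.Bijective (fun s : G.val.obj (op U') => rs G h s) := by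
  obtain ⟨M₀, ⟨η⟩⟩ := exists_push_iso φ hi hk
  have hA : IsIso (homOfLE ((Opens.map i).monotone h)) := ⟨homOfLE e, rfl, rfl⟩
  have h1 : IsIso (((CohTop.push i).obj M₀).obj.map (homOfLE h).op) := by
    have : IsIso (M₀.obj.map (homOfLE ((Opens.map i).monotone h)).op) := inferInstance
    exact this
  have h2 : IsIso (((SheafOfModules.toSheaf RX).obj G).obj.map (homOfLE h).op) := by
    have hn := ((sheafToPresheaf _ _).mapIso η).hom.naturality (homOfLE h).op
    rw [← IsIso.inv_comp_eq] at hn
    have : IsIso (((sheafToPresheaf _ _).mapIso η).hom.app (op U')) := inferInstance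
    rw [show ((SheafOfModules.toSheaf RX).obj G).obj.map (homOfLE h).op =
      inv (((sheafToPresheaf _ _).mapIso η).hom.app (op U')) ≫ ((CohTop.push i).obj M₀).obj.map (homOfLE h).op ≫
        ((sheafToPresheaf _ _).mapIso η).hom.app (op U) by
      rw [IsIso.eq_inv_comp]
      exact (((sheafToPresheaf _ _).mapIso η).hom.naturality (homOfLE h).op).symm]
    infer_instance
  exact ConcreteCategory.bijective_of_isIso (((SheafOfModules.toSheaf RX).obj G).obj.map (homOfLE h).op)

omit T R in
include hloc hk in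
theorem existsUnique_act (V : Opens Z) (a : RZ.obj.obj (op V)) (s : G.val.obj (op (big hi V))) :
    ∃! t : G.val.obj (op (big hi V)), ∀ (W : Opens X) (h : W ≤ big hi V) (b : RX.obj.obj (op W)),
      σ φ W b = rr (((Opens.map i).monotone h).trans (map_big hi V).le) a → rs G h t = b • rs G h s := by
  have hW : ∀ x : big hi V, ∃ (W : Opens X) (h : W ≤ big hi V), x.1 ∈ W ∧
      ∃ b : RX.obj.obj (op W), σ φ W b = rr (((Opens.map i).monotone h).trans (map_big hi V).le) a := by
    intro x
    obtain ⟨W, h, hx, b, hb⟩ := hloc _ (rr (map_big hi V).le a) x.1 x.2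
    exact ⟨W, h, hx, b, hb.trans (rr_rr _ _ _)⟩
  choose W hle hmem b hb using hW
  let c : ∀ x, G.val.obj (op (W x)) := fun x => b x • rs G (hle x) s
  have key : ∀ (x : big hi V) (W' : Opens X) (h' : W' ≤ big hi V) (b' : RX.obj.obj (op W')),
      σ φ W' b' = rr (((Opens.map i).monotone h').trans (map_big hi V).le) a →
      rs G (inf_le_left : W x ⊓ W' ≤ W x) (c x) = rs G (inf_le_right : W x ⊓ W' ≤ W') (b' • rs G h' s) := by
    intro x W' h' b' hb'
    simp only [c]
    rw [rs_smul, rs_smul, rs_rs, rs_rs, ← sub_eq_zero, ← sub_smul]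
    refine hk _ _ ?_ _
    rw [map_sub, σ_res, σ_res, hb, hb', rr_rr, rr_rr, sub_self]
  obtain ⟨t, ht, -⟩ := TopCat.Sheaf.existsUnique_gluing' (⟨G.val.presheaf, G.isSheaf⟩ : TopCat.Sheaf AddCommGrpCat.{u} X)
    W (big hi V) (fun x => homOfLE (hle x)) (fun x hx => Opens.mem_iSup.2 ⟨⟨x, hx⟩, hmem ⟨x, hx⟩⟩) c
    (fun x y => key x (W y) (hle y) (b y) (hb y))
  refine ⟨t, fun W' h' b' hb' => ?_, fun t' ht' => ?_⟩
  · refine ext_of_cover G (fun x : big hi V => W x ⊓ W') (fun x => inf_le_right)
      (fun y hy => ⟨⟨y, h' hy⟩, hmem ⟨y, h' hy⟩, hy⟩) _ _ fun x => ?_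
    rw [← key x W' h' b' hb', rs_rs, ← ht x]
    exact (rs_rs G (hle x) inf_le_left t).symm
  · refine ext_of_cover G W hle (fun y hy => ⟨⟨y, hy⟩, hmem ⟨y, hy⟩⟩) _ _ fun x => ?_
    rw [ht' _ (hle x) (b x) (hb x)]
    exact (ht x).symm

/-- The action of functions on `Z`. -/
noncomputable def act (V : Opens Z) (a : RZ.obj.obj (op V)) (s : G.val.obj (op (big hi V))) :
    G.val.obj (op (big hi V)) :=
  (existsUnique_act φ hi hloc hk V a s).exists.choose

omit T R in
theorem act_spec (V : Opens Z) (a : RZ.obj.obj (op V)) (s : G.val.obj (op (big hi V))) (W : Opens X)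
    (h : W ≤ big hi V) (b : RX.obj.obj (op W))
    (hb : σ φ W b = rr (((Opens.map i).monotone h).trans (map_big hi V).le) a) :
    rs G h (act φ hi hloc hk V a s) = b • rs G h s :=
  (existsUnique_act φ hi hloc hk V a s).exists.choose_spec W h b hb

omit T R in
theorem act_eq (V : Opens Z) (a : RZ.obj.obj (op V)) (s t : G.val.obj (op (big hi V)))
    (ht : ∀ (W : Opens X) (h : W ≤ big hi V) (b : RX.obj.obj (op W)),
      σ φ W b = rr (((Opens.map i).monotone h).trans (map_big hi V).le) a → rs G h t = b • rs G h s) :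
    act φ hi hloc hk V a s = t :=
  (existsUnique_act φ hi hloc hk V a s).unique (act_spec φ hi hloc hk V a s) ht

omit T R in
include hi hloc in
theorem test (V : Opens Z) (a : RZ.obj.obj (op V)) (W : Opens X) (hW : W ≤ big hi V) (t t' : G.val.obj (op W))
    (h : ∀ (W' : Opens X) (h' : W' ≤ W) (b : RX.obj.obj (op W')),
      σ φ W' b = rr (((Opens.map i).monotone (h'.trans hW)).trans (map_big hi V).le) a → rs G h' t = rs G h' t') :
    t = t' := by
  have hc : ∀ x : W, ∃ (W' : Opens X) (h' : W' ≤ W), x.1 ∈ W' ∧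
      ∃ b : RX.obj.obj (op W'), σ φ W' b = rr (((Opens.map i).monotone (h'.trans hW)).trans (map_big hi V).le) a := by
    intro x
    obtain ⟨W', h', hx, b, hb⟩ := hloc _ (rr (((Opens.map i).monotone hW).trans (map_big hi V).le) a) x.1 x.2
    exact ⟨W', h', hx, b, hb.trans (rr_rr _ _ _)⟩
  choose W' hle hmem b hb using hc
  exact ext_of_cover G W' hle (fun y hy => ⟨⟨y, hy⟩, hmem ⟨y, hy⟩⟩) _ _ fun x => h _ (hle x) (b x) (hb x)

omit T R in
include hk in
theorem smul_congr (W : Opens X) (b b' : RX.obj.obj (op W)) (h : σ φ W b = σ φ W b') (x : G.val.obj (op W)) :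
    b • x = b' • x := by
  rw [← sub_eq_zero, ← sub_smul]
  exact hk W _ (by rw [map_sub, h, sub_self]) x

omit T R in
theorem act_one (V : Opens Z) (s : G.val.obj (op (big hi V))) : act φ hi hloc hk V 1 s = s :=
  act_eq φ hi hloc hk V 1 s s fun W h b hb => by
    rw [smul_congr φ hk W b 1 (by rw [hb, map_one]; exact (RZ.obj.map _).hom.map_one) (rs G h s), one_smul]

omit T R in
theorem act_zero_left (V : Opens Z) (s : G.val.obj (op (big hi V))) : act φ hi hloc hk V 0 s = 0 :=
  act_eq φ hi hloc hk V 0 s 0 fun W h b hb => by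
    rw [smul_congr φ hk W b 0 (by rw [hb, map_zero]; exact (RZ.obj.map _).hom.map_zero) (rs G h s), zero_smul]
    exact map_zero _

omit T R in
theorem act_zero (V : Opens Z) (a : RZ.obj.obj (op V)) : act φ hi hloc hk V a 0 = 0 :=
  act_eq φ hi hloc hk V a 0 0 fun W h b hb => by simp only [rs, map_zero, smul_zero]

omit T R in
theorem act_add (V : Opens Z) (a : RZ.obj.obj (op V)) (s s' : G.val.obj (op (big hi V))) :
    act φ hi hloc hk V a (s + s') = act φ hi hloc hk V a s + act φ hi hloc hk V a s' :=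
  act_eq φ hi hloc hk V a _ _ fun W h b hb => by
    simp only [rs, map_add, smul_add]
    exact congrArg₂ _ (act_spec φ hi hloc hk V a s W h b hb) (act_spec φ hi hloc hk V a s' W h b hb)

omit T R in
theorem act_add_left (V : Opens Z) (a a' : RZ.obj.obj (op V)) (s : G.val.obj (op (big hi V))) :
    act φ hi hloc hk V (a + a') s = act φ hi hloc hk V a s + act φ hi hloc hk V a' s :=
  act_eq φ hi hloc hk V (a + a') _ _ fun W h b hb => by
    refine test φ hi hloc V a W h _ _ fun W' h' b₁ hb₁ => ?_
    have hb₂ : σ φ W' (rr h' b - b₁) = rr (((Opens.map i).monotone (h'.trans h)).trans (map_big hi V).le) a' := by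
      rw [map_sub, σ_res, hb, hb₁, rr_rr]
      simp only [rr, map_add]
      exact add_sub_cancel_left _ _
    rw [rs_smul, rs_rs, rs_rs]
    change rs G (h'.trans h) (_ + _) = _
    simp only [rs, map_add]
    change rs G (h'.trans h) (act φ hi hloc hk V a s) + rs G (h'.trans h) (act φ hi hloc hk V a' s) = _
    rw [act_spec φ hi hloc hk V a s W' _ b₁ hb₁, act_spec φ hi hloc hk V a' s W' _ _ hb₂, ← add_smul,
      add_sub_cancel]

omit T R in
theorem act_mul (V : Opens Z) (a a' : RZ.obj.obj (op V)) (s : G.val.obj (op (big hi V))) :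
    act φ hi hloc hk V (a * a') s = act φ hi hloc hk V a (act φ hi hloc hk V a' s) :=
  act_eq φ hi hloc hk V (a * a') _ _ fun W h b hb => by
    refine test φ hi hloc V a W h _ _ fun W' h' b₁ hb₁ => ?_
    refine test φ hi hloc V a' W' (h'.trans h) _ _ fun W'' h'' b₂ hb₂ => ?_
    have e : σ φ W'' (rr h'' b₁ * b₂) = σ φ W'' (rr (h''.trans h') b) := by
      rw [map_mul, σ_res, σ_res, hb, hb₁, hb₂, rr_rr, rr_rr]
      exact (map_mul _ _ _).symm
    rw [rs_smul, rs_rs, rs_rs, rs_rs, act_spec φ hi hloc hk V a _ W'' _ (rr h'' b₁) (by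
        rw [σ_res, hb₁, rr_rr]), act_spec φ hi hloc hk V a' s W'' _ b₂ hb₂, ← mul_smul, rs_smul, rr_rr, rs_rs,
      smul_congr φ hk W'' _ _ e]

omit T R in
theorem act_res {V V' : Opens Z} (hV : V' ≤ V) (a : RZ.obj.obj (op V)) (s : G.val.obj (op (big hi V))) :
    rs G (big_mono hi hV) (act φ hi hloc hk V a s) = act φ hi hloc hk V' (rr hV a) (rs G (big_mono hi hV) s) :=
  (act_eq φ hi hloc hk V' _ _ _ fun W h b hb => by
    rw [rs_rs, rs_rs]
    exact act_spec φ hi hloc hk V a s W _ b (hb.trans (rr_rr _ _ _))).symm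

/-- The module on `Z`. -/
noncomputable def descend : SheafOfModules.{u} RZ :=
  letI M : (Opens Z)ᵒᵖ ⥤ AddCommGrpCat.{u} := (Monotone.functor (fun _ _ h => big_mono hi h)).op ⋙ G.val.presheaf
  letI (V : (Opens Z)ᵒᵖ) : Module (RZ.obj.obj V) (M.obj V) :=
    { smul := fun a s => act φ hi hloc hk V.unop a s
      one_smul := fun s => act_one φ hi hloc hk V.unop s
      mul_smul := fun a a' s => act_mul φ hi hloc hk V.unop a a' s
      smul_zero := fun a => act_zero φ hi hloc hk V.unop a
      smul_add := fun a s s' => act_add φ hi hloc hk V.unop a s s'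
      add_smul := fun a a' s => act_add_left φ hi hloc hk V.unop a a' s
      zero_smul := fun s => act_zero_left φ hi hloc hk V.unop s }
  { val := PresheafOfModules.ofPresheaf M fun {V V'} f a s => act_res φ hi hloc hk (leOfHom f.unop) a s
    isSheaf := by
      obtain ⟨M₀, ⟨η⟩⟩ := exists_push_iso φ hi hk
      let e : M ≅ M₀.obj := NatIso.ofComponents
        (fun V => (((sheafToPresheaf _ _).mapIso η).app (op (big hi V.unop))).symm ≪≫
          M₀.obj.mapIso (eqToIso (map_big hi V.unop).symm).op)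
        (fun {V V'} f => by
          have hn := ((sheafToPresheaf _ _).mapIso η).inv.naturality (homOfLE (big_mono hi (leOfHom f.unop))).op
          simp only [Iso.trans_hom, Iso.symm_hom, Iso.app_inv, Functor.mapIso_hom]
          erw [reassoc_of% hn]
          simp only [Category.assoc]
          congr 1
          change M₀.obj.map _ ≫ M₀.obj.map _ = M₀.obj.map _ ≫ M₀.obj.map _
          rw [← Functor.map_comp, ← Functor.map_comp]
          rfl)
      rw [PresheafOfModules.ofPresheaf_presheaf]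
      exact (Presheaf.isSheaf_of_iso_iff e).2 M₀.property }

omit T R in
include hi hloc hk in
theorem mem_essImage : (push φ).essImage G := by
  let D := descend φ hi hloc hk
  let r : ((push φ).obj D).val.presheaf ⟶ G.val.presheaf :=
    { app := fun U => G.val.presheaf.map (homOfLE (le_big hi U.unop)).op
      naturality := fun U U' f => by
        change G.val.presheaf.map _ ≫ G.val.presheaf.map _ = G.val.presheaf.map _ ≫ G.val.presheaf.map _
        rw [← Functor.map_comp, ← Functor.map_comp]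
        rfl }
  have hl : ∀ (U : (Opens X)ᵒᵖ) (b : RX.obj.obj U) (s : ((push φ).obj D).val.obj U),
      (show G.val.obj U from r.app U (b • s)) = b • (show G.val.obj U from r.app U s) := fun U b s =>
    act_spec φ hi hloc hk _ (σ φ U.unop b) s U.unop (le_big hi U.unop) b
      ((ConcreteCategory.congr_hom (RZ.obj.map_id _) _).symm)
  let m : (push φ).obj D ⟶ G := ⟨PresheafOfModules.homMk r hl⟩
  have h2 : ∀ U, IsIso (r.app U) := fun U => (ConcreteCategory.isIso_iff_bijective _).2
    (bijective_res φ hi hk (le_big hi U.unop) (map_big hi _).le)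
  have : IsIso ((SheafOfModules.toSheaf RX).map m) := by
    have hr : IsIso r := NatIso.isIso_of_isIso_app r
    have : IsIso ((sheafToPresheaf _ _).map ((SheafOfModules.toSheaf RX).map m)) := hr
    exact isIso_of_reflects_iso _ (sheafToPresheaf _ _)
  have : IsIso m := isIso_of_reflects_iso m (SheafOfModules.toSheaf RX)
  exact ⟨D, ⟨asIso m⟩⟩

end Ess

end Groth.L10.ModClosedPush
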