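import Groth.Agent.L10.Proper.PushStalk
import Mathlib.Algebra.Category.Grp.AB
import Mathlib.Algebra.Category.Grp.FilteredColimits

/-!
Cohomology of a subspace as the colimit of the cohomology of a cofinal filtered system of neighbourhoods.
-/

set_option autoImplicit false
set_option linter.style.haveILetI false
set_option backward.defeqAttrib.useBackward true
set_option backward.isDefEq.respectTransparency false
universe u

open CategoryTheory CategoryTheory.Limits Opposite TopologicalSpace

noncomputable section

namespace Groth.L10.NearCoh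

open Groth.L10.Proper

theorem isFiltered_fullSubcategory {X : TopCat.{u}} (P : ObjectProperty (Opens X)ᵒᵖ) (h : ∃ U, P (op U))
    (hP : ∀ U V, P (op U) → P (op V) → ∃ W, P (op W) ∧ W ≤ U ∧ W ≤ V) : IsFiltered P.FullSubcategory :=
  have : IsFilteredOrEmpty P.FullSubcategory :=
    { cocone_objs := fun A B => by
        obtain ⟨W, hW, hA, hB⟩ := hP A.obj.unop B.obj.unop A.property B.property
        exact ⟨⟨op W, hW⟩, ⟨(homOfLE hA).op⟩, ⟨(homOfLE hB).op⟩, trivial⟩
      cocone_maps := fun A B f g => ⟨B, 𝟙 B, P.hom_ext (Quiver.Hom.unop_inj (Subsingleton.elim _ _))⟩ }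
  have : Nonempty P.FullSubcategory := h.elim fun U hU => ⟨⟨op U, hU⟩⟩
  IsFiltered.mk

variable {X K : TopCat.{u}} {I : Type u} [SmallCategory I] (o : I ⥤ (Opens X)ᵒᵖ)

/-- The colimit of the values on the system. -/
abbrev colimAt : ((Opens X)ᵒᵖ ⥤ AddCommGrpCat.{u}) ⥤ AddCommGrpCat.{u} :=
  (Functor.whiskeringLeft _ _ AddCommGrpCat.{u}).obj o ⋙ colim

/-- Sections near the subspace. -/
abbrev secNear : CohTop.Ab X ⥤ AddCommGrpCat.{u} :=
  sheafToPresheaf (Opens.grothendieckTopology X) AddCommGrpCat.{u} ⋙ colimAt o

variable (j : K ⟶ X) (ho : ∀ i, (⊤ : Opens K) ≤ (Opens.map j).obj (o.obj i).unop)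

/-- The restriction to the subspace. -/
abbrev toSubLeg (G : CohTop.Ab X) (i : I) :
    G.obj.obj (o.obj i) ⟶ (secTop K).obj ((CohTop.pull j).obj G) :=
  ((TopCat.Sheaf.pullbackPushforwardAdjunction AddCommGrpCat.{u} j).unit.app G).hom.app (op (o.obj i).unop) ≫
    ((CohTop.pull j).obj G).obj.map (homOfLE (ho i)).op

/-- Restriction of sections near the subspace to the subspace. -/
def toSub (G : CohTop.Ab X) : (secNear o).obj G ⟶ (secTop K).obj ((CohTop.pull j).obj G) :=
  colimit.desc (o ⋙ G.obj)
    { pt := (secTop K).obj ((CohTop.pull j).obj G)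
      ι :=
        { app := toSubLeg o j ho G
          naturality := fun a b f => by
            refine Eq.trans ?_ (Category.comp_id _).symm
            refine AddCommGrpCat.hom_ext (AddMonoidHom.ext fun t => ?_)
            change rs ((CohTop.pull j).obj G) (ho b)
              (pl ((TopCat.Sheaf.pullbackPushforwardAdjunction AddCommGrpCat.{u} j).unit.app G) _
                (rs G (o.map f).unop.le t)) = rs _ _ (pl _ _ t)
            refine sect_ext _ _ _ fun k _ => ?_
            have hk : j k ∈ (o.obj b).unop := ho b (Opens.mem_top k)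
            refine (germ_rs _ _ _ _ _).trans (Eq.trans ?_ (germ_rs _ _ _ _ _).symm)
            refine (germ_pl _ _ k hk).symm.trans ((congrArg _ ?_).trans (germ_pl _ _ k _))
            exact germ_rs G (o.map f).unop.le (j k) hk t } }

theorem toSub_ι (G : CohTop.Ab X) (i : I) (t : G.obj.obj (o.obj i)) :
    toSub o j ho G (colimit.ι (o ⋙ G.obj) i t) =
      rs ((CohTop.pull j).obj G) (ho i)
        (pl ((TopCat.Sheaf.pullbackPushforwardAdjunction AddCommGrpCat.{u} j).unit.app G) _ t) :=
  ConcreteCategory.congr_hom (colimit.ι_desc (F := o ⋙ G.obj) _ i) t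

variable (hcof : ∀ O : Opens X, (∀ k, j k ∈ O) → ∃ i, (o.obj i).unop ≤ O)
  (hlift : ∀ (G : CohTop.Ab X) (w : Sect ((CohTop.pull j).obj G) ⊤),
    LiftsOn ((TopCat.Sheaf.pullbackPushforwardAdjunction AddCommGrpCat.{u} j).unit.app G) w Set.univ)

variable [IsFiltered I]

include hcof hlift in
theorem bijective_toSub (G : CohTop.Ab X) : Function.Bijective (toSub o j ho G) := by
  have hu := isPullUnit_unit j G
  refine ⟨(injective_iff_map_eq_zero _).2 fun z hz => ?_, fun w => ?_⟩
  · obtain ⟨i, t, rfl⟩ := Concrete.colimit_exists_rep (o ⋙ G.obj) z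
    rw [toSub_ι] at hz
    obtain ⟨O', hO', h0, hmem⟩ := exists_nhbd_eq_zero hu t
    obtain ⟨i', hi'⟩ := hcof O' fun k => hmem k (ho i (Opens.mem_top k)) (by
      have := congrArg (germ ((CohTop.pull j).obj G) k (Opens.mem_top k)) hz
      rwa [germ_rs, germ_zero] at this)
    let f := IsFiltered.leftToMax i i'
    refine (ConcreteCategory.congr_hom (colimit.w (o ⋙ G.obj) f) t).symm.trans ?_
    have h1 : (o ⋙ G.obj).map f t = 0 := by
      change G.obj.map (o.map f) t = 0
      have hle : (o.obj (IsFiltered.max i i')).unop ≤ O' := (o.map (IsFiltered.rightToMax i i')).unop.le.trans hi'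
      rw [show o.map f = (homOfLE hO').op ≫ (homOfLE hle).op from Quiver.Hom.unop_inj (Subsingleton.elim _ _),
        Functor.map_comp, ConcreteCategory.comp_apply]
      exact (congrArg (G.obj.map (homOfLE hle).op) h0).trans (map_zero _)
    rw [ConcreteCategory.comp_apply, h1, map_zero]
  · obtain ⟨O, t, h⟩ := hlift G w
    obtain ⟨i, hi⟩ := hcof O fun k => (h k trivial).1
    refine ⟨colimit.ι (o ⋙ G.obj) i (G.obj.map (homOfLE hi).op t), ?_⟩
    rw [toSub_ι]
    refine sect_ext _ _ _ fun k hk => ?_
    obtain ⟨hO, _, e⟩ := h k trivial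
    refine (germ_rs _ _ _ _ _).trans ?_
    have h1 := germ_pl ((TopCat.Sheaf.pullbackPushforwardAdjunction AddCommGrpCat.{u} j).unit.app G)
      (rs G hi t) k (ho i (Opens.mem_top k))
    have h2 := germ_pl ((TopCat.Sheaf.pullbackPushforwardAdjunction AddCommGrpCat.{u} j).unit.app G) t k hO
    refine Eq.trans h1.symm ?_
    refine (congrArg _ (germ_rs G hi (j k) (ho i (Opens.mem_top k)) t)).trans ?_
    exact h2.trans e

/-- Sections near the subspace are the sections on it. -/
def secNearIso : secNear o ≅ CohTop.pull j ⋙ secTop K :=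
  NatIso.ofComponents
    (fun G => @asIso _ _ _ _ (toSub o j ho G)
      ((ConcreteCategory.isIso_iff_bijective _).2 (bijective_toSub o j ho hcof hlift G)))
    (fun {G G'} φ => by
      refine colimit.hom_ext fun i => AddCommGrpCat.hom_ext (AddMonoidHom.ext fun t => ?_)
      change toSub o j ho G' ((secNear o).map φ (colimit.ι (o ⋙ G.obj) i t)) =
        ((CohTop.pull j).map φ).hom.app (op ⊤) (toSub o j ho G (colimit.ι (o ⋙ G.obj) i t))
      have e : (secNear o).map φ (colimit.ι (o ⋙ G.obj) i t) = colimit.ι (o ⋙ G'.obj) i (φ.hom.app (o.obj i) t) :=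
        ConcreteCategory.congr_hom (colimit.ι_map (Functor.whiskerLeft o φ.hom) i) t
      rw [e, toSub_ι, toSub_ι, ← rs_natural]
      refine congrArg (rs _ _) ?_
      exact congr(($((TopCat.Sheaf.pullbackPushforwardAdjunction AddCommGrpCat.{u} j).unit.naturality φ)).hom.app
        (o.obj i) t))

theorem preservesFiniteLimits_colimAt : PreservesFiniteLimits (colimAt o) := comp_preservesFiniteLimits _ _

theorem preservesFiniteColimits_colimAt : PreservesFiniteColimits (colimAt o) := comp_preservesFiniteColimits _ _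

variable (hacy : ∀ (Q : CohTop.Ab X), Injective Q → ∀ n : ℕ, Subsingleton (CohTop.H ((CohTop.pull j).obj Q) (n + 1)))

include ho hcof hlift hacy in
/-- Higher derived functors of sections near the subspace are its cohomology. -/
theorem nonempty_rightDerived_secNear (F : CohTop.Ab X) (p : ℕ) :
    haveI := preservesFiniteLimits_colimAt o
    haveI := preservesFiniteColimits_colimAt o
    haveI : (colimAt o).Additive := Functor.additive_of_preserves_binary_products _
    haveI : (secNear o).Additive := inferInstance
    Nonempty (((secNear o).rightDerived p).obj F ≅ AddCommGrpCat.of (CohTop.H ((CohTop.pull j).obj F) p)) := by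
  haveI := preservesFiniteLimits_colimAt o
  haveI := preservesFiniteColimits_colimAt o
  haveI : (colimAt o).Additive := Functor.additive_of_preserves_binary_products _
  have : PreservesFiniteLimits (CohTop.pull j) := TopCoh.pull_preservesFiniteLimits j
  have : PreservesFiniteColimits (CohTop.pull j) :=
    have : PreservesColimitsOfSize.{0, 0} (CohTop.pull j) :=
      (TopCat.Sheaf.pullbackPushforwardAdjunction AddCommGrpCat.{u} j).leftAdjoint_preservesColimits
    PreservesColimitsOfSize.preservesFiniteColimits _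
  have : (CohTop.pull j).Additive := Functor.additive_of_preserves_binary_products _
  obtain ⟨e⟩ := nonempty_rightDerived_comp_exact (CohTop.pull j) (secTop K) (fun Q hQ q hq => by
    obtain ⟨m, rfl⟩ := Nat.exists_eq_succ_of_ne_zero hq.ne'
    obtain ⟨e'⟩ := nonempty_rightDerived_secTop ((CohTop.pull j).obj Q) (m + 1)
    have := hacy Q hQ m
    exact IsZero.of_iso (AddCommGrpCat.isZero_of_subsingleton _) e') F p
  obtain ⟨e'⟩ := nonempty_rightDerived_secTop ((CohTop.pull j).obj F) p
  exact ⟨(SiteCoh.rightDerivedCongr (secNearIso o j ho hcof hlift) p).app F ≪≫ e ≪≫ e'⟩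

include ho hcof hlift hacy in
/-- The colimit of the cohomology of the neighbourhoods is the cohomology of the subspace. -/
theorem nonempty_colimit_equiv (F : CohTop.Ab X) (p : ℕ) :
    Nonempty ((colimit (o ⋙ (Sheaf.cohomologyPresheafFunctor (Opens.grothendieckTopology X) p).obj F) :
        AddCommGrpCat.{u}) ≃+ CohTop.H ((CohTop.pull j).obj F) p) := by
  haveI := preservesFiniteLimits_colimAt o
  haveI := preservesFiniteColimits_colimAt o
  haveI : (colimAt o).Additive := Functor.additive_of_preserves_binary_products _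
  obtain ⟨e⟩ := nonempty_rightDerived_secNear o j ho hcof hlift hacy F p
  obtain ⟨e'⟩ := SiteCoh.nonempty_rightDerived_iso F p
  exact ⟨(((colimAt o).mapIso e').symm ≪≫
    (SiteCoh.rightDerivedCompIso (sheafToPresheaf (Opens.grothendieckTopology X) AddCommGrpCat.{u}) (colimAt o) p F).symm ≪≫
    e).addCommGroupIsoToAddEquiv⟩

end Groth.L10.NearCoh
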