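import Groth.Agent.L10.DerivedAdj
import Groth.Agent.L10.TopCoh
import Groth.Prelude.Def_CohCx

/-! Vanishing of negative cohomology on a basis. -/

universe w w' v v' u u'

open CategoryTheory CategoryTheory.Limits CategoryTheory.Pretriangulated Opposite TopologicalSpace

set_option backward.defeqAttrib.useBackward true
set_option backward.isDefEq.respectTransparency false
namespace Groth.L10.NegVanish

open DerivedCategory

variable {A : Type u} [Category.{v} A] [Abelian A] [HasDerivedCategory.{w} A]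

local notation "tt" => DerivedCategory.TStructure.t

/-- No negative maps from a separating family means cohomology in degrees `≥ 0`. -/
theorem isGE_of_hom [KInjDerived.EnoughKInjectives A] {ι : Type*} (G : ι → A)
    (hG : ∀ ⦃X Y : A⦄ (f : X ⟶ Y), (∀ i (a : G i ⟶ X), a ≫ f = 0) → f = 0) (M : DerivedCategory A)
    (h : ∀ i (n : ℤ), n < 0 → Subsingleton ((singleFunctor A 0).obj (G i) ⟶ M⟦n⟧)) : M.IsGE 0 := by
  obtain ⟨R⟩ := KInjDerived.exists_rightResolution (A := A) (Qh.objPreimage M)
  have := Localization.inverts Qh (HomotopyCategory.quasiIso A (ComplexShape.up ℤ)) R.w R.hw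
  let I : CochainComplex A ℤ := R.X₁.obj.as
  have hI : I.IsKInjective := R.X₁.property
  let e : Qh.obj ((HomotopyCategory.quotient A (ComplexShape.up ℤ)).obj I) ≅ M :=
    (asIso (Qh.map R.w)).symm ≪≫ Qh.objObjPreimageIso M
  rw [DerivedCategory.isGE_iff]
  intro n hn
  refine IsZero.of_iso ?_ ((homologyFunctor A n).mapIso e.symm ≪≫ (homologyFunctorFactorsh A n).app _ ≪≫
    (HomotopyCategory.homologyFunctorFactors A (ComplexShape.up ℤ) n).app I)
  change IsZero (I.homology n)
  have hepi : Epi (I.toCycles (n - 1) n) := by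
    refine Preadditive.epi_of_cancel_zero _ fun {T} g hg => hG g fun i a => ?_
    let φ : (CochainComplex.singleFunctor A 0).obj (G i) ⟶ I⟦n⟧ :=
      HomologicalComplex.mkHomFromSingle (a ≫ I.iCycles n ≫ (I.XIsoOfEq (show n = 0 + n by omega)).hom) (fun j _ => by simp)
    have hφ : (HomotopyCategory.quotient A (ComplexShape.up ℤ)).map φ = 0 := by
      refine (KInjDerived.qh_bijective _ ⟨(HomotopyCategory.quotient A (ComplexShape.up ℤ)).obj (I⟦n⟧),
        inferInstanceAs (CochainComplex.IsKInjective (I⟦n⟧))⟩).injective ?_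
      let e₁ : Qh.obj ((HomotopyCategory.quotient A (ComplexShape.up ℤ)).obj ((CochainComplex.singleFunctor A 0).obj (G i))) ≅
          (singleFunctor A 0).obj (G i) :=
        (quotientCompQhIso A).app _ ≪≫ ((singleFunctorIsoCompQ A 0).app (G i)).symm
      let e₂ : Qh.obj ((HomotopyCategory.quotient A (ComplexShape.up ℤ)).obj (I⟦n⟧)) ≅ M⟦n⟧ :=
        Qh.mapIso (((HomotopyCategory.quotient A (ComplexShape.up ℤ)).commShiftIso n).app I) ≪≫
          (Qh.commShiftIso n).app _ ≪≫ (shiftFunctor _ n).mapIso e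
      rw [← cancel_epi e₁.inv, ← cancel_mono e₂.hom]
      exact (h i n hn).elim _ _
    obtain ⟨H⟩ : Nonempty (Homotopy φ 0) :=
      ⟨HomotopyCategory.homotopyOfEq _ _ (by rw [hφ, Functor.map_zero])⟩
    have h0 := H.comm 0
    simp only [dNext_eq _ (show (ComplexShape.up ℤ).Rel (0:ℤ) 1 by simp),
      prevD_eq _ (show (ComplexShape.up ℤ).Rel (-1 : ℤ) 0 by simp), CochainComplex.singleFunctor, CochainComplex.singleFunctors,
      HomologicalComplex.single_obj_d, zero_comp, zero_add, HomologicalComplex.zero_f, add_zero, φ,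
      HomologicalComplex.mkHomFromSingle_f, CochainComplex.shiftFunctor_obj_d', Preadditive.comp_zsmul, Linear.comp_units_smul] at h0
    let c : G i ⟶ I.X (n - 1) :=
      n.negOnePow • ((HomologicalComplex.singleObjXSelf (ComplexShape.up ℤ) 0 (G i)).inv ≫ H.hom 0 (-1) ≫
        (I.XIsoOfEq (show (-1 : ℤ) + n = n - 1 by omega)).hom)
    have hc : a = c ≫ I.toCycles (n - 1) n := by
      rw [← cancel_mono (I.iCycles n), Category.assoc, HomologicalComplex.toCycles_i,
        ← cancel_mono (I.XIsoOfEq (show n = 0 + n by omega)).hom, Category.assoc,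
        ← cancel_epi (HomologicalComplex.singleObjXSelf (ComplexShape.up ℤ) 0 (G i)).hom]
      simpa [c] using h0
    rw [hc, Category.assoc, hg, comp_zero]
  rw [IsZero.iff_id_eq_zero, ← cancel_epi (I.homologyπ n), ← cancel_epi (I.toCycles (n - 1) n)]
  simp

theorem exists_single_lift (G : A) (M : DerivedCategory A) [M.IsGE 0]
    (x : G ⟶ (homologyFunctor A 0).obj M) :
    ∃ φ : (singleFunctor A 0).obj G ⟶ M,
      ((singleFunctorCompHomologyFunctorIso A 0).app G).inv ≫ (homologyFunctor A 0).map φ = x := by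
  let T := ((tt).truncLT 1).obj M
  have hT1 : IsIso ((homologyFunctor A 0).map (((tt).truncLTι 1).app M)) := isIso_H_ι 1 0 (by omega) M
  have : DerivedCategory.IsLE T 0 := (tt).isLE_truncLT_obj _ _ _ (by omega)
  have : DerivedCategory.IsGE T 0 := by
    rw [DerivedCategory.isGE_iff]
    intro i hi
    have := isIso_H_ι 1 i (by omega) M
    exact (DerivedCategory.isZero_of_isGE M 0 i hi).of_iso (asIso ((homologyFunctor A i).map (((tt).truncLTι 1).app M)))
  obtain ⟨Y, ⟨e⟩⟩ := exists_iso_singleFunctor_obj_of_isGE_of_isLE T 0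
  let k : G ⟶ Y := x ≫ inv ((homologyFunctor A 0).map (((tt).truncLTι 1).app M)) ≫
    (homologyFunctor A 0).map e.hom ≫ ((singleFunctorCompHomologyFunctorIso A 0).app Y).hom
  refine ⟨(singleFunctor A 0).map k ≫ e.inv ≫ ((tt).truncLTι 1).app M, ?_⟩
  have hk : ((singleFunctorCompHomologyFunctorIso A 0).app G).inv ≫ (homologyFunctor A 0).map ((singleFunctor A 0).map k) =
      k ≫ ((singleFunctorCompHomologyFunctorIso A 0).app Y).inv :=
    ((singleFunctorCompHomologyFunctorIso A 0).inv.naturality k).symm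
  rw [(homologyFunctor A 0).map_comp, (homologyFunctor A 0).map_comp, reassoc_of% hk]
  simp only [k, Category.assoc, Iso.hom_inv_id_assoc]
  rw [← Functor.map_comp_assoc, Iso.hom_inv_id, CategoryTheory.Functor.map_id, Category.id_comp, IsIso.inv_hom_id, Category.comp_id]

/-- Maps from a degree zero object into an object in degrees `≥ 0`. -/
noncomputable def homEquivH0 (G : A) (M : DerivedCategory A) [M.IsGE 0] :
    ((singleFunctor A 0).obj G ⟶ M) ≃+ (G ⟶ (homologyFunctor A 0).obj M) :=
  AddEquiv.ofBijective (AddMonoidHom.mk'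
    (fun φ => ((singleFunctorCompHomologyFunctorIso A 0).app G).inv ≫ (homologyFunctor A 0).map φ)
    (fun _ _ => by rw [Functor.map_add, Preadditive.comp_add]))
    ⟨(injective_iff_map_eq_zero _).2 fun φ hφ => eq_zero_of_H_eq_zero 0 φ
        ((cancel_epi ((singleFunctorCompHomologyFunctorIso A 0).app G).inv).1 (hφ.trans comp_zero.symm)),
      fun x => exists_single_lift G M x⟩

theorem homEquivH0_comp {G G' : A} (M : DerivedCategory A) [M.IsGE 0] (a : G' ⟶ G)
    (φ : (singleFunctor A 0).obj G ⟶ M) :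
    homEquivH0 G' M ((singleFunctor A 0).map a ≫ φ) = a ≫ homEquivH0 G M φ := by
  change ((singleFunctorCompHomologyFunctorIso A 0).app G').inv ≫ (homologyFunctor A 0).map _ =
    a ≫ ((singleFunctorCompHomologyFunctorIso A 0).app G).inv ≫ (homologyFunctor A 0).map φ
  have hk := (singleFunctorCompHomologyFunctorIso A 0).inv.naturality a
  rw [Functor.map_comp, ← Category.assoc, ← Category.assoc]
  exact congrArg (· ≫ (homologyFunctor A 0).map φ) hk.symm

end Groth.L10.NegVanish

namespace Groth.L10.NegVanish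

open Groth.L10.SiteCoh DerivedCategory

variable {X Y : TopCat.{u}} (f : X ⟶ Y)

/-- The comparison from the free sheaf on the preimage. -/
noncomputable def θ (V : Opens Y) :
    fs (Opens.grothendieckTopology X) ((Opens.map f).obj V) ⟶ (CohTop.pull f).obj (fs (Opens.grothendieckTopology Y) V) :=
  (secEquiv _ _ _).symm
    ((((TopCat.Sheaf.pullbackPushforwardAdjunction AddCommGrpCat.{u} f).unit.app _).hom.app (op V))
      (secEquiv (Opens.grothendieckTopology Y) V _ (𝟙 _)))

theorem secEquiv_θ_comp (V : Opens Y) {F : CohTop.Ab X}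
    (a : (CohTop.pull f).obj (fs (Opens.grothendieckTopology Y) V) ⟶ F) :
    secEquiv _ _ F (θ f V ≫ a) = secEquiv _ V _
      ((TopCat.Sheaf.pullbackPushforwardAdjunction AddCommGrpCat.{u} f).homEquiv _ F a) := by
  rw [secEquiv_comp, θ, AddEquiv.apply_symm_apply, Adjunction.homEquiv_unit, ← Category.id_comp
    ((TopCat.Sheaf.pullbackPushforwardAdjunction AddCommGrpCat.{u} f).unit.app _ ≫ _), secEquiv_comp]
  rfl

instance (V : Opens Y) : IsIso (θ f V) := by
  refine (isIso_iff_coyoneda_map_bijective (θ f V)).2 fun F => ?_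
  let e : ((CohTop.pull f).obj (fs (Opens.grothendieckTopology Y) V) ⟶ F) ≃ (fs (Opens.grothendieckTopology X) ((Opens.map f).obj V) ⟶ F) :=
    ((TopCat.Sheaf.pullbackPushforwardAdjunction AddCommGrpCat.{u} f).homEquiv _ F).trans
      ((secEquiv _ V _).toEquiv.trans (secEquiv (Opens.grothendieckTopology X) ((Opens.map f).obj V) F).symm.toEquiv)
  convert e.bijective using 1
  funext a
  apply (secEquiv _ _ F).injective
  simp [e, secEquiv_θ_comp]

theorem θ_naturality {V W : Opens Y} (g : V ⟶ W) :
    fsMap (Opens.grothendieckTopology X) ((Opens.map f).map g) ≫ θ f W =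
      θ f V ≫ (CohTop.pull f).map (fsMap (Opens.grothendieckTopology Y) g) := by
  apply (secEquiv _ _ _).injective
  rw [secEquiv_map, secEquiv_θ_comp, Adjunction.homEquiv_unit]
  have := (TopCat.Sheaf.pullbackPushforwardAdjunction AddCommGrpCat.{u} f).unit.naturality (fsMap (Opens.grothendieckTopology Y) g)
  erw [← this]
  rw [θ, AddEquiv.apply_symm_apply, Functor.id_map, secEquiv_map]
  conv_rhs => rw [← Category.id_comp ((TopCat.Sheaf.pullbackPushforwardAdjunction AddCommGrpCat.{u} f).unit.app _)]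
  rw [secEquiv_comp]
  rfl

variable {f} in
/-- Sections on a basis detect morphisms. -/
theorem separating_basis {B : Set (Opens Y)} (hB : Opens.IsBasis B) ⦃F G : CohTop.Ab Y⦄ (φ : F ⟶ G)
    (h : ∀ (V : B) (a : fs (Opens.grothendieckTopology Y) V.1 ⟶ F), a ≫ φ = 0) : φ = 0 := by
  refine Sheaf.hom_ext (NatTrans.ext (funext fun U => AddCommGrpCat.hom_ext (AddMonoidHom.ext fun s => ?_)))
  refine TopCat.Sheaf.eq_of_locally_eq' G (fun V : {V : B // V.1 ≤ U.unop} => V.1.1) U.unop
    (fun V => homOfLE V.2) (fun p hp => ?_) _ _ fun V => ?_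
  · obtain ⟨V, hV, hpV, hVU⟩ := Opens.isBasis_iff_nbhd.1 hB hp
    exact Opens.mem_iSup.2 ⟨⟨⟨V, hV⟩, hVU⟩, hpV⟩
  · have h1 := congrArg (secEquiv (Opens.grothendieckTopology Y) V.1.1 G)
      (h V.1 ((secEquiv _ V.1.1 F).symm (F.obj.map (homOfLE V.2).op s)))
    rw [secEquiv_comp, AddEquiv.apply_symm_apply, map_zero] at h1
    exact (congr($(φ.hom.naturality (homOfLE V.2).op) s)).symm.trans (h1.trans (map_zero _).symm)

theorem s0883 [HasDerivedCategory.{u} (CohTop.Ab X)] (B : Set (Opens Y)) (hB : Opens.IsBasis B)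
    (K : DerivedCategory (CohTop.Ab X))
    (h : ∀ V ∈ B, ∀ i : ℤ, i < 0 → Subsingleton (CohCx.HDU K i ((Opens.map f).obj V))) :
    (∀ (V : Opens Y) (i : ℤ), i < 0 → Subsingleton (CohCx.HDU K i ((Opens.map f).obj V))) ∧
    Presheaf.IsSheaf (Opens.grothendieckTopology Y) ((Opens.map f).op ⋙ CohCx.HDUPresheaf K 0) := by
  let := HasDerivedCategory.standard (CohTop.Ab Y)
  have := TopCoh.pull_preservesFiniteLimits f
  let adj₀ : CohTop.pull f ⊣ CohTop.push f := TopCat.Sheaf.pullbackPushforwardAdjunction AddCommGrpCat.{u} f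
  have : (CohTop.pull f).Additive := adj₀.left_adjoint_additive
  have : PreservesFiniteColimits (CohTop.pull f) := by
    have := adj₀.leftAdjoint_preservesColimits
    infer_instance
  let Fh := (CohTop.push f).mapHomotopyCategory (ComplexShape.up ℤ) ⋙ Qh
  let R := Fh.totalRightDerived Qh (HomotopyCategory.quasiIso (CohTop.Ab X) (ComplexShape.up ℤ))
  let D : (CohTop.pull f).mapDerivedCategory ⊣ R :=
    DerivedAdj.derived (w := CohTop.pull f) adj₀ R (Fh.totalRightDerivedUnit Qh (HomotopyCategory.quasiIso (CohTop.Ab X) (ComplexShape.up ℤ)))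
  let := D.rightAdjointCommShift ℤ
  have := D.commShift_of_leftAdjoint (A := ℤ)
  let j : ∀ V : Opens Y, (singleFunctor (CohTop.Ab X) 0).obj (fs (Opens.grothendieckTopology X) ((Opens.map f).obj V)) ≅
      (CohTop.pull f).mapDerivedCategory.obj ((singleFunctor (CohTop.Ab Y) 0).obj (fs (Opens.grothendieckTopology Y) V)) :=
    fun V => (singleFunctor (CohTop.Ab X) 0).mapIso (asIso (θ f V)) ≪≫
      (((CohTop.pull f).mapDerivedCategorySingleFunctor 0).app _).symm
  let E : ∀ (V : Opens Y) (i : ℤ), CohCx.HDU K i ((Opens.map f).obj V) ≃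
      ((singleFunctor (CohTop.Ab Y) 0).obj (fs (Opens.grothendieckTopology Y) V) ⟶ (R.obj K)⟦i⟧) := fun V i =>
    ((j V).homFromEquiv.trans (D.homEquiv _ _)).trans ((R.commShiftIso i).app K).homToEquiv
  have hM : (R.obj K).IsGE 0 := isGE_of_hom (fun V : B => fs (Opens.grothendieckTopology Y) V.1)
    (separating_basis hB) _ fun V i hi => (E V.1 i).subsingleton_congr.1 (h V.1 V.2 i hi)
  refine ⟨fun V i hi => (E V i).subsingleton_congr.2 ?_, ?_⟩
  · constructor
    intro a b
    have : DerivedCategory.IsGE ((R.obj K)⟦i⟧) (-i) := DerivedCategory.TStructure.t.isGE_shift (R.obj K) 0 i (-i) (by omega)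
    rw [DerivedCategory.TStructure.t.zero a 0 (-i) (by omega), DerivedCategory.TStructure.t.zero b 0 (-i) (by omega)]
  · have : R.Additive := D.right_adjoint_additive
    let H0 := (homologyFunctor (CohTop.Ab Y) 0).obj (R.obj K)
    let Ψ : ∀ V : (Opens Y)ᵒᵖ, CohCx.HDU K 0 ((Opens.map f).obj V.unop) ≃+ H0.obj.obj V := fun V =>
      { toFun := fun φ => secEquiv (Opens.grothendieckTopology Y) V.unop H0
          (homEquivH0 _ (R.obj K) (D.homEquiv _ _ ((j V.unop).inv ≫ φ ≫ (shiftFunctorZero _ ℤ).hom.app K)))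
        invFun := fun s => (j V.unop).hom ≫ (D.homEquiv _ _).symm
            ((homEquivH0 _ (R.obj K)).symm ((secEquiv (Opens.grothendieckTopology Y) V.unop H0).symm s)) ≫
          (shiftFunctorZero _ ℤ).inv.app K
        left_inv := fun φ => by simp
        right_inv := fun s => by simp
        map_add' := fun φ φ' => by
          simp only [Preadditive.add_comp, Preadditive.comp_add, Adjunction.homEquiv_unit, Functor.map_add]
          erw [map_add, map_add] }
    refine (Presheaf.isSheaf_of_iso_iff (NatIso.ofComponents (fun V => (Ψ V).toAddCommGrpIso) ?_)).2 H0.property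
    intro V W g
    refine AddCommGrpCat.hom_ext (AddMonoidHom.ext fun φ => ?_)
    change secEquiv (Opens.grothendieckTopology Y) W.unop H0 (homEquivH0 _ (R.obj K) (D.homEquiv _ _ ((j W.unop).inv ≫
        ((singleFunctor (CohTop.Ab X) 0).map (fsMap (Opens.grothendieckTopology X) ((Opens.map f).map g.unop)) ≫ φ) ≫ _))) =
      H0.obj.map g (secEquiv (Opens.grothendieckTopology Y) V.unop H0 (homEquivH0 _ (R.obj K) (D.homEquiv _ _ ((j V.unop).inv ≫ φ ≫ _))))
    have hj : (j W.unop).inv ≫ (singleFunctor (CohTop.Ab X) 0).map (fsMap (Opens.grothendieckTopology X) ((Opens.map f).map g.unop)) =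
        (CohTop.pull f).mapDerivedCategory.map ((singleFunctor (CohTop.Ab Y) 0).map (fsMap (Opens.grothendieckTopology Y) g.unop)) ≫
          (j V.unop).inv := by
      rw [Iso.inv_comp_eq, ← Category.assoc, Iso.eq_comp_inv]
      simp only [j, Iso.trans_hom, Functor.mapIso_hom, asIso_hom, Iso.symm_hom, Iso.app_inv, Category.assoc]
      rw [← Functor.map_comp_assoc, θ_naturality, Functor.map_comp_assoc]
      congr 1
      exact ((CohTop.pull f).mapDerivedCategorySingleFunctor 0).inv.naturality _
    simp only [Category.assoc, reassoc_of% hj, Adjunction.homEquiv_naturality_left, homEquivH0_comp, secEquiv_map]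
    rfl

end Groth.L10.NegVanish
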