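import Groth.Agent.L10.CechNerves
import Mathlib.CategoryTheory.Limits.Constructions.FiniteProductsOfBinaryProducts
import Mathlib.CategoryTheory.Limits.Constructions.Over.Products
import Mathlib.CategoryTheory.Limits.Preserves.Shapes.Pullbacks
import Mathlib.CategoryTheory.Limits.Shapes.Pullback.IsPullback.Basic
import Mathlib.CategoryTheory.Comma.Over.OverClass

/-! Nerves transported along functors preserving fibre products. -/

universe u

open CategoryTheory CategoryTheory.Limits Opposite

set_option backward.defeqAttrib.useBackward true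
set_option backward.isDefEq.respectTransparency false
namespace Groth.L10.Cech

variable {C D : Type u} [SmallCategory C] [SmallCategory D] [HasPullbacks C] (v : C ⥤ D)
  [PreservesLimitsOfShape WalkingCospan v] (U : C)

theorem preservesFiniteProducts_post : PreservesFiniteProducts (Over.post (X := U) v) := by
  have hpair : ∀ A B : Over U, PreservesLimit (pair A B) (Over.post (X := U) v) := fun A B => by
    have hp := (IsPullback.of_hasPullback A.hom B.hom).map v
    refine preservesLimit_of_preserves_limit_cone
      (IsLimit.pullbackConeEquivBinaryFanFunctor (pullbackIsPullback A.hom B.hom)) ?_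
    refine (isLimitMapConeBinaryFanEquiv _ _ _).symm (BinaryFan.isLimitMk
      (fun s => Over.homMk (hp.lift s.fst.left s.snd.left ((Over.w s.fst).trans (Over.w s.snd).symm))
        (by
          change _ ≫ v.map (pullback.fst A.hom B.hom ≫ A.hom) = _
          rw [Functor.map_comp, ← Category.assoc, IsPullback.lift_fst]
          exact Over.w s.fst))
      (fun s => Over.OverMorphism.ext (hp.lift_fst _ _ _))
      (fun s => Over.OverMorphism.ext (hp.lift_snd _ _ _))
      (fun s m h₁ h₂ => Over.OverMorphism.ext (hp.hom_ext
        ((congrArg CommaMorphism.left h₁).trans (hp.lift_fst _ _ _).symm)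
        ((congrArg CommaMorphism.left h₂).trans (hp.lift_snd _ _ _).symm))))
  have : PreservesLimitsOfShape (Discrete WalkingPair) (Over.post (X := U) v) :=
    ⟨fun {K} => preservesLimit_of_iso_diagram _ (diagramIsoPair K).symm⟩
  have : PreservesLimit (Functor.empty.{0} (Over U)) (Over.post (X := U) v) :=
    preservesLimit_of_preserves_limit_cone Over.mkIdTerminal
      ((isLimitMapConeEmptyConeEquiv (Over.post (X := U) v) (Over.mk (𝟙 U))).symm
        (IsTerminal.ofIso Over.mkIdTerminal (Over.isoMk (Iso.refl _) (by simp)) : IsTerminal ((Over.post (X := U) v).obj (Over.mk (𝟙 U)))))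
  have : PreservesLimitsOfShape (Discrete PEmpty.{1}) (Over.post (X := U) v) :=
    preservesLimitsOfShape_pempty_of_preservesTerminal _
  exact PreservesFiniteProducts.of_preserves_binary_and_terminal _

theorem isNerve_post {ι : Type u} (Y : ι → Over U) :
    IsNerve (Over.forget U ⋙ v) Y (fun i => v.map (Y i).hom) where
  comp {n} a k l := by
    change v.map _ ≫ v.map _ = v.map _ ≫ v.map _
    rw [← Functor.map_comp, ← Functor.map_comp]
    exact congrArg v.map ((Over.w (Pi.π (Y ∘ a) k)).trans (Over.w (Pi.π (Y ∘ a) l)).symm)
  lift {n} a {V} g hg := by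
    have := preservesFiniteProducts_post v U
    have hl := isLimitOfPreserves (Over.post (X := U) v) (limit.isLimit (Discrete.functor (Y ∘ a)))
    let W : Over (v.obj U) := Over.mk (g 0 ≫ v.map (Y (a 0)).hom)
    let c : Cone (Discrete.functor (Y ∘ a) ⋙ Over.post (X := U) v) :=
      { pt := W, π := Discrete.natTrans fun k => Over.homMk (g k.as) (hg k.as 0) }
    exact ⟨(hl.lift c).left, fun k => congrArg CommaMorphism.left (hl.fac c ⟨k⟩)⟩
  hom_ext {n} a {V} h h' hh := by
    have := preservesFiniteProducts_post v U
    have hl := isLimitOfPreserves (Over.post (X := U) v) (limit.isLimit (Discrete.functor (Y ∘ a)))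
    let W : Over (v.obj U) := Over.mk (h ≫ v.map (tup Y a).hom)
    have e : ∀ g : V ⟶ v.obj (tup Y a).left, g ≫ v.map (tup Y a).hom =
        (g ≫ v.map (Pi.π (Y ∘ a) 0).left) ≫ v.map (Y (a 0)).hom := fun g => by
      rw [Category.assoc, ← Functor.map_comp]
      exact congrArg (fun z => g ≫ v.map z) (Over.w (Pi.π (Y ∘ a) 0)).symm
    have hw : h' ≫ v.map (tup Y a).hom = h ≫ v.map (tup Y a).hom :=
      (e h').trans ((congrArg (· ≫ v.map (Y (a 0)).hom) (hh 0).symm).trans (e h).symm)
    have := hl.hom_ext (f := (Over.homMk h rfl : W ⟶ (Over.post (X := U) v).obj (tup Y a)))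
      (f' := Over.homMk h' hw) fun k => Over.OverMorphism.ext (hh k.as)
    exact congrArg CommaMorphism.left this

end Groth.L10.Cech
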