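import Groth.Agent.L10.TwoTopAbstract
import Groth.Agent.L10.SitePush
import Groth.Prelude.Def_SiteCmp
import Mathlib.CategoryTheory.Adjunction.Restrict
import Mathlib.CategoryTheory.Sites.CoverLifting

/-! Restriction to slices and comparison of two topologies for abelian sheaves. -/

universe u

open CategoryTheory CategoryTheory.Limits Opposite HomologicalComplex

set_option backward.defeqAttrib.useBackward true
set_option backward.isDefEq.respectTransparency false

namespace Groth.L10.OverRes

variable {C : Type u} [SmallCategory C]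

section Eps

variable {J J' : GrothendieckTopology C} (h : J' ≤ J)

instance additive_eps : (SiteCmp.epsSh h AddCommGrpCat.{u}).Additive where

instance faithful_eps : (SiteCmp.epsSh h AddCommGrpCat.{u}).Faithful where
  map_injective {F G} a b hab := Sheaf.hom_ext (NatTrans.ext (funext fun V =>
    congrArg (fun φ : (SiteCmp.epsSh h AddCommGrpCat.{u}).obj F ⟶ (SiteCmp.epsSh h AddCommGrpCat.{u}).obj G => φ.hom.app V) hab))

instance full_eps : (SiteCmp.epsSh h AddCommGrpCat.{u}).Full where
  map_surjective {F G} φ := ⟨⟨{ app := fun V => φ.hom.app V, naturality := fun _ _ g => φ.hom.naturality g }⟩,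
    Sheaf.hom_ext (NatTrans.ext (funext fun _ => rfl))⟩

instance preservesFiniteLimits_eps : PreservesFiniteLimits (SiteCmp.epsSh h AddCommGrpCat.{u}) :=
  haveI := SiteCmp.idContinuous h
  inferInstanceAs (PreservesFiniteLimits (CohSite.push J J' (𝟭 C)))

/-- Sheafification as a functor between the two categories of sheaves. -/
noncomputable abbrev aSh (_h : J' ≤ J) : Sheaf J' AddCommGrpCat.{u} ⥤ Sheaf J AddCommGrpCat.{u} :=
  sheafToPresheaf J' AddCommGrpCat.{u} ⋙ presheafToSheaf J AddCommGrpCat.{u}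

/-- The adjunction. -/
noncomputable def aAdj : aSh h ⊣ SiteCmp.epsSh h AddCommGrpCat.{u} :=
  (sheafificationAdjunction J AddCommGrpCat.{u}).restrictFullyFaithful (fullyFaithfulSheafToPresheaf J' _)
    (Functor.FullyFaithful.id _) (Iso.refl _) (NatIso.ofComponents (fun F => Iso.refl _))

instance additive_aSh : (aSh h).Additive := (aAdj h).left_adjoint_additive

theorem injective_eps (I : Sheaf J AddCommGrpCat.{u}) [Injective I] : Injective ((SiteCmp.epsSh h AddCommGrpCat.{u}).obj I) :=
  Injective.injective_of_adjoint (aAdj h) I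

end Eps

/-! ### Restriction to a slice -/

section Res

variable (J : GrothendieckTopology C) {X Y : C} (f : X ⟶ Y)

/-- Restriction. -/
noncomputable abbrev res : Sheaf (J.over Y) AddCommGrpCat.{u} ⥤ Sheaf (J.over X) AddCommGrpCat.{u} :=
  CohSite.push (J.over Y) (J.over X) (Over.map f)

/-- The lifts of an object over `Y` along `f`. -/
abbrev Lifts (Z : Over Y) : Type u := { s : Z.left ⟶ X // s ≫ f = Z.hom }

/-- Extension by zero on presheaves. -/
noncomputable def jObj (P : (Over X)ᵒᵖ ⥤ AddCommGrpCat.{u}) : (Over Y)ᵒᵖ ⥤ AddCommGrpCat.{u} where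
  obj Z := ∐ fun s : Lifts f Z.unop => P.obj (op (Over.mk s.1))
  map {Z W} g := Sigma.desc fun s =>
    P.map (Over.homMk g.unop.left : Over.mk (g.unop.left ≫ s.1) ⟶ Over.mk s.1).op ≫
      Sigma.ι (fun t : Lifts f W.unop => P.obj (op (Over.mk t.1)))
        ⟨g.unop.left ≫ s.1, by rw [Category.assoc, s.2]; exact Over.w g.unop⟩
  map_id Z := Sigma.hom_ext _ _ fun s => by
    rw [Sigma.ι_desc, Category.comp_id]
    have h : ∀ (t : Z.unop.left ⟶ X) (g : Over.mk t ⟶ Over.mk s.1) (_ : g.left = 𝟙 _) (ht : t ≫ f = Z.unop.hom)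
        (e : t = s.1), P.map g.op ≫ Sigma.ι (fun t : Lifts f Z.unop => P.obj (op (Over.mk t.1))) ⟨t, ht⟩ =
          Sigma.ι (fun t : Lifts f Z.unop => P.obj (op (Over.mk t.1))) s := by
      rintro t g hg ht rfl
      obtain rfl : g = 𝟙 _ := Over.OverMorphism.ext hg
      rw [op_id, CategoryTheory.Functor.map_id, Category.id_comp]
    exact h _ _ rfl _ (Category.id_comp _)
  map_comp {Z W T} g g' := Sigma.hom_ext _ _ fun s => by
    simp only [Sigma.ι_desc_assoc, Category.assoc, Sigma.ι_desc]
    have h : ∀ (t t' : T.unop.left ⟶ X) (a : Over.mk t ⟶ Over.mk s.1) (b : Over.mk t' ⟶ Over.mk s.1) (_ : a.left = b.left)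
        (ht : t ≫ f = T.unop.hom) (ht' : t' ≫ f = T.unop.hom) (e : t = t'),
        P.map a.op ≫ Sigma.ι (fun t : Lifts f T.unop => P.obj (op (Over.mk t.1))) ⟨t, ht⟩ =
          P.map b.op ≫ Sigma.ι (fun t : Lifts f T.unop => P.obj (op (Over.mk t.1))) ⟨t', ht'⟩ := by
      rintro t t' a b hab ht ht' rfl
      rw [show a = b from Over.OverMorphism.ext hab]
    rw [← Functor.map_comp_assoc, ← op_comp]
    refine h _ _ _ _ ?_ _ _ ?_ <;> simp

/-- Functoriality of extension by zero. -/
noncomputable def jMap {P Q : (Over X)ᵒᵖ ⥤ AddCommGrpCat.{u}} (φ : P ⟶ Q) : jObj f P ⟶ jObj f Q where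
  app Z := Limits.Sigma.map fun s => φ.app _
  naturality {Z W} g := Sigma.hom_ext _ _ fun s => by
    dsimp [jObj]
    simp [φ.naturality_assoc]

theorem mono_jMap {P Q : (Over X)ᵒᵖ ⥤ AddCommGrpCat.{u}} (φ : P ⟶ Q) [Mono φ] : Mono (jMap f φ) := by
  have : ∀ Z, Mono ((jMap f φ).app Z) := fun Z => by
    let α : (Discrete.functor fun s : Lifts f Z.unop => P.obj (op (Over.mk s.1))) ⟶
        (Discrete.functor fun s : Lifts f Z.unop => Q.obj (op (Over.mk s.1))) := Discrete.natTrans fun s => φ.app _
    have : ∀ s, Mono (α.app s) := fun s => inferInstanceAs (Mono (φ.app _))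
    have := NatTrans.mono_of_mono_app α
    exact inferInstanceAs (Mono (colim.map α))
  exact NatTrans.mono_of_mono_app _

/-- Extending a map into a restriction. -/
noncomputable def jLift {P : (Over X)ᵒᵖ ⥤ AddCommGrpCat.{u}} {R : (Over Y)ᵒᵖ ⥤ AddCommGrpCat.{u}}
    (g : P ⟶ (Over.map f).op ⋙ R) : jObj f P ⟶ R where
  app Z := Sigma.desc fun s => g.app _ ≫
    R.map (Over.homMk (𝟙 Z.unop.left) (by change 𝟙 _ ≫ s.1 ≫ f = Z.unop.hom; rw [Category.id_comp, s.2]) :
      Z.unop ⟶ (Over.map f).obj (Over.mk s.1)).op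
  naturality {Z W} m := Sigma.hom_ext _ _ fun s => by
    dsimp [jObj]
    simp only [Sigma.ι_desc_assoc, Sigma.ι_desc, Category.assoc, NatTrans.naturality_assoc, Functor.comp_map,
      ← Functor.map_comp]
    congr 2
    simp only [Functor.op_map, ← op_comp]
    congr 1
    ext
    simp

/-- Restriction preserves injective sheaves. -/
theorem injective_res (I : Sheaf (J.over Y) AddCommGrpCat.{u}) [Injective I] : Injective ((res J f).obj I) := ⟨by
  intro A B g i _
  have : Mono i.hom := inferInstanceAs (Mono ((sheafToPresheaf _ _).map i))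
  have := mono_jMap f i.hom
  let adj := sheafificationAdjunction (J.over Y) AddCommGrpCat.{u}
  let g' := (adj.homEquiv _ _).symm (jLift f g.hom : jObj f A.obj ⟶ I.obj)
  obtain ⟨k, hk⟩ := Injective.factors g' ((presheafToSheaf (J.over Y) AddCommGrpCat.{u}).map (jMap f i.hom))
  let k' : jObj f B.obj ⟶ I.obj := adj.homEquiv _ _ k
  have hk' : jMap f i.hom ≫ k' = jLift f g.hom := by
    refine ((adj.homEquiv_naturality_left _ _).symm).trans ?_
    rw [hk, Equiv.apply_symm_apply]
  let ψ : ∀ T : (Over X)ᵒᵖ, B.obj.obj T ⟶ ((res J f).obj I).obj.obj T := fun T =>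
    Sigma.ι (fun t : Lifts f ((Over.map f).obj T.unop) => B.obj.obj (op (Over.mk t.1))) ⟨T.unop.hom, rfl⟩ ≫
      k'.app ((Over.map f).op.obj T)
  refine ⟨⟨{ app := ψ, naturality := ?_ }⟩, ?_⟩
  · intro T T' m
    have hn := k'.naturality ((Over.map f).op.map m)
    have := congrArg (Sigma.ι (fun t : Lifts f ((Over.map f).obj T.unop) => B.obj.obj (op (Over.mk t.1))) ⟨T.unop.hom, rfl⟩ ≫ ·) hn
    dsimp [jObj] at this ⊢
    simp only [Sigma.ι_desc_assoc, Category.assoc] at this
    refine Eq.trans ?_ (this.trans ?_)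
    · have h : ∀ (t : T'.unop.left ⟶ X) (a : Over.mk t ⟶ T.unop) (_ : a.left = m.unop.left) (ht : t ≫ f = T'.unop.hom ≫ f)
          (e : t = T'.unop.hom), B.obj.map m ≫ Sigma.ι (fun t : Lifts f ((Over.map f).obj T'.unop) => B.obj.obj (op (Over.mk t.1)))
            ⟨T'.unop.hom, rfl⟩ = B.obj.map a.op ≫ Sigma.ι (fun t : Lifts f ((Over.map f).obj T'.unop) => B.obj.obj (op (Over.mk t.1))) ⟨t, ht⟩ := by
        rintro t a ha ht rfl
        congr 2
        exact Quiver.Hom.unop_inj (Over.OverMorphism.ext ha.symm)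
      rw [← Category.assoc, ← Category.assoc]
      congr 1
      exact h (m.unop.left ≫ T.unop.hom) _ rfl _ (Over.w m.unop)
    · rw [Category.assoc]
      rfl
  · ext1
    ext T : 2
    have := congrArg (Sigma.ι (fun t : Lifts f ((Over.map f).obj T.unop) => A.obj.obj (op (Over.mk t.1))) ⟨T.unop.hom, rfl⟩ ≫ ·)
      (NatTrans.congr_app hk' ((Over.map f).op.obj T))
    dsimp [jMap, jLift] at this ⊢
    simp only [Sigma.ι_map_assoc, Sigma.ι_desc] at this
    refine this.trans ?_
    have hid : (Over.homMk (𝟙 T.unop.left) : (Over.map f).obj T.unop ⟶ (Over.map f).obj (Over.mk T.unop.hom)) = 𝟙 _ := by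
      ext; rfl
    erw [hid, op_id, CategoryTheory.Functor.map_id, Category.comp_id]
    rfl⟩

/-- Direct image along a slice map. -/
noncomputable abbrev pf : Sheaf (J.over X) AddCommGrpCat.{u} ⥤ Sheaf (J.over Y) AddCommGrpCat.{u} :=
  (Over.map f).sheafPushforwardCocontinuous AddCommGrpCat.{u} (J.over X) (J.over Y)

/-- Restriction is left adjoint to direct image. -/
noncomputable abbrev resAdj : res J f ⊣ pf J f :=
  (Over.map f).sheafAdjunctionCocontinuous AddCommGrpCat.{u} (J.over X) (J.over Y)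

instance preservesFiniteColimits_res : PreservesFiniteColimits (res J f) :=
  have := (resAdj J f).leftAdjoint_preservesColimits
  inferInstance

instance additive_pf : (pf J f).Additive := (resAdj J f).right_adjoint_additive

instance preservesFiniteLimits_pf : PreservesFiniteLimits (pf J f) :=
  have := (resAdj J f).rightAdjoint_preservesLimits
  inferInstance

theorem injective_pf (I : Sheaf (J.over X) AddCommGrpCat.{u}) [Injective I] : Injective ((pf J f).obj I) :=
  Injective.injective_of_adjoint (resAdj J f) I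

theorem exactAt_map {A B : Type*} [Category A] [Abelian A] [Category B] [Abelian B] (F : A ⥤ B) [F.Additive]
    [PreservesFiniteLimits F] [PreservesFiniteColimits F] {K : CochainComplex A ℕ} {i : ℕ} (hK : K.ExactAt i) :
    ((F.mapHomologicalComplex (ComplexShape.up ℕ)).obj K).ExactAt i := by
  rw [exactAt_iff] at hK ⊢
  exact hK.map F

/-- Derived functors of restriction followed by direct image. -/
theorem nonempty_rightDerived_resPf (j : ℕ) (M : Sheaf (J.over Y) AddCommGrpCat.{u}) :
    Nonempty (((res J f ⋙ pf J f).rightDerived j).obj M ≅ ((pf J f).rightDerived j).obj ((res J f).obj M)) := by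
  let R := injectiveResolution M
  let K := (res J f).mapHomologicalComplex (ComplexShape.up ℕ) |>.obj R.cocomplex
  let e0 : R.cocomplex.cycles 0 ≅ M := (R.cocomplex.cyclesIsKernel 0 1 (by simp)).conePointUniqueUpToIso R.isLimitKernelFork
  let eK : K.cycles 0 ≅ (res J f).obj M := LeftExactHom.cyc (res J f) R.cocomplex 0 ≪≫ (res J f).mapIso e0
  cases j with
  | zero =>
    exact ⟨(res J f ⋙ pf J f).rightDerivedZeroIsoSelf.app M ≪≫ ((pf J f).rightDerivedZeroIsoSelf.app _).symm⟩
  | succ n =>
    have hI : ∀ i, Injective (K.X i) := fun i => injective_res J f (R.cocomplex.X i)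
    obtain ⟨e⟩ := LeftExactHom.nonempty_homology_iso_rightDerived (pf J f) K hI n
      (fun i h _ => exactAt_map (res J f) (by obtain ⟨k, rfl⟩ : ∃ k, i = k + 1 := ⟨i - 1, by omega⟩; exact R.cocomplex_exactAt_succ k))
    exact ⟨R.isoRightDerivedObj (res J f ⋙ pf J f) (n + 1) ≪≫ e ≪≫ ((pf J f).rightDerived (n + 1)).mapIso eK⟩

variable {J} {J' : GrothendieckTopology C} (h : J' ≤ J)

/-- Direct images commute with comparison of topologies. -/
noncomputable def pfEps : pf J f ⋙ SiteCmp.epsSh (SiteCmp.over_le h Y) AddCommGrpCat.{u} ≅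
    SiteCmp.epsSh (SiteCmp.over_le h X) AddCommGrpCat.{u} ⋙ pf J' f :=
  NatIso.ofComponents (fun _ => Iso.refl _)

/-- Restriction commutes with comparison of topologies. -/
noncomputable def resEps : res J f ⋙ SiteCmp.epsSh (SiteCmp.over_le h X) AddCommGrpCat.{u} ≅
    SiteCmp.epsSh (SiteCmp.over_le h Y) AddCommGrpCat.{u} ⋙ res J' f :=
  NatIso.ofComponents (fun _ => Iso.refl _)

theorem eps_unit (M : Sheaf (J.over Y) AddCommGrpCat.{u}) :
    (SiteCmp.epsSh (SiteCmp.over_le h Y) AddCommGrpCat.{u}).map ((resAdj J f).unit.app M) =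
      (resAdj J' f).unit.app ((SiteCmp.epsSh (SiteCmp.over_le h Y) AddCommGrpCat.{u}).obj M) := by
  let N := (SiteCmp.epsSh (SiteCmp.over_le h Y) AddCommGrpCat.{u}).obj M
  have h1 : N.obj = M.obj := rfl
  have key : ∀ (P : (Over Y)ᵒᵖ ⥤ AddCommGrpCat.{u}) (e : P = M.obj) (Z : (Over Y)ᵒᵖ),
      HEq (((Over.map f).op.ranAdjunction AddCommGrpCat.{u}).unit.app P |>.app Z)
        (((Over.map f).op.ranAdjunction AddCommGrpCat.{u}).unit.app M.obj |>.app Z) := by
    rintro P rfl Z
    exact HEq.rfl
  refine Sheaf.hom_ext (NatTrans.ext (funext fun Z => eq_of_heq ?_))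
  have a := congr_app ((Over.map f).sheafAdjunctionCocontinuous_unit_app_hom AddCommGrpCat.{u} (J.over X) (J.over Y) M) Z
  have b := congr_app ((Over.map f).sheafAdjunctionCocontinuous_unit_app_hom AddCommGrpCat.{u} (J'.over X) (J'.over Y) N) Z
  exact (heq_of_eq a).trans ((key N.obj h1 Z).symm.trans (heq_of_eq b.symm))

end Res

end Groth.L10.OverRes
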