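import Groth.Agent.L10.BotCompare
import Groth.Agent.L10.SiteRightDerived
import Groth.Agent.L17.GrothSS
import Groth.Agent.L17.HomDerived
import Groth.Agent.L17.SiteSections
import Groth.Prelude.Def_CohCx
import Groth.Prelude.Def_SpSeq
import Mathlib.CategoryTheory.Sites.Adjunction

/-! The spectral sequence from presheaf cohomology to sheaf cohomology. -/

universe u

open CategoryTheory CategoryTheory.Limits Opposite

set_option backward.defeqAttrib.useBackward true
set_option backward.isDefEq.respectTransparency false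
namespace Groth.L10.PresheafSS

variable {C : Type u} [SmallCategory C] (J : GrothendieckTopology C)

/-- The free sheaf on a presheaf of sets. -/
noncomputable abbrev frS (R : Cᵒᵖ ⥤ Type u) : Sheaf J AddCommGrpCat.{u} :=
  (presheafToSheaf J AddCommGrpCat.{u}).obj (R ⋙ AddCommGrpCat.free.{u})

/-- Sheafifying before or after taking free groups. -/
noncomputable def frIso (R : Cᵒᵖ ⥤ Type u) : frS J ((presheafToSheaf J (Type u)).obj R).obj ≅ frS J R :=
  (presheafToSheafCompComposeAndSheafifyIso J AddCommGrpCat.free.{u}).app R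

/-- Maps out of the free presheaf on `R`, for the trivial topology. -/
noncomputable abbrev S (R : Cᵒᵖ ⥤ Type u) : Sheaf (⊥ : GrothendieckTopology C) AddCommGrpCat.{u} ⥤ AddCommGrpCat.{u} :=
  Groth.L17.GrothSS.homFun (frS (⊥ : GrothendieckTopology C) R)

theorem nonempty_comp_iso (R : Cᵒᵖ ⥤ Type u) :
    Nonempty (BotCompare.toBot J ⋙ S R ≅ Groth.L17.GrothSS.homFun (frS J R)) := by
  let adj := sheafificationAdjunction J AddCommGrpCat.{u}
  let adj' := sheafificationAdjunction (⊥ : GrothendieckTopology C) AddCommGrpCat.{u}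
  refine ⟨NatIso.ofComponents (fun I => AddEquiv.toAddCommGrpIso
    ((adj'.homAddEquiv (R ⋙ AddCommGrpCat.free.{u}) ((BotCompare.toBot J).obj I)).trans
      (adj.homAddEquiv (R ⋙ AddCommGrpCat.free.{u}) I).symm)) fun {I I'} g => ?_⟩
  refine AddCommGrpCat.hom_ext (AddMonoidHom.ext fun (x : frS (⊥ : GrothendieckTopology C) R ⟶ (BotCompare.toBot J).obj I) => ?_)
  change (adj.homEquiv _ _).symm (adj'.homEquiv _ _ (x ≫ (BotCompare.toBot J).map g)) =
    (adj.homEquiv _ _).symm (adj'.homEquiv _ _ x) ≫ g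
  rw [adj'.homEquiv_naturality_right]
  exact adj.homEquiv_naturality_right_symm (adj'.homEquiv (R ⋙ AddCommGrpCat.free.{u}) _ x) g

theorem nonempty_rightDerived_toBot (M : Sheaf J AddCommGrpCat.{u}) (q : ℕ) :
    Nonempty (((BotCompare.toBot J).rightDerived q).obj M ≅
      (⟨M.cohomologyPresheaf q, Presheaf.isSheaf_bot _⟩ : Sheaf (⊥ : GrothendieckTopology C) AddCommGrpCat.{u})) := by
  let G := sheafToPresheaf (⊥ : GrothendieckTopology C) AddCommGrpCat.{u}
  have : G.EssSurj := ⟨fun P => ⟨⟨P, Presheaf.isSheaf_bot _⟩, ⟨Iso.refl _⟩⟩⟩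
  have : G.IsEquivalence := {}
  obtain ⟨e⟩ := SiteCoh.nonempty_rightDerived_iso M q
  exact ⟨G.preimageIso ((SiteCoh.rightDerivedCompIso (BotCompare.toBot J) G q M).symm ≪≫ e)⟩

theorem exists_spectralSequence (R : Cᵒᵖ ⥤ Type u) (M : Sheaf J AddCommGrpCat.{u}) :
    ∃ (E : E₂CohomologicalSpectralSequence AddCommGrpCat.{u})
      (a : SpSeq.Abutment E (fun n : ℤ =>
        if 0 ≤ n then AddCommGrpCat.of (CohCx.HK ((presheafToSheaf J (Type u)).obj R) M n.toNat)
        else AddCommGrpCat.of PUnit.{u + 1})),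
      (∀ n, a.IsFinite n) ∧ SpSeq.IsBounded E ∧
      ∀ p q : ℤ, Nonempty ((E.page 2 le_rfl).X (p, q) ≅
        (if 0 ≤ p ∧ 0 ≤ q then
          AddCommGrpCat.of (CohCx.HK (J := (⊥ : GrothendieckTopology C)) ⟨R, Presheaf.isSheaf_bot _⟩
            ⟨M.cohomologyPresheaf q.toNat, Presheaf.isSheaf_bot _⟩ p.toNat)
         else AddCommGrpCat.of PUnit.{u + 1})) := by
  letI := HasDerivedCategory.standard (Sheaf (⊥ : GrothendieckTopology C) AddCommGrpCat.{u})
  refine Groth.L17.GrothSS.exists_spectralSequence_of_iso (BotCompare.toBot J) (S R)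
    (fun Q hQ q hq => ?_) M _ _ ?_ ?_ ?_ ?_
  · obtain ⟨k, rfl⟩ : ∃ k, q = k + 1 := ⟨q - 1, by omega⟩
    have := BotCompare.injective_toBot (J := J) Q
    exact (S R).isZero_rightDerived_obj_injective_succ k _
  · intro n
    obtain ⟨c⟩ := nonempty_comp_iso J R
    obtain ⟨e⟩ := Groth.L17.GrothSS.nonempty_rightDerived_homFun (frS J ((presheafToSheaf J (Type u)).obj R).obj) M n
    rw [if_pos (Int.natCast_nonneg n), Int.toNat_natCast]
    exact ⟨e.symm ≪≫ ((SiteCoh.rightDerivedCongr (c ≪≫ preadditiveCoyoneda.mapIso (frIso J R).op) n).app M).symm⟩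
  · intro n hn
    rw [if_neg (by omega)]
    exact Groth.L17.GrothSS.isZero_punit
  · intro p q
    obtain ⟨e⟩ := nonempty_rightDerived_toBot J M q
    obtain ⟨e'⟩ := Groth.L17.GrothSS.nonempty_rightDerived_homFun (frS (⊥ : GrothendieckTopology C) R)
      (⟨M.cohomologyPresheaf q, Presheaf.isSheaf_bot _⟩ : Sheaf (⊥ : GrothendieckTopology C) AddCommGrpCat.{u}) p
    rw [if_pos ⟨Int.natCast_nonneg p, Int.natCast_nonneg q⟩, Int.toNat_natCast, Int.toNat_natCast]
    exact ⟨((S R).rightDerived p).mapIso e ≪≫ e'⟩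
  · intro p q h
    rw [if_neg h]
    exact Groth.L17.GrothSS.isZero_punit

end Groth.L10.PresheafSS
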