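import Mathlib.RingTheory.Flat.Basic
import Mathlib.LinearAlgebra.TensorProduct.RightExactness
import Mathlib.RingTheory.Flat.CategoryTheory
import Mathlib.Algebra.Category.ModuleCat.Presheaf.Monoidal
import Mathlib.Algebra.Category.ModuleCat.Presheaf.Free
import Mathlib.Algebra.Category.ModuleCat.Presheaf.EpiMono
import Mathlib.Algebra.Category.ModuleCat.Presheaf.Abelian
import Mathlib.Algebra.Homology.ShortComplex.ModuleCat
import Mathlib.Algebra.Homology.ShortComplex.ShortExact
import Mathlib.Algebra.Homology.ShortComplex.ExactFunctor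

/-! # Tensoring short exact sequences with flat third term -/

universe u

open CategoryTheory CategoryTheory.Limits TensorProduct

namespace Groth.L10.PshFlat

theorem rTensor_injective {R : Type u} [CommRing R] {X₁ X₂ X₃ K P G : Type u} [AddCommGroup X₁] [Module R X₁]
    [AddCommGroup X₂] [Module R X₂] [AddCommGroup X₃] [Module R X₃] [AddCommGroup K] [Module R K]
    [AddCommGroup P] [Module R P] [AddCommGroup G] [Module R G] [Module.Flat R P]
    (f : X₁ →ₗ[R] X₂) (g : X₂ →ₗ[R] X₃) (hfg : Function.Exact f g) (hf : Function.Injective f)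
    (hg : Function.Surjective g) (ι : K →ₗ[R] P) (π : P →ₗ[R] G) (hιπ : Function.Exact ι π)
    (hπ : Function.Surjective π) (hinj : Function.Injective (ι.lTensor X₃)) :
    Function.Injective (f.rTensor G) := by
  have comm : ∀ {A B C D : Type u} [AddCommGroup A] [Module R A] [AddCommGroup B] [Module R B] [AddCommGroup C]
      [Module R C] [AddCommGroup D] [Module R D] (φ : A →ₗ[R] B) (ψ : C →ₗ[R] D) (x : A ⊗[R] C),
      ψ.lTensor B (φ.rTensor C x) = φ.rTensor D (ψ.lTensor A x) := fun φ ψ x => by
    rw [← LinearMap.comp_apply, LinearMap.lTensor_comp_rTensor, ← LinearMap.rTensor_comp_lTensor, LinearMap.comp_apply]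
  rw [injective_iff_map_eq_zero]
  intro a ha
  obtain ⟨a', rfl⟩ := LinearMap.lTensor_surjective X₁ hπ a
  have h1 : π.lTensor X₂ (f.rTensor P a') = 0 := by rw [comm f π a', ha]
  obtain ⟨b, hb⟩ := ((lTensor_exact X₂ hιπ hπ) _).1 h1
  have h2 : g.rTensor K b = 0 := by
    refine hinj ?_
    rw [map_zero, comm g ι b, hb, ← LinearMap.comp_apply, ← LinearMap.rTensor_comp]
    rw [show g ∘ₗ f = 0 from LinearMap.ext fun x => hfg.apply_apply_eq_zero x]
    simp
  obtain ⟨c, rfl⟩ := ((rTensor_exact K hfg hg) _).1 h2
  have h3 : ι.lTensor X₁ c = a' := Module.Flat.rTensor_preserves_injective_linearMap f hf (by rw [← comm, hb])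
  rw [← h3, ← LinearMap.comp_apply, ← LinearMap.lTensor_comp,
    show π ∘ₗ ι = 0 from LinearMap.ext fun x => hιπ.apply_apply_eq_zero x]
  simp

theorem lTensor_injective_of_rTensor {R : Type u} [CommRing R] {K P M : Type u} [AddCommGroup K] [Module R K]
    [AddCommGroup P] [Module R P] [AddCommGroup M] [Module R M] (ι : K →ₗ[R] P) (h : Function.Injective (ι.rTensor M)) :
    Function.Injective (ι.lTensor M) := by
  have key : ∀ z, ι.rTensor M (TensorProduct.comm R M K z) = TensorProduct.comm R M P (ι.lTensor M z) := fun z => by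
    induction z using TensorProduct.induction_on with
    | zero => simp
    | tmul x y => rfl
    | add x y hx hy => simp only [map_add, hx, hy]
  intro a b hab
  exact (TensorProduct.comm R M K).injective (h ((key a).trans ((congrArg _ hab).trans (key b).symm)))

end Groth.L10.PshFlat

namespace Groth.L10.PshFlat

set_option backward.defeqAttrib.useBackward true
set_option backward.isDefEq.respectTransparency false
set_option backward.isDefEq.respectTransparency.types false

open MonoidalCategory

variable {C : Type u} [SmallCategory C] (O : Cᵒᵖ ⥤ CommRingCat.{u})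

set_option maxHeartbeats 800000 in
theorem shortExact_tensorRight (S : ShortComplex (PresheafOfModules.{u} (O ⋙ forget₂ CommRingCat.{u} RingCat.{u})))
    (hS : S.ShortExact) (hF : PreservesFiniteLimits (tensorRight S.X₃))
    (G : PresheafOfModules.{u} (O ⋙ forget₂ CommRingCat.{u} RingCat.{u})) [(tensorRight G).PreservesZeroMorphisms] :
    (S.map (tensorRight G)).ShortExact := by
  haveI := hS.mono_f
  haveI := hS.epi_g
  haveI := hF
  let T := PresheafOfModules.toPresheaf (O ⋙ forget₂ CommRingCat.{u} RingCat.{u}) ⋙
    (Functor.whiskeringRight _ _ _).obj (forget Ab)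
  let adj := PresheafOfModules.freeAdjunction.{u} (O ⋙ forget₂ CommRingCat.{u} RingCat.{u})
  let P := (PresheafOfModules.free (O ⋙ forget₂ CommRingCat.{u} RingCat.{u})).obj (T.obj G)
  let π : P ⟶ G := adj.counit.app G
  have hπ : ∀ X, Function.Surjective (π.app X) := fun X y =>
    ⟨ModuleCat.freeMk (R := (O ⋙ forget₂ CommRingCat.{u} RingCat.{u}).obj X) y,
      congr($((adj.right_triangle_components G)).app X y)⟩
  haveI : Epi π := PresheafOfModules.epi_of_surjective hπ
  let ev := fun X : Cᵒᵖ => PresheafOfModules.evaluation (O ⋙ forget₂ CommRingCat.{u} RingCat.{u}) X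
  let K := ShortComplex.mk (kernel.ι π) π (kernel.condition π)
  have hK : K.Exact := ShortComplex.exact_of_f_is_kernel K (kernelIsKernel π)
  haveI : ∀ X, (ev X).Additive := fun X => inferInstance
  haveI : ∀ X, PreservesFiniteLimits (ev X) := fun X => inferInstance
  haveI : ∀ X, PreservesFiniteColimits (ev X) := fun X => inferInstance
  have hinj : ∀ X, Function.Injective (((tensorRight S.X₃).map (kernel.ι π)).app X) := fun X =>
    PresheafOfModules.injective_of_mono ((tensorRight S.X₃).map (kernel.ι π)) X
  haveI : PreservesFiniteColimits (tensorRight G) := inferInstance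
  haveI := preservesBinaryBiproducts_of_preservesBinaryCoproducts (tensorRight G)
  haveI : (tensorRight G).Additive := Functor.additive_of_preservesBinaryBiproducts _
  have hR := (Functor.preservesFiniteColimits_iff_forall_exact_map_and_epi (tensorRight G)).1 inferInstance S hS
  refine { exact := hR.1, mono_f := PresheafOfModules.mono_of_injective fun X => ?_, epi_g := hR.2 }
  let R : Type u := O.obj X
  have eS := (hS.map_of_exact (ev X))
  have eK := hK.map (ev X)
  haveI : Module.Flat (O.obj X) ↑(P.obj X) :=
    inferInstanceAs (Module.Flat (O.obj X) ((T.obj G).obj X →₀ (O.obj X)))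
  refine rTensor_injective (R := O.obj X) (S.f.app X).hom (S.g.app X).hom
    ((ShortComplex.ShortExact.moduleCat_exact_iff_function_exact _).1 eS.exact)
    ((ModuleCat.mono_iff_injective _).1 eS.mono_f) ((ModuleCat.epi_iff_surjective _).1 eS.epi_g)
    ((kernel.ι π).app X).hom (π.app X).hom
    ((ShortComplex.ShortExact.moduleCat_exact_iff_function_exact _).1 eK) (hπ X) ?_
  exact lTensor_injective_of_rTensor _ (hinj X)

end Groth.L10.PshFlat
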