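import Groth.Agent.L15.PullFlat.TensorNat
import Groth.Prelude.Def_AlgSpPerf

/-! Inverse image of free modules. -/

set_option autoImplicit false
set_option backward.isDefEq.respectTransparency false

universe u

open CategoryTheory CategoryTheory.Limits Opposite

noncomputable section

namespace Groth.L10.PullFree

variable {C D : Type u} [SmallCategory C] [SmallCategory D] {J : GrothendieckTopology C}
  {K : GrothendieckTopology D} {O_C : Sheaf J CommRingCat.{u}} {O_D : Sheaf K CommRingCat.{u}}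
  (f : ModSite.RMor O_C O_D)

theorem nonempty_pull_free (I : Type u) :
    Nonempty (f.pull.obj (SheafOfModules.free (R := ModSite.ringSh O_D) I) ≅
      SheafOfModules.free (R := ModSite.ringSh O_C) I) := by
  haveI : f.pull.IsLeftAdjoint := ⟨_, ⟨f.adj⟩⟩
  let e := Groth.L15.PullFlat.pullUnitIso f
  let c₁ := Cofan.mk (f.pull.obj (SheafOfModules.free (R := ModSite.ringSh O_D) I))
    (fun i => f.pull.map (SheafOfModules.ιFree i : ModSite.unit O_D ⟶ SheafOfModules.free I))
  have h₁ : IsColimit c₁ :=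
    isColimitCofanMkObjOfIsColimit f.pull _ _ (SheafOfModules.isColimitFreeCofan (R := ModSite.ringSh O_D) I)
  exact ⟨IsColimit.coconePointsIsoOfNatIso h₁ (SheafOfModules.isColimitFreeCofan (R := ModSite.ringSh O_C) I)
    (Discrete.natIso fun _ => e)⟩

theorem isStrictlyPerfectMod_pull (E : CochainComplex (ModSite.Mod O_D) ℤ)
    (hE : DCoh.IsStrictlyPerfectMod (ModSite.ringSh O_D) E) :
    DCoh.IsStrictlyPerfectMod (ModSite.ringSh O_C) ((f.pull.mapHomologicalComplex (ComplexShape.up ℤ)).obj E) := by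
  obtain ⟨⟨a, b, hab⟩, hs⟩ := hE
  refine ⟨⟨a, b, fun i hi => f.pull.map_isZero (hab i hi)⟩, fun i => ?_⟩
  obtain ⟨n, ι, p, hip⟩ := hs i
  obtain ⟨e⟩ := nonempty_pull_free f (ULift.{u} (Fin n))
  refine ⟨n, f.pull.map ι ≫ e.hom, e.inv ≫ f.pull.map p, ?_⟩
  rw [Category.assoc, e.hom_inv_id_assoc, ← f.pull.map_comp, hip, f.pull.map_id]
  rfl

end Groth.L10.PullFree
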