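import Groth.Agent.L10.PullSES
import Groth.Agent.L15.KFlatSite.Assoc
import Groth.Agent.L00.ConeTransfer
import Mathlib.Algebra.Homology.HomologicalComplexLimits
import Mathlib.Algebra.Homology.HomologicalComplexAbelian

/-! Inverse image of K-flat complexes with flat terms. -/

set_option autoImplicit false
set_option backward.isDefEq.respectTransparency false
set_option backward.isDefEq.respectTransparency.types false

set_option maxHeartbeats 300000

universe u

open CategoryTheory CategoryTheory.Limits Opposite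

noncomputable section

namespace Groth.L10.PullKFlat

open Groth.L15.KFlatSite Groth.L15.FlatCrit

variable {C D : Type u} [SmallCategory C] [SmallCategory D] {J : GrothendieckTopology C}
  {K : GrothendieckTopology D} {O_C : Sheaf J CommRingCat.{u}} {O_D : Sheaf K CommRingCat.{u}}
  (f : ModSite.RMor O_C O_D)

theorem isFlat_pull {M : ModSite.Mod O_D} (h : ModSite.IsFlat M) : ModSite.IsFlat (f.pull.obj M) :=
  flat_of_hasTrivialRelations _ (Groth.L15.PullFlat.hasTrivialRelations_pull f M (hasTrivialRelations_of_flat M h))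

section cycles

variable (E : CochainComplex (ModSite.Mod O_D) ℤ)

/-- A complex with zero differential. -/
def zeroDiff {A : Type*} [Category A] [HasZeroMorphisms A] (X : ℤ → A) : CochainComplex A ℤ where
  X := X
  d _ _ := 0
  shape _ _ _ := rfl
  d_comp_d' _ _ _ _ _ := comp_zero

/-- The cycles as a subcomplex. -/
def incl : zeroDiff (fun n => E.cycles n) ⟶ E where
  f n := E.iCycles n
  comm' i j _ := by simp [zeroDiff]

/-- The boundaries as a quotient complex. -/
def proj : E ⟶ zeroDiff (fun n => E.cycles (n + 1)) where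
  f n := E.toCycles n (n + 1)
  comm' i j hij := by
    change E.toCycles i (i + 1) ≫ 0 = E.d i j ≫ E.toCycles j (j + 1)
    rw [comp_zero, E.d_toCycles]

/-- The cycles sequence. -/
def cycSC : ShortComplex (CochainComplex (ModSite.Mod O_D) ℤ) :=
  ShortComplex.mk (incl E) (proj E) (by
    apply HomologicalComplex.hom_ext
    intro n
    change E.iCycles n ≫ E.toCycles n (n + 1) = 0
    rw [← cancel_mono (E.iCycles (n + 1))]
    simp)

theorem shortExact_cyc (hac : ∀ n, E.ExactAt n) (n : ℤ) :
    (ShortComplex.mk (E.iCycles n) (E.toCycles n (n + 1)) (by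
      rw [← cancel_mono (E.iCycles (n + 1))]; simp)).ShortExact where
  exact := by
    rw [ShortComplex.exact_iff_exact_up_to_refinements]
    intro W x hx
    have hx' : x ≫ E.d n (n + 1) = 0 := by
      have h := congrArg (· ≫ E.iCycles (n + 1)) hx
      simpa using h
    exact ⟨W, 𝟙 W, inferInstance, E.liftCycles x (n + 1) (by simp) hx', by simp⟩
  mono_f := inferInstanceAs (Mono (E.iCycles n))
  epi_g := by
    have h := (HomologicalComplex.exactAt_iff' E n (n + 1) (n + 1 + 1) (by simp) (by simp)).1 (hac (n + 1))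
    change Epi (E.toCycles n (n + 1))
    rw [epi_iff_surjective_up_to_refinements]
    intro W y
    obtain ⟨W', π, hπ, x, hx⟩ := h.exact_up_to_refinements (y ≫ E.iCycles (n + 1)) (by
      change (y ≫ E.iCycles (n + 1)) ≫ E.d (n + 1) (n + 1 + 1) = 0
      simp)
    exact ⟨W', π, hπ, x, by rw [← cancel_mono (E.iCycles (n + 1))]; simpa using hx⟩

/-- An acyclic K-flat complex with flat terms has K-flat inverse image. -/
theorem isKFlat_pull_of_acyclic (hac : ∀ i, IsZero (E.homology i)) (hK : ModSite.IsKFlat E)
    (hfl : ∀ i, ModSite.IsFlat (E.X i)) :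
    ModSite.IsKFlat ((f.pull.mapHomologicalComplex (ComplexShape.up ℤ)).obj E) := by
  have hZ : ∀ n, ModSite.IsFlat (E.cycles n) := fun n => isFlat_cycles E hK hac hfl n
  have hex : ∀ n, E.ExactAt n := fun n => (HomologicalComplex.exactAt_iff_isZero_homology _ _).2 (hac n)
  let F := f.pull.mapHomologicalComplex (ComplexShape.up ℤ)
  have : F.PreservesZeroMorphisms := inferInstance
  have hS : ((cycSC E).map F).ShortExact := HomologicalComplex.shortExact_of_degreewise_shortExact _ fun n =>
    Groth.L10.PullSES.shortExact_pull f _ (shortExact_cyc E hex n) (hasTrivialRelations_of_flat _ (hZ (n + 1)))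
  exact (two_of_three_flat hS fun n => isFlat_pull f (hZ (n + 1))).2.1
    (of_zeroDiff _ (fun m n => f.pull.map_zero _ _) fun n => isFlat_pull f (hZ n))
    (of_zeroDiff _ (fun m n => f.pull.map_zero _ _) fun n => isFlat_pull f (hZ (n + 1)))

end cycles

instance : PreservesColimitsOfShape ℕ (f.pull.mapHomologicalComplex (ComplexShape.up ℤ)) := by
  have : f.pull.IsLeftAdjoint := ⟨_, ⟨f.adj⟩⟩
  have : ∀ n, PreservesColimitsOfShape ℕ (f.pull.mapHomologicalComplex (ComplexShape.up ℤ) ⋙
      HomologicalComplex.eval (ModSite.Mod O_C) (ComplexShape.up ℤ) n) := fun n =>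
    inferInstanceAs (PreservesColimitsOfShape ℕ (HomologicalComplex.eval (ModSite.Mod O_D) (ComplexShape.up ℤ) n ⋙ f.pull))
  exact HomologicalComplex.preservesColimitsOfShape_of_eval
    (f.pull.mapHomologicalComplex (ComplexShape.up ℤ)) this

theorem isKFlat_pull_step {N G : CochainComplex (ModSite.Mod O_D) ℤ} (f' : N ⟶ G)
    (ih : ModSite.IsKFlat ((f.pull.mapHomologicalComplex (ComplexShape.up ℤ)).obj N)) :
    ModSite.IsKFlat ((f.pull.mapHomologicalComplex (ComplexShape.up ℤ)).obj
      (CochainComplex.mappingCone (Groth.L00.Cell.φ (cover O_D) (coverπ O_D) f'))) := by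
  refine of_iso (CochainComplex.mappingCone.mapHomologicalComplexIso _ f.pull).symm ?_
  refine mappingCone_of_zeroDiff _ ?_ ?_ ih
  · intro m n
    exact f.pull.map_zero _ _
  · intro n
    exact isFlat_pull f (isFlat_cover (Groth.L00.Cell.R f' n))

theorem isKFlat_pull_colim (K' : ℕ ⥤ CochainComplex (ModSite.Mod O_D) ℤ) (c : Cocone K') (hc : IsColimit c)
    (hK : ∀ k, ModSite.IsKFlat ((f.pull.mapHomologicalComplex (ComplexShape.up ℤ)).obj (K'.obj k))) :
    ModSite.IsKFlat ((f.pull.mapHomologicalComplex (ComplexShape.up ℤ)).obj c.pt) := by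
  have hc' := isColimitOfPreserves (f.pull.mapHomologicalComplex (ComplexShape.up ℤ)) hc
  have h := fun L hL i => acyclic_of_isColimit _ (isColimitOfPreserves (T L) hc') i
    (fun k => hK k L hL i)
  exact h

theorem isKFlat_pull_res (e : Arrow (CochainComplex (ModSite.Mod O_D) ℤ)) (hz : IsZero e.left) :
    ModSite.IsKFlat ((f.pull.mapHomologicalComplex (ComplexShape.up ℤ)).obj ((Res O_D).obj e)) := by
  refine Groth.L00.Cell.res_induction (cover O_D) (coverπ O_D) e
    (fun N => ModSite.IsKFlat ((f.pull.mapHomologicalComplex (ComplexShape.up ℤ)).obj N)) ?_ ?_ ?_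
  · exact zero _ ((f.pull.mapHomologicalComplex (ComplexShape.up ℤ)).map_isZero hz)
  · intro N f' ih
    exact isKFlat_pull_step f f' ih
  · intro K' c hc hK
    exact isKFlat_pull_colim f K' c hc hK

theorem isKFlat_pull (L : CochainComplex (ModSite.Mod O_D) ℤ) (hL : ModSite.IsKFlat L)
    (hfl : ∀ n, ModSite.IsFlat (L.X n)) :
    ModSite.IsKFlat ((f.pull.mapHomologicalComplex (ComplexShape.up ℤ)).obj L) := by
  let e : Arrow (CochainComplex (ModSite.Mod O_D) ℤ) :=
    Arrow.mk (0 : (HomologicalComplex.zero : CochainComplex (ModSite.Mod O_D) ℤ) ⟶ L)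
  have hz : IsZero e.left := HomologicalComplex.isZero_zero
  have hq : QuasiIso ((Groth.L00.Cell.resOut (cover O_D) (coverπ O_D)).app e) :=
    Groth.L00.Cell.quasiIso_resOut _ _ e
  have hP : ModSite.IsKFlat ((Res O_D).obj e) := isKFlat_res e (zero _ hz)
  have hPfl : ∀ n, ModSite.IsFlat (((Res O_D).obj e).X n) := isFlat_res e fun n =>
    isFlat_zero ((HomologicalComplex.eval (ModSite.Mod O_D) (ComplexShape.up ℤ) n).map_isZero hz)
  generalize hq' : (Groth.L00.Cell.resOut (cover O_D) (coverπ O_D)).app e = q at hq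
  have hM := isKFlat_pull_of_acyclic f (CochainComplex.mappingCone q)
    (fun i => @Groth.L00.ConeTransfer.acyclic_cone _ _ _ _ _ q hq i)
    (isKFlat_cone q hP hL) (fun n => isFlat_mappingCone q hPfl hfl n)
  exact (cone_two_of_three ((f.pull.mapHomologicalComplex (ComplexShape.up ℤ)).map q)).2.1
    (isKFlat_pull_res f e hz)
    (of_iso (CochainComplex.mappingCone.mapHomologicalComplexIso q f.pull) hM)

end Groth.L10.PullKFlat
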