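import Groth.Agent.L15.PullFlat.Flat
import Groth.Agent.L15.PullFlat.TensorNat
import Groth.Agent.L15.FPFree.Basic
import Groth.Agent.L15.FlatCrit.Relations

/-! Inverse image of a short exact sequence with flat quotient is short exact. -/

set_option autoImplicit false
set_option backward.isDefEq.respectTransparency false

universe u

open CategoryTheory CategoryTheory.Limits Opposite

noncomputable section

namespace Groth.L10.PullSES

open Groth.L15.PullFlat Groth.L15.FlatCrit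

variable {C D : Type u} [SmallCategory C] [SmallCategory D] {J : GrothendieckTopology C}
  {K : GrothendieckTopology D} {O_C : Sheaf J CommRingCat.{u}} {O_D : Sheaf K CommRingCat.{u}}

theorem exists_local_lifts {B Q : ModSite.Mod O_D} (p : B ⟶ Q) [Epi p] {V : D} :
    ∀ {l : ℕ} (T : Fin l → ModSite.sect Q V),
      ∃ S ∈ K V, ∀ ⦃W : D⦄ (g : W ⟶ V), S g →
        ∀ e, ∃ y : ModSite.sect B W, p.val.app (op W) y = rs Q g (T e)
  | 0, _ => ⟨⊤, K.top_mem V, fun _ _ _ e => e.elim0⟩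
  | l + 1, T => by
    obtain ⟨S₁, hS₁, h₁⟩ := exists_local_lifts p (fun e : Fin l => T e.castSucc)
    obtain ⟨S₂, hS₂, h₂⟩ := Groth.L15.FPFree.exists_local_lift p (T (Fin.last l))
    refine ⟨S₁ ⊓ S₂, K.intersection_covering hS₁ hS₂, fun W g hg e => ?_⟩
    induction e using Fin.lastCases with
    | last => exact h₂ g hg.2
    | cast i => exact h₁ g hg.1 i

variable (f : ModSite.RMor O_C O_D) (S : ShortComplex (ModSite.Mod O_D)) (hS : S.ShortExact)
  (hQ : HasTrivialRelations S.X₃)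

include hS hQ in
theorem eq_zero {U : C} (y : ModSite.sect (f.pull.obj S.X₁) U)
    (hy : (f.pull.map S.f).val.app (op U) y = 0) : y = 0 := by
  classical
  haveI : PreservesFiniteLimits (Groth.L10.SiteFr.pullT (J := J) K f.fn) := f.exact
  haveI := hS.mono_f
  haveI := hS.epi_g
  let Z := f.pull.obj S.X₁
  obtain ⟨S₁, hS₁, hS₁d⟩ := exists_local_sum f S.X₁ y
  refine Groth.L15.ExtSupp.sect_ext Z S₁ hS₁ y 0 fun U₁ q₁ hq₁ => ?_
  refine Eq.trans ?_ (map_zero (rs Z q₁)).symm
  show rs Z q₁ y = 0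
  obtain ⟨z, hz⟩ := hS₁d q₁ hq₁
  obtain ⟨S₂, hS₂, hS₂d⟩ := exists_cone (J := J) K (u := f.fn) U₁ (z.support.image fun x => x.1)
  refine Groth.L15.ExtSupp.sect_ext Z S₂ hS₂ _ 0 fun U₂ q₂ hq₂ => ?_
  refine Eq.trans ?_ (map_zero (rs Z q₂)).symm
  show rs Z q₂ (rs Z q₁ y) = 0
  obtain ⟨V, g, k, hk⟩ := hS₂d q₂ hq₂
  let m : z.support → ModSite.sect S.X₁ V := fun x =>
    rs S.X₁ (k x.1.1 (Finset.mem_image_of_mem _ x.2)) x.1.2
  let c : z.support → O_C.obj.obj (op U₂) := fun x => rr O_C q₂ (z x.1)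
  have hy₂ : rs Z q₂ (rs Z q₁ y) = ∑ x, c x • beta f S.X₁ ⟨V, g⟩ (m x) := by
    rw [hz, lc, Finsupp.linearCombination_apply, Finsupp.sum, ← z.support.sum_coe_sort, map_sum]
    refine Finset.sum_congr rfl fun x _ => ?_
    rw [rs_smul, beta_move f S.X₁ q₂ x.1.1 x.1.2 g (k x.1.1 (Finset.mem_image_of_mem _ x.2)) (hk _ _)]
  rw [hy₂]
  let F₂ := f.pull.map S.f
  have hiy : ∑ x, c x • beta f S.X₂ ⟨V, g⟩ (S.f.val.app (op V) (m x)) = 0 := by
    have h := congrArg (fun w => F₂.val.app (op U₂) w) hy₂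
    have h0 : F₂.val.app (op U₂) (rs Z q₂ (rs Z q₁ y)) = 0 := by
      refine (Groth.L15.ExtSupp.res_natural F₂ q₂ _).symm.trans ?_
      refine (congrArg (rs (f.pull.obj S.X₂) q₂) ((Groth.L15.ExtSupp.res_natural F₂ q₁ y).symm.trans ?_)).trans
        (map_zero (rs (f.pull.obj S.X₂) q₂))
      exact (congrArg (rs (f.pull.obj S.X₂) q₁) hy).trans (map_zero (rs (f.pull.obj S.X₂) q₁))
    refine Eq.trans ?_ (h.symm.trans h0)
    refine Eq.trans ?_ (map_sum (F₂.val.app (op U₂)).hom _ _).symm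
    refine Finset.sum_congr rfl fun x _ => ?_
    refine Eq.trans ?_ (map_smul (F₂.val.app (op U₂)).hom (c x) _).symm
    refine congrArg (fun w => c x • w) ?_
    refine Eq.trans ?_ (Groth.L15.ExtSupp.res_natural F₂ g (etaM f S.X₁ V (m x)))
    exact congrArg (rs (f.pull.obj S.X₂) g) (pull_map_etaM f S.f V (m x)).symm
  obtain ⟨S₃, hS₃, hS₃d⟩ := exists_local_zero f S.X₂ ⟨V, g⟩ _ c hiy
  refine Groth.L15.ExtSupp.sect_ext Z S₃ hS₃ _ 0 fun U₃ q₃ hq₃ => ?_
  refine Eq.trans ?_ (map_zero (rs Z q₃)).symm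
  show rs Z q₃ _ = 0
  obtain ⟨V₃, g₃, k₃, n, p, t', idx, r, yy, hk₃, hrel, ht', hy₃⟩ := hS₃d q₃ hq₃
  let img : Fin n → Prop := fun j => ∃ x, idx x = j
  let qt : Fin n → ModSite.sect S.X₃ V₃ := fun j => S.g.val.app (op V₃) (t' j)
  have hqimg : ∀ x, qt (idx x) = 0 := fun x => by
    show S.g.val.app (op V₃) (t' (idx x)) = 0
    rw [ht']
    refine (Groth.L15.ExtSupp.res_natural S.g k₃ _).symm.trans ?_
    refine (congrArg (rs S.X₃ k₃) ?_).trans (map_zero (rs S.X₃ k₃))
    exact congr(($(S.zero)).val.app (op V) (m x))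
  let r' : Fin p → Fin n → O_D.obj.obj (op V₃) := fun l j => if img j then 0 else r l j
  have hr' : ∀ l, ∑ j, r' l j • qt j = 0 := fun l => by
    have h := congrArg (fun w => S.g.val.app (op V₃) w) (hrel l)
    refine Eq.trans ?_ (h.trans (map_zero (S.g.val.app (op V₃)).hom))
    refine Eq.trans ?_ (map_sum (S.g.val.app (op V₃)).hom _ _).symm
    refine Finset.sum_congr rfl fun j _ => ?_
    refine Eq.trans ?_ (map_smul (S.g.val.app (op V₃)).hom (r l j) (t' j)).symm
    by_cases hj : img j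
    · obtain ⟨x, rfl⟩ := hj
      show r' l (idx x) • qt (idx x) = r l (idx x) • qt (idx x)
      rw [hqimg, smul_zero, smul_zero]
    · show r' l j • qt j = r l j • qt j
      rw [show r' l j = r l j from if_neg hj]
  obtain ⟨S₄, hS₄, hS₄d⟩ := trivial_relations S.X₃ hQ p V₃ n r' qt hr'
  obtain ⟨S₅, hS₅, hS₅d⟩ := exists_sieve_bind
    (fun W (h : W ⟶ V₃) => ∃ (l : ℕ) (u : Fin l → ModSite.sect S.X₂ W) (A : Fin n → Fin l → O_D.obj.obj (op W)),
      (∀ j, rs S.X₃ h (qt j) = ∑ e, A j e • S.g.val.app (op W) (u e)) ∧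
        ∀ l' e, ∑ j, A j e * rr O_D h (r' l' j) = 0) hS₄ (fun W₁ h₁ hh₁ => by
      obtain ⟨l, T, A, hA1, hA2⟩ := hS₄d h₁ hh₁
      obtain ⟨R, hR, hRd⟩ := exists_local_lifts S.g T
      refine ⟨R, hR, fun W h₂ hh₂ => ?_⟩
      choose u hu using hRd h₂ hh₂
      refine ⟨l, u, fun j e => rr O_D h₂ (A j e), fun j => ?_, fun l' e => ?_⟩
      · rw [← rs_rs, hA1, map_sum]
        exact Finset.sum_congr rfl fun e _ => by rw [rs_smul, hu]
      · have := congrArg (rr O_D h₂) (hA2 l' e)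
        simpa only [map_sum, map_mul, rr_rr, map_zero] using this)
  obtain ⟨R, hR, hRd⟩ := cover_preserve (J := J) (u := f.fn) hS₅ g₃
  refine Groth.L15.ExtSupp.sect_ext Z R hR _ 0 fun U₄ q₄ hq₄ => ?_
  refine Eq.trans ?_ (map_zero (rs Z q₄)).symm
  show rs Z q₄ _ = 0
  obtain ⟨W, h, g₄, hh, hg₄⟩ := hRd q₄ hq₄
  obtain ⟨l, u, A, hA1, hA2⟩ := hS₅d h hh
  let A' : Fin n → Fin l → O_D.obj.obj (op W) := fun j e => if img j then 0 else A j e
  let b : Fin n → ModSite.sect S.X₂ W := fun j => rs S.X₂ h (t' j) - ∑ e, A' j e • u e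
  have hb : ∀ j, ∃ a : ModSite.sect S.X₁ W, S.f.val.app (op W) a = b j := by
    intro j
    have h0 : S.g.val.app (op W) (b j) = 0 := by
      refine (map_sub (S.g.val.app (op W)).hom _ _).trans (sub_eq_zero.2 ?_)
      refine ((Groth.L15.ExtSupp.res_natural S.g h (t' j)).symm.trans ?_).trans
        (map_sum (S.g.val.app (op W)).hom _ _).symm
      show rs S.X₃ h (qt j) = _
      by_cases hj : img j
      · obtain ⟨x, rfl⟩ := hj
        rw [hqimg, map_zero]
        refine (Finset.sum_eq_zero fun e _ => ?_).symm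
        rw [show A' (idx x) e = 0 from if_pos ⟨x, rfl⟩]
        exact (congrArg (fun w => S.g.val.app (op W) w) (zero_smul _ (u e))).trans
          (map_zero (S.g.val.app (op W)).hom)
      · rw [hA1]
        refine Finset.sum_congr rfl fun e _ => ?_
        rw [show A' j e = A j e from if_neg hj]
        exact (map_smul (S.g.val.app (op W)).hom (A j e) (u e)).symm
    obtain ⟨w, hw⟩ := Groth.L15.LocPres.exists_kernel_sect S.g (b j) h0
    let k' := hS.fIsKernel.lift (KernelFork.ofι (kernel.ι S.g) (kernel.condition S.g))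
    refine ⟨k'.val.app (op W) w, ?_⟩
    refine Eq.trans ?_ hw
    exact congr(($(hS.fIsKernel.fac (KernelFork.ofι (kernel.ι S.g) (kernel.condition S.g))
      WalkingParallelPair.zero)).val.app (op W) w)
  choose a ha using hb
  have hrA : ∀ l' e, ∑ j, rr O_D h (r l' j) * A' j e = 0 := fun l' e => by
    refine Eq.trans ?_ (hA2 l' e)
    refine Finset.sum_congr rfl fun j _ => ?_
    by_cases hj : img j
    · rw [show A' j e = 0 from if_pos hj, show r' l' j = 0 from if_pos hj, mul_zero, map_zero, mul_zero]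
    · rw [show A' j e = A j e from if_neg hj, show r' l' j = r l' j from if_neg hj, mul_comm]
  have hra : ∀ l', ∑ j, rr O_D h (r l' j) • a j = 0 := fun l' => by
    refine Groth.L15.ExtSupp.val_app_injective S.f W ?_
    rw [map_zero]
    refine (map_sum (S.f.val.app (op W)).hom _ _).trans ?_
    refine (Finset.sum_congr rfl fun j _ => (map_smul (S.f.val.app (op W)).hom (rr O_D h (r l' j)) (a j)).trans
      (congrArg (fun w => rr O_D h (r l' j) • w) (ha j))).trans ?_
    have h1 := congrArg (rs S.X₂ h) (hrel l')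
    rw [map_sum, map_zero] at h1
    simp only [rs_smul] at h1
    simp only [b, smul_sub, Finset.sum_sub_distrib, h1, zero_sub, neg_eq_zero, Finset.smul_sum, smul_smul]
    rw [Finset.sum_comm]
    refine Finset.sum_eq_zero fun e _ => ?_
    rw [← Finset.sum_smul, hrA l' e, zero_smul]
  have ham : ∀ x, rs S.X₁ (h ≫ k₃) (m x) = a (idx x) := fun x => by
    refine Groth.L15.ExtSupp.val_app_injective S.f W (Eq.trans ?_ (ha _).symm)
    refine (Groth.L15.ExtSupp.res_natural S.f (h ≫ k₃) (m x)).symm.trans ?_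
    have hz : ∑ e, A' (idx x) e • u e = 0 := Finset.sum_eq_zero fun e _ => by
      rw [show A' (idx x) e = 0 from if_pos ⟨x, rfl⟩, zero_smul]
    show _ = rs S.X₂ h (t' (idx x)) - ∑ e, A' (idx x) e • u e
    rw [hz, sub_zero, ht', rs_rs]
    rfl
  let d : Fin n → O_C.obj.obj (op U₄) := fun j => rr O_C q₄ (∑ x, if idx x = j then rr O_C q₃ (c x) else 0)
  calc rs Z q₄ (rs Z q₃ (∑ x, c x • beta f S.X₁ ⟨V, g⟩ (m x)))
      = ∑ x, rr O_C q₄ (rr O_C q₃ (c x)) • beta f S.X₁ ⟨W, g₄⟩ (a (idx x)) := by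
        simp only [map_sum, rs_smul]
        refine Finset.sum_congr rfl fun x _ => congrArg (fun w => rr O_C q₄ (rr O_C q₃ (c x)) • w) ?_
        rw [beta_move f S.X₁ q₃ ⟨V, g⟩ (m x) g₃ k₃ hk₃, beta_move f S.X₁ q₄ ⟨V₃, g₃⟩ _ g₄ h hg₄, rs_rs, ham]
    _ = ∑ j, d j • beta f S.X₁ ⟨W, g₄⟩ (a j) := by
        simp only [d, map_sum, apply_ite (rr O_C q₄), map_zero, Finset.sum_smul, ite_smul, zero_smul]
        rw [Finset.sum_comm]
        exact Finset.sum_congr rfl fun x _ => by simp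
    _ = ∑ l', rr O_C q₄ (yy l') • beta f S.X₁ ⟨W, g₄⟩ (∑ j, rr O_D h (r l' j) • a j) := by
        simp only [beta, map_sum, etaM_smul, rs_smul, Finset.smul_sum, smul_smul]
        rw [Finset.sum_comm]
        refine Finset.sum_congr rfl fun j _ => ?_
        simp only [d, hy₃, map_sum, Finset.sum_smul]
        refine Finset.sum_congr rfl fun l' _ => ?_
        congr 1
        rw [map_mul, rr_rr, mul_comm, sr_natural', hg₄]
    _ = 0 := Finset.sum_eq_zero fun l' _ => by
        rw [hra]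
        simp [beta]

include hS hQ in
theorem shortExact_pull : (S.map f.pull).ShortExact := by
  haveI : Mono (S.map f.pull).f := by
    refine ⟨fun {W} p q hpq => SheafOfModules.Hom.ext (PresheafOfModules.hom_ext fun T => ?_)⟩
    refine ModuleCat.hom_ext (LinearMap.ext fun z => ?_)
    rw [← sub_eq_zero]
    apply eq_zero f S hS hQ (U := T.unop)
    refine (map_sub ((f.pull.map S.f).val.app T).hom _ _).trans ?_
    rw [sub_eq_zero]
    exact congr(($hpq).val.app T z)
  haveI : f.pull.IsLeftAdjoint := ⟨_, ⟨f.adj⟩⟩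
  haveI := hS.epi_g
  haveI : Epi (S.map f.pull).g := f.pull.map_epi S.g
  haveI : PreservesFiniteColimits f.pull := inferInstance
  haveI : f.pull.PreservesZeroMorphisms := inferInstance
  exact { exact := ShortComplex.exact_of_g_is_cokernel _
            (isColimitCoforkMapOfIsColimit' f.pull S.zero hS.gIsCokernel) }

end Groth.L10.PullSES
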