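import Groth.Agent.L10.PushAcyclic

/-! Direct images preserving injectives preserve totally acyclic sheaves. -/

universe u

open CategoryTheory CategoryTheory.Limits CategoryTheory.Abelian Opposite

set_option backward.defeqAttrib.useBackward true
set_option backward.isDefEq.respectTransparency false
namespace Groth.L10.SiteFr

open Groth.L10.SiteCoh

variable {C D : Type u} [SmallCategory C] [SmallCategory D] {J : GrothendieckTopology C}
  (K : GrothendieckTopology D) (u : D ⥤ C) [u.IsContinuous K J]

/-- Direct images preserve totally acyclic sheaves. -/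
theorem isTotallyAcyclic_push_of_injective
    (hinj : ∀ I : Sheaf J AddCommGrpCat.{u}, Injective I → Injective ((CohSite.push J K u).obj I))
    (F : Sheaf J AddCommGrpCat.{u}) (hF : CohCx.IsTotallyAcyclic F) :
    CohCx.IsTotallyAcyclic ((CohSite.push J K u).obj F) := fun X q => by
  change Subsingleton (Ext ((fr K).obj X) ((CohSite.push J K u).obj F) (q + 1))
  induction q generalizing F with
  | zero =>
    have hs : ∀ W, Function.Surjective ((hull F).g.hom.app (op W)) := fun W => by
      have : Subsingleton (Ext ((fr J).obj (rep J W)) F 1) := hF (rep J W) 0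
      have : Subsingleton (Ext (fs J W) F 1) := (extFsRep (J := J) W F 1).toEquiv.subsingleton
      exact surjective_sections_of_subsingleton (hull_shortExact F) W
    have hS := push_shortExact_of_surjective K u (hull_shortExact F) fun W => hs _
    have : Injective ((hull F).map (CohSite.push J K u)).X₂ := hinj (hull F).X₂ inferInstance
    refine subsingleton_of_forall_eq 0 fun x => ?_
    obtain ⟨y, rfl⟩ := Ext.covariant_sequence_exact₁ _ hS x (Ext.eq_zero_of_injective _) (zero_add 1)
    obtain ⟨b, rfl⟩ := (Ext.mk₀_bijective _ _).2 y
    obtain ⟨a, rfl⟩ := exists_push_lift K u (hull_shortExact F) hF X b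
    rw [← Ext.mk₀_comp_mk₀]
    refine (Ext.comp_assoc_of_second_deg_zero _ _ _ _).trans ?_
    exact (congrArg (fun r => (Ext.mk₀ a).comp r (zero_add 1)) hS.comp_extClass).trans (Ext.comp_zero _ _ _ _ _)
  | succ q ih =>
    have hs : ∀ W, Function.Surjective ((hull F).g.hom.app (op W)) := fun W => by
      have : Subsingleton (Ext ((fr J).obj (rep J W)) F 1) := hF (rep J W) 0
      have : Subsingleton (Ext (fs J W) F 1) := (extFsRep (J := J) W F 1).toEquiv.subsingleton
      exact surjective_sections_of_subsingleton (hull_shortExact F) W
    have hS := push_shortExact_of_surjective K u (hull_shortExact F) fun W => hs _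
    have : Injective ((hull F).map (CohSite.push J K u)).X₂ := hinj (hull F).X₂ inferInstance
    refine subsingleton_of_forall_eq 0 fun x => ?_
    obtain ⟨y, rfl⟩ := Ext.covariant_sequence_exact₁ _ hS x (Ext.eq_zero_of_injective _) (n₀ := q + 1) rfl
    have := ih (hull F).X₃ fun Z m => by
      have : Subsingleton (Ext ((fr J).obj Z) (hull F).X₁ (m + 1 + 1)) := hF Z (m+1)
      have hI := fun k => Ext.subsingleton_of_injective ((fr J).obj Z) (hull F).X₂ k
      exact (extShift ((fr J).obj Z) (hull_shortExact F) m).toEquiv.subsingleton
    rw [Subsingleton.elim (α := Ext ((fr K).obj X) ((CohSite.push J K u).obj (hull F).X₃) (q+1)) y 0, Ext.zero_comp]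

end Groth.L10.SiteFr
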