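import Groth.Agent.L10.RDerTri
import Groth.Agent.L10.TowerStab
import Groth.Agent.L10.AcycProd

/-! Unbounded right derived functors of bounded cohomological dimension commute with truncations. -/

universe t w w' v v' u u'

open CategoryTheory CategoryTheory.Limits CategoryTheory.Pretriangulated DerivedCategory

set_option backward.defeqAttrib.useBackward true
set_option backward.isDefEq.respectTransparency false
namespace Groth.L10.RDerBound

open TowerStab

variable {A : Type u} [Category.{v} A] [Abelian A] [HasDerivedCategory.{w} A]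

local notation "tt" => DerivedCategory.TStructure.t

theorem exists_fibre (X : DerivedCategory A) (n : ℕ) :
    ∃ (F : DerivedCategory A) (i : F ⟶ ((tt).truncGE (-((n + 1 : ℕ) : ℤ))).obj X)
      (δ : ((tt).truncGE (-(n : ℤ))).obj X ⟶ F⟦(1 : ℤ)⟧), Triangle.mk i (tr X n) δ ∈ distTriang _ ∧
      Nonempty (F ≅ (singleFunctor A (-((n + 1 : ℕ) : ℤ))).obj ((homologyFunctor A (-((n + 1 : ℕ) : ℤ))).obj X)) := by
  let a : ℤ := -((n + 1 : ℕ) : ℤ)
  let Y := ((tt).truncGE a).obj X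
  let F := ((tt).truncLT (-(n : ℤ))).obj Y
  have hsq : ((tt).truncGEπ a).app X ≫ ((tt).truncGEπ (-(n : ℤ))).app Y =
      ((tt).truncGEπ (-(n : ℤ))).app X ≫ ((tt).truncGE (-(n : ℤ))).map (((tt).truncGEπ a).app X) :=
    ((tt).truncGEπ (-(n : ℤ))).naturality _
  have hφ : tr X n ≫ ((tt).truncGE (-(n : ℤ))).map (((tt).truncGEπ a).app X) = ((tt).truncGEπ (-(n : ℤ))).app Y := by
    have : (tt).IsGE (((tt).truncGE (-(n : ℤ))).obj Y) a := (tt).isGE_of_ge _ a (-(n : ℤ)) (by simp only [a]; omega)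
    refine (tt).from_truncGE_obj_ext ?_
    rw [← Category.assoc, (tt).π_natTransTruncGEOfLE_app]
    exact hsq.symm
  have : IsIso (((tt).truncGE (-(n : ℤ))).map (((tt).truncGEπ a).app X)) := by
    rw [DerivedCategory.isIso_iff]
    intro i
    by_cases hi : -(n : ℤ) ≤ i
    · have := isIso_H_π (-(n : ℤ)) i hi X
      have := isIso_H_π (-(n : ℤ)) i hi Y
      have := isIso_H_π a i (by simp only [a]; omega) X
      have h1 := congrArg (homologyFunctor A i).map hsq
      rw [Functor.map_comp, Functor.map_comp] at h1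
      refine @IsIso.of_isIso_comp_left _ _ _ _ _ ((homologyFunctor A i).map (((tt).truncGEπ (-(n : ℤ))).app X)) _ _ ?_
      rw [← h1]
      infer_instance
    · exact (isZero_H_GE (-(n : ℤ)) i (by omega) X).isIso (isZero_H_GE (-(n : ℤ)) i (by omega) Y) _
  have hFle : DerivedCategory.IsLE F a := (tt).isLE_truncLT_obj _ _ _ (by simp only [a]; omega)
  have hFge : DerivedCategory.IsGE F a := by
    rw [DerivedCategory.isGE_iff]
    intro i hi
    have := isIso_H_ι (-(n : ℤ)) i (by simp only [a] at hi; omega) Y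
    exact (isZero_H_GE a i hi X).of_iso (asIso ((homologyFunctor A i).map (((tt).truncLTι (-(n : ℤ))).app Y)))
  obtain ⟨e⟩ := exists_iso_single_H F a
  let eH : (homologyFunctor A a).obj F ≅ (homologyFunctor A a).obj X :=
    (@asIso _ _ _ _ _ (isIso_H_ι (-(n : ℤ)) a (by simp only [a]; omega) Y)) ≪≫
      (@asIso _ _ _ _ _ (isIso_H_π a a le_rfl X)).symm
  let φ := asIso (((tt).truncGE (-(n : ℤ))).map (((tt).truncGEπ a).app X))
  refine ⟨F, ((tt).truncLTι (-(n : ℤ))).app Y, φ.hom ≫ ((tt).truncGEδLT (-(n : ℤ))).app Y,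
    isomorphic_distinguished _ ((tt).triangleLTGE_distinguished (-(n : ℤ)) Y) _
      (Triangle.isoMk _ _ (Iso.refl _) (Iso.refl _) φ ?_ ?_ ?_), ⟨e ≪≫ (singleFunctor A a).mapIso eH⟩⟩
  · exact (Category.comp_id _).trans (Category.id_comp _).symm
  · exact hφ.trans (Category.id_comp _).symm
  · change (φ.hom ≫ _) ≫ (shiftFunctor _ (1 : ℤ)).map (𝟙 F) = φ.hom ≫ _
    rw [CategoryTheory.Functor.map_id]
    exact Category.comp_id _

/-- Maps from a test object into a bounded object vanish beyond the bound. -/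
theorem hom_bounded_eq_zero {Q : A} {d : ℕ} (k a : ℤ) : ∀ (m : ℕ) (Z : DerivedCategory A), Z.IsGE a → Z.IsLE (a + m - 1) →
    (∀ i, Small d Q ((homologyFunctor A i).obj Z)) → (d : ℤ) + (a + m - 1) + k < 0 →
    ∀ g : ((singleFunctor A 0).obj Q)⟦k⟧ ⟶ Z, g = 0 := by
  intro m
  induction m with
  | zero =>
    intro Z h1 h2 _ _ g
    exact ((tt).isZero Z (a + (0 : ℕ) - 1) a (by omega)).eq_of_tgt _ _
  | succ m ih =>
    intro Z h1 h2 hS hk g
    let L := ((tt).truncLT (a + m)).obj Z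
    let R := ((tt).truncGE (a + m)).obj Z
    have hR : R.IsGE (a + m) := inferInstance
    have hR' : R.IsLE (a + m) := by
      rw [DerivedCategory.isLE_iff]
      intro i hi
      have := isIso_H_π (a + m) i (by omega) Z
      exact (DerivedCategory.isZero_of_isLE Z (a + (m + 1 : ℕ) - 1) i (by omega)).of_iso
        (asIso ((homologyFunctor A i).map (((tt).truncGEπ (a + m)).app Z))).symm
    obtain ⟨e⟩ := exists_iso_single_H R (a + m)
    have := isIso_H_π (a + m) (a + m) le_rfl Z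
    let e' : R ≅ (singleFunctor A (a + m)).obj ((homologyFunctor A (a + m)).obj Z) :=
      e ≪≫ (singleFunctor A (a + m)).mapIso (asIso ((homologyFunctor A (a + m)).map (((tt).truncGEπ (a + m)).app Z))).symm
    have h0 : g ≫ ((tt).truncGEπ (a + m)).app Z = 0 := by
      have h' := small_single (hS (a + m)) (a + m) k (by omega) ((g ≫ ((tt).truncGEπ (a + m)).app Z) ≫ e'.hom)
      exact (cancel_mono e'.hom).1 (h'.trans zero_comp.symm)
    obtain ⟨g', rfl⟩ := Triangle.coyoneda_exact₂ _ ((tt).triangleLTGE_distinguished (a + m) Z) g h0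
    have : g' = 0 := ih L (by
        rw [DerivedCategory.isGE_iff]
        intro i hi
        have := isIso_H_ι (a + m) i (by omega) Z
        exact (DerivedCategory.isZero_of_isGE Z a i hi).of_iso (asIso ((homologyFunctor A i).map (((tt).truncLTι (a + m)).app Z))))
      ((tt).isLE_truncLT_obj _ _ _ (by omega)) (fun i p hp f => by
        by_cases hi : i < a + m
        · have := isIso_H_ι (a + m) i hi Z
          let s := (shiftFunctor (DerivedCategory A) p).mapIso ((singleFunctor A 0).mapIso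
            (asIso ((homologyFunctor A i).map (((tt).truncLTι (a + m)).app Z))))
          exact (cancel_mono s.hom).1 ((hS i p hp (f ≫ s.hom)).trans zero_comp.symm)
        · exact ((shiftFunctor (DerivedCategory A) p).map_isZero ((singleFunctor A 0).map_isZero
            (isZero_H_LT (a + m) i (by omega) Z))).eq_of_tgt _ _)
      (by omega) g'
    rw [this, zero_comp]

variable [KInjDerived.EnoughKInjectives A] [HasInjectiveResolutions A]
  {B : Type u'} [Category.{v'} B] [Abelian B] [HasDerivedCategory.{w'} B] {F : A ⥤ B} [F.Additive]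
  {RF : DerivedCategory A ⥤ DerivedCategory B}
  (α : F.mapHomotopyCategory (ComplexShape.up ℤ) ⋙ Qh ⟶ Qh ⋙ RF)
  [RF.IsRightDerivedFunctor α (HomotopyCategory.quasiIso A (ComplexShape.up ℤ))]

include α in
theorem single_H (a : ℤ) (M : A) (N : ℕ) (hN : ∀ p : ℕ, N < p → IsZero ((F.rightDerived p).obj M)) :
    (RF.obj ((singleFunctor A a).obj M)).IsGE a ∧ (RF.obj ((singleFunctor A a).obj M)).IsLE (a + N) ∧
    ∀ p : ℕ, Nonempty ((homologyFunctor B (a + p)).obj (RF.obj ((singleFunctor A a).obj M)) ≅ (F.rightDerived p).obj M) := by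
  obtain ⟨h0, hp⟩ := RDerTri.isGE_single α M
  obtain ⟨e⟩ := RDerTri.nonempty_obj_shift α ((singleFunctor A 0).obj M) (-a)
  let e' : RF.obj ((singleFunctor A a).obj M) ≅ (RF.obj ((singleFunctor A 0).obj M))⟦(-a)⟧ :=
    RF.mapIso (((singleFunctors A).shiftIso (-a) a 0 (by omega)).symm.app M) ≪≫ e
  have H : ∀ i : ℤ, (homologyFunctor B i).obj (RF.obj ((singleFunctor A a).obj M)) ≅
      (homologyFunctor B (i - a)).obj (RF.obj ((singleFunctor A 0).obj M)) := fun i =>
    (homologyFunctor B i).mapIso e' ≪≫ hShiftIso _ (-a) i (i - a) (by omega)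
  refine ⟨?_, ?_, fun p => ?_⟩
  · rw [DerivedCategory.isGE_iff]
    exact fun i hi => (DerivedCategory.isZero_of_isGE _ 0 (i - a) (by omega)).of_iso (H i)
  · rw [DerivedCategory.isLE_iff]
    intro i hi
    obtain ⟨p, hp'⟩ : ∃ p : ℕ, (p : ℤ) = i - a := ⟨(i - a).toNat, by omega⟩
    exact ((hN p (by omega)).of_iso (hp p).some).of_iso (H i ≪≫ eqToIso (by rw [hp']))
  · exact ⟨H (a + p) ≪≫ eqToIso (by rw [show a + (p : ℤ) - a = (p : ℤ) by omega]) ≪≫ (hp p).some⟩

variable (X : DerivedCategory A) (N : ℤ)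

/-- The cohomological dimension of `F` on the cohomology objects of `X` is at most `N`. -/
def Bounded : Prop := ∀ (a : ℤ) (p : ℕ), N < (p : ℤ) → IsZero ((F.rightDerived p).obj ((homologyFunctor A a).obj X))

include α in
theorem exists_fibre_map (n : ℕ) : ∃ (Z : DerivedCategory B) (i : Z ⟶ RF.obj (((tt).truncGE (-((n + 1 : ℕ) : ℤ))).obj X))
    (δ : RF.obj (((tt).truncGE (-(n : ℤ))).obj X) ⟶ Z⟦(1 : ℤ)⟧), Triangle.mk i (RF.map (tr X n)) δ ∈ distTriang _ ∧
    Nonempty (Z ≅ RF.obj ((singleFunctor A (-((n + 1 : ℕ) : ℤ))).obj ((homologyFunctor A (-((n + 1 : ℕ) : ℤ))).obj X))) := by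
  obtain ⟨F₀, i, δ, hT, ⟨e⟩⟩ := exists_fibre X n
  obtain ⟨δ', hT'⟩ := RDerTri.exists_triangle α _ hT
  exact ⟨_, _, δ', hT', ⟨RF.mapIso e⟩⟩

include α in
theorem isIso_H_map_tr (hX : Bounded (F := F) X N) (j : ℤ) (n : ℕ) (hj : N - (n : ℤ) ≤ j) :
    IsIso ((homologyFunctor B j).map (RF.map (tr X n))) := by
  obtain ⟨Z, i, δ, hT, ⟨e⟩⟩ := exists_fibre_map α X n
  let a : ℤ := -((n + 1 : ℕ) : ℤ)
  have hz : ∀ j' : ℤ, j ≤ j' → IsZero ((homologyFunctor B j').obj Z) := fun j' hj' => by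
    refine IsZero.of_iso ?_ ((homologyFunctor B j').mapIso e)
    obtain ⟨h1, -, h3⟩ := single_H α a ((homologyFunctor A a).obj X) N.toNat (fun p hp => hX a p (by omega))
    by_cases hlt : j' < a
    · exact DerivedCategory.isZero_of_isGE _ a j' hlt
    · obtain ⟨p, rfl⟩ : ∃ p : ℕ, j' = a + p := ⟨(j' - a).toNat, by omega⟩
      exact (hX a p (by simp only [a] at hj' hlt ⊢; omega)).of_iso (h3 p).some
  exact isIso_H_mor₂ _ hT j (hz j le_rfl) (hz (j + 1) (by omega))

include α in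
/-- A test object stabilises the image tower if it is small for the higher derived images. -/
theorem stable_of_small {Qo : B} {d : ℕ} (hX : Bounded (F := F) X N)
    (hS : ∀ (a : ℤ) (p : ℕ), Small d Qo ((F.rightDerived p).obj ((homologyFunctor A a).obj X))) (k : ℤ) :
    ∀ n, ((d : ℤ) + N.toNat + k + 1).toNat ≤ n →
      ∀ g : ((singleFunctor B 0).obj Qo)⟦k⟧ ⟶
        RF.obj ((singleFunctor A (-((n + 1 : ℕ) : ℤ))).obj ((homologyFunctor A (-((n + 1 : ℕ) : ℤ))).obj X)),
      g = 0 ∧ True := by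
  intro n hn g
  refine ⟨?_, trivial⟩
  obtain ⟨h1, h2, h3⟩ := single_H α (-((n + 1 : ℕ) : ℤ)) ((homologyFunctor A (-((n + 1 : ℕ) : ℤ))).obj X) N.toNat
    (fun p hp => hX _ p (by omega))
  refine hom_bounded_eq_zero (d := d) k (-((n + 1 : ℕ) : ℤ)) (N.toNat + 1) _ h1 ?_ (fun i p hp f => ?_) (by omega) g
  · rw [show -((n + 1 : ℕ) : ℤ) + ((N.toNat + 1 : ℕ) : ℤ) - 1 = -((n + 1 : ℕ) : ℤ) + (N.toNat : ℤ) by omega]
    exact h2
  · by_cases hi : i < -((n + 1 : ℕ) : ℤ)
    · exact ((shiftFunctor _ p).map_isZero ((singleFunctor B 0).map_isZero (DerivedCategory.isZero_of_isGE _ _ i hi))).eq_of_tgt _ _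
    · obtain ⟨q, rfl⟩ : ∃ q : ℕ, i = -((n + 1 : ℕ) : ℤ) + q := ⟨(i + (n + 1 : ℕ)).toNat, by omega⟩
      let s := (shiftFunctor _ p).mapIso ((singleFunctor B 0).mapIso (h3 q).some)
      exact (cancel_mono s.hom).1 ((hS _ q p hp (f ≫ s.hom)).trans zero_comp.symm)

/-- The stabilisation hypothesis on a test object. -/
def Stab (Qo : B) (d : ℕ) : Prop := ∀ (k : ℤ) (n : ℕ), (d : ℤ) + k < n →
  ∀ g : ((singleFunctor B 0).obj Qo)⟦k⟧ ⟶
    RF.obj ((singleFunctor A (-((n + 1 : ℕ) : ℤ))).obj ((homologyFunctor A (-((n + 1 : ℕ) : ℤ))).obj X)), g = 0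

include α in
theorem stab_of_small {Qo : B} {d : ℕ} (hX : Bounded (F := F) X N)
    (hS : ∀ (a : ℤ) (p : ℕ), Small d Qo ((F.rightDerived p).obj ((homologyFunctor A a).obj X))) :
    Stab (RF := RF) X Qo (d + N.toNat + 1) := fun k n hn g =>
  (stable_of_small α X N hX hS k n (by omega) g).1

include α in
theorem stab_of_small_left [EnoughInjectives A] [HasExt.{w'} B] {G : B ⥤ A} [G.Additive] (adj : G ⊣ F)
    (hE : ∀ Z : B, ∃ (Y : B) (p : Y ⟶ Z), AcycObj.Acyc F Y ∧ Epi p) {Qo : B} (hQ : AcycObj.Acyc F Qo) {d : ℕ}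
    (hS : ∀ a : ℤ, Small d (G.obj Qo) ((homologyFunctor A a).obj X)) : Stab (RF := RF) X Qo d := fun k n hn g => by
  let eB : (singleFunctor B (-k)).obj Qo ≅ ((singleFunctor B 0).obj Qo)⟦k⟧ :=
    ((singleFunctors B).shiftIso k (-k) 0 (by omega)).symm.app Qo
  rw [← cancel_epi eB.hom, comp_zero]
  refine RDerTri.hom_eq_zero α adj hE Qo hQ (-k) _ (fun g' => ?_) _
  let eA : (singleFunctor A (-k)).obj (G.obj Qo) ≅ ((singleFunctor A 0).obj (G.obj Qo))⟦k⟧ :=
    ((singleFunctors A).shiftIso k (-k) 0 (by omega)).symm.app _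
  exact (cancel_epi eA.inv).1 ((small_single (hS _) _ k (by omega) (eA.inv ≫ g')).trans comp_zero.symm)

include α in
theorem bijective_map_tr {Qo : B} {d : ℕ} (h : Stab (RF := RF) X Qo d) (k : ℤ) (n : ℕ) (hn : (d : ℤ) + k < n) :
    Function.Bijective (fun x : ((singleFunctor B 0).obj Qo)⟦k⟧ ⟶ RF.obj (((tt).truncGE (-((n + 1 : ℕ) : ℤ))).obj X) =>
      x ≫ RF.map (tr X n)) := by
  obtain ⟨Z, i, δ, hT, ⟨e⟩⟩ := exists_fibre_map α X n
  have h0 : ∀ g : ((singleFunctor B 0).obj Qo)⟦k⟧ ⟶ Z, g = 0 := fun g =>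
    (cancel_mono e.hom).1 ((h k n hn _).trans zero_comp.symm)
  have h1 : ∀ g : ((singleFunctor B 0).obj Qo)⟦k⟧ ⟶ Z⟦(1 : ℤ)⟧, g = 0 := fun g => by
    let e₂ := (shiftFunctorAdd' (DerivedCategory B) k (-1) (k - 1) (by omega)).app ((singleFunctor B 0).obj Qo)
    let u := (shiftEquiv (DerivedCategory B) (1 : ℤ)).unitIso.symm.app Z
    have h0 := h (k - 1) n (by omega) (e₂.hom ≫ g⟦(-1 : ℤ)⟧' ≫ u.hom ≫ e.hom)
    refine (shiftFunctor _ (-1 : ℤ)).map_injective ?_
    rw [Functor.map_zero, ← cancel_epi e₂.hom, ← cancel_mono (u.hom ≫ e.hom), Category.assoc, h0, comp_zero, zero_comp]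
  refine ⟨fun x x' hx => ?_, fun y => ?_⟩
  · rw [← sub_eq_zero]
    obtain ⟨g, hg⟩ := Triangle.coyoneda_exact₂ _ hT (x - x')
      ((Preadditive.sub_comp _ _ _).trans (sub_eq_zero.2 hx))
    exact hg.trans ((congrArg (· ≫ _) (h0 g)).trans zero_comp)
  · obtain ⟨x, hx⟩ := Triangle.coyoneda_exact₃ _ hT y (h1 _)
    exact ⟨x, hx.symm⟩

variable [HasProductsOfShape ℕ A] [HasProductsOfShape ℕ B] [KInjDerived.EnoughKInjectives B] [EnoughInjectives A]
  [HasExt.{w'} B] [PreservesLimitsOfShape (Discrete ℕ) F] {G : B ⥤ A} [G.Additive] (adj : G ⊣ F)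
  (hE : ∀ Z : B, ∃ (Y : B) (p : Y ⟶ Z), AcycObj.Acyc F Y ∧ Epi p)

include α adj hE in
/-- Main theorem: under local bounds, `RF` commutes with truncations in the stable range. -/
theorem isIso_H_map_π {ιA ιB : Type t} {𝒞A : LocalDetect.Cover A ιA} (hlocA : LocBounded 𝒞A X)
    (𝒞B : LocalDetect.Cover B ιB) (hX : Bounded (F := F) X N)
    (hlocB : ∀ i, ∃ d : ℕ, ∀ Qo, 𝒞B.good i Qo → Stab (RF := RF) X Qo d)
    (n : ℕ) (j : ℤ) (hj : N - (n : ℤ) ≤ j) :
    IsIso ((homologyFunctor B j).map (RF.map (((tt).truncGEπ (-(n : ℤ))).app X))) := by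
  have := DerivedProd.hasProductsOfShape (A := A) (ι := ℕ)
  have := DerivedProd.hasProductsOfShape (A := B) (ι := ℕ)
  have hL := isRlimVia_truncGE hlocA
  have hRL := ExactProd.isRlimVia_of_prod F RF α (fun I hI W => AcycObj.product_bijective adj hE I W) _ _ X _ hL
  refine isIso_H_rlim 𝒞B hRL j n (fun m hm => isIso_H_map_tr α X N hX j m (by omega)) fun i => ?_
  obtain ⟨d, hd⟩ := hlocB i
  exact ⟨((d : ℤ) - j + 2).toNat, fun Qo hQo m hm =>
    ⟨bijective_map_tr α X (hd Qo hQo) _ m (by omega), (bijective_map_tr α X (hd Qo hQo) _ m (by omega)).surjective⟩⟩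

end Groth.L10.RDerBound
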