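import Mathlib.CategoryTheory.Abelian.GrothendieckAxioms.Indization
import Mathlib.CategoryTheory.Abelian.GrothendieckCategory.EnoughInjectives
import Mathlib.CategoryTheory.Sites.Point.Conservative
import Mathlib.CategoryTheory.Sites.Coherent.RegularSheaves
import Mathlib.CategoryTheory.Preadditive.Yoneda.Basic
import Mathlib.CategoryTheory.Preadditive.Yoneda.Limits
import Mathlib.CategoryTheory.Sites.Limits
import Mathlib.CategoryTheory.Sites.Abelian
import Mathlib.CategoryTheory.Sites.LocallyBijective
import Mathlib.CategoryTheory.Sites.EpiMono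
import Mathlib.CategoryTheory.ConcreteCategory.EpiMono
import Mathlib.Algebra.Category.Grp.EpiMono
import Mathlib.CategoryTheory.Sites.Coherent.RegularTopology
import Mathlib.Algebra.Category.Grp.Abelian
import Mathlib.Algebra.Category.Grp.FilteredColimits

/-! The regular topology of a small abelian category: Yoneda embedding and points. -/

universe u

open CategoryTheory CategoryTheory.Limits Opposite
open scoped ZeroObject

set_option autoImplicit false
set_option backward.defeqAttrib.useBackward true
set_option backward.isDefEq.respectTransparency false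
set_option backward.isDefEq.respectTransparency.types false

noncomputable section

namespace Groth.L10.RegularPoints

variable {A : Type u} [SmallCategory A] [Abelian A]

/-- The embedding of the opposite category into its ind-completion. -/
abbrev L : Aᵒᵖ ⥤ Ind Aᵒᵖ := Ind.yoneda

instance : (L (A := A)).Additive := Functor.additive_of_preserves_binary_products _

/-- Maps into an injective ind-object, as a functor. -/
abbrev fib (I : Ind Aᵒᵖ) : A ⥤ Type u where
  obj X := L.obj (op X) ⟶ I
  map f := TypeCat.ofHom fun x => L.map f.op ≫ x
  map_id X := by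
    ext x
    simp
  map_comp f g := by
    ext x
    simp

theorem isCofiltered_elements (I : Ind Aᵒᵖ) : IsCofiltered (fib I).Elements :=
  have : IsCofilteredOrEmpty (fib I).Elements :=
    { cone_objs := fun a b => ⟨⟨a.1 ⊞ b.1, L.map (biprod.inl : a.1 ⟶ a.1 ⊞ b.1).op ≫ a.2 +
          L.map (biprod.inr : b.1 ⟶ a.1 ⊞ b.1).op ≫ b.2⟩,
        CategoryOfElements.homMk _ _ biprod.fst (by
          change L.map biprod.fst.op ≫ (_ + _) = a.2
          rw [Preadditive.comp_add, ← Functor.map_comp_assoc, ← Functor.map_comp_assoc, ← op_comp, ← op_comp,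
            biprod.inl_fst, biprod.inr_fst]
          simp),
        CategoryOfElements.homMk _ _ biprod.snd (by
          change L.map biprod.snd.op ≫ (_ + _) = b.2
          rw [Preadditive.comp_add, ← Functor.map_comp_assoc, ← Functor.map_comp_assoc, ← op_comp, ← op_comp,
            biprod.inl_snd, biprod.inr_snd]
          simp),
        trivial⟩
      cone_maps := fun a b f g => by
        let k := kernel.ι (f.1 - g.1)
        have h0 : L.map (f.1 - g.1).op ≫ a.2 = 0 := by
          rw [op_sub, Functor.map_sub, Preadditive.sub_comp, sub_eq_zero]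
          exact f.2.trans g.2.symm
        have hS : (ShortComplex.mk (f.1 - g.1).op k.op (by rw [← op_comp, kernel.condition, op_zero])).Exact :=
          (ShortComplex.exact_of_f_is_kernel (ShortComplex.mk k (f.1 - g.1) (kernel.condition _))
            (kernelIsKernel _)).op
        have : Epi k.op := inferInstance
        have hS' := hS.map L
        have : Epi ((ShortComplex.mk (f.1 - g.1).op k.op (by rw [← op_comp, kernel.condition, op_zero])).map L).g :=
          inferInstanceAs (Epi (L.map k.op))
        refine ⟨⟨kernel (f.1 - g.1), hS'.desc a.2 h0⟩, CategoryOfElements.homMk _ _ k (hS'.g_desc a.2 h0), ?_⟩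
        apply CategoryOfElements.ext
        change k ≫ f.1 = k ≫ g.1
        rw [← sub_eq_zero, ← Preadditive.comp_sub, kernel.condition] }
  have : Nonempty (fib I).Elements := ⟨⟨(0 : A), (0 : L.obj (op (0 : A)) ⟶ I)⟩⟩
  IsCofiltered.mk

/-- The point of an injective ind-object. -/
def point [Preregular A] (I : Ind Aᵒᵖ) [Injective I] : GrothendieckTopology.Point.{u} (regularTopology A) where
  fiber := fib I
  isCofiltered := isCofiltered_elements I
  initiallySmall := initiallySmall_of_essentiallySmall _
  jointly_surjective {X} R hR x := by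
    obtain ⟨Y, π, hπ, hRπ⟩ := (regularTopology.mem_sieves_iff_hasEffectiveEpi R).1 hR
    have : Mono (L.map π.op) := inferInstance
    exact ⟨Y, π, hRπ, Injective.factorThru x (L.map π.op), Injective.comp_factorThru x (L.map π.op)⟩

theorem hasEnoughPoints [Preregular A] : GrothendieckTopology.HasEnoughPoints.{u} (regularTopology A) := by
  refine ⟨ObjectProperty.ofObj fun X : A => point (Injective.under (L.obj (op X))), inferInstance,
    ObjectProperty.IsConservativeFamilyOfPoints.mk' fun X S hS => ?_⟩
  obtain ⟨Y, g, hg, y, hy⟩ := hS ⟨_, ObjectProperty.ofObj_apply _ X⟩ (Injective.ι (L.obj (op X)))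
  have hy' : L.map g.op ≫ y = Injective.ι (L.obj (op X)) := hy
  have : Mono (L.map g.op) := mono_of_mono_fac hy'
  have : Mono g.op := (L (A := A)).mono_of_mono_map this
  have : Epi g := unop_epi_of_mono g.op
  have : IsRegularEpi g := IsRegularEpiCategory.regularEpiOfEpi _
  exact regularTopology.mem_sieves_of_hasEffectiveEpi S ⟨Y, g, inferInstance, hg⟩

section Yoneda

variable [Preregular A]

theorem isSheaf_preadditiveYoneda (X : A) : Presheaf.IsSheaf (regularTopology A) (preadditiveYoneda.obj X) := by
  rw [Presheaf.isSheaf_iff_isSheaf_forget _ _ (forget AddCommGrpCat.{u}), isSheaf_iff_isSheaf_of_type]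
  exact regularTopology.isSheaf_yoneda_obj X

/-- The additive Yoneda embedding into sheaves. -/
abbrev emb : A ⥤ Sheaf (regularTopology A) AddCommGrpCat.{u} where
  obj X := ⟨preadditiveYoneda.obj X, isSheaf_preadditiveYoneda X⟩
  map f := ⟨preadditiveYoneda.map f⟩

/-- Sheafification does nothing to representable presheaves. -/
def embIso : (preadditiveYoneda ⋙ presheafToSheaf (regularTopology A) AddCommGrpCat.{u}) ≅ emb :=
  Functor.isoWhiskerLeft emb (asIso (sheafificationAdjunction (regularTopology A) AddCommGrpCat.{u}).counit) ≪≫
    Functor.rightUnitor _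

theorem full_faithful : (preadditiveYoneda ⋙ presheafToSheaf (regularTopology A) AddCommGrpCat.{u}).Full ∧
    (preadditiveYoneda ⋙ presheafToSheaf (regularTopology A) AddCommGrpCat.{u}).Faithful := by
  have : (emb (A := A)).Full := ⟨fun {X Y} φ => ⟨(preadditiveYoneda (C := A)).preimage φ.hom,
    Sheaf.hom_ext ((preadditiveYoneda (C := A)).map_preimage φ.hom)⟩⟩
  have : (emb (A := A)).Faithful := ⟨fun {X Y} {f g} h => (preadditiveYoneda (C := A)).map_injective congr(($h).hom)⟩
  exact ⟨Functor.Full.of_iso embIso.symm, Functor.Faithful.of_iso embIso.symm⟩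

theorem preservesFiniteLimits :
    PreservesFiniteLimits (preadditiveYoneda ⋙ presheafToSheaf (regularTopology A) AddCommGrpCat.{u}) := by
  have : PreservesFiniteLimits (preadditiveYoneda (C := A)) := ⟨fun K _ _ =>
    preservesLimitsOfShape_of_evaluation _ _ fun V =>
      have : PreservesLimitsOfShape K ((preadditiveYoneda ⋙ (evaluation Aᵒᵖ AddCommGrpCat.{u}).obj V) ⋙
          forget AddCommGrpCat.{u}) :=
        inferInstanceAs (PreservesLimitsOfShape K (coyoneda.obj V))
      preservesLimitsOfShape_of_reflects_of_preserves _ (forget AddCommGrpCat.{u})⟩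
  exact comp_preservesFiniteLimits _ _

theorem epi_emb {X Y : A} (f : X ⟶ Y) [Epi f] : Epi (emb.map f) := by
  refine (Sheaf.isLocallySurjective_iff_epi' _ _).1 ?_
  constructor
  intro V s
  have : IsRegularEpi (pullback.fst (s : V ⟶ Y) f) := IsRegularEpiCategory.regularEpiOfEpi _
  refine regularTopology.mem_sieves_of_hasEffectiveEpi _
    ⟨pullback (s : V ⟶ Y) f, pullback.fst _ _, inferInstance, pullback.snd (s : V ⟶ Y) f, ?_⟩
  exact pullback.condition.symm

theorem preservesFiniteColimits :
    PreservesFiniteColimits (preadditiveYoneda ⋙ presheafToSheaf (regularTopology A) AddCommGrpCat.{u}) := by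
  have := preservesFiniteLimits (A := A)
  let F := preadditiveYoneda ⋙ presheafToSheaf (regularTopology A) AddCommGrpCat.{u}
  have : F.Additive := Functor.additive_of_preserves_binary_products _
  have : F.PreservesEpimorphisms := ⟨fun {X Y} f _ => by
    have := epi_emb f
    exact ((MorphismProperty.epimorphisms _).arrow_mk_iso_iff
      (((Functor.mapArrowFunctor _ _).mapIso embIso).app (Arrow.mk f))).2 this⟩
  exact (Functor.preservesFiniteColimits_iff_forall_exact_map_and_epi F).2 fun S hS =>
    ⟨((F.preservesFiniteLimits_iff_forall_exact_map_and_mono).1 (preservesFiniteLimits (A := A)) S hS).1,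
      have := hS.epi_g
      inferInstance⟩

end Yoneda

end Groth.L10.RegularPoints
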