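import Groth.Agent.L10.Proper.Soft
import Groth.Agent.L10.TopCohColim
import Groth.Prelude.Def_CohCx
import Mathlib.CategoryTheory.Abelian.RightDerived
import Mathlib.Algebra.Homology.HomologySequence
import Mathlib.Algebra.Homology.HomologicalComplexAbelian
import Mathlib.Algebra.Homology.HomologicalComplexBiprod
import Mathlib.Algebra.Homology.ShortComplex.ShortExact
import Mathlib.Algebra.Homology.ExactSequence

/-! Long exact sequences of derived functors from Mayer–Vietoris short exact sequences. -/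

universe w v u v' u'

open CategoryTheory CategoryTheory.Limits Opposite TopologicalSpace

set_option autoImplicit false
set_option linter.unusedSectionVars false
set_option backward.defeqAttrib.useBackward true
set_option backward.isDefEq.respectTransparency false

noncomputable section

namespace Groth.L10.RelMV

section Generic

variable {C : Type u} [Category.{v} C] [Abelian C] [HasInjectiveResolutions C]
  {D : Type u'} [Category.{v'} D] [Abelian D]
  {F₀ F₁ F₂ F₃ : C ⥤ D} [F₀.Additive] [F₁.Additive] [F₂.Additive] [F₃.Additive]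
  (a₁ : F₀ ⟶ F₁) (a₂ : F₀ ⟶ F₂) (b₁ : F₁ ⟶ F₃) (b₂ : F₂ ⟶ F₃) (w : a₁ ≫ b₁ = a₂ ≫ b₂)

include w in
theorem comp_zero' (X : C) :
    biprod.lift (a₁.app X) (a₂.app X) ≫ biprod.desc (b₁.app X) (-b₂.app X) = 0 := by
  rw [biprod.lift_desc, Preadditive.comp_neg, ← NatTrans.comp_app, ← NatTrans.comp_app, w, add_neg_cancel]

variable (hex : ∀ I : C, Injective I → (ShortComplex.mk _ _ (comp_zero' a₁ a₂ b₁ b₂ w I)).ShortExact)

/-- The derived natural transformations in degree `n`. -/
abbrev R {F G : C ⥤ D} [F.Additive] [G.Additive] (a : F ⟶ G) (n : ℕ) (M : C) :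
    (F.rightDerived n).obj M ⟶ (G.rightDerived n).obj M := (NatTrans.rightDerived a n).app M

include hex in
/-- The long exact sequence. -/
theorem exists_les (M : C) :
    ∃ δ : ∀ n : ℕ, (F₃.rightDerived n).obj M ⟶ (F₀.rightDerived (n + 1)).obj M,
      Mono (biprod.lift (R a₁ 0 M) (R a₂ 0 M)) ∧
      ∀ n : ℕ,
        (ComposableArrows.mk₂ (biprod.lift (R a₁ n M) (R a₂ n M)) (biprod.desc (R b₁ n M) (-R b₂ n M))).Exact ∧
        (ComposableArrows.mk₂ (biprod.desc (R b₁ n M) (-R b₂ n M)) (δ n)).Exact ∧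
        (ComposableArrows.mk₂ (δ n) (biprod.lift (R a₁ (n + 1) M) (R a₂ (n + 1) M))).Exact := by
  let P := injectiveResolution M
  let m : ∀ {F G : C ⥤ D} [F.Additive] [G.Additive] (a : F ⟶ G),
      (F.mapHomologicalComplex (.up ℕ)).obj P.cocomplex ⟶ (G.mapHomologicalComplex (.up ℕ)).obj P.cocomplex :=
    fun a => (NatTrans.mapHomologicalComplex a (.up ℕ)).app P.cocomplex
  let C₁ := (F₁.mapHomologicalComplex (.up ℕ)).obj P.cocomplex
  let C₂ := (F₂.mapHomologicalComplex (.up ℕ)).obj P.cocomplex
  let S : ShortComplex (CochainComplex D ℕ) := ShortComplex.mk (biprod.lift (m a₁) (m a₂))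
    (biprod.desc (m b₁) (-m b₂)) (by
      rw [biprod.lift_desc, Preadditive.comp_neg]
      ext i
      change a₁.app _ ≫ b₁.app _ + -(a₂.app _ ≫ b₂.app _) = 0
      rw [← NatTrans.comp_app, ← NatTrans.comp_app, w, add_neg_cancel])
  have hS : S.ShortExact := HomologicalComplex.shortExact_of_degreewise_shortExact S fun i => by
    refine ShortComplex.shortExact_of_iso ?_ (hex _ (P.injective i))
    refine ShortComplex.isoMk (Iso.refl _) (HomologicalComplex.biprodXIso C₁ C₂ i).symm (Iso.refl _) ?_ ?_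
    · dsimp [S]
      rw [Category.id_comp, Iso.eq_comp_inv]
      refine biprod.hom_ext _ _ ?_ ?_
      · erw [Category.assoc, HomologicalComplex.biprodXIso_hom_fst, ← HomologicalComplex.comp_f, biprod.lift_fst,
          biprod.lift_fst]
        rfl
      · erw [Category.assoc, HomologicalComplex.biprodXIso_hom_snd, ← HomologicalComplex.comp_f, biprod.lift_snd,
          biprod.lift_snd]
        rfl
    · dsimp [S]
      rw [Category.comp_id]
      refine biprod.hom_ext' _ _ ?_ ?_
      · refine (Category.assoc _ _ _).symm.trans ((congrArg (· ≫ _) (HomologicalComplex.inl_biprodXIso_inv C₁ C₂ i)).trans ?_)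
        rw [← HomologicalComplex.comp_f, biprod.inl_desc, biprod.inl_desc]
        rfl
      · refine (Category.assoc _ _ _).symm.trans ((congrArg (· ≫ _) (HomologicalComplex.inr_biprodXIso_inv C₁ C₂ i)).trans ?_)
        rw [← HomologicalComplex.comp_f, biprod.inr_desc, biprod.inr_desc]
        rfl
  let H := fun n => HomologicalComplex.homologyFunctor D (ComplexShape.up ℕ) n
  have : ∀ n, PreservesBinaryBiproducts (H n) := fun n =>
    have : (H n).Additive := inferInstanceAs (HomologicalComplex.homologyFunctor D (ComplexShape.up ℕ) n).Additive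
    preservesBinaryBiproducts_of_preservesBiproducts _
  let e₀ := fun n => P.isoRightDerivedObj F₀ n
  let e₃ := fun n => P.isoRightDerivedObj F₃ n
  let ψ : ∀ n, (F₁.rightDerived n).obj M ⊞ (F₂.rightDerived n).obj M ≅ S.X₂.homology n := fun n =>
    biprod.mapIso (P.isoRightDerivedObj F₁ n) (P.isoRightDerivedObj F₂ n) ≪≫ ((H n).mapBiprod C₁ C₂).symm
  have hR : ∀ {F G : C ⥤ D} [F.Additive] [G.Additive] (a : F ⟶ G) (n : ℕ),
      (P.isoRightDerivedObj F n).hom ≫ (H n).map (m a) = R a n M ≫ (P.isoRightDerivedObj G n).hom := fun a n => by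
    rw [R, P.rightDerived_app_eq a n]
    simp [H, m]
  have hf : ∀ n, biprod.lift (R a₁ n M) (R a₂ n M) ≫ (ψ n).hom = (e₀ n).hom ≫ HomologicalComplex.homologyMap S.f n :=
    fun n => by
      rw [← Iso.eq_comp_inv]
      change biprod.lift (R a₁ n M) (R a₂ n M) =
        ((e₀ n).hom ≫ (H n).map (biprod.lift (m a₁) (m a₂))) ≫ ((H n).mapBiprod C₁ C₂).hom ≫
          (biprod.mapIso (P.isoRightDerivedObj F₁ n) (P.isoRightDerivedObj F₂ n)).inv
      have k₁ : ((H n).map (biprod.lift (m a₁) (m a₂)) ≫ ((H n).mapBiprod C₁ C₂).hom) ≫ biprod.fst = (H n).map (m a₁) := by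
        rw [Category.assoc, Functor.mapBiprod_hom, biprod.lift_fst, ← Functor.map_comp, biprod.lift_fst]
      have k₂ : ((H n).map (biprod.lift (m a₁) (m a₂)) ≫ ((H n).mapBiprod C₁ C₂).hom) ≫ biprod.snd = (H n).map (m a₂) := by
        rw [Category.assoc, Functor.mapBiprod_hom, biprod.lift_snd, ← Functor.map_comp, biprod.lift_snd]
      simp only [Category.assoc] at k₁ k₂ ⊢
      refine biprod.hom_ext _ _ ?_ ?_
      · simp only [biprod.lift_fst, biprod.mapIso_inv, Category.assoc, biprod.map_fst]
        erw [reassoc_of% k₁, reassoc_of% (hR a₁ n), Iso.hom_inv_id, Category.comp_id]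
      · simp only [biprod.lift_snd, biprod.mapIso_inv, Category.assoc, biprod.map_snd]
        erw [reassoc_of% k₂, reassoc_of% (hR a₂ n), Iso.hom_inv_id, Category.comp_id]
  have hg : ∀ n, (ψ n).hom ≫ HomologicalComplex.homologyMap S.g n =
      biprod.desc (R b₁ n M) (-R b₂ n M) ≫ (e₃ n).hom := fun n => by
    change ((biprod.mapIso (P.isoRightDerivedObj F₁ n) (P.isoRightDerivedObj F₂ n)).hom ≫
      ((H n).mapBiprod C₁ C₂).inv) ≫ (H n).map (biprod.desc (m b₁) (-m b₂)) = _
    refine biprod.hom_ext' _ _ ?_ ?_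
    · simp only [biprod.mapIso_hom, Category.assoc, biprod.inl_map_assoc, Functor.mapBiprod_inv,
        biprod.inl_desc_assoc, ← Functor.map_comp, biprod.inl_desc]
      exact hR b₁ n
    · simp only [biprod.mapIso_hom, Category.assoc, biprod.inr_map_assoc, Functor.mapBiprod_inv,
        biprod.inr_desc_assoc, ← Functor.map_comp, biprod.inr_desc, Functor.map_neg, Preadditive.comp_neg,
        Preadditive.neg_comp]
      exact congrArg Neg.neg (hR b₂ n)
  let δ : ∀ n : ℕ, (F₃.rightDerived n).obj M ⟶ (F₀.rightDerived (n + 1)).obj M := fun n =>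
    (e₃ n).hom ≫ hS.δ n (n + 1) rfl ≫ (e₀ (n + 1)).inv
  refine ⟨δ, ?_, fun n => ⟨?_, ?_, ?_⟩⟩
  · have := hS.mono_f
    have : Mono (S.f.f 0) :=
      (hS.map_of_exact (HomologicalComplex.eval D (ComplexShape.up ℕ) 0)).mono_f
    have : Mono (HomologicalComplex.homologyMap S.f 0) :=
      HomologicalComplex.mono_homologyMap_of_mono_of_not_rel S.f 0 (by simp)
    have : Mono (biprod.lift (R a₁ 0 M) (R a₂ 0 M) ≫ (ψ 0).hom) := by rw [hf]; exact mono_comp _ _
    exact mono_of_mono (biprod.lift (R a₁ 0 M) (R a₂ 0 M)) (ψ 0).hom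
  · refine ComposableArrows.exact_of_iso ?_ (hS.homology_exact₂ n).exact_toComposableArrows
    exact ComposableArrows.isoMk₂ (e₀ n).symm (ψ n).symm (e₃ n).symm
      ((Iso.eq_inv_comp _).2 (by
        change (e₀ n).hom ≫ HomologicalComplex.homologyMap S.f n ≫ (ψ n).inv = _
        rw [← reassoc_of% (hf n), Iso.hom_inv_id, Category.comp_id]
        rfl))
      ((Iso.eq_inv_comp _).2 (by
        change (ψ n).hom ≫ HomologicalComplex.homologyMap S.g n ≫ (e₃ n).inv = _
        rw [reassoc_of% (hg n), Iso.hom_inv_id, Category.comp_id]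
        rfl))
  · refine ComposableArrows.exact_of_iso ?_ (hS.homology_exact₃ n (n + 1) rfl).exact_toComposableArrows
    exact ComposableArrows.isoMk₂ (ψ n).symm (e₃ n).symm (e₀ (n + 1)).symm
      ((Iso.eq_inv_comp _).2 (by
        change (ψ n).hom ≫ HomologicalComplex.homologyMap S.g n ≫ (e₃ n).inv = _
        rw [reassoc_of% (hg n), Iso.hom_inv_id, Category.comp_id]
        rfl))
      ((Iso.eq_inv_comp _).2 rfl)
  · refine ComposableArrows.exact_of_iso ?_ (hS.homology_exact₁ n (n + 1) rfl).exact_toComposableArrows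
    exact ComposableArrows.isoMk₂ (e₃ n).symm (e₀ (n + 1)).symm (ψ (n + 1)).symm
      ((Iso.eq_inv_comp _).2 rfl)
      ((Iso.eq_inv_comp _).2 (by
        change (e₀ (n + 1)).hom ≫ HomologicalComplex.homologyMap S.f (n + 1) ≫ (ψ (n + 1)).inv = _
        rw [← reassoc_of% (hf (n + 1)), Iso.hom_inv_id, Category.comp_id]
        rfl))

end Generic

section Sheaf

open Groth.L10.Proper

variable {Y : TopCat.{w}}

/-- A complex of sheaves which is exact on sections with injective first map is exact. -/
theorem exact_of_sections (S : ShortComplex (CohTop.Ab Y))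
    (hinj : ∀ W : Opens Y, Function.Injective (S.f.hom.app (op W)))
    (hex : ∀ (W : Opens Y) (x : S.X₂.obj.obj (op W)), S.g.hom.app (op W) x = 0 →
      ∃ y : S.X₁.obj.obj (op W), S.f.hom.app (op W) y = x) : S.Exact := by
  rw [ShortComplex.exact_iff_exact_up_to_refinements]
  intro A x hx
  choose y hy using fun (W : (Opens Y)ᵒᵖ) (a : A.obj.obj W) => hex W.unop (x.hom.app W a) congr(($hx).hom.app W a)
  refine ⟨A, 𝟙 A, inferInstance, ⟨{ app := fun W => AddCommGrpCat.ofHom (AddMonoidHom.mk' (y W) fun a b => ?_),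
                                     naturality := fun W W' g => ?_ }⟩, ?_⟩
  · refine hinj W.unop ?_
    rw [map_add, hy, hy, hy, map_add]
  · refine AddCommGrpCat.hom_ext (AddMonoidHom.ext fun a => hinj W'.unop ?_)
    change S.f.hom.app W' (y W' (A.obj.map g a)) = S.f.hom.app W' (S.X₁.obj.map g (y W a))
    rw [hy]
    refine (congr($(x.hom.naturality g) a)).trans ((congrArg (S.X₂.obj.map g) (hy W a)).symm.trans ?_)
    exact (congr($(S.f.hom.naturality g) (y W a))).symm
  · rw [Category.id_comp]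
    exact Sheaf.hom_ext (NatTrans.ext (funext fun W => AddCommGrpCat.hom_ext (AddMonoidHom.ext fun a => (hy W a).symm)))

variable {X : TopCat.{w}} (f : X ⟶ Y)

/-- The part of the preimage in an open. -/
abbrev part (U : Opens X) (W : Opens Y) : Opens X :=
  (U.isOpenEmbedding.isOpenMap.functor).obj ((Opens.map (CohCx.incl U ≫ f)).obj W)

theorem mem_part {U : Opens X} {W : Opens Y} {x : X} : x ∈ part f U W ↔ x ∈ U ∧ f x ∈ W :=
  ⟨by rintro ⟨⟨z, hz⟩, hzW, rfl⟩; exact ⟨hz, hzW⟩, fun ⟨h, h'⟩ => ⟨⟨x, h⟩, h', rfl⟩⟩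

theorem part_le (U : Opens X) (W : Opens Y) : part f U W ≤ (Opens.map f).obj W := fun _ hx => ((mem_part f).1 hx).2

theorem part_mono {U V : Opens X} (h : V ≤ U) (W : Opens Y) : part f V W ≤ part f U W := fun _ hx =>
  (mem_part f).2 ⟨h ((mem_part f).1 hx).1, ((mem_part f).1 hx).2⟩

variable (U V : Opens X)

theorem w_mv : CohCx.pushToRestrPush f U ≫ CohCx.restrPushToRestrPush f (inf_le_left : U ⊓ V ≤ U) =
    CohCx.pushToRestrPush f V ≫ CohCx.restrPushToRestrPush f (inf_le_right : U ⊓ V ≤ V) := by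
  refine NatTrans.ext (funext fun F => Sheaf.hom_ext (NatTrans.ext (funext fun W => ?_)))
  change F.obj.map _ ≫ F.obj.map _ = F.obj.map _ ≫ F.obj.map _
  rw [← F.obj.map_comp, ← F.obj.map_comp]
  rfl

theorem shortExact_mv (hUV : U ⊔ V = ⊤) (I : CohTop.Ab X) [Injective I] :
    (ShortComplex.mk _ _ (comp_zero' _ _ _ _ (w_mv f U V) I)).ShortExact := by
  have := TopCoh.isFlasque_of_injective I
  let A := (CohTop.restrFunctor U ⋙ CohTop.push (CohCx.incl U ≫ f)).obj I
  let B := (CohTop.restrFunctor V ⋙ CohTop.push (CohCx.incl V ≫ f)).obj I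
  let T := (CohTop.restrFunctor (U ⊓ V) ⋙ CohTop.push (CohCx.incl (U ⊓ V) ≫ f)).obj I
  let p : A ⊞ B ⟶ A := biprod.fst
  let q : A ⊞ B ⟶ B := biprod.snd
  have hpq : ∀ (W : (Opens Y)ᵒᵖ) (z z' : (A ⊞ B).obj.obj W), p.hom.app W z = p.hom.app W z' →
      q.hom.app W z = q.hom.app W z' → z = z' := fun W z z' h h' => by
    have e := congr(($(biprod.total (X := A) (Y := B))).hom.app W)
    have ez : ∀ z, (biprod.inl : A ⟶ A ⊞ B).hom.app W (p.hom.app W z) +
        (biprod.inr : B ⟶ A ⊞ B).hom.app W (q.hom.app W z) = z := fun z => congr($e z)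
    rw [← ez z, ← ez z', h, h']
  let αU := (CohCx.pushToRestrPush f U).app I
  let αV := (CohCx.pushToRestrPush f V).app I
  let βU := (CohCx.restrPushToRestrPush f (inf_le_left : U ⊓ V ≤ U)).app I
  let βV := (CohCx.restrPushToRestrPush f (inf_le_right : U ⊓ V ≤ V)).app I
  have hp : ∀ (W : (Opens Y)ᵒᵖ) (s : ((CohTop.push f).obj I).obj.obj W),
      p.hom.app W ((biprod.lift αU αV).hom.app W s) = αU.hom.app W s := fun W s =>
    congr(($(biprod.lift_fst αU αV)).hom.app W s)
  have hq : ∀ (W : (Opens Y)ᵒᵖ) (s : ((CohTop.push f).obj I).obj.obj W),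
      q.hom.app W ((biprod.lift αU αV).hom.app W s) = αV.hom.app W s := fun W s =>
    congr(($(biprod.lift_snd αU αV)).hom.app W s)
  have hd : ∀ (W : (Opens Y)ᵒᵖ) (z : (A ⊞ B).obj.obj W), (biprod.desc βU (-βV)).hom.app W z =
      βU.hom.app W (p.hom.app W z) - βV.hom.app W (q.hom.app W z) := fun W z => by
    have e : biprod.desc βU (-βV) = p ≫ βU - q ≫ βV := by
      refine biprod.hom_ext' _ _ ?_ ?_
      · rw [biprod.inl_desc, Preadditive.comp_sub]
        erw [biprod.inl_fst_assoc, biprod.inl_snd_assoc]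
        rw [zero_comp, sub_zero]
      · rw [biprod.inr_desc, Preadditive.comp_sub]
        erw [biprod.inr_fst_assoc, biprod.inr_snd_assoc]
        rw [zero_comp, zero_sub]
    rw [e]
    rfl
  have cover : ∀ {W : Opens Y} {x : X}, x ∈ (Opens.map f).obj W → x ∈ part f U W ∨ x ∈ part f V W := fun {W x} hx =>
    (show x ∈ U ⊔ V from hUV.symm ▸ Opens.mem_top x).imp (fun h => (mem_part f).2 ⟨h, hx⟩)
      (fun h => (mem_part f).2 ⟨h, hx⟩)
  refine { exact := exact_of_sections _ (fun W s s' h => ?_) (fun W z hz => ?_), mono_f := ?_, epi_g := ?_ }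
  · refine sect_ext I s s' fun x hx => ?_
    rcases cover hx with hU | hV
    · have h1 := congrArg (germ I x hU) ((hp (op W) s).symm.trans ((congrArg (p.hom.app (op W)) h).trans (hp (op W) s')))
      exact (germ_rs I (part_le f U W) x hU s).symm.trans (h1.trans (germ_rs I (part_le f U W) x hU s'))
    · have h1 := congrArg (germ I x hV) ((hq (op W) s).symm.trans ((congrArg (q.hom.app (op W)) h).trans (hq (op W) s')))
      exact (germ_rs I (part_le f V W) x hV s).symm.trans (h1.trans (germ_rs I (part_le f V W) x hV s'))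
  · have h0 : rs I (part_mono f inf_le_left W) (p.hom.app (op W) z) =
        rs I (part_mono f inf_le_right W) (q.hom.app (op W) z) := sub_eq_zero.1 ((hd (op W) z).symm.trans hz)
    obtain ⟨s, h1, h2⟩ := exists_glue I (U₁ := part f U W) (U₂ := part f V W) (p.hom.app (op W) z)
      (q.hom.app (op W) z) fun x hU hV => by
        have hx : x ∈ part f (U ⊓ V) W :=
          (mem_part f).2 ⟨⟨((mem_part f).1 hU).1, ((mem_part f).1 hV).1⟩, ((mem_part f).1 hU).2⟩
        have e := congrArg (germ I x hx) h0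
        rw [germ_rs, germ_rs] at e
        exact e
    refine ⟨rs I (fun x hx => (cover hx).elim Or.inl Or.inr) s, hpq _ _ _ ?_ ?_⟩
    · refine (hp (op W) _).trans (sect_ext I _ _ fun x hx => ?_)
      exact (germ_rs I (part_le f U W) x hx _).trans ((germ_rs I _ x (part_le f U W hx) s).trans (h1 x hx))
    · refine (hq (op W) _).trans (sect_ext I _ _ fun x hx => ?_)
      exact (germ_rs I (part_le f V W) x hx _).trans ((germ_rs I _ x (part_le f V W hx) s).trans (h2 x hx))
  · refine (sheafToPresheaf _ _).mono_of_mono_map ?_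
    have : ∀ W, Mono ((biprod.lift αU αV).hom.app W) := fun W => (AddCommGrpCat.mono_iff_injective _).2 fun s s' h => by
      refine sect_ext I s s' fun x hx => ?_
      rcases cover (W := W.unop) hx with hU | hV
      · have h1 := congrArg (germ I x hU) ((hp W s).symm.trans ((congrArg (p.hom.app W) h).trans (hp W s')))
        exact (germ_rs I (part_le f U _) x hU s).symm.trans (h1.trans (germ_rs I (part_le f U _) x hU s'))
      · have h1 := congrArg (germ I x hV) ((hq W s).symm.trans ((congrArg (q.hom.app W) h).trans (hq W s')))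
        exact (germ_rs I (part_le f V _) x hV s).symm.trans (h1.trans (germ_rs I (part_le f V _) x hV s'))
    exact @NatTrans.mono_of_mono_app _ _ _ _ _ _ _ this
  · refine (Sheaf.isLocallySurjective_iff_epi' _ _).1 ?_
    constructor
    intro W t
    refine (Opens.grothendieckTopology Y).superset_covering ?_ ((Opens.grothendieckTopology Y).top_mem W)
    intro W' g _
    obtain ⟨a, ha⟩ := exists_top_of_flasque I (O := part f (U ⊓ V) W') (T.obj.map g.op t)
    refine ⟨(biprod.inl : A ⟶ A ⊞ B).hom.app (op W') (rs I le_top a), ?_⟩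
    refine Eq.trans ?_ ((sect_ext I _ _ fun x hx => ?_ : rs I (part_mono f inf_le_left W') (rs I le_top a) = _).trans ha)
    · exact congr(($(biprod.inl_desc βU (-βV))).hom.app (op W') (rs I le_top a))
    · exact (germ_rs I _ x hx _).trans ((germ_rs I _ x _ a).trans (germ_rs I le_top x hx a).symm)

theorem exists_les_mv (hUV : U ⊔ V = ⊤) (F : CohTop.Ab X) :
    ∃ δ : ∀ n : ℕ, (CohCx.RpushOn f (U ⊓ V) n).obj F ⟶ (CohTop.Rpush f (n + 1)).obj F,
      Mono (biprod.lift ((NatTrans.rightDerived (CohCx.pushToRestrPush f U) 0).app F)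
        ((NatTrans.rightDerived (CohCx.pushToRestrPush f V) 0).app F)) ∧
      ∀ n : ℕ,
        (ComposableArrows.mk₂
          (biprod.lift ((NatTrans.rightDerived (CohCx.pushToRestrPush f U) n).app F)
            ((NatTrans.rightDerived (CohCx.pushToRestrPush f V) n).app F))
          (biprod.desc
            ((NatTrans.rightDerived (CohCx.restrPushToRestrPush f (inf_le_left : U ⊓ V ≤ U)) n).app F)
            (-((NatTrans.rightDerived (CohCx.restrPushToRestrPush f (inf_le_right : U ⊓ V ≤ V)) n).app F)))).Exact ∧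
        (ComposableArrows.mk₂
          (biprod.desc
            ((NatTrans.rightDerived (CohCx.restrPushToRestrPush f (inf_le_left : U ⊓ V ≤ U)) n).app F)
            (-((NatTrans.rightDerived (CohCx.restrPushToRestrPush f (inf_le_right : U ⊓ V ≤ V)) n).app F)))
          (δ n)).Exact ∧
        (ComposableArrows.mk₂ (δ n)
          (biprod.lift ((NatTrans.rightDerived (CohCx.pushToRestrPush f U) (n + 1)).app F)
            ((NatTrans.rightDerived (CohCx.pushToRestrPush f V) (n + 1)).app F))).Exact :=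
  exists_les _ _ _ _ (w_mv f U V) (fun I _ => shortExact_mv f U V hUV I) F

end Sheaf

end Groth.L10.RelMV
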