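import Groth.Agent.L00.ClassResLeft
import Mathlib.Algebra.Homology.HomotopyCategory.MappingCone
import Mathlib.Algebra.Homology.HomologySequenceLemmas
import Mathlib.Algebra.Homology.Refinements

/-! Extending a resolution along a map of bounded above complexes. -/

universe v u

open CategoryTheory CategoryTheory.Limits

set_option backward.defeqAttrib.useBackward true
set_option backward.isDefEq.respectTransparency false
namespace Groth.L10.ResStep

variable {A : Type u} [Category.{v} A] [Abelian A]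

theorem shortExact_kernel {Q L : CochainComplex A ℤ} (α : Q ⟶ L) (hα : ∀ n, Epi (α.f n)) :
    (ShortComplex.mk (kernel.ι α) α (kernel.condition α)).ShortExact :=
  { exact := ShortComplex.exact_kernel α, mono_f := inferInstanceAs (Mono (kernel.ι α))
    epi_g := HomologicalComplex.epi_of_epi_f α hα }

theorem lift_cycle {Q L : CochainComplex A ℤ} (α : Q ⟶ L) (hα : ∀ n, Epi (α.f n)) [QuasiIso α]
    (n m : ℤ) (hn : n + 1 = m) {T : A} (s : T ⟶ Q.X m) (hs : s ≫ Q.d m (m + 1) = 0) (hs' : s ≫ α.f m = 0) :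
    ∃ (T' : A) (e : T' ⟶ T) (_ : Epi e) (ν : T' ⟶ Q.X n), ν ≫ α.f n = 0 ∧ e ≫ s = ν ≫ Q.d n m := by
  have hS := shortExact_kernel α hα
  have hdeg := fun k => hS.map_of_exact (HomologicalComplex.eval A (ComplexShape.up ℤ) k)
  have hm : Mono ((kernel.ι α).f (m + 1)) := (hdeg (m + 1)).mono_f
  have hm' : Mono ((kernel.ι α).f m) := (hdeg m).mono_f
  have := (hdeg m).mono_f
  let z : T ⟶ (kernel α).X m := (hdeg m).exact.lift s hs'
  have hz : z ≫ (kernel.ι α).f m = s := (hdeg m).exact.lift_f s hs'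
  have hzd : z ≫ (kernel α).d m (m + 1) = 0 := by
    rw [← cancel_mono ((kernel.ι α).f (m + 1)), Category.assoc, ← (kernel.ι α).comm, reassoc_of% hz, hs, zero_comp]
  have hac := hS.acyclic_X₁ ‹QuasiIso α› m
  rw [HomologicalComplex.exactAt_iff' _ n m (m + 1) (by simp; omega) (by simp),
    ShortComplex.exact_iff_exact_up_to_refinements] at hac
  obtain ⟨T', e, he, y, hy⟩ := hac z hzd
  dsimp at y hy
  refine ⟨T', e, he, y ≫ (kernel.ι α).f n, ?_, ?_⟩
  · rw [Category.assoc, ← HomologicalComplex.comp_f, kernel.condition, HomologicalComplex.zero_f, comp_zero]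
  · rw [← hz, reassoc_of% hy, Category.assoc, (kernel.ι α).comm]

theorem quasiIso_of_lift {Q L : CochainComplex A ℤ} (α : Q ⟶ L) (hα : ∀ n, Epi (α.f n))
    (h : ∀ (n m : ℤ) (_ : n + 1 = m) (T : A) (s : T ⟶ Q.X m), s ≫ Q.d m (m + 1) = 0 → s ≫ α.f m = 0 →
      ∃ (T' : A) (e : T' ⟶ T) (_ : Epi e) (ν : T' ⟶ Q.X n), ν ≫ α.f n = 0 ∧ e ≫ s = ν ≫ Q.d n m) : QuasiIso α := by
  have hS := shortExact_kernel α hα
  have hdeg := fun k => hS.map_of_exact (HomologicalComplex.eval A (ComplexShape.up ℤ) k)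
  have hac : (kernel α).Acyclic := fun m => by
    rw [HomologicalComplex.exactAt_iff' _ (m - 1) m (m + 1) (by simp) (by simp),
      ShortComplex.exact_iff_exact_up_to_refinements]
    intro T z hz
    dsimp at z hz ⊢
    obtain ⟨T', e, he, ν, hν, hν'⟩ := h (m - 1) m (by omega) T (z ≫ (kernel.ι α).f m)
      (by rw [Category.assoc, (kernel.ι α).comm, reassoc_of% hz, zero_comp])
      (by rw [Category.assoc, ← HomologicalComplex.comp_f, kernel.condition, HomologicalComplex.zero_f, comp_zero])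
    have := (hdeg (m - 1)).mono_f
    have hm : Mono ((kernel.ι α).f m) := (hdeg m).mono_f
    let y : T' ⟶ (kernel α).X (m - 1) := (hdeg (m - 1)).exact.lift ν hν
    have hy : y ≫ (kernel.ι α).f (m - 1) = ν := (hdeg (m - 1)).exact.lift_f ν hν
    refine ⟨T', e, he, y, ?_⟩
    rw [← cancel_mono ((kernel.ι α).f m), Category.assoc, hν', ← hy, Category.assoc, Category.assoc, (kernel.ι α).comm]
  rw [quasiIso_iff]
  intro n
  rw [quasiIsoAt_iff_isIso_homologyMap]
  have := (hS.homology_exact₂ n).mono_g ((hac n).isZero_homology.eq_of_src _ _)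
  have := (hS.homology_exact₃ n (n + 1) rfl).epi_f ((hac (n + 1)).isZero_homology.eq_of_tgt _ _)
  exact isIso_of_mono_of_epi _

theorem exists_step (P : A → Prop) (hP0 : ∃ Z : A, IsZero Z ∧ P Z)
    (hP : ∀ X : A, ∃ (Y : A) (π : Y ⟶ X), P Y ∧ Epi π) {K L : CochainComplex A ℤ} (f : K ⟶ L) (a : ℤ)
    [K.IsStrictlyLE a] [L.IsStrictlyLE a] :
    ∃ (K' : CochainComplex A ℤ) (incl : K ⟶ K') (π : K' ⟶ L), incl ≫ π = f ∧ K'.IsStrictlyLE a ∧
      (∀ n, Epi (π.f n)) ∧ QuasiIso π ∧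
      ∀ n, ∃ r : K'.X n ⟶ K.X n, incl.f n ≫ r = 𝟙 _ ∧ ∃ R : A, P R ∧ Nonempty (K'.X n ≅ K.X n ⊞ R) ∧
        Nonempty (cokernel (incl.f n) ≅ R) := by
  have : CochainComplex.IsStrictlyLE (CochainComplex.mappingCone f) a := by
    rw [CochainComplex.isStrictlyLE_iff]
    intro i hi
    rw [CochainComplex.mappingCone.isZero_X_iff]
    exact ⟨K.isZero_of_isStrictlyLE a (i + 1) (by omega), L.isZero_of_isStrictlyLE a i (by omega)⟩
  obtain ⟨R, α, hR, hPR, hαe, hαq⟩ := Groth.L00.ClassResLeft.exists_res P hP0 hP (CochainComplex.mappingCone f) a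
  let p : ∀ i j, i + 1 = j → (R.X i ⟶ K.X j) := fun i j hij => α.f i ≫ (CochainComplex.mappingCone.fst f).1.v i j hij
  let q : ∀ i, R.X i ⟶ L.X i := fun i => α.f i ≫ (CochainComplex.mappingCone.snd f).v i i (add_zero i)
  have hp : ∀ (i j k : ℤ) (hij : i + 1 = j) (hjk : j + 1 = k), R.d i j ≫ p j k hjk = -(p i j hij ≫ K.d j k) := by
    intro i j k hij hjk
    simp only [p]
    rw [← α.comm_assoc, CochainComplex.mappingCone.d_fst_v f i j k hij hjk, Preadditive.comp_neg, Category.assoc]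
  have hq : ∀ (i j : ℤ) (hij : i + 1 = j), R.d i j ≫ q j = p i j hij ≫ f.f j + q i ≫ L.d i j := by
    intro i j hij
    simp only [p, q]
    rw [← α.comm_assoc, CochainComplex.mappingCone.d_snd_v f i j hij, Preadditive.comp_add, Category.assoc, Category.assoc]
  let dd : ∀ i, K.X i ⊞ R.X i ⟶ K.X (i + 1) ⊞ R.X (i + 1) := fun i =>
    biprod.lift (biprod.fst ≫ K.d i (i + 1) + biprod.snd ≫ p i (i + 1) rfl) (biprod.snd ≫ R.d i (i + 1))
  have hdd : ∀ i, dd i ≫ dd (i + 1) = 0 := by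
    intro i
    refine biprod.hom_ext _ _ ?_ ?_ <;> simp [dd, hp i (i + 1) (i + 1 + 1) rfl rfl]
  let K' : CochainComplex A ℤ := CochainComplex.of (fun i => K.X i ⊞ R.X i) dd hdd
  have hK'd : ∀ i, K'.d i (i + 1) = dd i := fun i => CochainComplex.of_d (fun i => K.X i ⊞ R.X i) dd i
  let incl : K ⟶ K' :=
    { f := fun i => (biprod.inl : K.X i ⟶ K.X i ⊞ R.X i)
      comm' := fun i j hij => by
        obtain rfl : i + 1 = j := hij
        rw [hK'd]
        refine biprod.hom_ext _ _ ?_ ?_ <;> simp [dd] }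
  let π : K' ⟶ L :=
    { f := fun i => (biprod.desc (f.f i) (-(q i)) : K.X i ⊞ R.X i ⟶ L.X i)
      comm' := fun i j hij => by
        obtain rfl : i + 1 = j := hij
        rw [hK'd]
        refine biprod.hom_ext' _ _ ?_ ?_
        · simp [dd, biprod.lift_desc]
        · simp [dd, biprod.lift_desc, hq i (i + 1) rfl] }
  have hsnd : ∀ i, Epi ((CochainComplex.mappingCone.snd f).v i i (add_zero i)) := fun i =>
    (SplitEpi.mk ((CochainComplex.mappingCone.inr f).f i) (by simp)).epi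
  have hπe : ∀ i, Epi (π.f i) := fun i => by
    have h1 : Epi (q i) := by
      have := hαe i
      have := hsnd i
      exact epi_comp _ _
    refine ⟨fun g h hgh => ?_⟩
    have := (biprod.inr : R.X i ⟶ K.X i ⊞ R.X i) ≫= hgh
    simpa [π, cancel_epi] using this
  refine ⟨K', incl, π, ?_, ?_, hπe, ?_, fun n => ⟨(biprod.fst : K.X n ⊞ R.X n ⟶ K.X n), by simp [incl], R.X n, hPR n,
    ⟨Iso.refl _⟩, ⟨?_⟩⟩⟩
  · ext i
    simp [incl, π]
  · rw [CochainComplex.isStrictlyLE_iff]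
    intro i hi
    change IsZero (K.X i ⊞ R.X i)
    rw [biprod_isZero_iff]
    exact ⟨K.isZero_of_isStrictlyLE a i hi, R.isZero_of_isStrictlyLE a i hi⟩
  · refine quasiIso_of_lift π hπe fun n m hnm T s hs hs' => ?_
    subst hnm
    have hk : (s ≫ (biprod.fst : K.X (n + 1) ⊞ R.X (n + 1) ⟶ _)) ≫ K.d (n + 1) (n + 1 + 1) +
        (s ≫ (biprod.snd : K.X (n + 1) ⊞ R.X (n + 1) ⟶ _)) ≫ p (n + 1) (n + 1 + 1) rfl = 0 := by
      have := congrArg (· ≫ (biprod.fst : K.X (n + 1 + 1) ⊞ R.X (n + 1 + 1) ⟶ _)) hs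
      simpa [hK'd, dd] using this
    have hr : (s ≫ (biprod.snd : K.X (n + 1) ⊞ R.X (n + 1) ⟶ _)) ≫ R.d (n + 1) (n + 1 + 1) = 0 := by
      have := congrArg (· ≫ (biprod.snd : K.X (n + 1 + 1) ⊞ R.X (n + 1 + 1) ⟶ _)) hs
      simpa [hK'd, dd] using this
    have hl : (s ≫ (biprod.fst : K.X (n + 1) ⊞ R.X (n + 1) ⟶ _)) ≫ f.f (n + 1) =
        (s ≫ (biprod.snd : K.X (n + 1) ⊞ R.X (n + 1) ⟶ _)) ≫ q (n + 1) := by
      have h0 : π.f (n + 1) = (biprod.fst : K.X (n + 1) ⊞ R.X (n + 1) ⟶ _) ≫ f.f (n + 1) -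
          (biprod.snd : K.X (n + 1) ⊞ R.X (n + 1) ⟶ _) ≫ q (n + 1) := biprod.hom_ext' _ _ (by simp [π]) (by simp [π])
      rw [h0, Preadditive.comp_sub, sub_eq_zero] at hs'
      simpa using hs'
    let c : T ⟶ (CochainComplex.mappingCone f).X n :=
      (s ≫ (biprod.fst : K.X (n + 1) ⊞ R.X (n + 1) ⟶ _)) ≫ (CochainComplex.mappingCone.inl f).v (n + 1) n (by omega)
    have := hαe n
    obtain ⟨T₁, e₁, he₁, r', hr'⟩ := surjective_up_to_refinements_of_epi (α.f n) c
    let s₁ : T₁ ⟶ R.X (n + 1) := e₁ ≫ s ≫ (biprod.snd : K.X (n + 1) ⊞ R.X (n + 1) ⟶ _) - r' ≫ R.d n (n + 1)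
    have hs₁ : s₁ ≫ R.d (n + 1) (n + 1 + 1) = 0 := by
      simp only [s₁, Preadditive.sub_comp, Category.assoc] at hr ⊢
      rw [hr, comp_zero, HomologicalComplex.d_comp_d, comp_zero, sub_zero]
    have hr1 : r' ≫ p n (n + 1) rfl = e₁ ≫ s ≫ (biprod.fst : K.X (n + 1) ⊞ R.X (n + 1) ⟶ _) := by
      simp only [p]
      rw [← reassoc_of% hr']
      simp [c]
    have hr2 : r' ≫ q n = 0 := by
      simp only [q]
      rw [← reassoc_of% hr']
      simp [c]
    have hs₁' : s₁ ≫ α.f (n + 1) = 0 := by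
      refine (CochainComplex.mappingCone.ext_to_iff f (n + 1) (n + 1 + 1) rfl _ _).2 ⟨?_, ?_⟩
      · rw [Category.assoc, zero_comp]
        change s₁ ≫ p (n + 1) (n + 1 + 1) rfl = 0
        simp only [s₁, Preadditive.sub_comp, Category.assoc, hp n (n + 1) (n + 1 + 1) rfl rfl, Preadditive.comp_neg,
          reassoc_of% hr1, sub_neg_eq_add]
        rw [← Preadditive.comp_add, add_comm (s ≫ _) _]
        simp only [Category.assoc] at hk
        rw [hk, comp_zero]
      · rw [Category.assoc, zero_comp]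
        change s₁ ≫ q (n + 1) = 0
        simp only [s₁, Preadditive.sub_comp, Category.assoc, hq n (n + 1) rfl, Preadditive.comp_add,
          reassoc_of% hr1, reassoc_of% hr2, zero_comp, add_zero]
        simp only [Category.assoc] at hl
        rw [hl, sub_self]
    obtain ⟨T₂, e₂, he₂, ν, hν, hν'⟩ := lift_cycle α hαe n (n + 1) rfl s₁ hs₁ hs₁'
    have hνp : ν ≫ p n (n + 1) rfl = 0 := by simp only [p]; rw [reassoc_of% hν, zero_comp]
    have hνq : ν ≫ q n = 0 := by simp only [q]; rw [reassoc_of% hν, zero_comp]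
    let w : T₂ ⟶ R.X n := e₂ ≫ r' + ν
    refine ⟨T₂, e₂ ≫ e₁, epi_comp _ _, w ≫ (biprod.inr : R.X n ⟶ K.X n ⊞ R.X n), ?_, ?_⟩
    · simp [π, w, Preadditive.add_comp, hr2, hνq]
    · rw [hK'd]
      refine biprod.hom_ext _ _ ?_ ?_
      · simp [dd, w, Preadditive.add_comp, hr1, hνp]
      · simp [dd, w, s₁, Preadditive.comp_sub] at hν' ⊢
        rw [← hν']
        abel
  · exact
    { hom := cokernel.desc _ (biprod.snd : K.X n ⊞ R.X n ⟶ R.X n) (by simp [incl])
      inv := (biprod.inr : R.X n ⟶ K.X n ⊞ R.X n) ≫ cokernel.π (incl.f n)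
      hom_inv_id := coequalizer.hom_ext (by
        refine biprod.hom_ext' _ _ ?_ ?_
        · simp
          exact (cokernel.condition (incl.f n)).symm
        · simp)
      inv_hom_id := by simp }

end Groth.L10.ResStep
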