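import Groth.Agent.L10.InjOverRes
import Groth.Agent.L10.TopCoh
import Groth.Agent.L10.SiteRightDerived
import Mathlib.CategoryTheory.Sites.CoverLifting
import Mathlib.Topology.Sheaves.Over

/-!
Exactness of restriction of abelian sheaves to an open subspace; derived functors of an exact functor
preserving injectives followed by an additive functor.
-/

set_option autoImplicit false
set_option linter.style.haveILetI false
set_option backward.defeqAttrib.useBackward true
set_option backward.isDefEq.respectTransparency false
universe u

open CategoryTheory CategoryTheory.Limits Opposite TopologicalSpace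

noncomputable section

namespace Groth.L10.Restr

variable {X : TopCat.{u}} (U : Opens X)

/-- The direct image functor on opens. -/
abbrev ofun : Opens (TopCat.of U) ⥤ Opens X := U.isOpenEmbedding.isOpenMap.functor

theorem isCocontinuous_ofun :
    (ofun U).IsCocontinuous (Opens.grothendieckTopology (TopCat.of U)) (Opens.grothendieckTopology X) :=
  ⟨fun {V} S hS p hp => by
    obtain ⟨W, g, hg, hW⟩ := hS p.1 ⟨p, hp, rfl⟩
    refine ⟨⟨Subtype.val ⁻¹' W, W.isOpen.preimage continuous_subtype_val⟩ ⊓ V, homOfLE inf_le_right, ?_, hW, hp⟩
    exact S.downward_closed hg (homOfLE (by rintro q ⟨r, hr, rfl⟩; exact hr.1))⟩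

theorem isLeftAdjoint_restr : (CohTop.restrFunctor U).IsLeftAdjoint := by
  have : (ofun U).IsContinuous (Opens.grothendieckTopology (TopCat.of U)) (Opens.grothendieckTopology X) :=
    U.isOpenEmbedding.functor_isContinuous
  have := isCocontinuous_ofun U
  exact ⟨_, ⟨(ofun U).sheafAdjunctionCocontinuous AddCommGrpCat.{u} _ _⟩⟩

theorem isRightAdjoint_restr : (CohTop.restrFunctor U).IsRightAdjoint := by
  have : ((Opens.grothendieckTopology X).overPullback AddCommGrpCat.{u} U).IsRightAdjoint :=
    ⟨_, ⟨(CategoryTheory.Over.forget U).sheafAdjunctionContinuous AddCommGrpCat.{u} _ _⟩⟩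
  exact Functor.isRightAdjoint_of_iso (U.overPullbackSheafEquivOver (A := AddCommGrpCat.{u}))

theorem preservesFiniteLimits_restr : PreservesFiniteLimits (CohTop.restrFunctor U) :=
  haveI := isRightAdjoint_restr U
  inferInstance

theorem preservesFiniteColimits_restr : PreservesFiniteColimits (CohTop.restrFunctor U) :=
  haveI := isLeftAdjoint_restr U
  inferInstance

theorem injective_restr (I : CohTop.Ab X) [Injective I] : Injective ((CohTop.restrFunctor U).obj I) := by
  have h := Groth.L10.InjOverRes.injective_overPullback (Opens.grothendieckTopology X) U I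
  have : Injective ((U.sheafEquivOver (A := AddCommGrpCat.{u})).functor.obj
      (((Opens.grothendieckTopology X).overPullback AddCommGrpCat.{u} U).obj I)) :=
    Injective.injective_of_adjoint (U.sheafEquivOver (A := AddCommGrpCat.{u})).symm.toAdjunction _
  exact Injective.of_iso ((U.overPullbackSheafEquivOver (A := AddCommGrpCat.{u})).app I) this

/-- Postcomposition with an isomorphism as an additive bijection. -/
def postEquiv {D : Type*} [Category D] [Preadditive D] {A B : D} (i : A ≅ B) (T : D) : (T ⟶ A) ≃+ (T ⟶ B) where
  toFun g := g ≫ i.hom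
  invFun g := g ≫ i.inv
  left_inv g := by simp
  right_inv g := by simp
  map_add' g g' := Preadditive.add_comp _ _ _ g g' i.hom

section Derived

universe v v' v'' w w' w''

variable {C : Type w} [Category.{v} C] [Abelian C] [HasInjectiveResolutions C]
  {D : Type w'} [Category.{v'} D] [Abelian D] [HasInjectiveResolutions D]
  {E : Type w''} [Category.{v''} E] [Abelian E]
  (A : C ⥤ D) [A.Additive] [PreservesFiniteLimits A] [PreservesFiniteColimits A]

omit [HasInjectiveResolutions C] [HasInjectiveResolutions D] in
/-- An exact functor preserving injectives maps injective resolutions to injective resolutions. -/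
def mapRes (hA : ∀ I : C, Injective I → Injective (A.obj I)) {X : C} (I : InjectiveResolution X) :
    InjectiveResolution (A.obj X) :=
  haveI : A.PreservesHomology := inferInstance
  haveI h₁ : QuasiIso (((HomologicalComplex.singleMapHomologicalComplex A (ComplexShape.up ℕ) 0).app X).inv) :=
    inferInstance
  haveI h₂ : QuasiIso ((A.mapHomologicalComplex (ComplexShape.up ℕ)).map I.ι) :=
    HomologicalComplex.quasiIso_map_of_preservesHomology _ A
  { cocomplex := (A.mapHomologicalComplex (ComplexShape.up ℕ)).obj I.cocomplex
    injective := fun n => hA _ (I.injective n)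
    ι := ((HomologicalComplex.singleMapHomologicalComplex A (ComplexShape.up ℕ) 0).app X).inv ≫
      (A.mapHomologicalComplex (ComplexShape.up ℕ)).map I.ι
    quasiIso := quasiIso_comp _ _ }

theorem nonempty_rightDerived_exact_comp (hA : ∀ I : C, Injective I → Injective (A.obj I))
    (S : D ⥤ E) [S.Additive] (X : C) (n : ℕ) :
    Nonempty (((A ⋙ S).rightDerived n).obj X ≅ (S.rightDerived n).obj (A.obj X)) :=
  ⟨(injectiveResolution X).isoRightDerivedObj (A ⋙ S) n ≪≫
    ((mapRes A hA (injectiveResolution X)).isoRightDerivedObj S n).symm⟩

end Derived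

end Groth.L10.Restr
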