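import Groth.Prelude.Def_CohTop
import Groth.Agent.L10.InjTAR
import Groth.Agent.L10.TopCoh
import Groth.Agent.L10.RDer.Horseshoe
import Groth.Agent.L17.Tower
import Mathlib.CategoryTheory.CofilteredSystem
import Mathlib.Algebra.Category.ModuleCat.Sheaf.Limits
import Mathlib.CategoryTheory.Limits.Types.Limits
import Mathlib.CategoryTheory.Sites.EpiMono

/-! Derived limits of towers of sheaves of modules with vanishing cohomology on a basis. -/

universe u

open CategoryTheory CategoryTheory.Limits CategoryTheory.Abelian Opposite TopologicalSpace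

set_option autoImplicit false
set_option backward.defeqAttrib.useBackward true
set_option backward.isDefEq.respectTransparency false

namespace Groth.L10.RlimML

variable {X : TopCat.{u}} {R : Sheaf (Opens.grothendieckTopology X) RingCat.{u}}

theorem surjective_res_of_injective (I : SheafOfModules.{u} R) [Injective I] {U V : Opens X} (h : U ≤ V) :
    Function.Surjective (I.val.presheaf.map (homOfLE h).op) := by
  intro t
  let a : (PresheafOfModules.free R.obj).obj (yoneda.obj U) ⟶ (PresheafOfModules.free R.obj).obj (yoneda.obj V) :=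
    (PresheafOfModules.free R.obj).map (yoneda.map (homOfLE h))
  let w : (PresheafOfModules.free R.obj).obj (yoneda.obj U) ⟶
      (SheafOfModules.forget R ⋙ PresheafOfModules.restrictScalars (𝟙 R.obj)).obj I :=
    PresheafOfModules.freeHomEquiv.symm (yonedaEquiv.symm t)
  haveI : Mono a := by
    refine (PresheafOfModules.toPresheaf _).mono_of_mono_map ?_
    haveI : ∀ W, Mono (((PresheafOfModules.toPresheaf _).map a).app W) := fun W => by
      refine (AddCommGrpCat.mono_iff_injective _).2 (Finsupp.mapDomain_injective fun g g' _ => ?_)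
      exact Subsingleton.elim (α := unop W ⟶ U) g g'
    exact NatTrans.mono_of_mono_app _
  haveI : PreservesFiniteLimits (InjTAR.shR R) := InjTAR.shR_preservesFiniteLimits R
  haveI : Mono ((InjTAR.shR R).map a) := inferInstance
  let wt := ((InjTAR.shAdj R).homEquiv _ _).symm w
  let e := Injective.factorThru wt ((InjTAR.shR R).map a)
  let v := (InjTAR.shAdj R).homEquiv _ _ e
  have hv : a ≫ v = w := by
    rw [← Adjunction.homEquiv_naturality_left, Injective.comp_factorThru]
    exact Equiv.apply_symm_apply _ _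
  refine ⟨v.app (op V) (Finsupp.single (𝟙 V) (1 : R.obj.obj (op V))), ?_⟩
  refine (PresheafOfModules.naturality_apply v (homOfLE h).op _).symm.trans ?_
  have h1 : ((PresheafOfModules.free R.obj).obj (yoneda.obj V)).map (homOfLE h).op
      (Finsupp.single (𝟙 V) (1 : R.obj.obj (op V))) =
      a.app (op U) (Finsupp.single (𝟙 U) (1 : R.obj.obj (op U))) := by
    refine (ModuleCat.freeDesc_apply _ _).trans (Eq.trans ?_ Finsupp.mapDomain_single.symm)
    exact congrArg (fun g : U ⟶ V => Finsupp.single g (1 : R.obj.obj (op U))) (Subsingleton.elim _ _)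
  refine (congrArg (v.app (op U)) h1).trans ((ConcreteCategory.congr_hom
    (congrArg (fun k : (PresheafOfModules.free R.obj).obj (yoneda.obj U) ⟶ _ => k.app (op U)) hv) _).trans ?_)
  refine (ModuleCat.freeDesc_apply _ _).trans ?_
  exact ConcreteCategory.congr_hom (I.val.presheaf.map_id (op U)) t

theorem subsingleton_hu_injective (I : SheafOfModules.{u} R) [Injective I] (U : Opens X) (n : ℕ) :
    Subsingleton (Ext (SiteCoh.fs (Opens.grothendieckTopology X) U) ((SheafOfModules.toSheaf R).obj I) (n + 1)) :=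
  Groth.L10.TopCoh.subsingleton_ext_of_flasque _ ⟨fun {V W} i => (AddCommGrpCat.epi_iff_surjective _).2
    (surjective_res_of_injective I (leOfHom i.unop))⟩ U n

/-! Injective towers. -/

section Cofree

variable {A : Type*} [Category* A] [Abelian A] [HasLimitsOfSize.{0, 0} A]

/-- The cofree tower. -/
noncomputable def cofree (F : ℕ → A) : ℕᵒᵖ ⥤ A where
  obj k := ∏ᶜ fun n : {n : ℕ // n ≤ k.unop} => F n.1
  map {k l} g := Pi.lift fun n => Pi.π _ (⟨n.1, n.2.trans (leOfHom g.unop)⟩ : {n : ℕ // n ≤ k.unop})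
  map_id k := by
    refine Pi.hom_ext _ _ fun n => ?_
    simp only [Pi.lift_π, Category.id_comp]
  map_comp {k l m} g h := by
    refine Pi.hom_ext _ _ fun n => ?_
    simp only [Pi.lift_π, Category.assoc]

theorem isSplitEpi_cofree (F : ℕ → A) {k l : ℕᵒᵖ} (g : k ⟶ l) : IsSplitEpi ((cofree F).map g) := by
  classical
  refine IsSplitEpi.mk' ⟨Pi.lift fun n => if h : n.1 ≤ l.unop then Pi.π _ (⟨n.1, h⟩ : {n : ℕ // n ≤ l.unop}) else 0, ?_⟩
  refine Pi.hom_ext _ _ fun n => ?_
  simp only [cofree, Category.assoc, Pi.lift_π, Category.id_comp, dif_pos n.2]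

theorem injective_tower [EnoughInjectives A] (I : ℕᵒᵖ ⥤ A) [Injective I] :
    (∀ n, Injective (I.obj n)) ∧ ∀ {k l : ℕᵒᵖ} (g : k ⟶ l), IsSplitEpi (I.map g) := by
  let F : ℕ → A := fun n => Injective.under (I.obj (op n))
  let j : I ⟶ cofree F :=
    { app := fun k => Pi.lift fun n => I.map (homOfLE n.2).op ≫ Injective.ι (I.obj (op n.1))
      naturality := fun k l g => by
        refine Pi.hom_ext _ _ fun n => ?_
        simp only [cofree, Category.assoc, Pi.lift_π]
        rw [← Category.assoc, ← Functor.map_comp]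
        rfl }
  have hj : ∀ k, Mono (j.app k) := fun k => by
    have h : j.app k ≫ Pi.π _ (⟨k.unop, le_rfl⟩ : {n : ℕ // n ≤ k.unop}) = Injective.ι (I.obj (op k.unop)) := by
      refine (Pi.lift_π _ _).trans ?_
      rw [show (homOfLE (le_refl k.unop)).op = 𝟙 k from rfl, I.map_id]
      exact Category.id_comp _
    exact mono_of_mono_fac h
  have : Mono j := NatTrans.mono_of_mono_app _
  let r : cofree F ⟶ I := Injective.factorThru (𝟙 I) j
  have hr : ∀ k, j.app k ≫ r.app k = 𝟙 _ := fun k => by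
    rw [← NatTrans.comp_app, Injective.comp_factorThru]
    rfl
  refine ⟨fun k => ⟨fun {P Q} g f _ => ?_⟩, fun {k l} g => ?_⟩
  · obtain ⟨h, hh⟩ : ∃ h : Q ⟶ (cofree F).obj k, f ≫ h = g ≫ j.app k := by
      refine ⟨Pi.lift fun n => Injective.factorThru (g ≫ j.app k ≫ Pi.π _ n) f, Pi.hom_ext _ _ fun n => ?_⟩
      simp [cofree]
    exact ⟨h ≫ r.app k, by rw [← Category.assoc, hh, Category.assoc, hr, Category.comp_id]⟩
  · have := isSplitEpi_cofree F g
    refine IsSplitEpi.mk' ⟨j.app l ≫ section_ ((cofree F).map g) ≫ r.app k, ?_⟩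
    rw [Category.assoc, Category.assoc, ← r.naturality, IsSplitEpi.id_assoc, hr]

end Cofree

/-- Sections over an open. -/
noncomputable abbrev sct (U : Opens X) : SheafOfModules.{u} R ⥤ AddCommGrpCat.{u} :=
  SheafOfModules.evaluation R (op U) ⋙ forget₂ (ModuleCat (R.obj.obj (op U))) AddCommGrpCat.{u}

theorem exists_limit_section (G : ℕᵒᵖ ⥤ SheafOfModules.{u} R) (U : Opens X)
    (b : ∀ n : ℕ, (sct U).obj (G.obj (op n)))
    (hb : ∀ n, (sct U).map (G.map (homOfLE (Nat.le_succ n)).op) (b (n + 1)) = b n) :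
    ∃ x : (sct U).obj (limit G), ∀ n, (sct U).map (limit.π G (op n)) x = b n := by
  have hl := isLimitOfPreserves (sct U ⋙ forget AddCommGrpCat.{u}) (limit.isLimit G)
  have hs : ∀ (i n : ℕ) (h : i ≤ n), (sct U).map (G.map (homOfLE h).op) (b n) = b i := fun i n h => by
    induction n, h using Nat.le_induction with
    | base =>
      rw [show (homOfLE (le_refl i)).op = 𝟙 (op i) from rfl, G.map_id, (sct U).map_id]
      rfl
    | succ n h ih =>
      rw [show (homOfLE (Nat.le_succ_of_le h)).op = (homOfLE (Nat.le_succ n)).op ≫ (homOfLE h).op from rfl,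
        G.map_comp, (sct U).map_comp, ConcreteCategory.comp_apply, hb, ih]
  obtain ⟨x, hx, -⟩ := (Types.isLimit_iff _).1 ⟨hl⟩ (fun k => b k.unop) (fun {k l} g => by
    exact hs l.unop k.unop (leOfHom g.unop))
  exact ⟨x, fun n => hx (op n)⟩

/-- The hypothesis: acyclicity on the basis. -/
def Acyc (E : ℕᵒᵖ ⥤ SheafOfModules.{u} R) (B : Set (Opens X)) : Prop :=
  ∀ U ∈ B, ∀ (n i : ℕ), Subsingleton
    (Ext (SiteCoh.fs (Opens.grothendieckTopology X) U) ((SheafOfModules.toSheaf R).obj (E.obj (op n))) (i + 1))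

/-- The Mittag-Leffler hypothesis. -/
def ML (E : ℕᵒᵖ ⥤ SheafOfModules.{u} R) (B : Set (Opens X)) : Prop :=
  ∀ U ∈ B, (E ⋙ sct U ⋙ forget AddCommGrpCat.{u}).IsMittagLeffler

section Step

variable {S : ShortComplex (ℕᵒᵖ ⥤ SheafOfModules.{u} R)} {B : Set (Opens X)}

theorem shortExact_at (hS : S.ShortExact) (n : ℕ) :
    ((S.map ((evaluation ℕᵒᵖ _).obj (op n))).map (SheafOfModules.toSheaf R)).ShortExact :=
  (hS.map_of_exact _).map_of_exact _

theorem surjective_g (hS : S.ShortExact) (ha : Acyc S.X₁ B) {U : Opens X} (hU : U ∈ B) (n : ℕ) :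
    Function.Surjective ((sct U).map (S.g.app (op n))) :=
  have : Subsingleton (Ext (SiteCoh.fs (Opens.grothendieckTopology X) U)
      ((S.map ((evaluation ℕᵒᵖ _).obj (op n))).map (SheafOfModules.toSheaf R)).X₁ 1) := ha U hU n 0
  SiteCoh.surjective_sections_of_subsingleton (shortExact_at hS n) U

theorem acyc_X₃ (hS : S.ShortExact) [∀ n, Injective (S.X₂.obj n)] (ha : Acyc S.X₁ B) : Acyc S.X₃ B :=
  fun U hU n i => subsingleton_of_forall_eq 0 fun x => by
    have : Subsingleton (Ext (SiteCoh.fs (Opens.grothendieckTopology X) U)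
      ((S.map ((evaluation ℕᵒᵖ _).obj (op n))).map (SheafOfModules.toSheaf R)).X₁ (i + 1 + 1)) := ha U hU n (i + 1)
    obtain ⟨y, hy⟩ := Ext.covariant_sequence_exact₃ _ (shortExact_at hS n) x rfl (Subsingleton.elim _ _)
    have : Subsingleton (Ext (SiteCoh.fs (Opens.grothendieckTopology X) U)
      ((S.map ((evaluation ℕᵒᵖ _).obj (op n))).map (SheafOfModules.toSheaf R)).X₂ (i + 1)) :=
      subsingleton_hu_injective (S.X₂.obj (op n)) U i
    rw [← hy, (Subsingleton.elim y 0 : y = 0), Ext.zero_comp]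

theorem ml_X₃ [EnoughInjectives (SheafOfModules.{u} R)] (hS : S.ShortExact) [Injective S.X₂] (ha : Acyc S.X₁ B) :
    ML S.X₃ B := fun U hU => by
  refine fun l => ⟨l, 𝟙 _, fun k g => ?_⟩
  rintro _ ⟨x, rfl⟩
  obtain ⟨y, hy⟩ := surjective_g hS ha hU l.unop x
  have := (injective_tower S.X₂).2 g
  refine ⟨(sct U).map (S.g.app k) ((sct U).map (section_ (S.X₂.map g)) y), ?_⟩
  have e : (sct U).map (S.X₂.map g) ((sct U).map (section_ (S.X₂.map g)) y) = y := by
    rw [← ConcreteCategory.comp_apply, ← Functor.map_comp, IsSplitEpi.id, CategoryTheory.Functor.map_id]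
    rfl
  calc (sct U).map (S.X₃.map g) ((sct U).map (S.g.app k) ((sct U).map (section_ (S.X₂.map g)) y))
      = (sct U).map (S.g.app l) ((sct U).map (S.X₂.map g) ((sct U).map (section_ (S.X₂.map g)) y)) := by
        erw [← ConcreteCategory.comp_apply, ← Functor.map_comp, ← S.g.naturality g, Functor.map_comp,
          ConcreteCategory.comp_apply]
    _ = _ := by
        rw [e, CategoryTheory.Functor.map_id]
        exact hy

theorem epi_lim (hS : S.ShortExact) (hB : Opens.IsBasis B) (ha : Acyc S.X₁ B) (hml : ML S.X₁ B) :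
    Epi ((lim : (ℕᵒᵖ ⥤ SheafOfModules.{u} R) ⥤ SheafOfModules.{u} R).map S.g) := by
  refine (SheafOfModules.toSheaf R).epi_of_epi_map
    ((CategoryTheory.Sheaf.isLocallySurjective_iff_epi' AddCommGrpCat.{u} _).1 ?_)
  refine (TopCat.Presheaf.isLocallySurjective_iff _).2 fun W s p hp => ?_
  obtain ⟨U, hU, hpU, hUW⟩ := Opens.isBasis_iff_nbhd.1 hB hp
  let s' : (sct U).obj (limit S.X₃) :=
    ((SheafOfModules.toSheaf R).obj (limit S.X₃)).obj.map (homOfLE hUW).op s
  choose b hb using fun n => surjective_g hS ha hU n ((sct U).map (limit.π S.X₃ (op n)) s')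
  let G : ℕ → Type u := fun n => (sct U).obj (S.X₁.obj (op n))
  let t : ∀ n, G (n + 1) →+ G n := fun n => ((sct U).map (S.X₁.map (homOfLE (Nat.le_succ n)).op)).hom
  have hnat : ∀ (n : ℕ) (y), (sct U).map (S.g.app (op n)) ((sct U).map (S.X₂.map (homOfLE (Nat.le_succ n)).op) y) =
      (sct U).map (S.X₃.map (homOfLE (Nat.le_succ n)).op) ((sct U).map (S.g.app (op (n + 1))) y) := fun n y => by
    rw [← ConcreteCategory.comp_apply, ← ConcreteCategory.comp_apply, ← Functor.map_comp, ← Functor.map_comp,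
      S.g.naturality]
  have hy : ∀ n, ∃ a : G n, (sct U).map (S.f.app (op n)) a =
      (sct U).map (S.X₂.map (homOfLE (Nat.le_succ n)).op) (b (n + 1)) - b n := fun n => by
    have hS' := shortExact_at hS n
    have := hS'.mono_f
    have hex := (ShortComplex.ab_exact_iff _).1 (hS'.exact.map_of_mono_of_preservesKernel
      (sheafToPresheaf _ _ ⋙ (evaluation _ _).obj (op U)) hS'.mono_f inferInstance)
    refine hex _ ?_
    change (sct U).map (S.g.app (op n)) (_ - _) = 0
    rw [map_sub, hnat, hb, hb, sub_eq_zero, ← ConcreteCategory.comp_apply, ← Functor.map_comp, limit.w]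
  choose y hy using hy
  have hrg : ∀ i : ℕ, ∃ j : ℕ, i ≤ j ∧ ∀ k : ℕ, i ≤ k → Groth.L17.Tower.Rg t i j ≤ Groth.L17.Tower.Rg t i k := by
    intro i
    obtain ⟨j, f, hf⟩ := hml U hU (op i)
    have hij : i ≤ j.unop := leOfHom f.unop
    have hcompat : ∀ (i n : ℕ) (hi : i ≤ n) (x : ∀ n, G n),
        (∀ m, i ≤ m → m < n → x m = t m (x (m + 1))) → (sct U).map (S.X₁.map (homOfLE hi).op) (x n) = x i := by
      intro i n hi x
      induction n, hi using Nat.le_induction with
      | base =>
        intro _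
        rw [show (homOfLE (le_refl i)).op = 𝟙 (op i) from rfl, S.X₁.map_id, CategoryTheory.Functor.map_id]
        rfl
      | succ n hi ih =>
        intro hx
        rw [show (homOfLE (Nat.le_succ_of_le hi)).op = (homOfLE (Nat.le_succ n)).op ≫ (homOfLE hi).op from rfl,
          S.X₁.map_comp, Functor.map_comp, ConcreteCategory.comp_apply]
        change (sct U).map (S.X₁.map (homOfLE hi).op) (t n (x (n + 1))) = _
        rw [← hx n hi (by omega)]
        exact ih fun m h₁ h₂ => hx m h₁ (by omega)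
    refine ⟨j.unop, hij, fun k hk => ?_⟩
    rintro _ ⟨x, hx, rfl⟩
    obtain ⟨a, ha'⟩ := hf (homOfLE hk).op ⟨x j.unop, rfl⟩
    classical
    refine ⟨fun m => if h : m ≤ k then (sct U).map (S.X₁.map (homOfLE h).op) a else 0, fun m h₁ h₂ => ?_, ?_⟩
    · dsimp only
      rw [dif_pos h₂.le, dif_pos (show m + 1 ≤ k by omega)]
      change _ = (sct U).map (S.X₁.map _) ((sct U).map (S.X₁.map _) a)
      rw [← ConcreteCategory.comp_apply, ← Functor.map_comp, ← Functor.map_comp]
      rfl
    · dsimp only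
      rw [dif_pos hk]
      refine ha'.trans ?_
      rw [show f = (homOfLE hij).op from Subsingleton.elim _ _]
      exact hcompat i j.unop hij x hx
  obtain ⟨x, hx⟩ := Groth.L17.Tower.exists_solution_of_ml t hrg y
  obtain ⟨c, hc⟩ := exists_limit_section S.X₂ U (fun n => b n + (sct U).map (S.f.app (op n)) (x n)) fun n => by
    have h := congrArg ((sct U).map (S.f.app (op n))) (hx n)
    rw [map_sub, hy] at h
    rw [map_add, ← ConcreteCategory.comp_apply ((sct U).map (S.f.app (op (n + 1)))), ← Functor.map_comp,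
      ← S.f.naturality, Functor.map_comp, ConcreteCategory.comp_apply]
    rw [eq_comm, ← sub_eq_zero]
    simp only [t, G] at h
    linear_combination (norm := abel) h
  refine ⟨U, hUW, ⟨c, ?_⟩, hpU⟩
  have hl := isLimitOfPreserves (sct U ⋙ forget AddCommGrpCat.{u}) (limit.isLimit S.X₃)
  refine Concrete.isLimit_ext (F := S.X₃ ⋙ sct U ⋙ forget AddCommGrpCat.{u}) hl _ _ fun n => ?_
  obtain ⟨n, rfl⟩ : ∃ m, n = op m := ⟨n.unop, rfl⟩
  change (sct U).map (limit.π S.X₃ (op n)) ((sct U).map (limMap S.g) c) = (sct U).map (limit.π S.X₃ (op n)) s'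
  rw [← ConcreteCategory.comp_apply, ← Functor.map_comp, limMap_π, Functor.map_comp, ConcreteCategory.comp_apply,
    hc, map_add, hb, ← ConcreteCategory.comp_apply, ← Functor.map_comp, ← NatTrans.comp_app, S.zero]
  simp only [zero_comp, NatTrans.app_zero, Functor.map_zero]
  simp

end Step

theorem main [(lim : (ℕᵒᵖ ⥤ SheafOfModules.{u} R) ⥤ SheafOfModules.{u} R).Additive]
    [HasInjectiveResolutions (ℕᵒᵖ ⥤ SheafOfModules.{u} R)] (B : Set (Opens X)) (hB : Opens.IsBasis B) :
    ∀ (i : ℕ) (E : ℕᵒᵖ ⥤ SheafOfModules.{u} R), Acyc E B → (i = 0 → ML E B) →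
      IsZero (((lim : (ℕᵒᵖ ⥤ SheafOfModules.{u} R) ⥤ SheafOfModules.{u} R).rightDerived (i + 1)).obj E) := by
  have := InjTAR.shR_preservesFiniteLimits R
  have := Groth.L10.shMod_isGrothendieckAbelian R
  haveI : EnoughInjectives (ℕᵒᵖ ⥤ SheafOfModules.{u} R) :=
    ⟨fun X => ⟨⟨_, inferInstance, (injectiveResolution X).ι.f 0, inferInstance⟩⟩⟩
  intro i
  induction i with
  | zero =>
    intro E ha hml
    let L := (lim : (ℕᵒᵖ ⥤ SheafOfModules.{u} R) ⥤ SheafOfModules.{u} R)
    let S := ShortComplex.mk (Injective.ι E) (cokernel.π (Injective.ι E)) (cokernel.condition _)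
    have hS : S.ShortExact :=
      { exact := ShortComplex.exact_of_g_is_cokernel _ (cokernelIsCokernel _) }
    have : Injective S.X₂ := inferInstanceAs (Injective (Injective.under E))
    let Δ := Groth.L10.RDerSES.mkLES L
    have h0 : Epi ((L.rightDerived 0).map S.g) := by
      have := epi_lim hS hB ha (hml rfl)
      have : Epi (L.map S.g) := this
      rw [← NatIso.naturality_2 L.rightDerivedZeroIsoSelf S.g]
      exact epi_comp' inferInstance (epi_comp' this inferInstance)
    have hδ : Δ.δ S hS 0 1 rfl = 0 := (cancel_epi ((L.rightDerived 0).map S.g)).1 ((Δ.comp_δ S hS 0 1 rfl).trans comp_zero.symm)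
    have hz : IsZero ((L.rightDerived 1).obj S.X₂) := L.isZero_rightDerived_obj_injective_succ 0 S.X₂
    exact (Δ.exact₁ S hS 0 1 rfl).isZero_of_both_zeros hδ (hz.eq_of_tgt _ _)
  | succ i ih =>
    intro E ha _
    let L := (lim : (ℕᵒᵖ ⥤ SheafOfModules.{u} R) ⥤ SheafOfModules.{u} R)
    let S := ShortComplex.mk (Injective.ι E) (cokernel.π (Injective.ι E)) (cokernel.condition _)
    have hS : S.ShortExact :=
      { exact := ShortComplex.exact_of_g_is_cokernel _ (cokernelIsCokernel _) }
    have : Injective S.X₂ := inferInstanceAs (Injective (Injective.under E))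
    have hE : EnoughInjectives (SheafOfModules.{u} R) := inferInstance
    have := (injective_tower S.X₂).1
    let Δ := Groth.L10.RDerSES.mkLES L
    have h3 : IsZero ((L.rightDerived (i + 1)).obj S.X₃) := ih _ (acyc_X₃ hS ha) fun _ => ml_X₃ hS ha
    have hz : IsZero ((L.rightDerived (i + 2)).obj S.X₂) := L.isZero_rightDerived_obj_injective_succ (i + 1) S.X₂
    exact (Δ.exact₁ S hS (i + 1) (i + 2) rfl).isZero_of_both_zeros (h3.eq_of_src _ _) (hz.eq_of_tgt _ _)

end Groth.L10.RlimML
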