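import Groth.Prelude.Def_DerLim
import Mathlib.Algebra.DirectSum.Module
import Mathlib.CategoryTheory.Triangulated.Pretriangulated
import Mathlib.CategoryTheory.Limits.Shapes.Products
import Mathlib.CategoryTheory.Limits.Preserves.Shapes.Products

/-! Maps from an object commuting with countable sums into a sequential homotopy colimit. -/

universe v u

open CategoryTheory CategoryTheory.Limits CategoryTheory.Pretriangulated DirectSum

set_option backward.defeqAttrib.useBackward true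
set_option backward.isDefEq.respectTransparency false

namespace Groth.L10.SeqCompact

variable {D : Type u} [Category.{v} D] [Preadditive D]

section Sums

variable (K : ℕ → D) [HasCoproduct K]

/-- finite sums of maps into the summands -/
noncomputable def homSum (C : D) : (⨁ n, (C ⟶ K n)) →+ (C ⟶ ∐ K) :=
  DirectSum.toAddMonoid fun n => Preadditive.rightComp C (Sigma.ι K n)

theorem homSum_of (C : D) (n : ℕ) (g : C ⟶ K n) : homSum K C (DirectSum.of _ n g) = g ≫ Sigma.ι K n :=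
  DirectSum.toAddMonoid_of _ _ _

/-- the surjectivity we use -/
def SumSurj (C : D) : Prop := ∀ φ : C ⟶ ∐ K, ∃ x, homSum K C x = φ

theorem homSum_comp {C W : D} (Φ : ∀ n, K n ⟶ W) (x : ⨁ n, (C ⟶ K n)) (m : ℕ)
    (hΦ : ∀ n, n ≠ m → Φ n = 0) : homSum K C x ≫ Sigma.desc Φ = x m ≫ Φ m := by
  induction x using DirectSum.induction_on with
  | zero => simp
  | of k g =>
    rcases eq_or_ne k m with rfl | hk
    · simp [homSum_of]
    · simp [homSum_of, hΦ k hk, DirectSum.of_eq_of_ne _ _ _ hk.symm]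
  | add a b ha hb => simp [ha, hb]

theorem sub_shift_injective {C : D} (hC : SumSurj K C) (f : ∀ n, K n ⟶ K (n + 1)) (φ : C ⟶ ∐ K)
    (h : φ ≫ (𝟙 _ - DerLim.shiftMap K f) = 0) : φ = 0 := by
  classical
  obtain ⟨x, rfl⟩ := hC φ
  let p : ∀ n, ∀ j, K j ⟶ K n := fun n j => if hjn : j = n then eqToHom (by rw [hjn]) else 0
  have hp : ∀ n, homSum K C x ≫ Sigma.desc (p n) = x n := fun n => by
    rw [homSum_comp K (p n) x n fun j hj => by simp [p, hj]]; simp [p]
  have h0 : (𝟙 _ - DerLim.shiftMap K f) ≫ Sigma.desc (p 0) = Sigma.desc (p 0) := Sigma.hom_ext _ _ fun j => by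
    rcases eq_or_ne j 0 with rfl | hj
    · simp [p, DerLim.shiftMap]
    · simp [p, DerLim.shiftMap, hj]
  have h1 : ∀ n, (𝟙 _ - DerLim.shiftMap K f) ≫ Sigma.desc (p (n + 1)) =
      Sigma.desc (p (n + 1)) - Sigma.desc (p n) ≫ f n := fun n => Sigma.hom_ext _ _ fun j => by
    rcases eq_or_ne j (n + 1) with rfl | hj
    · simp [p, DerLim.shiftMap]
    · rcases eq_or_ne j n with rfl | hj'
      · simp [p, DerLim.shiftMap]
      · simp [p, DerLim.shiftMap, hj, hj']
  have hx : ∀ n, x n = 0 := by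
    intro n
    induction n with
    | zero => rw [← hp, ← h0, reassoc_of% h, zero_comp]
    | succ n ih =>
      have h2 : homSum K C x ≫ (𝟙 _ - DerLim.shiftMap K f) ≫ Sigma.desc (p (n + 1)) = 0 := by
        rw [reassoc_of% h, zero_comp]
      rwa [h1, Preadditive.comp_sub, hp, ← Category.assoc, hp, ih, zero_comp, sub_zero] at h2
  rw [show x = 0 from DFinsupp.ext hx, map_zero]

end Sums

variable [HasZeroObject D] [HasShift D ℤ] [∀ n : ℤ, (shiftFunctor D n).Additive] [Pretriangulated D]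
  (F : ℕ ⥤ D) [HasCoproduct F.obj] {X : D}

/-- maps into a homotopy colimit of a sequence -/
theorem hom_hocolim (i : ∀ n, F.obj n ⟶ X)
    (hi : ∀ (n m : ℕ) (h : n ≤ m), F.map (homOfLE h) ≫ i m = i n)
    (δ : X ⟶ (∐ F.obj)⟦(1 : ℤ)⟧)
    (hT : Triangle.mk (𝟙 (∐ F.obj) - DerLim.shiftMap F.obj (fun n => F.map (homOfLE (Nat.le_succ n))))
      (Sigma.desc i) δ ∈ distinguishedTriangles)
    {C : D} (hC : SumSurj F.obj C)
    (hC' : ∀ ψ : C ⟶ (∐ F.obj)⟦(1 : ℤ)⟧,
      ψ ≫ (𝟙 (∐ F.obj) - DerLim.shiftMap F.obj (fun n => F.map (homOfLE (Nat.le_succ n))))⟦(1 : ℤ)⟧' = 0 → ψ = 0) :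
    (∀ x : C ⟶ X, ∃ (n : ℕ) (y : C ⟶ F.obj n), y ≫ i n = x) ∧
      ∀ (n : ℕ) (y : C ⟶ F.obj n), y ≫ i n = 0 → ∃ (m : ℕ) (h : n ≤ m), y ≫ F.map (homOfLE h) = 0 := by
  classical
  constructor
  · intro x
    have hx : x ≫ δ = 0 := by
      refine hC' _ ?_
      have h31 := comp_distTriang_mor_zero₃₁ _ hT
      dsimp at h31
      rw [Category.assoc]
      exact (congrArg (x ≫ ·) h31).trans comp_zero
    obtain ⟨x', hx'⟩ := Triangle.coyoneda_exact₃ _ hT x hx
    dsimp at x' hx'
    obtain ⟨w, rfl⟩ := hC x'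
    have key : ∀ w, ∃ (n : ℕ) (y : C ⟶ F.obj n), y ≫ i n = homSum F.obj C w ≫ Sigma.desc i := fun w => by
      induction w using DirectSum.induction_on with
      | zero => exact ⟨0, 0, by simp⟩
      | of k g => exact ⟨k, g, by simp [homSum_of]⟩
      | add a b ha hb =>
        obtain ⟨na, ya, ha⟩ := ha
        obtain ⟨nb, yb, hb⟩ := hb
        exact ⟨max na nb, ya ≫ F.map (homOfLE (le_max_left na nb)) + yb ≫ F.map (homOfLE (le_max_right na nb)),
          by simp [ha, hb, hi]⟩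
    obtain ⟨n, y, hy⟩ := key w
    exact ⟨n, y, hy.trans hx'.symm⟩
  · intro n y hy
    obtain ⟨z, hz⟩ := Triangle.coyoneda_exact₂ _ hT (y ≫ Sigma.ι F.obj n) (by dsimp; simp [hy])
    dsimp at z hz
    obtain ⟨w, rfl⟩ := hC z
    obtain ⟨m, hnm, hwm⟩ : ∃ m, n ≤ m ∧ w m = 0 := by
      refine ⟨n + w.support.sup id + 1, by omega, DFinsupp.notMem_support_iff.1 fun h => ?_⟩
      have := Finset.le_sup (f := id) h
      simp only [id_eq] at this
      omega
    refine ⟨m, hnm, ?_⟩
    let Φ : ∀ j, F.obj j ⟶ F.obj m := fun j => if h : j ≤ m then F.map (homOfLE h) else 0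
    have h2 : (𝟙 (∐ F.obj) - DerLim.shiftMap F.obj (fun n => F.map (homOfLE (Nat.le_succ n)))) ≫ Sigma.desc Φ =
        Sigma.desc fun j => if h : j = m then eqToHom (by rw [h]) else 0 := Sigma.hom_ext _ _ fun j => by
      rcases lt_trichotomy j m with hj | rfl | hj
      · simp [Φ, DerLim.shiftMap, hj.le, Nat.succ_le_of_lt hj, hj.ne, ← Functor.map_comp]
      · simp [Φ, DerLim.shiftMap]
      · simp [Φ, DerLim.shiftMap, hj.ne', not_le.2 hj, not_le.2 (hj.trans (Nat.lt_succ_self j))]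
    have h3 := hz =≫ Sigma.desc Φ
    rw [Category.assoc, Category.assoc, h2, homSum_comp F.obj _ w m (fun j hj => by simp [hj]), hwm, zero_comp,
      colimit.ι_desc] at h3
    simpa [Φ, hnm] using h3

end Groth.L10.SeqCompact
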