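import Groth.Agent.L10.WSerreLib
import Mathlib.Algebra.Homology.HomologySequenceLemmas
import Mathlib.Algebra.Homology.DerivedCategory.KInjective
import Mathlib.Algebra.Homology.DerivedCategory.Fractions
import Mathlib.CategoryTheory.Preadditive.Injective.Basic

/-! Derived categories of a Serre class with a torsion radical. -/

universe w w' v u

open CategoryTheory CategoryTheory.Limits

set_option backward.defeqAttrib.useBackward true
set_option backward.isDefEq.respectTransparency false
namespace Groth.L10.SerreTorsion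

variable {C : Type u} [Category.{v} C] [Abelian C] (P : ObjectProperty C) [P.IsSerreClass]

/-- Maximal subobjects in `P` with divisible quotient for injective objects. -/
structure Radical where
  /-- the maximal subobject -/
  T : C → C
  /-- its inclusion -/
  i : ∀ F, T F ⟶ F
  mono : ∀ F, Mono (i F)
  prop : ∀ F, P (T F)
  fac : ∀ {G F : C} (g : G ⟶ F), P G → ∃ h : G ⟶ T F, h ≫ i F = g
  div : ∀ (I : C) [Injective I] (n : ℕ), 0 < n → IsIso (n • 𝟙 (cokernel (i I)))
  isZero : ∀ (G : C), P G → (∀ n : ℕ, 0 < n → IsIso (n • 𝟙 G)) → IsZero G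

variable {P} (R : Radical P)

attribute [local instance] Radical.mono

/-- The subcomplex in `P`. -/
noncomputable def Radical.cx (R : Radical P) (K : CochainComplex C ℤ) : CochainComplex P.FullSubcategory ℤ where
  X n := ⟨R.T (K.X n), R.prop _⟩
  d i j := ObjectProperty.homMk (R.fac (R.i (K.X i) ≫ K.d i j) (R.prop _)).choose
  shape i j h := by
    apply ObjectProperty.hom_ext
    have := R.mono (K.X j)
    rw [← cancel_mono (R.i (K.X j))]
    have hc := (R.fac (R.i (K.X i) ≫ K.d i j) (R.prop _)).choose_spec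
    refine hc.trans ?_
    simp [K.shape i j h]
  d_comp_d' i j k hij hjk := by
    apply ObjectProperty.hom_ext
    have := R.mono (K.X k)
    rw [← cancel_mono (R.i (K.X k))]
    have h1 := (R.fac (R.i (K.X i) ≫ K.d i j) (R.prop _)).choose_spec
    have h2 := (R.fac (R.i (K.X j) ≫ K.d j k) (R.prop _)).choose_spec
    simp [h2, reassoc_of% h1]

/-- The inclusion of complexes. -/
noncomputable abbrev Radical.incl (R : Radical P) (K : CochainComplex C ℤ) :
    (P.ι.mapHomologicalComplex (ComplexShape.up ℤ)).obj (R.cx K) ⟶ K where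
  f n := R.i (K.X n)
  comm' i j _ := (R.fac (R.i (K.X i) ≫ K.d i j) (R.prop _)).choose_spec.symm

theorem exists_lift (R : Radical P) {L : CochainComplex P.FullSubcategory ℤ} {K : CochainComplex C ℤ}
    (g : (P.ι.mapHomologicalComplex (ComplexShape.up ℤ)).obj L ⟶ K) :
    ∃ g' : L ⟶ R.cx K, (P.ι.mapHomologicalComplex (ComplexShape.up ℤ)).map g' ≫ R.incl K = g := by
  choose h hh using fun n => R.fac (g.f n) (L.X n).property
  refine ⟨{ f := fun n => ObjectProperty.homMk (h n), comm' := fun i j _ => ?_ }, ?_⟩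
  · apply ObjectProperty.hom_ext
    have := R.mono (K.X j)
    rw [← cancel_mono (R.i (K.X j))]
    have h1 := (R.fac (R.i (K.X i) ≫ K.d i j) (R.prop _)).choose_spec
    have h2 := g.comm i j
    dsimp at h2
    simp [Radical.cx, h1, reassoc_of% (hh i), hh j, h2]
  · ext n
    exact hh n

theorem homotopy_lift (R : Radical P) {L : CochainComplex P.FullSubcategory ℤ} {K : CochainComplex C ℤ}
    (g : L ⟶ R.cx K) (H : Homotopy ((P.ι.mapHomologicalComplex (ComplexShape.up ℤ)).map g ≫ R.incl K) 0) :
    Nonempty (Homotopy g 0) := by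
  choose h hh using fun i j => R.fac (H.hom i j) (L.X i).property
  refine ⟨{ hom := fun i j => ObjectProperty.homMk (h i j), zero := fun i j hij => ?_, comm := fun n => ?_ }⟩
  · apply ObjectProperty.hom_ext
    have := R.mono (K.X j)
    rw [← cancel_mono (R.i (K.X j))]
    simp [hh, H.zero i j hij]
  · apply ObjectProperty.hom_ext
    have := R.mono (K.X n)
    rw [← cancel_mono (R.i (K.X n))]
    have hc := H.comm n
    rw [dNext_eq _ (show (ComplexShape.up ℤ).Rel n (n + 1) from rfl),
      prevD_eq _ (show (ComplexShape.up ℤ).Rel (n - 1) n by simp)] at hc ⊢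
    have h1 := (R.fac (R.i (K.X (n - 1)) ≫ K.d (n - 1) n) (R.prop _)).choose_spec
    dsimp at hc
    simp [Radical.cx, Radical.incl] at hc ⊢
    refine hc.trans ?_
    let x : (L.X n).obj ⟶ R.T (K.X n) := (L.d n (n + 1)).hom ≫ h (n + 1) n
    let y : (L.X n).obj ⟶ R.T (K.X n) := h n (n - 1) ≫ (R.fac (R.i (K.X (n - 1)) ≫ K.d (n - 1) n) (R.prop _)).choose
    change _ = (x + y) ≫ R.i (K.X n)
    dsimp [x, y]
    rw [Preadditive.add_comp, Category.assoc, Category.assoc, hh, h1, reassoc_of% (hh n (n - 1))]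

theorem quasiIso_incl (R : Radical P) (K : CochainComplex C ℤ) (hinj : ∀ n, Injective (K.X n))
    (hK : ∀ n, P (K.homology n)) : QuasiIso (R.incl K) := by
  have hmono : Mono (R.incl K) := HomologicalComplex.mono_of_mono_f _ fun n => R.mono _
  let S : ShortComplex (CochainComplex C ℤ) := ShortComplex.mk (R.incl K) (cokernel.π _) (cokernel.condition _)
  have hS : S.ShortExact :=
    { exact := ShortComplex.exact_cokernel _, mono_f := hmono, epi_g := inferInstanceAs (Epi (cokernel.π _)) }
  have hT : ∀ n, P (((P.ι.mapHomologicalComplex (ComplexShape.up ℤ)).obj (R.cx K)).homology n) := fun n =>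
    P.prop_of_iso (((R.cx K).sc n).mapHomologyIso P.ι).symm ((R.cx K).sc n).homology.property
  have hW : ∀ n, P (S.X₃.homology n) := fun n =>
    P.prop_X₂_of_exact
      (S := ShortComplex.mk (HomologicalComplex.homologyMap S.g n) (hS.δ n (n + 1) rfl) (hS.comp_δ n (n + 1) rfl))
      (hS.homology_exact₃ n (n + 1) rfl) (hK n) (hT (n + 1))
  have hdiv : ∀ (m : ℕ), 0 < m → ∀ n, IsIso (m • 𝟙 (S.X₃.X n)) := by
    intro m hm n
    have := hinj n
    let e : S.X₃.X n ≅ cokernel (R.i (K.X n)) :=
      PreservesCokernel.iso (HomologicalComplex.eval C (ComplexShape.up ℤ) n) (R.incl K)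
    have := R.div (K.X n) m hm
    rw [show m • 𝟙 (S.X₃.X n) = e.hom ≫ (m • 𝟙 _) ≫ e.inv by simp]
    infer_instance
  have hac : S.X₃.Acyclic := fun n => by
    rw [HomologicalComplex.exactAt_iff_isZero_homology]
    refine R.isZero _ (hW n) fun m hm => ?_
    have : ∀ k, IsIso ((m • 𝟙 S.X₃).f k) := fun k => by simpa using hdiv m hm k
    have : IsIso (m • 𝟙 S.X₃) := HomologicalComplex.Hom.isIso_of_components _
    have h : IsIso ((HomologicalComplex.homologyFunctor C (ComplexShape.up ℤ) n).map (m • 𝟙 S.X₃)) := inferInstance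
    rwa [Functor.map_nsmul, CategoryTheory.Functor.map_id] at h
  rw [quasiIso_iff]
  intro n
  rw [quasiIsoAt_iff_isIso_homologyMap]
  have := (hS.homology_exact₁ (n - 1) n (by simp)).mono_g ((hac (n - 1)).isZero_homology.eq_of_src _ _)
  have := (hS.homology_exact₂ n).epi_f ((hac n).isZero_homology.eq_of_tgt _ _)
  exact isIso_of_mono_of_epi _

section

variable [HasDerivedCategory.{w} C] [HasDerivedCategory.{w'} P.FullSubcategory]
  (hres : ∀ K : CochainComplex C ℤ, ∃ (I : CochainComplex C ℤ) (f : K ⟶ I),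
    I.IsKInjective ∧ QuasiIso f ∧ ∀ n, Injective (I.X n))

include R hres

theorem map_Q_zero {L M : CochainComplex P.FullSubcategory ℤ} (f : L ⟶ M)
    (h : DerivedCategory.Q.map ((P.ι.mapHomologicalComplex (ComplexShape.up ℤ)).map f) = 0) :
    DerivedCategory.Q.map f = 0 := by
  obtain ⟨I, u, hI, hu, hinj⟩ := hres ((P.ι.mapHomologicalComplex (ComplexShape.up ℤ)).obj M)
  have hP : ∀ n, P (I.homology n) := fun n =>
    P.prop_of_iso ((((M.sc n).mapHomologyIso P.ι).symm) ≪≫ asIso (HomologicalComplex.homologyMap u n))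
      (M.sc n).homology.property
  have := quasiIso_incl R I hinj hP
  obtain ⟨u', hu'⟩ := exists_lift R u
  have : QuasiIso ((P.ι.mapHomologicalComplex (ComplexShape.up ℤ)).map u' ≫ R.incl I) := hu'.symm ▸ hu
  have h1 := quasiIso_of_comp_right ((P.ι.mapHomologicalComplex (ComplexShape.up ℤ)).map u') (R.incl I)
  rw [HomologicalComplex.quasiIso_map_iff_of_preservesHomology] at h1
  have h2 : DerivedCategory.Qh.map ((HomotopyCategory.quotient _ _).map
      ((P.ι.mapHomologicalComplex (ComplexShape.up ℤ)).map f ≫ u)) = DerivedCategory.Qh.map 0 := by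
    rw [Functor.map_zero]
    have h3 : DerivedCategory.Q.map ((P.ι.mapHomologicalComplex (ComplexShape.up ℤ)).map f ≫ u) = 0 := by
      rw [Functor.map_comp, h, zero_comp]
    rw [← cancel_mono ((DerivedCategory.quotientCompQhIso C).hom.app I), zero_comp,
      DerivedCategory.quotientCompQhIso_hom_naturality, h3, comp_zero]
  have h4 := (CochainComplex.IsKInjective.Qh_map_bijective _ _).injective h2
  rw [← (HomotopyCategory.quotient _ _).map_zero] at h4
  let H := HomotopyCategory.homotopyOfEq _ _ h4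
  obtain ⟨H'⟩ := homotopy_lift R (f ≫ u') ((Homotopy.ofEq (by rw [Functor.map_comp, Category.assoc, hu'])).trans H)
  have h5 := DerivedCategory.Q_map_eq_of_homotopy _ H'
  rw [Functor.map_zero, Functor.map_comp] at h5
  have : IsIso (DerivedCategory.Q.map u') := (DerivedCategory.isIso_Q_map_iff_quasiIso _ _).2 h1
  rwa [← cancel_mono (DerivedCategory.Q.map u'), zero_comp]

theorem equivalence :
    (WSerre.toDerived P).Full ∧ (WSerre.toDerived P).Faithful ∧
      ∀ K : DerivedCategory C, WSerre.cohIn P K ↔ (WSerre.toDerived P).essImage K := by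
  let Φ := P.ι.mapHomologicalComplex (ComplexShape.up ℤ)
  let η := P.ι.mapDerivedCategoryFactors
  have hQ : ∀ {L M : CochainComplex P.FullSubcategory ℤ} (f : L ⟶ M),
      (WSerre.toDerived P).map (DerivedCategory.Q.map f) = η.hom.app L ≫ DerivedCategory.Q.map (Φ.map f) ≫ η.inv.app M := by
    intro L M f
    have := η.hom.naturality f
    dsimp at this
    rw [← Category.assoc, ← this, Category.assoc, ← NatTrans.comp_app, Iso.hom_inv_id, NatTrans.id_app]
    exact (Category.comp_id _).symm
  have hfaith : ∀ (L M : CochainComplex P.FullSubcategory ℤ) (φ : DerivedCategory.Q.obj L ⟶ DerivedCategory.Q.obj M),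
      (WSerre.toDerived P).map φ = 0 → φ = 0 := by
    intro L M φ hφ
    obtain ⟨M', f, s, hs, rfl⟩ := DerivedCategory.left_fac φ
    rw [Functor.map_comp, Functor.map_inv] at hφ
    have h0 : (WSerre.toDerived P).map (DerivedCategory.Q.map f) = 0 := by
      rw [← cancel_mono (inv ((WSerre.toDerived P).map (DerivedCategory.Q.map s))), zero_comp, hφ]
    rw [hQ] at h0
    have h1 : DerivedCategory.Q.map (Φ.map f) = 0 := by
      rw [← cancel_epi (η.hom.app L), ← cancel_mono (η.inv.app M'), Category.assoc, h0, comp_zero, zero_comp]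
    rw [map_Q_zero R hres f h1, zero_comp]
  have hfull : ∀ (L M : CochainComplex P.FullSubcategory ℤ)
      (g : (WSerre.toDerived P).obj (DerivedCategory.Q.obj L) ⟶ (WSerre.toDerived P).obj (DerivedCategory.Q.obj M)),
      ∃ φ, (WSerre.toDerived P).map φ = g := by
    intro L M g
    obtain ⟨Y, a, s, hs, hg⟩ := DerivedCategory.left_fac (η.inv.app L ≫ g ≫ η.hom.app M)
    rw [DerivedCategory.isIso_Q_map_iff_quasiIso] at hs
    obtain ⟨I, u, hI, hu, hinj⟩ := hres Y
    have hP : ∀ n, P (I.homology n) := fun n =>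
      P.prop_of_iso ((((M.sc n).mapHomologyIso P.ι).symm) ≪≫ asIso (HomologicalComplex.homologyMap (s ≫ u) n))
        (M.sc n).homology.property
    have := quasiIso_incl R I hinj hP
    obtain ⟨a', ha'⟩ := exists_lift R (a ≫ u)
    obtain ⟨s', hs'⟩ := exists_lift R (s ≫ u)
    have : QuasiIso (Φ.map s' ≫ R.incl I) := hs'.symm ▸ inferInstance
    have h1 := quasiIso_of_comp_right (Φ.map s') (R.incl I)
    rw [HomologicalComplex.quasiIso_map_iff_of_preservesHomology] at h1
    have : IsIso (DerivedCategory.Q.map s') := (DerivedCategory.isIso_Q_map_iff_quasiIso _ _).2 h1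
    refine ⟨DerivedCategory.Q.map a' ≫ inv (DerivedCategory.Q.map s'), ?_⟩
    rw [Functor.map_comp, Functor.map_inv, IsIso.comp_inv_eq, hQ, hQ]
    have hg' : g = η.hom.app L ≫ DerivedCategory.Q.map a ≫ inv (DerivedCategory.Q.map s) ≫ η.inv.app M := by
      rw [← cancel_epi (η.inv.app L), ← cancel_mono (η.hom.app M), Category.assoc, hg]
      simp
    rw [hg']
    simp only [Category.assoc, Iso.inv_hom_id_app_assoc, cancel_epi]
    rw [← Category.assoc (inv _), ← Category.assoc (DerivedCategory.Q.map a), cancel_mono]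
    rw [← cancel_mono (DerivedCategory.Q.map (R.incl I)), ← Functor.map_comp, ha', Category.assoc, Category.assoc, ← Functor.map_comp, hs',
      Functor.map_comp, Functor.map_comp]
    simp
  refine ⟨⟨fun {X Y} g => ?_⟩, ⟨fun {X Y} f₁ f₂ h => ?_⟩, fun K => ⟨fun hK => ?_, ?_⟩⟩
  · let eX := DerivedCategory.Q.objObjPreimageIso X
    let eY := DerivedCategory.Q.objObjPreimageIso Y
    obtain ⟨φ, hφ⟩ := hfull _ _ ((WSerre.toDerived P).map eX.hom ≫ g ≫ (WSerre.toDerived P).map eY.inv)
    exact ⟨eX.inv ≫ φ ≫ eY.hom, by rw [Functor.map_comp, Functor.map_comp, hφ, Category.assoc, Category.assoc, ← Functor.map_comp_assoc, ← Functor.map_comp, Iso.inv_hom_id, Iso.inv_hom_id, CategoryTheory.Functor.map_id, CategoryTheory.Functor.map_id, Category.id_comp, Category.comp_id]⟩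
  · let eX := DerivedCategory.Q.objObjPreimageIso X
    let eY := DerivedCategory.Q.objObjPreimageIso Y
    have := hfaith _ _ (eX.hom ≫ (f₁ - f₂) ≫ eY.inv) (by
      rw [Functor.map_comp, Functor.map_comp, Functor.map_sub, h, sub_self, zero_comp, comp_zero])
    rw [← sub_eq_zero, ← cancel_epi eX.hom, ← cancel_mono eY.inv, Category.assoc, this, comp_zero, zero_comp]
  · let K₀ := DerivedCategory.Q.objPreimage K
    let e : DerivedCategory.Q.obj K₀ ≅ K := DerivedCategory.Q.objObjPreimageIso K
    obtain ⟨I, u, hI, hu, hinj⟩ := hres K₀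
    have hP : ∀ n, P (I.homology n) := fun n =>
      P.prop_of_iso (((DerivedCategory.homologyFunctor C n).mapIso e).symm ≪≫
        (DerivedCategory.homologyFunctorFactors C n).app K₀ ≪≫ asIso (HomologicalComplex.homologyMap u n)) (hK n)
    have := quasiIso_incl R I hinj hP
    exact ⟨DerivedCategory.Q.obj (R.cx I), ⟨η.app (R.cx I) ≪≫ asIso (DerivedCategory.Q.map (R.incl I)) ≪≫
      (asIso (DerivedCategory.Q.map u)).symm ≪≫ e⟩⟩
  · rintro ⟨X, ⟨e⟩⟩ q
    obtain ⟨e'⟩ := Groth.L10.WSerreLib.homology_map_iso P.ι X q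
    exact P.prop_of_iso (e'.symm ≪≫ (DerivedCategory.homologyFunctor C q).mapIso e)
      ((DerivedCategory.homologyFunctor P.FullSubcategory q).obj X).property

end

end Groth.L10.SerreTorsion
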