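import Groth.Agent.L10.SiteCoh
import Groth.Prelude.Def_CohCx
import Mathlib.CategoryTheory.Sites.Adjunction
import Mathlib.CategoryTheory.Sites.LocallySurjective
import Mathlib.CategoryTheory.Sites.EpiMono
import Mathlib.Algebra.Category.Grp.Adjunctions
import Mathlib.CategoryTheory.Limits.Types.Pullbacks

/-! Free abelian sheaves on sheaves of sets, and sections as morphisms. -/

universe u

open CategoryTheory CategoryTheory.Limits Opposite

set_option backward.defeqAttrib.useBackward true
set_option backward.isDefEq.respectTransparency false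
namespace Groth.L10.SiteFr

variable {C : Type u} [SmallCategory C] {J : GrothendieckTopology C}

variable (J) in
/-- Underlying sheaf of sets. -/
noncomputable abbrev U : Sheaf J AddCommGrpCat.{u} ⥤ Sheaf J (Type u) :=
  sheafCompose J (forget AddCommGrpCat.{u})

variable (J) in
/-- Free abelian sheaf on a sheaf of sets. -/
noncomputable abbrev fr : Sheaf J (Type u) ⥤ Sheaf J AddCommGrpCat.{u} :=
  Sheaf.composeAndSheafify J AddCommGrpCat.free.{u}

variable (J) in
noncomputable def adj : fr J ⊣ U J := Sheaf.adjunction J AddCommGrpCat.adj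

/-- The value of a map into an abelian sheaf. -/
def val {X : Sheaf J (Type u)} {F : Sheaf J AddCommGrpCat.{u}} (a : X ⟶ (U J).obj F) (V : Cᵒᵖ)
    (x : X.obj.obj V) : F.obj.obj V := a.hom.app V x

theorem val_natural {X : Sheaf J (Type u)} {F : Sheaf J AddCommGrpCat.{u}} (a : X ⟶ (U J).obj F) {V W : Cᵒᵖ}
    (g : V ⟶ W) (x : X.obj.obj V) : val a W (X.obj.map g x) = F.obj.map g (val a V x) :=
  congr($(a.hom.naturality g) x)

/-- Pointwise addition of maps into an abelian sheaf. -/
def addHom {X : Sheaf J (Type u)} {F : Sheaf J AddCommGrpCat.{u}} (a b : X ⟶ (U J).obj F) : X ⟶ (U J).obj F :=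
  ⟨{ app := fun V => ↾fun x => val a V x + val b V x
     naturality := fun V W g => ConcreteCategory.hom_ext _ _ fun x => by
       change val a W (X.obj.map g x) + val b W (X.obj.map g x) = F.obj.map g (val a V x + val b V x)
       rw [map_add, val_natural, val_natural] }⟩

theorem val_addHom {X : Sheaf J (Type u)} {F : Sheaf J AddCommGrpCat.{u}} (a b : X ⟶ (U J).obj F) (V : Cᵒᵖ)
    (x : X.obj.obj V) : val (addHom a b) V x = val a V x + val b V x := rfl

theorem hom_ext' {X Y : Sheaf J (Type u)} {a b : X ⟶ Y} (h : ∀ V x, a.hom.app V x = b.hom.app V x) : a = b :=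
  Sheaf.hom_ext (NatTrans.ext (funext fun V => ConcreteCategory.hom_ext _ _ (h V)))

theorem val_ext {X : Sheaf J (Type u)} {F : Sheaf J AddCommGrpCat.{u}} {a b : X ⟶ (U J).obj F}
    (h : ∀ V x, val a V x = val b V x) : a = b := hom_ext' h

theorem comp_addHom {X X' : Sheaf J (Type u)} {F : Sheaf J AddCommGrpCat.{u}} (c : X' ⟶ X) (a b : X ⟶ (U J).obj F) :
    c ≫ addHom a b = addHom (c ≫ a) (c ≫ b) := hom_ext' fun _ _ => rfl

theorem addHom_comp {X : Sheaf J (Type u)} {F G : Sheaf J AddCommGrpCat.{u}} (a b : X ⟶ (U J).obj F) (ψ : F ⟶ G) :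
    addHom a b ≫ (U J).map ψ = addHom (a ≫ (U J).map ψ) (b ≫ (U J).map ψ) :=
  val_ext fun V x => map_add (ψ.hom.app V).hom (val a V x) (val b V x)

/-- A map of underlying sheaves of sets respecting addition is a map of abelian sheaves. -/
def ofAdditive {F G : Sheaf J AddCommGrpCat.{u}} (φ : (U J).obj F ⟶ (U J).obj G)
    (h : ∀ (X : Sheaf J (Type u)) (a b : X ⟶ (U J).obj F), addHom a b ≫ φ = addHom (a ≫ φ) (b ≫ φ)) : F ⟶ G :=
  ⟨{ app := fun V => AddCommGrpCat.ofHom (AddMonoidHom.mk' (fun x : F.obj.obj V => (φ.hom.app V x : G.obj.obj V)) fun x y => by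
       let R : Sheaf J (Type u) := (presheafToSheaf J (Type u)).obj (yoneda.obj V.unop)
       let e : (R ⟶ (U J).obj F) ≃ F.obj.obj V :=
         ((sheafificationAdjunction J (Type u)).homEquiv (yoneda.obj V.unop) ((U J).obj F)).trans yonedaEquiv
       let i : R.obj.obj V := (toSheafify J (yoneda.obj V.unop)).app V (𝟙 _)
       have hsec : ∀ z, val (e.symm z) V i = z := fun z => e.apply_symm_apply z
       have h1 : val (addHom (e.symm x) (e.symm y) ≫ φ) V i = val (addHom (e.symm x ≫ φ) (e.symm y ≫ φ)) V i :=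
         congrArg (fun m => val m V i) (h R (e.symm x) (e.symm y))
       change (φ.hom.app V (val (e.symm x) V i + val (e.symm y) V i) : G.obj.obj V) =
         @HAdd.hAdd (G.obj.obj V) (G.obj.obj V) (G.obj.obj V) _ (φ.hom.app V (val (e.symm x) V i)) (φ.hom.app V (val (e.symm y) V i)) at h1
       rwa [hsec, hsec] at h1)
     naturality := fun V W g => AddCommGrpCat.hom_ext (AddMonoidHom.ext fun x => congr($(φ.hom.naturality g) x)) }⟩

theorem U_map_ofAdditive {F G : Sheaf J AddCommGrpCat.{u}} (φ : (U J).obj F ⟶ (U J).obj G)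
    (h : ∀ (X : Sheaf J (Type u)) (a b : X ⟶ (U J).obj F), addHom a b ≫ φ = addHom (a ≫ φ) (b ≫ φ)) :
    (U J).map (ofAdditive φ h) = φ := hom_ext' fun _ _ => rfl

variable (J) in
/-- The sheaf of sets represented by an object. -/
noncomputable abbrev rep (V : C) : Sheaf J (Type u) := (presheafToSheaf J (Type u)).obj (yoneda.obj V)

variable (J) in
noncomputable abbrev repMap {V W : C} (g : V ⟶ W) : rep J V ⟶ rep J W :=
  (presheafToSheaf J (Type u)).map (yoneda.map g)

/-- Maps out of a representable are sections. -/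
noncomputable def repEquiv (V : C) (K : Sheaf J (Type u)) : (rep J V ⟶ K) ≃ K.obj.obj (op V) :=
  ((sheafificationAdjunction J (Type u)).homEquiv (yoneda.obj V) K).trans yonedaEquiv

theorem repEquiv_comp {V : C} {K L : Sheaf J (Type u)} (a : rep J V ⟶ K) (φ : K ⟶ L) :
    repEquiv V L (a ≫ φ) = φ.hom.app (op V) (repEquiv V K a) := rfl

theorem repEquiv_map {V W : C} (g : V ⟶ W) {K : Sheaf J (Type u)} (a : rep J W ⟶ K) :
    repEquiv V K (repMap J g ≫ a) = K.obj.map g.op (repEquiv W K a) := by
  simp only [repEquiv, Equiv.trans_apply, Adjunction.homEquiv_naturality_left]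
  exact (yonedaEquiv_naturality _ g).symm

/-- Maps out of a representable into an abelian sheaf are sections. -/
noncomputable def secRep (V : C) {F : Sheaf J AddCommGrpCat.{u}} (a : rep J V ⟶ (U J).obj F) : F.obj.obj (op V) :=
  repEquiv V ((U J).obj F) a

theorem secRep_addHom {V : C} {F : Sheaf J AddCommGrpCat.{u}} (a b : rep J V ⟶ (U J).obj F) :
    secRep V (addHom a b) = secRep V a + secRep V b := rfl

theorem adj_homEquiv_add {X : Sheaf J (Type u)} {F : Sheaf J AddCommGrpCat.{u}} (a b : (fr J).obj X ⟶ F) :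
    (adj J).homEquiv X F (a + b) = addHom ((adj J).homEquiv X F a) ((adj J).homEquiv X F b) := by
  rw [Adjunction.homEquiv_unit, Adjunction.homEquiv_unit, Adjunction.homEquiv_unit]
  exact val_ext fun V x => rfl

/-- The free sheaf on a representable. -/
noncomputable def frRepIso (V : C) : (fr J).obj (rep J V) ≅ SiteCoh.fs J V :=
  (presheafToSheafCompComposeAndSheafifyIso J AddCommGrpCat.free.{u}).app (yoneda.obj V)

open Abelian in
/-- Cohomology over an object as cohomology of a representable sheaf of sets. -/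
noncomputable def extFsRep (V : C) (F : Sheaf J AddCommGrpCat.{u}) (n : ℕ) :
    Ext (SiteCoh.fs J V) F n ≃+ Ext ((fr J).obj (rep J V)) F n :=
  { toFun := fun x => (Ext.mk₀ (frRepIso (J := J) V).hom).comp x (zero_add n)
    invFun := fun x => (Ext.mk₀ (frRepIso (J := J) V).inv).comp x (zero_add n)
    left_inv := fun x => by simp only [Ext.mk₀_comp_mk₀_assoc, Iso.inv_hom_id, Ext.mk₀_id_comp]
    right_inv := fun x => by simp only [Ext.mk₀_comp_mk₀_assoc, Iso.hom_inv_id, Ext.mk₀_id_comp]
    map_add' := fun x y => Ext.comp_add _ _ _ _ }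

end Groth.L10.SiteFr
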