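import Mathlib.AlgebraicGeometry.Scheme
import Mathlib.AlgebraicGeometry.Properties
import Mathlib.Topology.NoetherianSpace
import Mathlib.Topology.Sheaves.Stalks
import Mathlib.Algebra.Category.Grp.Colimits
import Mathlib.Algebra.Category.Grp.FilteredColimits
import Mathlib.Algebra.Category.Grp.Limits

/-! Sections supported in the closure of a point. -/

universe u

open CategoryTheory AlgebraicGeometry TopologicalSpace Opposite

namespace Groth.L10.SuppClosure

theorem main {X : Scheme.{u}} (hX : ∀ x : X, ∃ U : X.Opens, x ∈ U ∧ TopologicalSpace.NoetherianSpace U)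
    (F : TopCat.Sheaf AddCommGrpCat.{u} X.carrier) (x : X) (s : F.presheaf.stalk x) :
    (∃ (U : X.Opens) (hx : x ∈ U) (t : F.presheaf.obj (op U)),
        F.presheaf.germ U x hx t = s ∧
          ∀ (u : X) (hu : u ∈ U), F.presheaf.germ U u hu t ≠ 0 → u ∈ closure ({x} : Set X)) ↔
      ∀ (y : X) (h : y ⤳ x), y ≠ x → F.presheaf.stalkSpecializes h s = 0 := by
  constructor
  · rintro ⟨U, hx, t, rfl, ht⟩ y h hy
    have hyU : y ∈ U := h.mem_open U.2 hx
    rw [← ConcreteCategory.comp_apply, TopCat.Presheaf.germ_stalkSpecializes]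
    by_contra hne
    exact hy ((specializes_iff_mem_closure.2 (ht y hyU hne)).antisymm h).symm.eq
  · intro h
    obtain ⟨U₀, hxU₀, hN⟩ := hX x
    obtain ⟨U₁, hxU₁, t₁, rfl⟩ := F.presheaf.exists_germ_eq s
    let U : X.Opens := U₀ ⊓ U₁
    have hxU : x ∈ U := ⟨hxU₀, hxU₁⟩
    let t : F.presheaf.obj (op U) := F.presheaf.map (homOfLE inf_le_right : U ⟶ U₁).op t₁
    have hgerm : ∀ (u : X) (hu : u ∈ U), F.presheaf.germ U u hu t = F.presheaf.germ U₁ u hu.2 t₁ :=
      fun u hu => F.presheaf.germ_res_apply _ u hu t₁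
    have : NoetherianSpace (U : Set X) := by
      haveI : NoetherianSpace (U₀ : Set X) := hN
      exact (Topology.IsEmbedding.inclusion (Set.inter_subset_left : (U₀ : Set X) ∩ U₁ ⊆ U₀)).isInducing.noetherianSpace
    let Z : Set (U : Set X) := {u | F.presheaf.germ U u.1 u.2 t ≠ 0}
    have hZ : IsClosed Z := by
      rw [← isOpen_compl_iff, isOpen_iff_forall_mem_open]
      intro u hu
      have hu0 : F.presheaf.germ U u.1 u.2 t = 0 := not_not.1 hu
      obtain ⟨W, hW, iU, iV, hres⟩ := F.presheaf.germ_eq u.1 u.2 u.2 t 0 (by rw [hu0, map_zero])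
      let W' : Set (U : Set X) := Subtype.val ⁻¹' (W : Set X)
      have hW' : IsOpen W' := W.2.preimage continuous_subtype_val
      refine ⟨W', fun v hv hne => hne ?_, hW', show u.1 ∈ W from hW⟩
      rw [← F.presheaf.germ_res_apply iU v.1 hv t, hres, map_zero, map_zero]
    obtain ⟨S, hSf, hSc, hSi, hSU⟩ := NoetherianSpace.exists_finite_set_isClosed_irreducible hZ
    let C : Set (U : Set X) := ⋃ c ∈ {c ∈ S | (⟨x, hxU⟩ : (U : Set X)) ∉ c}, c
    have hC : IsClosed C := (hSf.subset fun c hc => hc.1).isClosed_biUnion fun c hc => hSc c hc.1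
    let V : X.Opens := ⟨(↑) '' Cᶜ, U.2.isOpenMap_subtype_val _ hC.isOpen_compl⟩
    have hxV : x ∈ V := ⟨⟨x, hxU⟩, by simp [C], rfl⟩
    have hVU : V ≤ U := by rintro _ ⟨v, -, rfl⟩; exact v.2
    refine ⟨V, hxV, F.presheaf.map (homOfLE hVU).op t, ?_, fun u hu hne => ?_⟩
    · rw [F.presheaf.germ_res_apply, hgerm]
    rw [F.presheaf.germ_res_apply] at hne
    obtain ⟨v, hvC, rfl⟩ := hu
    have hvZ : v ∈ Z := hne
    rw [hSU] at hvZ
    obtain ⟨c, hcS, hvc⟩ := hvZ
    have hxc : (⟨x, hxU⟩ : (U : Set X)) ∈ c := by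
      by_contra hxc
      exact hvC (Set.mem_biUnion (x := c) ⟨hcS, hxc⟩ hvc)
    have hirr : IsIrreducible (Subtype.val '' c) := (hSi c hcS).image _ continuous_subtype_val.continuousOn
    have hη := hirr.isGenericPoint_genericPoint_closure
    have hsub : Subtype.val '' c ⊆ closure {hirr.genericPoint} := by
      rw [hη.def]; exact subset_closure
    have hspec : hirr.genericPoint ⤳ x := specializes_iff_mem_closure.2 (hsub ⟨_, hxc, rfl⟩)
    have hηU : hirr.genericPoint ∈ U := hspec.mem_open U.2 hxU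
    have hηc : (⟨_, hηU⟩ : (U : Set X)) ∈ c := by
      refine (hSc c hcS).closure_subset ?_
      rw [Topology.IsInducing.subtypeVal.closure_eq_preimage_closure_image]
      exact hη.mem
    have hηZ : (⟨_, hηU⟩ : (U : Set X)) ∈ Z := by rw [hSU]; exact ⟨c, hcS, hηc⟩
    have heq : hirr.genericPoint = x := by
      by_contra hne'
      apply hηZ
      have h0 := h _ hspec hne'
      rw [← ConcreteCategory.comp_apply, TopCat.Presheaf.germ_stalkSpecializes] at h0
      change F.presheaf.germ U hirr.genericPoint hηU t = 0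
      rw [hgerm]
      exact h0
    have := hsub ⟨v, hvc, rfl⟩
    rwa [heq] at this

end Groth.L10.SuppClosure
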