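import Groth.Agent.L10.HDUAcyclic
import Mathlib.CategoryTheory.Sites.ConstantSheaf
import Mathlib.CategoryTheory.Sites.LocallyBijective
import Mathlib.GroupTheory.QuotientGroup.Basic

/-! First cohomology of torsion free constant sheaves has no torsion. -/

universe u

open CategoryTheory CategoryTheory.Limits CategoryTheory.Abelian Opposite

set_option autoImplicit false
set_option linter.unusedSectionVars false
set_option backward.defeqAttrib.useBackward true
set_option backward.isDefEq.respectTransparency false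
set_option backward.isDefEq.respectTransparency.types false

noncomputable section

namespace Groth.L10.TorsionH1

open Groth.L10.SiteCoh Groth.L10.HDUAcyclic

variable {C : Type u} [SmallCategory C] (J : GrothendieckTopology C) (A : Type u) [AddCommGroup A]

/-- The constant sheaf. -/
abbrev cst : Sheaf J AddCommGrpCat.{u} := (constantSheaf J AddCommGrpCat.{u}).obj (AddCommGrpCat.of A)

/-- The constant sections. -/
def η (V : C) : A →+ (cst J A).obj.obj (op V) :=
  ((toSheafify J ((Functor.const Cᵒᵖ).obj (AddCommGrpCat.of A))).app (op V)).hom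

variable {J A}

theorem η_map {V W : C} (g : W ⟶ V) (a : A) : (cst J A).obj.map g.op (η J A V a) = η J A W a :=
  (congr($((toSheafify J ((Functor.const Cᵒᵖ).obj (AddCommGrpCat.of A))).naturality g.op) a)).symm

theorem map_map (M : Sheaf J AddCommGrpCat.{u}) {V W W' : C} (g : W ⟶ V) (h : W' ⟶ W) (x : M.obj.obj (op V)) :
    M.obj.map h.op (M.obj.map g.op x) = M.obj.map (h ≫ g).op x := by
  rw [← ConcreteCategory.comp_apply, ← Functor.map_comp]
  rfl

theorem nat_app {M N : Sheaf J AddCommGrpCat.{u}} (f : M ⟶ N) {V W : C} (g : W ⟶ V) (x : M.obj.obj (op V)) :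
    N.obj.map g.op (f.hom.app (op V) x) = f.hom.app (op W) (M.obj.map g.op x) :=
  (congr($(f.hom.naturality g.op) x)).symm

theorem ext_locally (M : Sheaf J AddCommGrpCat.{u}) {V : C} (S : Sieve V) (hS : S ∈ J V) (x y : M.obj.obj (op V))
    (h : ∀ ⦃W : C⦄ (g : W ⟶ V), S g → M.obj.map g.op x = M.obj.map g.op y) : x = y :=
  sub_eq_zero.1 (eq_zero_of_locally M S hS _ fun W g hg => by rw [map_sub, h g hg, sub_self])

theorem η_eq {V : C} {a b : A} (h : η J A V a = η J A V b) (hne : a ≠ b) : (⊥ : Sieve V) ∈ J V :=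
  J.superset_covering (fun _ _ hf => (hne (show a = b from hf)).elim)
    (Presheaf.equalizerSieve_mem J (toSheafify J ((Functor.const Cᵒᵖ).obj (AddCommGrpCat.of A))) (X := op V) a b h)

theorem exists_η_locally {V : C} (x : (cst J A).obj.obj (op V)) :
    ∃ S ∈ J V, ∀ ⦃W : C⦄ (g : W ⟶ V), S g → ∃ a : A, η J A W a = (cst J A).obj.map g.op x :=
  ⟨_, Presheaf.imageSieve_mem J (toSheafify J ((Functor.const Cᵒᵖ).obj (AddCommGrpCat.of A))) (U := op V) x,
    fun _ _ hg => hg⟩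

/-- The multiples of `n`. -/
abbrev multiples (n : ℤ) : AddSubgroup A := (zsmulAddGroupHom (α := A) n).range

/-- A representative modulo `n`. -/
def σ (n : ℤ) (a : A) : A := Quotient.out (QuotientAddGroup.mk a : A ⧸ multiples (A := A) n)

theorem σ_sub (n : ℤ) (a : A) : ∃ k, a - σ n a = n • k := by
  have h : (QuotientAddGroup.mk (σ n a) : A ⧸ multiples (A := A) n) = QuotientAddGroup.mk a := Quotient.out_eq _
  obtain ⟨k, hk⟩ := QuotientAddGroup.eq.1 h
  exact ⟨k, (sub_eq_neg_add _ _).trans hk.symm⟩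

theorem σ_add (n : ℤ) (a k : A) : σ n (a + n • k) = σ n a :=
  congrArg Quotient.out (QuotientAddGroup.eq.2 ⟨-k, by simp [zsmulAddGroupHom]⟩)

theorem σ_idem (n : ℤ) (a : A) : σ n (σ n a) = σ n a := congrArg Quotient.out (Quotient.out_eq _)

variable {ι : Type u} (U : ι → C) (n : ι → ℤ) {S : ShortComplex (Sheaf J AddCommGrpCat.{u})}
  (eA : cst J A ⟶ S.X₁) (γ : ∀ V : C, S.X₃.obj.obj (op V)) (e : ∀ V : C, S.X₂.obj.obj (op V))

/-- The condition that a lift is normalized at `g`. -/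
def Norm {V : C} (t : S.X₂.obj.obj (op V)) {W : C} (g : W ⟶ V) : Prop :=
  ∃ (i : ι) (r : A), Nonempty (W ⟶ U i) ∧ σ (n i) r = r ∧
    n i • S.X₂.obj.map g.op t - e W = S.f.hom.app (op W) (eA.hom.app (op W) (η J A W r))

/-- Normalized lifts. -/
def Good (V : C) (t : S.X₂.obj.obj (op V)) : Prop :=
  S.g.hom.app (op V) t = γ V ∧ ∃ R ∈ J V, ∀ ⦃W : C⦄ (g : W ⟶ V), R g → Norm U n eA e t g

variable (hA : ∀ (m : ℤ) (a : A), m ≠ 0 → m • a = 0 → a = 0) (hn : ∀ i, n i ≠ 0) (hS : S.ShortExact) [IsIso eA]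
  (hγ : ∀ {V W : C} (g : W ⟶ V), S.X₃.obj.map g.op (γ V) = γ W)
  (he : ∀ {V W : C} (g : W ⟶ V), S.X₂.obj.map g.op (e V) = e W)
  (hagree : ∀ (W : C) (i i' : ι), (W ⟶ U i) → (W ⟶ U i') → n i ≠ n i' → (⊥ : Sieve W) ∈ J W)

include he in
theorem Norm.map {V : C} {t : S.X₂.obj.obj (op V)} {W : C} {g : W ⟶ V} (h : Norm U n eA e t g) {W' : C}
    (k : W' ⟶ W) : Norm U n eA e t (k ≫ g) := by
  obtain ⟨i, r, ⟨u⟩, hr, h⟩ := h
  refine ⟨i, r, ⟨k ≫ u⟩, hr, ?_⟩
  have h' := congrArg (S.X₂.obj.map k.op) h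
  rw [map_sub, map_zsmul, he, map_map, nat_app, nat_app, η_map] at h'
  exact h'

include hγ he in
theorem Good.map {V : C} {t : S.X₂.obj.obj (op V)} (h : Good U n eA γ e V t) {W : C} (g : W ⟶ V) :
    Good U n eA γ e W (S.X₂.obj.map g.op t) := by
  obtain ⟨h1, R, hR, hN⟩ := h
  refine ⟨by rw [← nat_app, h1, hγ], R.pullback g, J.pullback_stable g hR, fun W' k hk => ?_⟩
  obtain ⟨i, r, hu, hr, h⟩ := hN _ hk
  exact ⟨i, r, hu, hr, by rw [map_map]; exact h⟩

include hS in
theorem exists_preimage {V : C} (d : S.X₂.obj.obj (op V)) (hd : S.g.hom.app (op V) d = 0) :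
    ∃ b : (cst J A).obj.obj (op V), S.f.hom.app (op V) (eA.hom.app (op V) b) = d := by
  have := hS.mono_f
  obtain ⟨b, hb⟩ := (ShortComplex.ab_exact_iff _).1 (hS.exact.map_of_mono_of_preservesKernel
    (sheafToPresheaf J AddCommGrpCat.{u} ⋙ (evaluation _ _).obj (op V)) inferInstance inferInstance) d hd
  exact ⟨(inv eA).hom.app (op V) b, (congrArg (S.f.hom.app (op V)) congr(($(IsIso.inv_hom_id eA)).hom.app (op V) b)).trans hb⟩

include hS in
theorem injective_incl (V : C) :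
    Function.Injective (fun b : (cst J A).obj.obj (op V) => S.f.hom.app (op V) (eA.hom.app (op V) b)) := by
  have := hS.mono_f
  have : Mono (eA ≫ S.f) := mono_comp _ _
  exact (AddCommGrpCat.mono_iff_injective ((eA ≫ S.f).hom.app (op V))).1
    (inferInstanceAs (Mono ((sheafToPresheaf J AddCommGrpCat.{u} ⋙ (evaluation _ _).obj (op V)).map (eA ≫ S.f))))

include hA hn hS hγ he hagree in
theorem Good.unique {V : C} {t t' : S.X₂.obj.obj (op V)} (h : Good U n eA γ e V t) (h' : Good U n eA γ e V t') :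
    t = t' := by
  obtain ⟨h1, R, hR, hN⟩ := h
  obtain ⟨h1', R', hR', hN'⟩ := h'
  refine ext_locally _ _ (J.intersection_covering hR hR') _ _ fun W g hg => ?_
  obtain ⟨i, r, ⟨u⟩, hr, hx⟩ := hN g hg.1
  obtain ⟨i', r', ⟨u'⟩, hr', hx'⟩ := hN' g hg.2
  obtain ⟨b, hb⟩ := exists_preimage eA hS (S.X₂.obj.map g.op t - S.X₂.obj.map g.op t')
    (by rw [map_sub, ← nat_app, ← nat_app, h1, h1', sub_self])
  obtain ⟨T, hT, hTb⟩ := exists_η_locally b
  refine ext_locally _ T hT _ _ fun W' k hk => ?_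
  by_cases hbot : (⊥ : Sieve W') ∈ J W'
  · exact ext_locally _ ⊥ hbot _ _ fun _ _ hf => False.elim hf
  obtain ⟨b₀, hb₀⟩ := hTb k hk
  have hnn : n i = n i' := by_contra fun hne => hbot (hagree W' i i' (k ≫ u) (k ≫ u') hne)
  rw [← hnn] at hx' hr'
  have h2 : η J A W (r - r') = n i • b := by
    refine injective_incl eA hS W ?_
    simp only [map_sub, map_zsmul, hb]
    rw [← hx, ← hx', smul_sub]
    abel
  have h3 : η J A W' (r - r') = η J A W' (n i • b₀) := by
    rw [← η_map k, h2, map_zsmul, map_zsmul, hb₀]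
  have h4 : r - r' = n i • b₀ := by_contra fun hne => hbot (η_eq h3 hne)
  have h5 : r = r' := by
    rw [← hr, ← hr', show r = r' + n i • b₀ by rw [← h4, add_sub_cancel], σ_add]
  have hb0 : b₀ = 0 := hA _ _ (hn i) (by rw [← h4, h5, sub_self])
  rw [← sub_eq_zero, ← map_sub, ← hb, nat_app, nat_app, ← hb₀, hb0, map_zero, map_zero, map_zero]

variable (hcov : ∀ V : C, ∃ R ∈ J V, ∀ ⦃W : C⦄ (g : W ⟶ V), R g → ∃ i, Nonempty (W ⟶ U i))
  (hlift : ∀ (W : C) (i : ι), (W ⟶ U i) → S.g.hom.app (op W) (e W) = n i • γ W)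

include hS hγ he hcov hlift in
theorem exists_locally_good (V : C) :
    ∃ R ∈ J V, ∀ ⦃W : C⦄ (g : W ⟶ V), R g → ∃ t, Good U n eA γ e W t := by
  refine ⟨{ arrows := fun W _ => ∃ t, Good U n eA γ e W t
            downward_closed := fun ⟨t, ht⟩ k => ⟨_, Good.map U n eA γ e hγ he ht k⟩ }, ?_, fun _ _ hg => hg⟩
  obtain ⟨R, hR, hRU⟩ := hcov V
  refine J.transitive hR _ fun W g hg => ?_
  obtain ⟨i, ⟨u⟩⟩ := hRU g hg
  have := hS.epi_g
  obtain ⟨T, hT⟩ := locally_surjective_of_epi S.g (γ W)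
  refine J.transitive T.condition _ fun W₁ g₁ hg₁ => ?_
  obtain ⟨t₀, ht₀⟩ := hT ⟨W₁, g₁, hg₁⟩
  obtain ⟨b, hb⟩ := exists_preimage eA hS (n i • t₀ - e W₁) (by
    rw [map_sub, map_zsmul, ht₀, hγ, hlift W₁ i (g₁ ≫ u), sub_self])
  obtain ⟨T', hT', hTb⟩ := exists_η_locally b
  refine J.superset_covering (fun W₂ g₂ hg₂ => ?_) hT'
  obtain ⟨b₀, hb₀⟩ := hTb g₂ hg₂
  obtain ⟨k, hk⟩ := σ_sub (n i) b₀
  refine ⟨S.X₂.obj.map g₂.op t₀ - S.f.hom.app (op W₂) (eA.hom.app (op W₂) (η J A W₂ k)), ?_, ⊤, J.top_mem _,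
    fun W₃ g₃ _ => ?_⟩
  · rw [map_sub, ← nat_app, ht₀, hγ, hγ]
    refine sub_eq_self.2 ?_
    exact congr(($(S.zero)).hom.app (op W₂) (eA.hom.app (op W₂) (η J A W₂ k)))
  refine ⟨i, σ (n i) b₀, ⟨g₃ ≫ g₂ ≫ g₁ ≫ u⟩, σ_idem _ _, ?_⟩
  have h := congrArg (fun z => S.X₂.obj.map g₃.op (S.X₂.obj.map g₂.op z)) hb
  simp only [nat_app, ← hb₀, η_map, map_sub, map_zsmul, he] at h
  rw [map_sub, nat_app, nat_app, η_map, ← show b₀ - n i • k = σ (n i) b₀ by rw [← hk, sub_sub_cancel],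
    map_sub, map_zsmul, map_sub, map_sub, map_zsmul, map_zsmul, h, smul_sub]
  abel

include hA hn hS hγ he hagree hcov hlift in
theorem existsUnique_good (V : C) : ∃! t, Good U n eA γ e V t := by
  obtain ⟨R, hR, hRg⟩ := exists_locally_good U n eA γ e hS hγ he hcov hlift V
  choose t ht using hRg
  let P := (sheafCompose J (forget AddCommGrpCat.{u})).obj S.X₂
  have hP := ((isSheaf_iff_isSheaf_of_type J _).1 P.property) R hR
  let x : Presieve.FamilyOfElements P.obj R.arrows := fun W g hg => t g hg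
  have hx : x.Compatible := Presieve.compatible_iff_sieveCompatible x |>.2 fun W W' g k hg =>
    Good.unique U n eA γ e hA hn hS hγ he hagree (ht _ _) (Good.map U n eA γ e hγ he (ht g hg) k)
  obtain ⟨T, hT, -⟩ := hP x hx
  have hT' : ∀ ⦃W : C⦄ (g : W ⟶ V) (hg : R g), S.X₂.obj.map g.op T = t g hg := fun W g hg => hT g hg
  refine ⟨T, ?_, fun t' ht' => Good.unique U n eA γ e hA hn hS hγ he hagree ht' ?_⟩
  all_goals
    refine ⟨ext_locally _ R hR _ _ fun W g hg => by rw [nat_app, hT' g hg, (ht g hg).1, hγ], ?_⟩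
    refine ⟨{ arrows := fun W g => Norm U n eA e T g
              downward_closed := fun h k => Norm.map U n eA e he h k }, ?_, fun _ _ hg => hg⟩
    refine J.transitive hR _ fun W g hg => ?_
    obtain ⟨R', hR', hN⟩ := (ht g hg).2
    refine J.superset_covering (fun W' k hk => ?_) hR'
    obtain ⟨i, r, hu, hr, h⟩ := hN k hk
    refine ⟨i, r, hu, hr, ?_⟩
    rw [← map_map, hT' g hg]
    exact h

/-- The constant one. -/
abbrev one (V : C) : (cst J (ULift.{u} ℤ)).obj.obj (op V) := η J (ULift.{u} ℤ) V ⟨1⟩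

/-- A morphism out of the constant sheaf on the integers from a compatible family of sections. -/
def ofFamily (M : Sheaf J AddCommGrpCat.{u}) (t : ∀ V : C, M.obj.obj (op V))
    (ht : ∀ {V W : C} (g : W ⟶ V), M.obj.map g.op (t V) = t W) : cst J (ULift.{u} ℤ) ⟶ M :=
  ((sheafificationAdjunction J AddCommGrpCat.{u}).homEquiv _ M).symm
    { app := fun V => AddCommGrpCat.ofHom ((zmultiplesHom _ (t V.unop)).comp AddEquiv.ulift.toAddMonoidHom)
      naturality := fun V W g => by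
        refine AddCommGrpCat.hom_ext (AddMonoidHom.ext fun z => ?_)
        change z.down • t W.unop = M.obj.map g (z.down • t V.unop)
        rw [map_zsmul, ← ht g.unop]
        rfl }

theorem ofFamily_one (M : Sheaf J AddCommGrpCat.{u}) (t : ∀ V : C, M.obj.obj (op V))
    (ht : ∀ {V W : C} (g : W ⟶ V), M.obj.map g.op (t V) = t W) (V : C) :
    (ofFamily M t ht).hom.app (op V) (one V) = t V := by
  have h := congr($(((sheafificationAdjunction J AddCommGrpCat.{u}).homEquiv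
    ((Functor.const Cᵒᵖ).obj (AddCommGrpCat.of (ULift.{u} ℤ))) M).apply_symm_apply
    { app := fun V => AddCommGrpCat.ofHom ((zmultiplesHom _ (t V.unop)).comp AddEquiv.ulift.toAddMonoidHom)
      naturality := fun V W g => by
        refine AddCommGrpCat.hom_ext (AddMonoidHom.ext fun z => ?_)
        change z.down • t W.unop = M.obj.map g (z.down • t V.unop)
        rw [map_zsmul, ← ht g.unop]
        rfl }).app (op V) (⟨1⟩ : ULift.{u} ℤ))
  exact h.trans (one_zsmul _)

theorem hom_ext_one {M : Sheaf J AddCommGrpCat.{u}} {f g : cst J (ULift.{u} ℤ) ⟶ M}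
    (h : ∀ V : C, f.hom.app (op V) (one V) = g.hom.app (op V) (one V)) : f = g := by
  refine ((sheafificationAdjunction J AddCommGrpCat.{u}).homEquiv _ M).injective ?_
  rw [Adjunction.homEquiv_unit, Adjunction.homEquiv_unit]
  refine NatTrans.ext (funext fun V => AddCommGrpCat.hom_ext (AddMonoidHom.ext fun z => ?_))
  obtain ⟨k⟩ := z
  have hk : (⟨k⟩ : ULift.{u} ℤ) = k • ⟨1⟩ := ULift.ext _ _ (by simp)
  change f.hom.app V (η J _ V.unop ⟨k⟩) = g.hom.app V (η J _ V.unop ⟨k⟩)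
  rw [hk, map_zsmul, map_zsmul, map_zsmul]
  exact congrArg (k • ·) (h V.unop)

include hA hn hcov in
/-- A class killed by a locally nonzero integer endomorphism vanishes. -/
theorem eq_zero_of_comp_eq_zero (φ : cst J (ULift.{u} ℤ) ⟶ cst J (ULift.{u} ℤ))
    (hφ : ∀ (i : ι) (V : C) (_ : V ⟶ U i), φ.hom.app (op V) = n i • 𝟙 _)
    (x : Ext (cst J (ULift.{u} ℤ)) (cst J A) 1) (hx : (Ext.mk₀ φ).comp x (zero_add 1) = 0) : x = 0 := by
  have hS := hull_shortExact (cst J A)
  obtain ⟨y, rfl⟩ := Ext.covariant_sequence_exact₁ _ hS x (Ext.eq_zero_of_injective _) (zero_add 1)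
  obtain ⟨c, rfl⟩ := (Ext.mk₀_bijective _ _).2 y
  rw [← Ext.comp_assoc (Ext.mk₀ φ) (Ext.mk₀ c) hS.extClass (zero_add 0) (zero_add 1) (by omega),
    Ext.mk₀_comp_mk₀] at hx
  obtain ⟨y, hy⟩ := Ext.covariant_sequence_exact₃ _ hS _ (zero_add 1) hx
  obtain ⟨e, rfl⟩ := (Ext.mk₀_bijective _ _).2 y
  rw [Ext.mk₀_comp_mk₀] at hy
  have hy' := (Ext.mk₀_bijective _ _).1 hy
  have hφ1 : ∀ (W : C) (i : ι), (W ⟶ U i) → φ.hom.app (op W) (one W) = n i • one W := fun W i u => by
    rw [hφ i W u]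
    rfl
  have hone : ∀ {V W : C} (g : W ⟶ V), (cst J (ULift.{u} ℤ)).obj.map g.op (one V) = one W := fun g => η_map g _
  have hagree : ∀ (W : C) (i i' : ι), (W ⟶ U i) → (W ⟶ U i') → n i ≠ n i' → (⊥ : Sieve W) ∈ J W :=
    fun W i i' u u' hne => by
      refine η_eq (a := n i • (⟨1⟩ : ULift.{u} ℤ)) (b := n i' • ⟨1⟩) ?_ fun h => hne ?_
      · rw [map_zsmul, map_zsmul, ← hφ1 W i u, hφ1 W i' u']
      · simpa using congrArg ULift.down h
  have hγ : ∀ {V W : C} (g : W ⟶ V), ((hull (cst J A)).X₃).obj.map g.op (c.hom.app (op V) (one V)) =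
      c.hom.app (op W) (one W) := fun g => by rw [nat_app, hone]
  have he : ∀ {V W : C} (g : W ⟶ V), ((hull (cst J A)).X₂).obj.map g.op (e.hom.app (op V) (one V)) =
      e.hom.app (op W) (one W) := fun g => by rw [nat_app, hone]
  have hlift : ∀ (W : C) (i : ι), (W ⟶ U i) → (hull (cst J A)).g.hom.app (op W) (e.hom.app (op W) (one W)) =
      n i • c.hom.app (op W) (one W) := fun W i u =>
    (congr(($hy').hom.app (op W) (one W))).trans ((congrArg (c.hom.app (op W)) (hφ1 W i u)).trans (map_zsmul _ _ _))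
  have heu := existsUnique_good (S := hull (cst J A)) U n (𝟙 _) (fun V => c.hom.app (op V) (one V))
    (fun V => e.hom.app (op V) (one V)) hA hn hS hγ he hagree hcov hlift
  choose t ht htu using heu
  let l := ofFamily ((hull (cst J A)).X₂) t fun g => htu _ _ (Good.map U n (𝟙 _) _ _ hγ he (ht _) g)
  have hl : l ≫ (hull (cst J A)).g = c := hom_ext_one fun V => by
    change (hull (cst J A)).g.hom.app (op V) (l.hom.app (op V) (one V)) = _
    rw [ofFamily_one]
    exact (ht V).1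
  rw [← hl, ← Ext.mk₀_comp_mk₀, Ext.comp_assoc_of_second_deg_zero, hS.comp_extClass, Ext.comp_zero]

end Groth.L10.TorsionH1
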