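import Groth.Agent.L10.SerreTorsion
import Groth.Agent.L10.SiteCoh
import Groth.Prelude.Def_SiteCmp
import Mathlib.GroupTheory.FreeAbelianGroup
import Mathlib.GroupTheory.OrderOfElement
import Mathlib.CategoryTheory.Abelian.Refinements

/-! The torsion radical of abelian sheaves on a site. -/

universe u

open CategoryTheory CategoryTheory.Limits Opposite

set_option backward.defeqAttrib.useBackward true
set_option backward.isDefEq.respectTransparency false
namespace Groth.L10.TorsionRadical

variable {C : Type u} [SmallCategory C] (J : GrothendieckTopology C) (F : Sheaf J AddCommGrpCat.{u})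

/-- A locally torsion section. -/
def LocTors {U : C} (s : F.obj.obj (op U)) : Prop :=
  ∃ S ∈ J U, ∀ ⦃V : C⦄ (g : V ⟶ U), S g → IsOfFinAddOrder ((F.obj.map g.op).hom s)

variable {J F}

theorem locTors_res {U V : C} (f : V ⟶ U) {s : F.obj.obj (op U)} (h : LocTors J F s) :
    LocTors J F ((F.obj.map f.op).hom s) := by
  obtain ⟨S, hS, h⟩ := h
  refine ⟨S.pullback f, J.pullback_stable f hS, fun W g hg => ?_⟩
  have := h (g ≫ f) hg
  simpa using this

/-- The subgroup of locally torsion sections. -/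
def sub (U : Cᵒᵖ) : AddSubgroup (F.obj.obj U) where
  carrier := {s | LocTors J F (U := U.unop) s}
  zero_mem' := ⟨⊤, J.top_mem _, fun V g _ => by rw [map_zero]; exact IsOfFinAddOrder.zero⟩
  add_mem' := fun {a b} ⟨S, hS, ha⟩ ⟨T, hT, hb⟩ => ⟨S ⊓ T, J.intersection_covering hS hT, fun V g hg => by
    rw [map_add]; exact (ha g hg.1).add (hb g hg.2)⟩
  neg_mem' := fun {a} ⟨S, hS, ha⟩ => ⟨S, hS, fun V g hg => by rw [map_neg]; exact (ha g hg).neg⟩

theorem sub_res {U V : Cᵒᵖ} (f : U ⟶ V) {s : F.obj.obj U} (h : s ∈ sub (J := J) (F := F) U) :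
    (F.obj.map f).hom s ∈ sub (J := J) (F := F) V := locTors_res f.unop h

variable (J F)

/-- The presheaf of locally torsion sections. -/
def pre : Cᵒᵖ ⥤ AddCommGrpCat.{u} where
  obj U := AddCommGrpCat.of (sub (J := J) (F := F) U)
  map {U V} f := AddCommGrpCat.ofHom
    (((F.obj.map f).hom.comp (sub (J := J) (F := F) U).subtype).codRestrict (sub (J := J) (F := F) V)
      fun s => sub_res f s.2)
  map_id U := by
    ext s
    change (F.obj.map (𝟙 U)).hom s.1 = s.1
    simp
  map_comp f g := by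
    ext s
    change (F.obj.map (f ≫ g)).hom s.1 = (F.obj.map g).hom ((F.obj.map f).hom s.1)
    simp

theorem isSheaf_pre : Presheaf.IsSheaf J (pre J F) := by
  have hF : Presieve.IsSheaf J (F.obj ⋙ forget AddCommGrpCat) :=
    (isSheaf_iff_isSheaf_of_type _ _).1 ((Presheaf.isSheaf_iff_isSheaf_forget J F.obj (forget _)).1 F.property)
  rw [Presheaf.isSheaf_iff_isSheaf_forget J (pre J F) (forget _), isSheaf_iff_isSheaf_of_type]
  intro U S hS x hx
  let x' : Presieve.FamilyOfElements (F.obj ⋙ forget AddCommGrpCat) S.arrows := fun V f hf => (x f hf).1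
  have hx' : x'.Compatible := fun Y₁ Y₂ Z g₁ g₂ f₁ f₂ h₁ h₂ e => congrArg Subtype.val (hx g₁ g₂ h₁ h₂ e)
  obtain ⟨t, ht, huniq⟩ := hF S hS x' hx'
  have htm : LocTors J F (U := U) t := by
    choose T hT hTt using fun (V : C) (f : V ⟶ U) (hf : S f) => (x f hf).2
    refine ⟨Sieve.bind S.arrows (fun V f hf => T V f hf), J.bind_covering hS (fun V f hf => hT V f hf), ?_⟩
    rintro W g ⟨V, a, f, hf, ha, rfl⟩
    have h1 := hTt V f hf a ha
    have h2 : (F.obj.map f.op).hom t = (x f hf).1 := ht f hf
    simpa [h2] using h1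
  refine ⟨⟨t, htm⟩, fun V f hf => Subtype.ext (ht f hf), fun y hy => Subtype.ext (huniq y.1 fun V f hf => ?_)⟩
  exact congrArg Subtype.val (hy f hf)

/-- The torsion subsheaf. -/
def T : Sheaf J AddCommGrpCat.{u} := ⟨pre J F, isSheaf_pre J F⟩

/-- Its inclusion. -/
def ι : T J F ⟶ F := ⟨{ app := fun U => AddCommGrpCat.ofHom (sub (J := J) (F := F) U).subtype }⟩

theorem mono_ι : Mono (ι J F) := by
  have : ∀ U, Mono ((ι J F).hom.app U) := fun U =>
    (AddCommGrpCat.mono_iff_injective _).2 Subtype.val_injective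
  have : Mono (ι J F).hom := NatTrans.mono_of_mono_app _
  exact (sheafToPresheaf J AddCommGrpCat).mono_of_mono_map this

theorem isTorsion_T : SiteCmp.IsTorsionSh J (T J F) := fun U s => by
  obtain ⟨S, hS, h⟩ := s.2
  refine ⟨S, hS, fun V g hg => ?_⟩
  exact (isOfFinAddOrder_iff_nsmul_eq_zero.2 (by
    obtain ⟨n, hn, h0⟩ := isOfFinAddOrder_iff_nsmul_eq_zero.1 (h g hg)
    exact ⟨n, hn, Subtype.ext h0⟩))

theorem fac {G : Sheaf J AddCommGrpCat.{u}} (g : G ⟶ F)
    (h : ∀ (U : C) (s : G.obj.obj (op U)), LocTors J F ((g.hom.app (op U)).hom s)) :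
    ∃ k : G ⟶ T J F, k ≫ ι J F = g := by
  refine ⟨⟨{ app := fun U => AddCommGrpCat.ofHom ((g.hom.app U).hom.codRestrict (sub (J := J) (F := F) U) (h U.unop))
             naturality := fun U V f => ?_ }⟩, ?_⟩
  · ext s
    apply Subtype.ext
    exact congr($(g.hom.naturality f) s)
  · ext U s
    rfl

theorem fac_torsion {G : Sheaf J AddCommGrpCat.{u}} (g : G ⟶ F) (hG : SiteCmp.IsTorsionSh J G) :
    ∃ k : G ⟶ T J F, k ≫ ι J F = g :=
  fac J F g fun U s => by
    obtain ⟨S, hS, h⟩ := hG U s
    refine ⟨S, hS, fun V f hf => ?_⟩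
    have h2 : (F.obj.map f.op).hom ((g.hom.app (op U)).hom s) = (g.hom.app (op V)).hom ((G.obj.map f.op).hom s) :=
      congr($(g.hom.naturality f.op) s).symm
    rw [h2]
    exact AddMonoidHom.isOfFinAddOrder _ (h f hf)

theorem nsmul_app {G : Sheaf J AddCommGrpCat.{u}} (n : ℕ) (f : G ⟶ F) (U : Cᵒᵖ) (s : G.obj.obj U) :
    ((n • f).hom.app U).hom s = n • (f.hom.app U).hom s := by
  induction n with
  | zero => simp
  | succ n ih => rw [succ_nsmul, succ_nsmul, ← ih]; rfl

theorem mono_nsmul_fs (U : C) (n : ℕ) (hn : 0 < n) : Mono (n • 𝟙 (SiteCoh.fs J U)) := by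
  have happ : ∀ W, (n • 𝟙 (SiteCoh.fp U)).app W = n • 𝟙 ((SiteCoh.fp U).obj W) := fun W => by
    induction n with
    | zero => simp
    | succ n ih =>
      rcases Nat.eq_zero_or_pos n with rfl | hn'
      · simp
      · simp [succ_nsmul, ih hn']
  have : ∀ W, Mono ((n • 𝟙 (SiteCoh.fp U)).app W) := fun W => by
    rw [happ, AddCommGrpCat.mono_iff_injective]
    intro a b hab
    let e := FreeAbelianGroup.equivFinsupp ((yoneda.obj U).obj W)
    refine e.injective (nsmul_right_injective hn.ne' ?_)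
    have hab' : n • (a : FreeAbelianGroup ((yoneda.obj U).obj W)) = n • b := by simpa using hab
    have := congrArg e hab'
    simpa [map_nsmul] using this
  have : Mono (n • 𝟙 (SiteCoh.fp U)) := NatTrans.mono_of_mono_app _
  have h := (presheafToSheaf J AddCommGrpCat.{u}).map_mono (n • 𝟙 (SiteCoh.fp U))
  rwa [Functor.map_nsmul, CategoryTheory.Functor.map_id] at h

theorem epi_nsmul_injective (I : Sheaf J AddCommGrpCat.{u}) [Injective I] (n : ℕ) (hn : 0 < n) : Epi (n • 𝟙 I) := by
  refine ⟨fun {G} a b hab => ?_⟩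
  ext U s
  obtain ⟨U⟩ := U
  have := mono_nsmul_fs J U n hn
  let t : SiteCoh.fs J U ⟶ I := Injective.factorThru ((SiteCoh.secEquiv J U I).symm s) (n • 𝟙 _)
  have ht : n • t = (SiteCoh.secEquiv J U I).symm s := by
    refine Eq.trans ?_ (Injective.comp_factorThru ((SiteCoh.secEquiv J U I).symm s) (n • 𝟙 (SiteCoh.fs J U)))
    simp only [t, Preadditive.nsmul_comp, Category.id_comp]
  have hs : s = ((n • 𝟙 I).hom.app (op U)).hom (SiteCoh.secEquiv J U I t) := by
    rw [nsmul_app, ← (SiteCoh.secEquiv J U I).apply_symm_apply s, ← ht, map_nsmul]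
    rfl
  rw [hs]
  exact congr(($hab).hom.app (op U) (SiteCoh.secEquiv J U I t))

theorem exists_radical [(SiteCmp.torsionSh J).IsSerreClass] :
    Nonempty (SerreTorsion.Radical (SiteCmp.torsionSh J)) := ⟨
  { T := T J, i := ι J, mono := mono_ι J, prop := isTorsion_T J, fac := fun {G F} g hG => fac_torsion J F g hG
    div := fun I _ n hn => by
      have := epi_nsmul_injective J I n hn
      have hm := mono_ι J I
      have h1 : cokernel.π (ι J I) ≫ (n • 𝟙 (cokernel (ι J I))) = (n • 𝟙 I) ≫ cokernel.π (ι J I) := by simp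
      have : Epi (n • 𝟙 (cokernel (ι J I))) := by
        have : Epi (cokernel.π (ι J I) ≫ (n • 𝟙 (cokernel (ι J I)))) := h1 ▸ epi_comp _ _
        exact epi_of_epi (cokernel.π (ι J I)) _
      have : Mono (n • 𝟙 (cokernel (ι J I))) := by
        refine Preadditive.mono_of_cancel_zero _ fun {W} x hx => ?_
        obtain ⟨W', e, _, y, hy⟩ := surjective_up_to_refinements_of_epi (cokernel.π (ι J I)) x
        have h2 : (n • y) ≫ cokernel.π (ι J I) = 0 := by
          simp only [Preadditive.nsmul_comp, ← hy, Category.assoc, ← Preadditive.comp_nsmul]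
          simp at hx
          simp [hx]
        let S : ShortComplex (Sheaf J AddCommGrpCat.{u}) := ShortComplex.mk (ι J I) (cokernel.π _) (cokernel.condition _)
        have hS : S.Exact := ShortComplex.exact_cokernel _
        let z : W' ⟶ T J I := hS.lift (n • y) h2
        have hz : z ≫ ι J I = n • y := hS.lift_f (n • y) h2
        obtain ⟨k, hk⟩ := fac J I y fun U s => by
          obtain ⟨R, hR, h⟩ := (((z.hom.app (op U)).hom s).2 : LocTors J I _)
          refine ⟨R, hR, fun V g hg => ?_⟩
          have h3 : ((z.hom.app (op U)).hom s).1 = n • (y.hom.app (op U)).hom s := by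
            rw [← nsmul_app, ← hz]
            rfl
          have h4 := h g hg
          rw [h3, map_nsmul] at h4
          exact h4.of_nsmul hn.ne'
        rw [← cancel_epi e, comp_zero, hy, ← hk, Category.assoc, cokernel.condition, comp_zero]
      exact isIso_of_mono_of_epi _
    isZero := fun G hG hiso => by
      rw [IsZero.iff_id_eq_zero]
      ext U s
      obtain ⟨U⟩ := U
      obtain ⟨S, hS, h⟩ := hG U s
      have hsep := ((isSheaf_iff_isSheaf_of_type _ _).1
        ((Presheaf.isSheaf_iff_isSheaf_forget J G.obj (forget _)).1 G.property)).isSeparated S hS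
      refine hsep.ext fun V g hg => ?_
      obtain ⟨n, hn, h0⟩ := isOfFinAddOrder_iff_nsmul_eq_zero.1 (h g hg)
      have := hiso n hn
      have hinj : Function.Injective ((n • 𝟙 G).hom.app (op V)).hom :=
        (AddCommGrpCat.mono_iff_injective _).1 inferInstance
      have h5 : (G.obj.map g.op).hom s = 0 := hinj (by rw [nsmul_app, nsmul_app]; simpa using h0)
      refine h5.trans ?_
      exact (map_zero (G.obj.map g.op).hom).symm }⟩

end Groth.L10.TorsionRadical
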