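import Groth.Agent.L10.RDerCohIn
import Groth.Agent.L10.SiteCover
import Groth.Agent.L10.WSerreLib
import Groth.Prelude.Def_WeakSerre

/-! Derived limits of towers with eventually constant cohomology. -/

universe t w v u

open CategoryTheory CategoryTheory.Limits CategoryTheory.Pretriangulated DerivedCategory

set_option backward.defeqAttrib.useBackward true
set_option backward.isDefEq.respectTransparency false
namespace Groth.L10.TowerStab

variable {C : Type u} [Category.{v} C] [Abelian C] [HasDerivedCategory.{w} C]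

local notation "tt" => DerivedCategory.TStructure.t
local notation "S0" => singleFunctor C 0

/-- Maps from a small test object into a bounded below object vanish if its cohomology vanishes in a window. -/
theorem hom_window_eq_zero {Q : C} {d : ℕ} (Z : DerivedCategory C) (a : ℤ) [Z.IsGE a] (k : ℤ)
    (hS : ∀ i, Small d Q ((homologyFunctor C i).obj Z))
    (hz : ∀ i : ℤ, -k - (d : ℤ) ≤ i → i ≤ -k → IsZero ((homologyFunctor C i).obj Z))
    (g : ((S0).obj Q)⟦k⟧ ⟶ Z) : g = 0 := by
  let c : ℤ := -k - d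
  have hge : (tt).IsGE (((tt).truncGE c).obj Z) (-k + 1) := by
    have : DerivedCategory.IsGE (((tt).truncGE c).obj Z) (-k + 1) := by
      rw [DerivedCategory.isGE_iff]
      intro i hi
      by_cases h' : c ≤ i
      · have := isIso_H_π c i h' Z
        exact (hz i h' (by omega)).of_iso (asIso ((homologyFunctor C i).map (((tt).truncGEπ c).app Z))).symm
      · exact isZero_H_GE c i (by omega) Z
    exact this
  have hle : (tt).IsLE (((S0).obj Q)⟦k⟧) (-k) := by
    have : (tt).IsLE ((S0).obj Q) 0 := (inferInstance : DerivedCategory.IsLE ((S0).obj Q) 0)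
    exact (tt).isLE_shift _ 0 k (-k) (by omega)
  have h0 : g ≫ ((tt).truncGEπ c).app Z = 0 := (tt).zero _ (-k) (-k + 1) (by omega)
  obtain ⟨g', rfl⟩ := Triangle.coyoneda_exact₂ _ ((tt).triangleLTGE_distinguished c Z) g h0
  let a' := min a c
  have hbound : (d : ℤ) + (a' + ((c - a').toNat : ℕ) - 1) + k < 0 := by
    have : a' ≤ c := min_le_right a c
    omega
  have : g' = 0 := RDerBound.hom_bounded_eq_zero (d := d) k a' (c - a').toNat (((tt).truncLT c).obj Z) (by
      rw [DerivedCategory.isGE_iff]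
      intro i hi
      have := isIso_H_ι c i (lt_of_lt_of_le hi (min_le_right a c)) Z
      exact (DerivedCategory.isZero_of_isGE Z a i (lt_of_lt_of_le hi (min_le_left a c))).of_iso
        (asIso ((homologyFunctor C i).map (((tt).truncLTι c).app Z))))
    ((tt).isLE_truncLT_obj _ _ _ (by
      have : a' ≤ c := min_le_right a c
      omega)) (fun i p hp f => by
      by_cases hi : i < c
      · have := isIso_H_ι c i hi Z
        let s := (shiftFunctor (DerivedCategory C) p).mapIso ((S0).mapIso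
          (asIso ((homologyFunctor C i).map (((tt).truncLTι c).app Z))))
        exact (cancel_mono s.hom).1 ((hS i p hp (f ≫ s.hom)).trans zero_comp.symm)
      · exact ((shiftFunctor (DerivedCategory C) p).map_isZero ((S0).map_isZero
          (isZero_H_LT c i (by omega) Z))).eq_of_tgt _ _)
    hbound g'
  rw [this, zero_comp]

/-- Maps of bounded below objects with cohomology small for `Q` act bijectively on maps out of `Q[k]`
when they are isomorphisms on cohomology in a window. -/
theorem bijective_comp {Q : C} {d : ℕ} (P : ObjectProperty C) [WSerre.IsWeakSerre P] (hP : ∀ M, P M → Small d Q M)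
    {X Y : DerivedCategory C} (f : X ⟶ Y) (a : ℤ) [X.IsGE a] [Y.IsGE a] (hX : WSerre.cohIn P X) (hY : WSerre.cohIn P Y)
    (k : ℤ) (h : ∀ i : ℤ, -k - (d : ℤ) - 1 ≤ i → i ≤ -k + 1 → IsIso ((homologyFunctor C i).map f)) :
    Function.Bijective (fun x : ((S0).obj Q)⟦k⟧ ⟶ X => x ≫ f) := by
  obtain ⟨Z, g, δ, hT⟩ := distinguished_cocone_triangle f
  have hZP : WSerre.cohIn P Z := fun i =>
    RDerBound.prop_obj₂ P _ (rot_of_distTriang _ hT) i (by
      exact P.prop_of_iso (hShiftIso X 1 (i - 1) i (by omega)).symm (hX i)) (hY i) (by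
      exact P.prop_of_iso (hShiftIso X 1 i (i + 1) (by omega)).symm (hX (i + 1))) (hY (i + 1))
  have hZ0 : ∀ i : ℤ, -k - (d : ℤ) - 1 ≤ i → i + 1 ≤ -k + 1 → IsZero ((homologyFunctor C i).obj Z) := fun i h1 h2 => by
    have := h i h1 (by omega)
    have := h (i + 1) (by omega) h2
    have e2 : (homologyFunctor C i).map g = 0 := by
      rw [← cancel_epi ((homologyFunctor C i).map f), ← Functor.map_comp, comp_zero]
      exact (congrArg _ (comp_distTriang_mor_zero₁₂ _ hT)).trans (Functor.map_zero _ _ _)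
    have e3 : HomologySequence.δ (Triangle.mk f g δ) i (i + 1) (by omega) = 0 :=
      (HomologySequence.mono_homologyMap_mor₁_iff _ hT i (i + 1) (by omega)).1
        (inferInstanceAs (Mono ((homologyFunctor C (i + 1)).map f)))
    have := (HomologySequence.exact₃ _ hT i (i + 1) (by omega)).mono_g e2
    rw [IsZero.iff_id_eq_zero]
    exact (cancel_mono (HomologySequence.δ (Triangle.mk f g δ) i (i + 1) (by omega))).1 (by rw [e3, comp_zero, comp_zero])
  have : Z.IsGE (a - 1) := by
    rw [DerivedCategory.isGE_iff]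
    intro i hi
    have hy : IsZero ((homologyFunctor C i).obj Y) := DerivedCategory.isZero_of_isGE Y a i (by omega)
    have hx : IsZero ((homologyFunctor C (i + 1)).obj X) := DerivedCategory.isZero_of_isGE X a (i + 1) (by omega)
    have := (HomologySequence.exact₃ _ hT i (i + 1) (by omega)).mono_g (hy.eq_of_src _ _)
    rw [IsZero.iff_id_eq_zero]
    exact (cancel_mono (HomologySequence.δ (Triangle.mk f g δ) i (i + 1) (by omega))).1 (hx.eq_of_tgt _ _)
  have hS : ∀ i, Small d Q ((homologyFunctor C i).obj Z) := fun i => hP _ (hZP i)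
  refine ⟨fun x x' hx => ?_, fun y => ?_⟩
  · rw [← sub_eq_zero]
    have hx' : (x - x') ≫ (Triangle.mk f g δ).invRotate.mor₂ = 0 :=
      (Preadditive.sub_comp _ _ _).trans (sub_eq_zero.2 hx)
    obtain ⟨r, hr⟩ := Triangle.coyoneda_exact₂ _ (inv_rot_of_distTriang _ hT) _ hx'
    let e := (shiftFunctorAdd' (DerivedCategory C) k 1 (k + 1) rfl).app ((S0).obj Q)
    let u := (shiftEquiv (DerivedCategory C) (1 : ℤ)).counitIso.app Z
    have h0 := hom_window_eq_zero Z (a - 1) (k + 1) hS (fun i h1 h2 => hZ0 i (by omega) (by omega))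
      (e.hom ≫ r⟦(1 : ℤ)⟧' ≫ u.hom)
    have : r = 0 := by
      refine (shiftFunctor _ (1 : ℤ)).map_injective ?_
      rw [Functor.map_zero, ← cancel_epi e.hom, ← cancel_mono u.hom, Category.assoc, h0, comp_zero, zero_comp]
    rw [hr, this, zero_comp]
  · have hy : y ≫ g = 0 := hom_window_eq_zero Z (a - 1) k hS (fun i h1 h2 => hZ0 i (by omega) (by omega)) _
    obtain ⟨x, hx⟩ := Triangle.coyoneda_exact₂ _ hT y hy
    exact ⟨x, hx.symm⟩

variable [KInjDerived.EnoughKInjectives C]

/-- Derived limits of bounded below towers with eventually constant cohomology, under local bounds. -/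
theorem isIso_H_rlim_const {ι : Type t} (𝒞 : LocalDetect.Cover C ι) (P : ObjectProperty C) [WSerre.IsWeakSerre P]
    (hloc : ∀ i, ∃ d : ℕ, ∀ Q, 𝒞.good i Q → ∀ M, P M → Small d Q M)
    {K : ℕ → DerivedCategory C} {t : ∀ n, K (n + 1) ⟶ K n} [HasProduct K]
    (hK : ∀ n, WSerre.cohInPlus P (K n))
    (hconst : ∀ j : ℤ, ∃ n₀ : ℕ, ∀ n, n₀ ≤ n → IsIso ((homologyFunctor C j).map (t n)))
    {L : DerivedCategory C} {a : ∀ n, L ⟶ K n} (hL : CohCx.IsRlimVia K t L a) (j : ℤ) :
    ∃ n₀ : ℕ, ∀ n, n₀ ≤ n → IsIso ((homologyFunctor C j).map (a n)) := by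
  choose N hN using hconst
  refine ⟨N j, fun n hn => isIso_H_rlim 𝒞 hL j n (fun m hm => hN j m (by omega)) fun i => ?_⟩
  obtain ⟨d, hd⟩ := hloc i
  refine ⟨(Finset.range (d + 4)).sup fun r => N (j - (d : ℤ) - 2 + r), fun Q hQ m hm => ?_⟩
  obtain ⟨h1, a₁, ha₁⟩ := hK (m + 1)
  obtain ⟨h2, a₂, ha₂⟩ := hK m
  have : (tt).IsGE (K (m + 1)) a₁ := ha₁
  have : (tt).IsGE (K m) a₂ := ha₂
  have : (K (m + 1)).IsGE (min a₁ a₂) := (tt).isGE_of_ge _ _ a₁ (min_le_left _ _)
  have : (K m).IsGE (min a₁ a₂) := (tt).isGE_of_ge _ _ a₂ (min_le_right _ _)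
  have key : ∀ i : ℤ, j - (d : ℤ) - 2 ≤ i → i ≤ j + 1 → IsIso ((homologyFunctor C i).map (t m)) := fun i h3 h4 => by
    obtain ⟨r, rfl⟩ : ∃ r : ℕ, j - (d : ℤ) - 2 + r = i := ⟨(i - (j - d - 2)).toNat, by omega⟩
    exact hN _ m (le_trans (Finset.le_sup (f := fun r : ℕ => N (j - (d : ℤ) - 2 + r)) (Finset.mem_range.2 (by omega))) hm)
  exact ⟨bijective_comp P (hd Q hQ) (t m) (min a₁ a₂) h1 h2 (-j) (fun i h3 h4 => key i (by omega) (by omega)),
    (bijective_comp P (hd Q hQ) (t m) (min a₁ a₂) h1 h2 (-j + 1) (fun i h3 h4 => key i (by omega) (by omega))).surjective⟩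

end Groth.L10.TowerStab
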