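import Mathlib.CategoryTheory.Triangulated.Subcategory
import Mathlib.CategoryTheory.Triangulated.HomologicalFunctor
import Mathlib.CategoryTheory.Triangulated.Orthogonal
import Mathlib.CategoryTheory.Triangulated.Generators
import Mathlib.CategoryTheory.Triangulated.TStructure.Basic

universe v u v' u'
open CategoryTheory CategoryTheory.Limits CategoryTheory.Pretriangulated
open scoped ZeroObject

set_option backward.defeqAttrib.useBackward true
set_option backward.isDefEq.respectTransparency false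
namespace Groth.L10

theorem isZero_obj_of_biprod {D : Type u} [Category.{v} D] [HasZeroMorphisms D]
    {E : Type u'} [Category.{v'} E] [HasZeroMorphisms E] (F : D ⥤ E) [F.PreservesZeroMorphisms]
    {X Y : D} [HasBinaryBiproduct X Y] (h : IsZero (F.obj (X ⊞ Y))) :
    IsZero (F.obj X) ∧ IsZero (F.obj Y) := by
  constructor <;> rw [IsZero.iff_id_eq_zero]
  · rw [← F.map_id, ← biprod.inl_fst (X := X) (Y := Y), F.map_comp, h.eq_of_tgt (F.map biprod.inl) 0, zero_comp]
  · rw [← F.map_id, ← biprod.inr_snd (X := X) (Y := Y), F.map_comp, h.eq_of_tgt (F.map biprod.inr) 0, zero_comp]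

section
variable {D : Type u} [Category.{v} D] [Preadditive D] [HasZeroObject D] [HasShift D ℤ]
    [∀ n : ℤ, (shiftFunctor D n).Additive] [Pretriangulated D]

theorem s6582 {D' : Type u'} [Category.{v'} D'] [Preadditive D'] [HasZeroObject D'] [HasShift D' ℤ]
    [∀ n : ℤ, (shiftFunctor D' n).Additive] [Pretriangulated D']
    (F : D ⥤ D') [F.Additive] [F.CommShift ℤ] [F.IsTriangulated] :
    (ObjectProperty.IsTriangulated (fun X : D => IsZero (F.obj X))) ∧
    (ObjectProperty.IsClosedUnderIsomorphisms (fun X : D => IsZero (F.obj X))) ∧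
    (∀ X Y : D, IsZero (F.obj (X ⊞ Y)) → IsZero (F.obj X) ∧ IsZero (F.obj Y)) := by
  refine ⟨?_, ⟨fun e h => h.of_iso (F.mapIso e.symm)⟩, fun X Y h => isZero_obj_of_biprod F h⟩
  have : ObjectProperty.IsClosedUnderIsomorphisms (fun X : D => IsZero (F.obj X)) :=
    ⟨fun e h => h.of_iso (F.mapIso e.symm)⟩
  refine
    { exists_zero := ⟨0, isZero_zero _, F.map_isZero (isZero_zero _)⟩
      isStableUnderShiftBy := fun n => ⟨fun X hX => ?_⟩
      toIsTriangulatedClosed₂ := .mk' fun T hT h1 h3 =>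
        Triangle.isZero₂_of_isZero₁₃ _ (F.map_distinguished T hT) h1 h3 }
  exact ((shiftFunctor D' n).map_isZero hX).of_iso ((F.commShiftIso n).app X)

theorem shiftAtBot {A : Type u'} [Category.{v'} A] [Abelian A] (H : D ⥤ A) [H.IsHomological]
    (r : ℤ → ℤ → Prop) (htr : ∀ a b : ℤ, ∃ c, ∀ n, r c n → r a n ∧ r b n)
    (hsh : ∀ a k : ℤ, ∃ c, ∀ n, r c n → r a (k + n)) :
    let P : ObjectProperty D := fun X => ∃ N, ∀ n, r N n → IsZero (H.obj (X⟦n⟧))
    P.IsTriangulated ∧ P.IsClosedUnderIsomorphisms ∧ (∀ X Y : D, P (X ⊞ Y) → P X ∧ P Y) := by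
  intro P
  have : P.IsClosedUnderIsomorphisms :=
    ⟨fun e ⟨N, h⟩ => ⟨N, fun n hn => (h n hn).of_iso (H.mapIso ((shiftFunctor D n).mapIso e.symm))⟩⟩
  refine ⟨?_, this, fun X Y ⟨N, h⟩ => ?_⟩
  · refine
      { exists_zero := ⟨0, isZero_zero _, 0, fun n _ =>
          H.map_isZero ((shiftFunctor D n).map_isZero (isZero_zero _))⟩
        isStableUnderShiftBy := fun k => ⟨fun X ⟨N, h⟩ => ?_⟩
        toIsTriangulatedClosed₂ := .mk' fun T hT ⟨a, h1⟩ ⟨b, h3⟩ => ?_ }
    · obtain ⟨c, hc⟩ := hsh N k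
      exact ⟨c, fun n hn => (h _ (hc n hn)).of_iso (H.mapIso ((shiftFunctorAdd D k n).app X).symm)⟩
    · obtain ⟨c, hc⟩ := htr a b
      exact ⟨c, fun n hn => (H.map_distinguished_exact _
        (Triangle.shift_distinguished T hT n)).isZero_of_both_zeros
          ((h1 n (hc n hn).1).eq_of_src _ _) ((h3 n (hc n hn).2).eq_of_tgt _ _)⟩
  · exact ⟨⟨N, fun n hn => (isZero_obj_of_biprod (shiftFunctor D n ⋙ H) (h n hn)).1⟩,
      ⟨N, fun n hn => (isZero_obj_of_biprod (shiftFunctor D n ⋙ H) (h n hn)).2⟩⟩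

abbrev s6583 {A : Type u'} [Category.{v'} A] [Abelian A] (H : D ⥤ A) [H.IsHomological] :=
  shiftAtBot H (fun N n => n ≤ N) (fun a b => ⟨min a b, fun n hn => by omega⟩)
    (fun a k => ⟨a - k, fun n hn => by omega⟩)

abbrev s6584 {A : Type u'} [Category.{v'} A] [Abelian A] (H : D ⥤ A) [H.IsHomological] :=
  shiftAtBot H (fun N n => N ≤ n) (fun a b => ⟨max a b, fun n hn => by omega⟩)
    (fun a k => ⟨a - k, fun n hn => by omega⟩)

theorem s6585 [IsTriangulated D] (E K : D) :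
    (∀ (i : ℤ) (f : E ⟶ K⟦i⟧), f = 0) ↔
      ∀ (E' : D), (ObjectProperty.singleton E).triangEnvelope E' → ∀ f : E' ⟶ K, f = 0 := by
  constructor
  · intro h E' hE'
    let Q : ObjectProperty D := fun X => ∀ (i : ℤ) (f : X⟦i⟧ ⟶ K), f = 0
    have : Q.IsClosedUnderIsomorphisms :=
      ⟨fun e hX i f => (cancel_epi ((shiftFunctor D i).map e.hom)).1 (by rw [comp_zero]; exact hX i _)⟩
    have : Q.IsTriangulated :=
      { exists_zero := ⟨0, isZero_zero _, fun i f => ((shiftFunctor D i).map_isZero (isZero_zero D)).eq_of_src _ _⟩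
        isStableUnderShiftBy := fun a => ⟨fun X hX i f =>
          (cancel_epi ((shiftFunctorAdd D a i).hom.app X)).1 (by rw [comp_zero]; exact hX _ _)⟩
        toIsTriangulatedClosed₂ := .mk' fun T hT h₁ h₃ i f => by
          obtain ⟨g, rfl⟩ := Triangle.yoneda_exact₂ _ (Triangle.shift_distinguished T hT i) f (h₁ _ _)
          exact (h₃ i g).symm ▸ comp_zero }
    have : Q.IsStableUnderRetracts :=
      ⟨fun {X Y} r hY i f => by
        rw [← Category.id_comp f, ← (shiftFunctor D i).map_id, ← r.retract, Functor.map_comp, Category.assoc,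
          hY i ((shiftFunctor D i).map r.r ≫ f), comp_zero]⟩
    have hle : (ObjectProperty.singleton E).triangEnvelope ≤ Q :=
      (ObjectProperty.triangEnvelope_le_iff _).2 (by
        rintro X ⟨⟩ i f
        obtain ⟨g, rfl⟩ := ((shiftEquiv D i).toAdjunction.homEquiv _ _).symm.surjective f
        simp [show g = 0 from h _ g, Adjunction.homEquiv_counit]
        )
    intro f
    exact (cancel_epi ((shiftFunctorZero D ℤ).hom.app E')).1 (by rw [comp_zero]; exact hle _ hE' 0 _)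
  · intro h i f
    have hEi : (ObjectProperty.singleton E).triangEnvelope (E⟦-i⟧) :=
      ((ObjectProperty.singleton E).triangEnvelope).le_shift (-i) _ ((ObjectProperty.singleton E).le_triangEnvelope _ ⟨⟨⟩⟩)
    obtain ⟨g, rfl⟩ := ((shiftEquiv D i).symm.toAdjunction.homEquiv _ _).surjective f
    simp [show g = 0 from h _ hEi g, Adjunction.homEquiv_unit]

theorem s6608 (S : MorphismProperty D) [S.ContainsIdentities] [S.IsCompatibleWithTriangulation]
    {X Y : D} (f : X ⟶ Y) [IsIso f] : S f := by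
  have h1 : Triangle.mk (0 : (0:D) ⟶ X) (𝟙 X) (0 : X ⟶ _) ∈ distTriang D :=
    contractible_distinguished₁ X
  have h2 : Triangle.mk (0 : (0:D) ⟶ X) f (0 : Y ⟶ _) ∈ distTriang D :=
    isomorphic_distinguished _ h1 _
      (Triangle.isoMk _ _ (Iso.refl _) (Iso.refl _) (asIso f).symm
        (by dsimp; simp) (by dsimp; simp) (by dsimp; simp))
  obtain ⟨c, hc, hc1, hc2⟩ := S.compatible_with_triangulation _ _ h1 h2 (𝟙 _) (𝟙 _)
    (S.id_mem _) (S.id_mem _) (by simp)
  simp at hc1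
  exact hc1 ▸ hc

theorem s6609 (S : MorphismProperty D) [S.IsMultiplicative] [S.IsCompatibleWithTriangulation] :
    (∀ {X Y X' : D} (f : X ⟶ Y) (t : X ⟶ X'), S t →
      ∃ (Y' : D) (f' : X' ⟶ Y') (s' : Y ⟶ Y'), S s' ∧ f ≫ s' = t ≫ f') ∧
    (∀ {X Y Y' : D} (f : X ⟶ Y) (s : Y' ⟶ Y), S s →
      ∃ (X' : D) (f' : X' ⟶ Y') (t' : X' ⟶ X), S t' ∧ t' ≫ f = f' ≫ s) := by
  constructor
  · intro X Y X' f t ht
    obtain ⟨W, a, c, hT⟩ := distinguished_cocone_triangle₁ f
    obtain ⟨Y', f', c', hT'⟩ := distinguished_cocone_triangle (a ≫ t)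
    obtain ⟨s', hs', h1, h2⟩ := S.compatible_with_triangulation _ _ hT hT' (𝟙 W) t
      (S.id_mem _) ht (by simp)
    exact ⟨Y', f', s', hs', h1⟩
  · intro X Y Y' f s hs
    obtain ⟨W, b, h, hT⟩ := distinguished_cocone_triangle f
    obtain ⟨X', f', c', hT'⟩ := distinguished_cocone_triangle₁ (s ≫ b)
    obtain ⟨c, hc, h1, h2⟩ := S.compatible_with_triangulation _ _ (rot_of_distTriang _ hT')
      (rot_of_distTriang _ hT) s (𝟙 W) hs (S.id_mem _) (by simp)
    obtain ⟨t', rfl⟩ : ∃ t', (shiftFunctor D (1:ℤ)).map t' = c := (shiftFunctor D (1:ℤ)).map_surjective c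
    refine ⟨X', f', t', (MorphismProperty.IsCompatibleWithShift.iff S t' 1).1 hc, ?_⟩
    apply (shiftFunctor D (1:ℤ)).map_injective
    simp at h2
    simp [h2]

theorem s15557 (T T' : Triangle D) (hT : T ∈ distTriang D) (hT' : T' ∈ distTriang D)
    (hXZ : ∀ u : T.obj₁ ⟶ T'.obj₃, u = 0)
    (hXZ' : ∀ u : T.obj₁ ⟶ (shiftFunctor D (-1 : ℤ)).obj T'.obj₃, u = 0) :
    Function.Bijective (fun u : T.obj₁ ⟶ T'.obj₁ => u ≫ T'.mor₁) ∧
      Function.Bijective (fun w : T.obj₃ ⟶ T'.obj₃ => T.mor₂ ≫ w) := by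
  refine ⟨⟨?_, ?_⟩, ⟨?_, ?_⟩⟩
  · intro a b h
    rw [← sub_eq_zero]
    obtain ⟨g, hg⟩ := Triangle.coyoneda_exact₂ _ (inv_rot_of_distTriang _ hT') (a - b)
      (by simp [Preadditive.sub_comp]; simpa [sub_eq_zero] using! h)
    rw [hg, show g = 0 from hXZ' g]; simp
  · intro w
    obtain ⟨g, hg⟩ := Triangle.coyoneda_exact₂ _ hT' w (hXZ _)
    exact ⟨g, hg.symm⟩
  · intro a b h
    rw [← sub_eq_zero]
    obtain ⟨g, hg⟩ := Triangle.yoneda_exact₃ _ hT (a - b)
      (by simp [Preadditive.comp_sub]; simpa [sub_eq_zero] using! h)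
    obtain ⟨k, rfl⟩ := ((shiftEquiv D (1:ℤ)).toAdjunction.homEquiv _ _).symm.surjective g
    rw [hg, show k = 0 from hXZ' k]; simp [Adjunction.homEquiv_counit]
  · intro w
    obtain ⟨g, hg⟩ := Triangle.yoneda_exact₂ _ hT w (hXZ _)
    exact ⟨g, hg.symm⟩
end
end Groth.L10
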