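import Mathlib.CategoryTheory.Triangulated.Subcategory
import Mathlib.CategoryTheory.Triangulated.HomologicalFunctor
import Mathlib.CategoryTheory.Triangulated.Orthogonal
import Mathlib.CategoryTheory.Triangulated.Generators
import Mathlib.CategoryTheory.Triangulated.TStructure.Basic
import Mathlib.CategoryTheory.Triangulated.Yoneda

universe v u v' u' w
open CategoryTheory CategoryTheory.Limits CategoryTheory.Pretriangulated
open scoped ZeroObject

set_option backward.defeqAttrib.useBackward true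
set_option backward.isDefEq.respectTransparency false
namespace Groth.L10

section
variable {D : Type u} [Category.{v} D] [Preadditive D] [HasZeroObject D] [HasShift D ℤ]
    [∀ n : ℤ, (shiftFunctor D n).Additive] [Pretriangulated D]

theorem exists_shift_desc {J : Type w} {X : J → D} (c : Cofan X) (hc : IsColimit c) (n : ℤ) {A : D}
    (f : ∀ j, (X j)⟦n⟧ ⟶ A) : ∃ g : c.pt⟦n⟧ ⟶ A, ∀ j, (c.inj j)⟦n⟧' ≫ g = f j := by
  let adj := (shiftEquiv D n).toAdjunction
  refine ⟨(adj.homEquiv _ _).symm (Cofan.IsColimit.desc hc (fun j => adj.homEquiv _ _ (f j))), fun j => ?_⟩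
  rw [show (c.inj j)⟦n⟧' = (shiftEquiv D n).functor.map (c.inj j) from rfl,
    ← adj.homEquiv_naturality_left_symm, Cofan.IsColimit.fac, Equiv.symm_apply_apply]

theorem shift_hom_ext {J : Type w} {X : J → D} (c : Cofan X) (hc : IsColimit c) (n : ℤ) {A : D}
    (f g : c.pt⟦n⟧ ⟶ A) (h : ∀ j, (c.inj j)⟦n⟧' ≫ f = (c.inj j)⟦n⟧' ≫ g) : f = g := by
  let adj := (shiftEquiv D n).toAdjunction
  apply (adj.homEquiv _ _).injective
  refine Cofan.IsColimit.hom_ext hc _ _ (fun j => ?_)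
  rw [← adj.homEquiv_naturality_left, ← adj.homEquiv_naturality_left]
  exact congrArg _ (h j)

theorem cofan_triangle_distinguished {J : Type w} (T : J → Triangle D) (hT : ∀ j, T j ∈ distTriang D)
    (S : Triangle D) (i : ∀ j, T j ⟶ S)
    (h₁ : IsColimit (Cofan.mk S.obj₁ (fun j => (i j).hom₁)))
    (h₂ : IsColimit (Cofan.mk S.obj₂ (fun j => (i j).hom₂)))
    (h₃ : IsColimit (Cofan.mk S.obj₃ (fun j => (i j).hom₃))) : S ∈ distTriang D := by
  obtain ⟨W, f₂, f₃, hS'⟩ := distinguished_cocone_triangle S.mor₁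
  let k := fun j => completeDistinguishedTriangleMorphism _ _ (hT j) hS' (i j).hom₁ (i j).hom₂ (i j).comm₁
  let ψ : S.obj₃ ⟶ W := Cofan.IsColimit.desc h₃ (fun j => (k j).hom₃)
  have hψ : ∀ j, (i j).hom₃ ≫ ψ = (k j).hom₃ := fun j => Cofan.IsColimit.fac h₃ (fun j => (k j).hom₃) j
  have k2 : ∀ j, (T j).mor₂ ≫ (k j).hom₃ = (i j).hom₂ ≫ f₂ := fun j => (k j).comm₂
  have k3 : ∀ j, (T j).mor₃ ≫ (i j).hom₁⟦1⟧' = (k j).hom₃ ≫ f₃ := fun j => (k j).comm₃
  have c2 : S.mor₂ ≫ ψ = f₂ := Cofan.IsColimit.hom_ext h₂ _ _ fun j => by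
    change (i j).hom₂ ≫ _ = (i j).hom₂ ≫ _
    rw [← reassoc_of% (i j).comm₂, hψ, k2]
  have c3 : ψ ≫ f₃ = S.mor₃ := Cofan.IsColimit.hom_ext h₃ _ _ fun j => by
    change (i j).hom₃ ≫ _ = (i j).hom₃ ≫ _
    rw [reassoc_of% (hψ j), ← k3, (i j).comm₃]
  suffices IsIso ψ from isomorphic_distinguished _ hS' _
    (Triangle.isoMk _ _ (Iso.refl _) (Iso.refl _) (asIso ψ) (by dsimp; simp)
      (by dsimp; simp [c2]) (by dsimp; simp [c3]))
  refine isIso_of_coyoneda_map_bijective _ (fun A => ⟨?_, fun u => ?_⟩)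
  · suffices ∀ a : W ⟶ A, ψ ≫ a = 0 → a = 0 from fun a b h => by
      rw [← sub_eq_zero]; exact this _ (by simpa [sub_eq_zero] using! h)
    intro a ha
    obtain ⟨b, hb⟩ := Triangle.yoneda_exact₃ _ hS' a (by
      dsimp; rw [← c2, Category.assoc, ha, comp_zero])
    dsimp at b hb
    have : ∀ j, (T j).rotate.mor₂ ≫ ((i j).hom₁⟦(1:ℤ)⟧' ≫ b) = 0 := fun j => by
      dsimp
      rw [← Category.assoc, k3, Category.assoc, ← hb, ← hψ, Category.assoc, ha, comp_zero]
    have h := fun j => Triangle.yoneda_exact₃ _ (rot_of_distTriang _ (hT j)) _ (this j)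
    choose c hc using h
    obtain ⟨g, hg⟩ := exists_shift_desc _ h₂ 1 c
    have : b = -(S.mor₁⟦(1:ℤ)⟧' ≫ g) := shift_hom_ext _ h₁ 1 _ _ fun j => by
      change (i j).hom₁⟦(1:ℤ)⟧' ≫ _ = (i j).hom₁⟦(1:ℤ)⟧' ≫ _
      rw [hc, Preadditive.comp_neg, ← Functor.map_comp_assoc, ← (i j).comm₁,
        Functor.map_comp_assoc, show (i j).hom₂⟦(1:ℤ)⟧' ≫ g = c j from hg j]
      dsimp; simp
    have z : f₃ ≫ S.mor₁⟦(1:ℤ)⟧' = 0 := comp_distTriang_mor_zero₃₁ _ hS'
    rw [hb, this, Preadditive.comp_neg, reassoc_of% z, zero_comp, neg_zero]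
  · obtain ⟨a₀, ha₀⟩ := Triangle.yoneda_exact₂ _ hS' (S.mor₂ ≫ u) (by
      dsimp
      refine Cofan.IsColimit.hom_ext h₁ _ _ fun j => ?_
      change (i j).hom₁ ≫ _ = (i j).hom₁ ≫ _
      rw [← reassoc_of% (i j).comm₁, ← reassoc_of% (i j).comm₂,
        reassoc_of% (comp_distTriang_mor_zero₁₂ _ (hT j)), zero_comp, comp_zero])
    dsimp at a₀ ha₀
    have h := fun j => Triangle.yoneda_exact₃ _ (hT j) ((i j).hom₃ ≫ u - (k j).hom₃ ≫ a₀) (by
      rw [Preadditive.comp_sub, reassoc_of% (i j).comm₂, reassoc_of% (k2 j), ha₀, sub_self])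
    choose b hb using h
    obtain ⟨g, hg⟩ := exists_shift_desc _ h₁ 1 b
    refine ⟨a₀ + f₃ ≫ g, Cofan.IsColimit.hom_ext h₃ _ _ fun j => ?_⟩
    change (i j).hom₃ ≫ _ = (i j).hom₃ ≫ _
    dsimp
    rw [reassoc_of% (hψ j), Preadditive.comp_add, ← reassoc_of% (k3 j),
      show (i j).hom₁⟦(1:ℤ)⟧' ≫ g = b j from hg j, ← hb, add_sub_cancel]

theorem s6593 {J : Type w} (T : J → Triangle D) (hT : ∀ j, T j ∈ distTriang D)
    [HasCoproduct (fun j => (T j).obj₁)] [HasCoproduct (fun j => (T j).obj₂)] [HasCoproduct (fun j => (T j).obj₃)] :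
    Triangle.mk (Limits.Sigma.map (fun j => (T j).mor₁)) (Limits.Sigma.map (fun j => (T j).mor₂))
      (Sigma.desc (fun j => (T j).mor₃ ≫ (shiftFunctor D (1 : ℤ)).map (Sigma.ι (fun j => (T j).obj₁) j))) ∈ distinguishedTriangles :=
  cofan_triangle_distinguished T hT _
    (fun j => Triangle.homMk _ _ (Sigma.ι (fun j => (T j).obj₁) j) (Sigma.ι (fun j => (T j).obj₂) j) (Sigma.ι (fun j => (T j).obj₃) j)
      (by dsimp; simp) (by dsimp; simp) (by dsimp; simp))
    (coproductIsCoproduct _) (coproductIsCoproduct _) (coproductIsCoproduct _)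

noncomputable def biprodTriangle (T T' : Triangle D) : Triangle D :=
  Triangle.mk (biprod.map T.mor₁ T'.mor₁) (biprod.map T.mor₂ T'.mor₂)
    (biprod.desc (T.mor₃ ≫ (shiftFunctor D (1 : ℤ)).map biprod.inl) (T'.mor₃ ≫ (shiftFunctor D (1 : ℤ)).map biprod.inr))

noncomputable def biprodCofan {f : WalkingPair → D} {P : D} (c : ∀ j, f j ⟶ P)
    (e : IsColimit (BinaryCofan.mk (c .left) (c .right))) : IsColimit (Cofan.mk P c) :=
  mkCofanColimit _ (fun s => e.desc (BinaryCofan.mk (s.inj .left) (s.inj .right)))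
    (fun s j => by
      cases j
      · exact e.fac (BinaryCofan.mk (s.inj .left) (s.inj .right)) ⟨.left⟩
      · exact e.fac (BinaryCofan.mk (s.inj .left) (s.inj .right)) ⟨.right⟩)
    (fun s m h => BinaryCofan.IsColimit.hom_ext e
      ((h .left).trans (e.fac (BinaryCofan.mk (s.inj .left) (s.inj .right)) ⟨.left⟩).symm)
      ((h .right).trans (e.fac (BinaryCofan.mk (s.inj .left) (s.inj .right)) ⟨.right⟩).symm))

theorem biprodTriangle_dist (T T' : Triangle D) (hT : T ∈ distTriang D) (hT' : T' ∈ distTriang D) :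
    biprodTriangle T T' ∈ distTriang D := by
  refine cofan_triangle_distinguished (fun j => WalkingPair.casesOn j T T')
    (fun j => by cases j <;> assumption) (biprodTriangle T T')
    (fun j => WalkingPair.casesOn j
      (Triangle.homMk _ _ biprod.inl biprod.inl biprod.inl (by dsimp [biprodTriangle]; simp) (by dsimp [biprodTriangle]; simp) (by dsimp [biprodTriangle]; simp))
      (Triangle.homMk _ _ biprod.inr biprod.inr biprod.inr (by dsimp [biprodTriangle]; simp) (by dsimp [biprodTriangle]; simp) (by dsimp [biprodTriangle]; simp)))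
    ?_ ?_ ?_ <;> exact biprodCofan _ (BinaryBiproduct.isColimit _ _)

theorem s6581 (T T' : Triangle D) :
    biprodTriangle T T' ∈ distTriang D ↔ (T ∈ distTriang D ∧ T' ∈ distTriang D) := by
  refine ⟨fun h => ?_, fun h => biprodTriangle_dist T T' h.1 h.2⟩
  let φ : T ⟶ biprodTriangle T T' := Triangle.homMk _ _ biprod.inl biprod.inl biprod.inl
    (by dsimp [biprodTriangle]; simp) (by dsimp [biprodTriangle]; simp) (by dsimp [biprodTriangle]; simp)
  let φ' : T' ⟶ biprodTriangle T T' := Triangle.homMk _ _ biprod.inr biprod.inr biprod.inr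
    (by dsimp [biprodTriangle]; simp) (by dsimp [biprodTriangle]; simp) (by dsimp [biprodTriangle]; simp)
  let π : biprodTriangle T T' ⟶ T := Triangle.homMk _ _ biprod.fst biprod.fst biprod.fst
    (by dsimp [biprodTriangle]; simp) (by dsimp [biprodTriangle]; simp)
    (by dsimp [biprodTriangle]; ext <;> simp [← Functor.map_comp])
  let π' : biprodTriangle T T' ⟶ T' := Triangle.homMk _ _ biprod.snd biprod.snd biprod.snd
    (by dsimp [biprodTriangle]; simp) (by dsimp [biprodTriangle]; simp)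
    (by dsimp [biprodTriangle]; ext <;> simp [← Functor.map_comp])
  obtain ⟨W, g, k, hU⟩ := distinguished_cocone_triangle T.mor₁
  obtain ⟨W', g', k', hU'⟩ := distinguished_cocone_triangle T'.mor₁
  let u := completeDistinguishedTriangleMorphism _ _ hU h biprod.inl biprod.inl (by dsimp [biprodTriangle]; simp)
  let u' := completeDistinguishedTriangleMorphism _ _ hU' h biprod.inr biprod.inr (by dsimp [biprodTriangle]; simp)
  let a : Triangle.mk T.mor₁ g k ⟶ T := u ≫ π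
  let a' : Triangle.mk T'.mor₁ g' k' ⟶ T' := u' ≫ π'
  have a1 : a.hom₁ = 𝟙 _ := by dsimp [a, π, u, biprodTriangle]; simp
  have a2 : a.hom₂ = 𝟙 _ := by dsimp [a, π, u, biprodTriangle]; simp
  have a1' : a'.hom₁ = 𝟙 _ := by dsimp [a', π', u', biprodTriangle]; simp
  have a2' : a'.hom₂ = 𝟙 _ := by dsimp [a', π', u', biprodTriangle]; simp
  have c2 := a.comm₂; have c3 := a.comm₃; have c2' := a'.comm₂; have c3' := a'.comm₃
  rw [a2] at c2; rw [a2'] at c2'; rw [a1] at c3; rw [a1'] at c3'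
  dsimp at c2 c3 c2' c3'
  simp at c2 c3 c2' c3'
  let b : biprodTriangle (Triangle.mk T.mor₁ g k) (Triangle.mk T'.mor₁ g' k') ⟶ biprodTriangle T T' :=
    Triangle.homMk _ _ (𝟙 _) (𝟙 _) (biprod.map a.hom₃ a'.hom₃)
      (by dsimp [biprodTriangle]; simp)
      (by dsimp [biprodTriangle]; ext <;> simp [c2, c2'])
      (by dsimp [biprodTriangle]; ext <;> simp [reassoc_of% c3, reassoc_of% c3'])
  have hb : IsIso (biprod.map a.hom₃ a'.hom₃) :=
    isIso₃_of_isIso₁₂ b (biprodTriangle_dist _ _ hU hU') h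
      (show IsIso (𝟙 _) from inferInstance) (show IsIso (𝟙 _) from inferInstance)
  have ia : IsIso a.hom₃ := ⟨biprod.inl ≫ inv (biprod.map a.hom₃ a'.hom₃) ≫ biprod.fst, by
      rw [← biprod.inl_map_assoc a.hom₃ a'.hom₃, IsIso.hom_inv_id_assoc, biprod.inl_fst], by
      simp only [Category.assoc]
      rw [← biprod.map_fst a.hom₃ a'.hom₃, IsIso.inv_hom_id_assoc, biprod.inl_fst]⟩
  have ia' : IsIso a'.hom₃ := ⟨biprod.inr ≫ inv (biprod.map a.hom₃ a'.hom₃) ≫ biprod.snd, by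
      rw [← biprod.inr_map_assoc a.hom₃ a'.hom₃, IsIso.hom_inv_id_assoc, biprod.inr_snd], by
      simp only [Category.assoc]
      rw [← biprod.map_snd a.hom₃ a'.hom₃, IsIso.inv_hom_id_assoc, biprod.inr_snd]⟩
  have : IsIso a := by
    refine @Triangle.isIso_of_isIsos _ _ _ _ _ a ?_ ?_ ia
    · rw [a1]; infer_instance
    · rw [a2]; infer_instance
  have : IsIso a' := by
    refine @Triangle.isIso_of_isIsos _ _ _ _ _ a' ?_ ?_ ia'
    · rw [a1']; infer_instance
    · rw [a2']; infer_instance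
  exact ⟨isomorphic_distinguished _ hU _ (asIso a).symm, isomorphic_distinguished _ hU' _ (asIso a').symm⟩

theorem s6580 (T : Triangle D) (hT : T ∈ distTriang D) (a : T.obj₁ ⟶ T.obj₁) (c : T.obj₃ ⟶ T.obj₃)
    (ha : a ≫ a = a) (hc : c ≫ c = c) (comm : T.mor₃ ≫ (shiftFunctor D (1 : ℤ)).map a = c ≫ T.mor₃) :
    ∃ b : T.obj₂ ⟶ T.obj₂, b ≫ b = b ∧ T.mor₁ ≫ b = a ≫ T.mor₁ ∧ T.mor₂ ≫ c = b ≫ T.mor₂ := by
  obtain ⟨q, hq1, hq2⟩ := complete_distinguished_triangle_morphism₂ _ _ hT hT a c comm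
  let h := q ≫ q - q
  have f1 : T.mor₁ ≫ h = 0 := by
    simp [h, Preadditive.comp_sub, reassoc_of% hq1, hq1, reassoc_of% ha]
  have f2 : h ≫ T.mor₂ = 0 := by
    simp [h, Preadditive.sub_comp, ← hq2, ← reassoc_of% hq2, hc]
  obtain ⟨w, hw⟩ := Triangle.yoneda_exact₂ _ hT h f1
  have hh : h ≫ h = 0 := by nth_rw 2 [hw]; rw [reassoc_of% f2, zero_comp]
  refine ⟨q + h - (2 : ℕ) • (q ≫ h), ?_, ?_, ?_⟩
  · have qq : q ≫ q = q + h := by simp [h]
    have qh : h ≫ q = q ≫ h := by simp [h]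
    have qq' : ∀ {A : D} (z : T.obj₂ ⟶ A), q ≫ q ≫ z = q ≫ z + h ≫ z := fun z => by
      rw [← Category.assoc, qq, Preadditive.add_comp]
    have qh' : ∀ {A : D} (z : T.obj₂ ⟶ A), h ≫ q ≫ z = q ≫ h ≫ z := fun z => by
      rw [← Category.assoc, qh, Category.assoc]
    clear_value h
    set_option linter.unusedSimpArgs false in
    simp [Preadditive.add_comp, Preadditive.comp_add, Preadditive.sub_comp, Preadditive.comp_sub,
      two_smul, qq, qh, qq', qh', hh, reassoc_of% hh]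
  · simp [Preadditive.comp_add, Preadditive.comp_sub, two_smul, hq1, reassoc_of% hq1, f1]
  · simp [Preadditive.add_comp, Preadditive.sub_comp, two_smul, hq2, f2]

theorem s6600 [IsTriangulated D]
    (P : ObjectProperty D) [P.IsStableUnderShift ℤ] (T : Triangle D) (hT : T ∈ distTriang D) :
    P.rightOrthogonal T.obj₃ ↔ ∀ A : D, P A → Function.Bijective (fun u : A ⟶ T.obj₁ => u ≫ T.mor₁) := by
  constructor
  · intro h A hA
    refine ⟨fun a b e => ?_, fun w => ?_⟩
    · rw [← sub_eq_zero]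
      obtain ⟨g, hg⟩ := Triangle.coyoneda_exact₂ _ (inv_rot_of_distTriang _ hT) (a - b)
        (by simp [Preadditive.sub_comp]; simpa [sub_eq_zero] using! e)
      obtain ⟨g', rfl⟩ := ((shiftEquiv D (1:ℤ)).toAdjunction.homEquiv _ _).surjective g
      simp [hg, show g' = 0 from h g' (P.le_shift (1:ℤ) _ hA), Adjunction.homEquiv_unit]
    · obtain ⟨g, hg⟩ := Triangle.coyoneda_exact₂ _ hT w (h _ hA)
      exact ⟨g, hg.symm⟩
  · intro h X f hX
    obtain ⟨k, hk⟩ : ∃ k, (shiftFunctor D (1:ℤ)).map k =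
        ((shiftFunctorCompIsoId D (-1:ℤ) 1 (by simp)).hom.app X) ≫ f ≫ T.mor₃ :=
      (shiftFunctor D (1:ℤ)).map_surjective _
    have : k ≫ T.mor₁ = 0 := (shiftFunctor D (1:ℤ)).map_injective (by
      simp [hk, comp_distTriang_mor_zero₃₁ _ hT])
    have k0 : k = 0 := (h _ (P.le_shift (-1:ℤ) _ hX)).1 (this.trans zero_comp.symm)
    rw [k0, Functor.map_zero] at hk
    obtain ⟨g, rfl⟩ := Triangle.coyoneda_exact₃ _ hT f
      ((cancel_epi ((shiftFunctorCompIsoId D (-1:ℤ) 1 (by simp)).hom.app X)).1 (by rw [comp_zero]; exact hk.symm))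
    obtain ⟨u, rfl⟩ := (h _ hX).2 g
    simp [comp_distTriang_mor_zero₁₂ _ hT]

theorem s6601 [IsTriangulated D]
    (P : ObjectProperty D) [P.IsStableUnderShift ℤ] (T : Triangle D) (hT : T ∈ distTriang D) :
    P.leftOrthogonal T.obj₁ ↔ ∀ B : D, P B → Function.Bijective (fun u : T.obj₃ ⟶ B => T.mor₂ ≫ u) := by
  constructor
  · intro h A hA
    refine ⟨fun a b e => ?_, fun w => ?_⟩
    · rw [← sub_eq_zero]
      obtain ⟨g, hg⟩ := Triangle.yoneda_exact₃ _ hT (a - b)
        (by simp [Preadditive.comp_sub]; simpa [sub_eq_zero] using! e)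
      obtain ⟨g', rfl⟩ := ((shiftEquiv D (1:ℤ)).toAdjunction.homEquiv _ _).symm.surjective g
      simp [hg, show g' = 0 from h g' (P.le_shift (-1:ℤ) _ hA), Adjunction.homEquiv_counit]
    · obtain ⟨g, hg⟩ := Triangle.yoneda_exact₂ _ hT w (h _ hA)
      exact ⟨g, hg.symm⟩
  · intro h X f hX
    have h0 : T.mor₃ ≫ (shiftFunctor D (1:ℤ)).map f = 0 :=
      (h _ (P.le_shift (1:ℤ) _ hX)).1 (by simp [reassoc_of% (comp_distTriang_mor_zero₂₃ _ hT)])
    obtain ⟨g, hg⟩ := Triangle.yoneda_exact₃ _ (rot_of_distTriang _ hT) ((shiftFunctor D (1:ℤ)).map f) h0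
    dsimp at g hg
    obtain ⟨k, rfl⟩ := (shiftFunctor D (1:ℤ)).map_surjective g
    obtain ⟨u, rfl⟩ := (h _ hX).2 k
    apply (shiftFunctor D (1:ℤ)).map_injective
    simp [hg, ← Functor.map_comp, reassoc_of% (comp_distTriang_mor_zero₁₂ _ hT)]

end
end Groth.L10
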