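import Mathlib.CategoryTheory.Triangulated.Subcategory
import Mathlib.CategoryTheory.Triangulated.HomologicalFunctor
import Mathlib.CategoryTheory.Triangulated.Orthogonal
import Mathlib.CategoryTheory.Triangulated.Generators
import Mathlib.CategoryTheory.Triangulated.TStructure.TruncLTGE
import Mathlib.CategoryTheory.Localization.CalculusOfFractions.Preadditive
import Mathlib.CategoryTheory.Localization.Triangulated
import Mathlib.CategoryTheory.Adjunction.Comma
import Mathlib.Algebra.Homology.DerivedCategory.TStructure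

universe v u v' u' w
open CategoryTheory CategoryTheory.Limits CategoryTheory.Pretriangulated
open scoped ZeroObject

set_option backward.defeqAttrib.useBackward true
set_option backward.isDefEq.respectTransparency false
namespace Groth.L10

theorem isZero_map_iff_of_isEquivalence {E : Type u} [Category.{v} E] {E' : Type u'} [Category.{v'} E']
    (F : E ⥤ E') [F.IsEquivalence] (X : E) : IsZero (F.obj X) ↔ IsZero X := by
  constructor
  · intro h
    exact ⟨fun Y => ⟨⟨⟨F.preimage (h.to_ (F.obj Y))⟩, fun a => F.map_injective (h.eq_of_src _ _)⟩⟩,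
      fun Y => ⟨⟨⟨F.preimage (h.from_ (F.obj Y))⟩, fun a => F.map_injective (h.eq_of_tgt _ _)⟩⟩⟩
  · intro h
    have key : ∀ W, ∃ W', Nonempty (F.obj W' ≅ W) := fun W => ⟨F.objPreimage W, ⟨F.objObjPreimageIso W⟩⟩
    refine ⟨fun W => ?_, fun W => ?_⟩ <;> obtain ⟨W', ⟨e⟩⟩ := key W
    · exact ⟨⟨⟨F.map (h.to_ W') ≫ e.hom⟩, fun a => (cancel_mono e.inv).1 (by
        obtain ⟨b, hb⟩ := F.map_surjective (a ≫ e.inv)
        simp [← hb, h.eq_of_src b (h.to_ W')])⟩⟩
    · exact ⟨⟨⟨e.inv ≫ F.map (h.from_ W')⟩, fun a => (cancel_epi e.hom).1 (by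
        obtain ⟨b, hb⟩ := F.map_surjective (e.hom ≫ a)
        simp [← hb, h.eq_of_tgt b (h.from_ W')])⟩⟩

section
variable {D : Type u} [Category.{v} D] [Preadditive D] [HasZeroObject D] [HasShift D ℤ]
    [∀ n : ℤ, (shiftFunctor D n).Additive] [Pretriangulated D]

theorem extensionProduct_isTriangulated [IsTriangulated D] (P R : ObjectProperty D)
    [P.IsTriangulated] [R.IsTriangulated] (h : ∀ p r, P p → R r → ∀ f : p ⟶ r, f = 0) :
    (ObjectProperty.extensionProduct P R).IsTriangulated := by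
  have swap : ObjectProperty.extensionProduct R P ≤ ObjectProperty.extensionProduct P R := by
    intro X ⟨r, p, f, g, δ, hT, hr, hp⟩
    obtain ⟨e, -, -⟩ := exists_iso_binaryBiproduct_of_distTriang _ hT
      (h p _ hp (R.le_shift (1:ℤ) _ hr) δ)
    exact ObjectProperty.prop_of_iso _ ((biprod.braiding p r).trans e.symm)
      ⟨p, r, _, _, _, binaryBiproductTriangle_distinguished p r, hp, hr⟩
  refine
    { exists_zero := ?_
      isStableUnderShiftBy := fun n => inferInstance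
      toIsTriangulatedClosed₂ := .mk' ?_ }
  · obtain ⟨z, hz, hP⟩ := P.exists_prop_of_containsZero
    exact ⟨z, hz, ObjectProperty.le_extensionProduct_left (Q := R) z hP⟩
  · intro T hT h₁ h₃
    have H : ObjectProperty.extensionProduct (ObjectProperty.extensionProduct P R)
        (ObjectProperty.extensionProduct P R) T.obj₂ := ⟨_, _, _, _, _, hT, h₁, h₃⟩
    rw [ObjectProperty.extensionProduct_assoc, ← ObjectProperty.extensionProduct_assoc R P R] at H
    have H2 := ObjectProperty.monotone_extensionProduct_right P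
      (ObjectProperty.monotone_extensionProduct_left R swap) _ H
    rw [ObjectProperty.extensionProduct_assoc P R R, ← ObjectProperty.extensionProduct_assoc] at H2
    have H3 := ObjectProperty.monotone_extensionProduct_right _
      (ObjectProperty.extensionProduct_le_of_isTriangulatedClosed₂' le_rfl le_rfl) _ H2
    have H4 := ObjectProperty.monotone_extensionProduct_left _
      (ObjectProperty.extensionProduct_le_of_isTriangulatedClosed₂' (Q := P) le_rfl le_rfl) _ H3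
    rwa [ObjectProperty.extensionProduct_isoClosure_left, ObjectProperty.extensionProduct_isoClosure_right] at H4

theorem s0976 [IsTriangulated D] (P : ObjectProperty D) [P.IsTriangulated] :
    (ObjectProperty.extensionProduct P P.rightOrthogonal).IsTriangulated :=
  extensionProduct_isTriangulated _ _ (fun _ _ hp hr f => hr f hp)

theorem s6607 [IsTriangulated D] (B : ObjectProperty D) [B.IsTriangulated] :
    (ObjectProperty.extensionProduct B.leftOrthogonal B).IsTriangulated :=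
  extensionProduct_isTriangulated _ _ (fun _ _ hp hr f => hp f hr)

theorem s0490 (P : ObjectProperty D) [P.IsTriangulated] :
    P.ι.IsLeftAdjoint ↔ ∀ X : D, ∃ (A B : D) (f : A ⟶ X) (g : X ⟶ B) (h : B ⟶ A⟦(1 : ℤ)⟧),
      Triangle.mk f g h ∈ distTriang D ∧ P A ∧ P.rightOrthogonal B := by
  constructor
  · intro hL X
    let adj := Adjunction.ofIsLeftAdjoint P.ι
    let G := P.ι.rightAdjoint
    obtain ⟨B, g, h, hT⟩ := distinguished_cocone_triangle (adj.counit.app X)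
    refine ⟨_, B, _, g, h, hT, (G.obj X).2, ?_⟩
    intro W u hW
    have bij : ∀ V : D, P V → Function.Bijective (fun a : V ⟶ P.ι.obj (G.obj X) => a ≫ adj.counit.app X) := by
      intro V hV
      refine ⟨fun a b e => ?_, fun w => ?_⟩
      · obtain ⟨a, rfl⟩ : ∃ a' : (⟨V, hV⟩ : P.FullSubcategory) ⟶ G.obj X, P.ι.map a' = a := P.ι.map_surjective _
        obtain ⟨b, rfl⟩ : ∃ b' : (⟨V, hV⟩ : P.FullSubcategory) ⟶ G.obj X, P.ι.map b' = b := P.ι.map_surjective _
        congr 1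
        apply (adj.homEquiv _ _).symm.injective
        simp only [Adjunction.homEquiv_counit]
        exact e
      · refine ⟨P.ι.map (adj.homEquiv ⟨V, hV⟩ X w), ?_⟩
        have := (adj.homEquiv ⟨V, hV⟩ X).symm_apply_apply w
        rw [Adjunction.homEquiv_counit] at this
        exact this
    obtain ⟨k, hk⟩ : ∃ k, (shiftFunctor D (1:ℤ)).map k =
        ((shiftFunctorCompIsoId D (-1:ℤ) 1 (by simp)).hom.app W) ≫ u ≫ h :=
      (shiftFunctor D (1:ℤ)).map_surjective _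
    have z : h ≫ (adj.counit.app X)⟦(1:ℤ)⟧' = 0 := comp_distTriang_mor_zero₃₁ _ hT
    have : k ≫ adj.counit.app X = 0 := (shiftFunctor D (1:ℤ)).map_injective (by
      simp [hk, z])
    have k0 : k = 0 := (bij _ (P.le_shift (-1:ℤ) _ hW)).1 (this.trans zero_comp.symm)
    rw [k0, Functor.map_zero] at hk
    obtain ⟨v, rfl⟩ := Triangle.coyoneda_exact₃ _ hT u
      ((cancel_epi ((shiftFunctorCompIsoId D (-1:ℤ) 1 (by simp)).hom.app W)).1 (by rw [comp_zero]; exact hk.symm))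
    obtain ⟨a, rfl⟩ := (bij _ hW).2 v
    have z' : adj.counit.app X ≫ g = 0 := comp_distTriang_mor_zero₁₂ _ hT
    simp [z']
  · intro hdec
    rw [isLeftAdjoint_iff_hasTerminal_costructuredArrow]
    intro X
    obtain ⟨A, B, f, g, h, hT, hA, hB⟩ := hdec X
    have inj : ∀ (V : P.FullSubcategory) (a : V.obj ⟶ A), a ≫ f = 0 → a = 0 := fun V a ha => by
      obtain ⟨z, hz⟩ := Triangle.coyoneda_exact₂ _ (inv_rot_of_distTriang _ hT) a ha
      dsimp at z hz
      rw [hz, show z = 0 from (P.rightOrthogonal.le_shift (-1:ℤ) _ hB) z V.2, zero_comp]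
    have fac : ∀ (S : CostructuredArrow P.ι X), ∃ a, a ≫ f = S.hom := fun S => by
      obtain ⟨a, ha⟩ := Triangle.coyoneda_exact₂ _ hT S.hom (hB _ S.left.2)
      exact ⟨a, ha.symm⟩
    exact (IsTerminal.ofUniqueHom (Y := CostructuredArrow.mk (Y := (⟨A, hA⟩ : P.FullSubcategory)) (S := P.ι) f)
      (fun S => CostructuredArrow.homMk (P.fullyFaithfulι.preimage (fac S).choose) (by
        simpa using (fac S).choose_spec))
      (fun S m => by
        apply CostructuredArrow.hom_ext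
        apply P.ι.map_injective
        rw [← sub_eq_zero]
        refine inj S.left _ ?_
        have w := CostructuredArrow.w m
        simp at w
        simp [Preadditive.sub_comp, w, (fac S).choose_spec])).hasTerminal

theorem s6602 (P : ObjectProperty D) [P.IsTriangulated] :
    P.ι.IsRightAdjoint ↔ ∀ X : D, ∃ (A B : D) (f : A ⟶ X) (g : X ⟶ B) (h : B ⟶ A⟦(1 : ℤ)⟧),
      Triangle.mk f g h ∈ distTriang D ∧ P B ∧ P.leftOrthogonal A := by
  constructor
  · intro hL X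
    let adj := Adjunction.ofIsRightAdjoint P.ι
    let G := P.ι.leftAdjoint
    obtain ⟨A, f, h, hT⟩ := distinguished_cocone_triangle₁ (adj.unit.app X)
    refine ⟨A, _, f, _, h, hT, (G.obj X).2, ?_⟩
    intro W u hW
    have bij : ∀ V : D, P V → Function.Bijective (fun a : P.ι.obj (G.obj X) ⟶ V => adj.unit.app X ≫ a) := by
      intro V hV
      refine ⟨fun a b e => ?_, fun w => ?_⟩
      · obtain ⟨a, rfl⟩ : ∃ a' : G.obj X ⟶ (⟨V, hV⟩ : P.FullSubcategory), P.ι.map a' = a := P.ι.map_surjective _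
        obtain ⟨b, rfl⟩ : ∃ b' : G.obj X ⟶ (⟨V, hV⟩ : P.FullSubcategory), P.ι.map b' = b := P.ι.map_surjective _
        refine congrArg P.ι.map ?_
        apply (adj.homEquiv _ _).injective
        simp only [Adjunction.homEquiv_unit]
        exact e
      · refine ⟨P.ι.map ((adj.homEquiv X ⟨V, hV⟩).symm w), ?_⟩
        have := (adj.homEquiv X ⟨V, hV⟩).apply_symm_apply w
        rw [Adjunction.homEquiv_unit] at this
        exact this
    have z : adj.unit.app X ≫ h = 0 := comp_distTriang_mor_zero₂₃ _ hT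
    have h0 : h ≫ u⟦(1:ℤ)⟧' = 0 :=
      (bij _ (P.le_shift (1:ℤ) _ hW)).1 (by simp [reassoc_of% z])
    obtain ⟨v, hv⟩ := Triangle.yoneda_exact₃ _ (rot_of_distTriang _ hT) (u⟦(1:ℤ)⟧') h0
    dsimp at v hv
    obtain ⟨k, rfl⟩ := (shiftFunctor D (1:ℤ)).map_surjective v
    obtain ⟨a, rfl⟩ := (bij _ hW).2 k
    apply (shiftFunctor D (1:ℤ)).map_injective
    have z' : f ≫ adj.unit.app X = 0 := comp_distTriang_mor_zero₁₂ _ hT
    simp [hv, ← Functor.map_comp, reassoc_of% z']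
  · intro hdec
    rw [isRightAdjoint_iff_hasInitial_structuredArrow]
    intro X
    obtain ⟨A, B, f, g, h, hT, hB, hA⟩ := hdec X
    have inj : ∀ (V : P.FullSubcategory) (a : B ⟶ V.obj), g ≫ a = 0 → a = 0 := fun V a ha => by
      obtain ⟨z, hz⟩ := Triangle.yoneda_exact₃ _ hT a ha
      dsimp at z hz
      rw [hz, show z = 0 from (P.leftOrthogonal.le_shift (1:ℤ) _ hA) z V.2, comp_zero]
    have fac : ∀ (S : StructuredArrow X P.ι), ∃ a, g ≫ a = S.hom := fun S => by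
      obtain ⟨a, ha⟩ := Triangle.yoneda_exact₂ _ hT S.hom (hA _ S.right.2)
      exact ⟨a, ha.symm⟩
    exact (IsInitial.ofUniqueHom (X := StructuredArrow.mk (Y := (⟨B, hB⟩ : P.FullSubcategory)) (T := P.ι) g)
      (fun S => StructuredArrow.homMk (P.fullyFaithfulι.preimage (fac S).choose) (by
        simpa using (fac S).choose_spec))
      (fun S m => by
        apply StructuredArrow.hom_ext
        apply P.ι.map_injective
        rw [← sub_eq_zero]
        refine inj S.right _ ?_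
        have w := StructuredArrow.w m
        simp at w
        simp [Preadditive.comp_sub, w, (fac S).choose_spec])).hasInitial

theorem s0977 [IsTriangulated D]
    (A B : ObjectProperty D) [A.IsTriangulated] [A.IsClosedUnderIsomorphisms]
    [B.IsTriangulated] [B.IsClosedUnderIsomorphisms]
    (hAB : ∀ (a b : D), A a → B b → ∀ f : a ⟶ b, f = 0)
    (hdec : ∀ X : D, ∃ (a b : D) (f : a ⟶ X) (g : X ⟶ b) (h : b ⟶ a⟦(1 : ℤ)⟧),
      Triangle.mk f g h ∈ distTriang D ∧ A a ∧ B b) :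
    (A.ι ⋙ B.trW.Q).IsEquivalence := by
  have bij : ∀ (a : A.FullSubcategory) (Y : D),
      Function.Bijective (B.trW.Q.map : (a.obj ⟶ Y) → _) := fun a Y =>
    ObjectProperty.leftOrthogonal.map_bijective_of_isTriangulated (fun b f hb => hAB _ _ a.2 hb f) _ Y
  have : (A.ι ⋙ B.trW.Q).Faithful := ⟨fun {X Y} f g e => A.ι.map_injective ((bij X Y.obj).1 e)⟩
  have : (A.ι ⋙ B.trW.Q).Full := ⟨fun {X Y} f => by
    obtain ⟨g, hg⟩ := (bij X Y.obj).2 f
    exact ⟨A.fullyFaithfulι.preimage g, by simpa using hg⟩⟩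
  have : (A.ι ⋙ B.trW.Q).EssSurj := ⟨fun Y => by
    obtain ⟨X, rfl⟩ := (Localization.Construction.objEquiv B.trW).surjective Y
    obtain ⟨a, b, f, g, h, hT, ha, hb⟩ := hdec X
    have := Localization.inverts B.trW.Q B.trW f (ObjectProperty.trW.mk B hT hb)
    exact ⟨⟨a, ha⟩, ⟨asIso (B.trW.Q.map f)⟩⟩⟩
  exact { }

theorem s6603_aux (S : MorphismProperty D) [S.HasLeftCalculusOfFractions] [S.HasRightCalculusOfFractions]
    [S.IsCompatibleWithTriangulation] {E : Type u'} [Category.{v'} E] (Q : D ⥤ E) [Q.IsLocalization S] (Z : D) :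
    (IsZero (Q.obj Z) → (∃ Z' : D, S (0 : Z ⟶ Z')) ∧ (∃ Z' : D, S (0 : Z' ⟶ Z))) ∧
    ((∃ Z' : D, S (0 : Z ⟶ Z')) → IsZero (Q.obj Z)) ∧
    ((∃ Z' : D, S (0 : Z' ⟶ Z)) → IsZero (Q.obj Z)) := by
  letI := Localization.preadditive Q S
  have := Localization.functor_additive Q S
  refine ⟨fun h => ⟨?_, ?_⟩, ?_, ?_⟩
  · obtain ⟨Z', s, hs, e⟩ := (MorphismProperty.map_eq_iff_postcomp Q S (𝟙 Z) 0).1 (h.eq_of_src _ _)
    simp at e; exact ⟨Z', e ▸ hs⟩
  · obtain ⟨Z', s, hs, e⟩ := (MorphismProperty.map_eq_iff_precomp Q S (𝟙 Z) 0).1 (h.eq_of_src _ _)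
    simp at e; exact ⟨Z', e ▸ hs⟩
  · rintro ⟨Z', h⟩
    have := Localization.inverts Q S _ h
    rw [Functor.map_zero] at this
    rw [IsZero.iff_id_eq_zero, ← cancel_mono (0 : Q.obj Z ⟶ Q.obj Z')]
    simp
  · rintro ⟨Z', h⟩
    have := Localization.inverts Q S _ h
    rw [Functor.map_zero] at this
    rw [IsZero.iff_id_eq_zero, ← cancel_epi (0 : Q.obj Z' ⟶ Q.obj Z)]
    simp

theorem s6603 (S : MorphismProperty D) [S.HasLeftCalculusOfFractions] [S.HasRightCalculusOfFractions]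
    [S.IsCompatibleWithTriangulation]
    {E : Type u'} [Category.{v'} E] (Q : D ⥤ E) [Q.IsLocalization S] (Z : D) :
    (IsZero (Q.obj Z) ↔ ∃ Z' : D, S (0 : Z ⟶ Z')) ∧
    (IsZero (Q.obj Z) ↔ ∃ Z' : D, S (0 : Z' ⟶ Z)) ∧
    (IsZero (Q.obj Z) ↔ ∃ (Z' X Y : D) (f : X ⟶ Y) (g : Y ⟶ Z ⊞ Z') (h : Z ⊞ Z' ⟶ X⟦(1 : ℤ)⟧),
      Triangle.mk f g h ∈ distTriang D ∧ S f) := by
  obtain ⟨a, b, c⟩ := s6603_aux S Q Z
  refine ⟨⟨fun h => (a h).1, b⟩, ⟨fun h => (a h).2, c⟩, ⟨fun h => ?_, ?_⟩⟩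
  · obtain ⟨Z', hZ'⟩ := (a h).1
    have hs : S ((0 : Z ⟶ Z')⟦(-1:ℤ)⟧') := (MorphismProperty.IsCompatibleWithShift.iff S _ _).2 hZ'
    rw [Functor.map_zero] at hs
    have hT := inv_rot_of_distTriang _ (binaryBiproductTriangle_distinguished (Z'⟦(-1:ℤ)⟧) Z)
    obtain ⟨g, hh, hT⟩ : ∃ (g : Z'⟦(-1:ℤ)⟧ ⟶ Z'⟦(-1:ℤ)⟧ ⊞ Z) (hh : _ ⟶ Z⟦(-1:ℤ)⟧⟦(1:ℤ)⟧),
        Triangle.mk (0 : Z⟦(-1:ℤ)⟧ ⟶ Z'⟦(-1:ℤ)⟧) g hh ∈ distTriang D :=
      ⟨_, _, isomorphic_distinguished _ hT _
        (Triangle.isoMk _ _ (Iso.refl _) (Iso.refl _) (Iso.refl _) (by simp) (by simp; rfl) (by simp; rfl))⟩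
    refine ⟨Z'⟦(-1:ℤ)⟧, Z⟦(-1:ℤ)⟧, Z'⟦(-1:ℤ)⟧, 0, g ≫ (biprod.braiding _ _).hom, (biprod.braiding _ _).inv ≫ hh, ?_, hs⟩
    exact isomorphic_distinguished _ hT _ (Triangle.isoMk _ _ (Iso.refl _) (Iso.refl _) (biprod.braiding _ _).symm
      (by dsimp; simp) (by dsimp; simp) (by dsimp; simp))
  · rintro ⟨Z', X, Y, f, g, h, hT, hf⟩
    have idmem : S (𝟙 X) := S.id_mem X
    obtain ⟨c', hc', -, -⟩ := S.compatible_with_triangulation _ _ (contractible_distinguished X) hT (𝟙 X) f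
      idmem hf (by simp)
    rw [show c' = 0 from (isZero_zero D).eq_of_src _ _] at hc'
    have hzz := (s6603_aux S Q (Z ⊞ Z')).2.2 ⟨_, hc'⟩
    letI := Localization.preadditive Q S
    have := Localization.functor_additive Q S
    rw [IsZero.iff_id_eq_zero, ← Q.map_id, ← biprod.inl_fst (X := Z) (Y := Z'), Q.map_comp,
      hzz.eq_of_tgt (Q.map biprod.inl) 0, zero_comp]

theorem s6604 [IsTriangulated D] (B : ObjectProperty D) [B.IsTriangulated]
    {E : Type u'} [Category.{v'} E] (Q : D ⥤ E) [Q.IsLocalization B.trW] (Z : D) :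
    IsZero (Q.obj Z) ↔ ∃ (Z' Y : D), B Y ∧ Nonempty (Z ⊞ Z' ≅ Y) := by
  rw [(s6603 B.trW Q Z).2.2]
  constructor
  · rintro ⟨Z', X, Y, f, g, h, hT, hf⟩
    rw [← ObjectProperty.trW_isoClosure] at hf
    obtain ⟨W, hW, ⟨e⟩⟩ := (B.isoClosure.trW_iff_of_distinguished _ hT).1 hf
    exact ⟨Z', W, hW, ⟨e⟩⟩
  · rintro ⟨Z', Y, hY, ⟨e⟩⟩
    refine ⟨Z', _, _, _, _, _, inv_rot_of_distTriang _ (contractible_distinguished₁ (Z ⊞ Z')), ?_⟩
    rw [← ObjectProperty.trW_isoClosure]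
    exact ObjectProperty.trW.mk _ (inv_rot_of_distTriang _ (contractible_distinguished₁ (Z ⊞ Z'))) ⟨Y, hY, ⟨e⟩⟩

theorem s6621 [IsTriangulated D]
    (S : MorphismProperty D) [S.HasLeftCalculusOfFractions] [S.HasRightCalculusOfFractions] [S.IsCompatibleWithTriangulation]
    {E : Type u'} [Category.{v'} E] (Q : D ⥤ E) [Q.IsLocalization S] {X Y : D} (f : X ⟶ Y) :
    ObjectProperty.trW (fun Z : D => IsZero (Q.obj Z)) f ↔ IsIso (Q.map f) := by
  let e := Localization.compUniqFunctor S.Q Q S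
  let K := (Localization.uniq S.Q Q S).functor
  have hz : ∀ Z, IsZero (Q.obj Z) ↔ IsZero (S.Q.obj Z) := fun Z =>
    (e.app Z).symm.isZero_iff.trans (isZero_map_iff_of_isEquivalence K _)
  have hi : IsIso (Q.map f) ↔ IsIso (S.Q.map f) :=
    (NatIso.isIso_map_iff e f).symm.trans (isIso_iff_of_reflects_iso (S.Q.map f) K)
  obtain ⟨C, g, h, hT⟩ := distinguished_cocone_triangle f
  have : ObjectProperty.IsClosedUnderIsomorphisms (fun Z : D => IsZero (Q.obj Z)) :=
    ⟨fun i h => h.of_iso (Q.mapIso i.symm)⟩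
  rw [show ObjectProperty.trW _ f ↔ _ from ObjectProperty.trW_iff_of_distinguished _ _ hT, hi]
  exact (hz C).trans (Triangle.isZero₃_iff_isIso₁ _ (S.Q.map_distinguished _ hT))

theorem s11143 {S : Type u} [Category.{v} S] [Limits.HasZeroObject S] [Preadditive S] [HasShift S ℤ]
    [∀ n : ℤ, (shiftFunctor S n).Additive] [Pretriangulated S]
    {T : Type u'} [Category.{v'} T] [Limits.HasZeroObject T] [Preadditive T] [HasShift T ℤ]
    [∀ n : ℤ, (shiftFunctor T n).Additive] [Pretriangulated T]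
    (tS : Triangulated.TStructure S) (tT : Triangulated.TStructure T) (F : S ⥤ T) [F.CommShift ℤ] [F.IsTriangulated]
    (G : T ⥤ S) (adj : F ⊣ G) (d : ℤ)
    (hF : ∀ X : S, tS.IsLE X 0 → tT.IsLE (F.obj X) d) (Y : T) (hY : tT.IsGE Y 0) :
    tS.IsGE (G.obj Y) (-d) := by
  rw [tS.isGE_iff_orthogonal (-d-1) (-d) (by omega)]
  intro W f hW
  have := tS.isLE_shift W (-d-1) (-d-1) 0 (by omega)
  have h1 := hF _ this
  haveI : tT.IsLE ((shiftFunctor S (-d-1) ⋙ F).obj W) d := h1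
  have h2 : tT.IsLE ((F.obj W)⟦(-d-1)⟧) d := tT.isLE_of_iso ((F.commShiftIso (-d-1)).app W) d
  have h3 := tT.isLE_of_shift (F.obj W) (-1) (-d-1) d (by omega)
  apply (adj.homEquiv _ _).symm.injective
  rw [tT.zero ((adj.homEquiv _ _).symm f) (-1) 0 (by omega), Adjunction.homEquiv_counit, F.map_zero, zero_comp]

theorem s1043 (T T' : Triangle D) (hT : T ∈ distTriang D) (hT' : T' ∈ distTriang D)
    (φ ψ : T ⟶ T') (h₁ : φ.hom₁ = ψ.hom₁) (h₃ : φ.hom₃ = ψ.hom₃)
    (hc : (∀ u : T.obj₂ ⟶ T'.obj₁, u = 0) ∨ (∀ u : T.obj₃ ⟶ T'.obj₂, u = 0) ∨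
      ((∀ u : T.obj₁ ⟶ T'.obj₁, u = 0) ∧ (∀ u : T.obj₃ ⟶ T'.obj₁, u = 0)) ∨
      ((∀ u : T.obj₃ ⟶ T'.obj₁, u = 0) ∧ (∀ u : T.obj₃ ⟶ T'.obj₃, u = 0)) ∨
      ((∀ u : T.obj₁⟦(1 : ℤ)⟧ ⟶ T'.obj₃, u = 0) ∧ (∀ u : T.obj₃ ⟶ T'.obj₁, u = 0))) :
    φ.hom₂ = ψ.hom₂ := by
  rw [← sub_eq_zero]
  have a : T.mor₁ ≫ (φ.hom₂ - ψ.hom₂) = 0 := by rw [Preadditive.comp_sub, φ.comm₁, ψ.comm₁, h₁, sub_self]
  have b : (φ.hom₂ - ψ.hom₂) ≫ T'.mor₂ = 0 := by rw [Preadditive.sub_comp, ← φ.comm₂, ← ψ.comm₂, h₃, sub_self]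
  obtain ⟨u, hu⟩ := Triangle.yoneda_exact₂ _ hT _ a
  obtain ⟨v, hv⟩ := Triangle.coyoneda_exact₂ _ hT' _ b
  rcases hc with h | h | ⟨h, h'⟩ | ⟨h', h⟩ | ⟨h, h'⟩
  · simp [hv, h v]
  · simp [hu, h u]
  · obtain ⟨w, hw⟩ := Triangle.yoneda_exact₂ _ hT v (h _)
    simp [hv, hw, h' w]
  · obtain ⟨w, hw⟩ := Triangle.coyoneda_exact₂ _ hT' u (h _)
    simp [hu, hw, h' w]
  · obtain ⟨k, hk⟩ := Triangle.yoneda_exact₃ _ hT (u ≫ T'.mor₂) (by rw [← Category.assoc, ← hu, b])
    obtain ⟨w, hw⟩ := Triangle.coyoneda_exact₂ _ hT' u (by rw [hk, h k, comp_zero])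
    simp [hu, hw, h' w]

theorem s7881 {ι : Type w} (S : ι → D)
    (hS : ∀ (K : D), (∀ (i : ι) (n : ℤ) (f : S i ⟶ K⟦n⟧), f = 0) → IsZero K) {X Y : D} (f : X ⟶ Y) :
    IsIso f ↔ ∀ (i : ι) (n : ℤ), Function.Bijective (fun g : S i ⟶ X⟦n⟧ => g ≫ f⟦n⟧') := by
  constructor
  · intro _ i n
    exact ((asIso (f⟦n⟧')).homToEquiv).bijective
  · intro h
    obtain ⟨C, g, k, hT⟩ := distinguished_cocone_triangle f
    apply (Triangle.isZero₃_iff_isIso₁ _ hT).1
    refine hS C fun i n e => ?_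
    have hTn := Triangle.shift_distinguished _ hT n
    have inj : ∀ x : S i ⟶ X⟦n⟧⟦(1:ℤ)⟧, x ≫ f⟦n⟧'⟦(1:ℤ)⟧' = 0 → x = 0 := fun x hx => by
      apply (cancel_mono ((shiftFunctorAdd D n 1).inv.app X)).1
      rw [zero_comp]
      apply (h i (n+1)).1
      dsimp only
      rw [zero_comp]
      change (x ≫ (shiftFunctorAdd D n 1).inv.app X) ≫ f⟦n+1⟧' = 0
      have := (shiftFunctorAdd D n 1).inv.naturality f
      dsimp at this
      rw [Category.assoc, ← this, reassoc_of% hx, zero_comp]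
    have e1 : e ≫ ((Triangle.shiftFunctor D n).obj (Triangle.mk f g k)).mor₃ = 0 := inj _ (by
      have := comp_distTriang_mor_zero₃₁ _ hTn
      dsimp at this ⊢
      simp only [Functor.map_units_smul, Linear.comp_units_smul, Linear.units_smul_comp, smul_eq_zero_iff_eq] at this ⊢
      rw [Category.assoc, this, comp_zero])
    obtain ⟨u, hu⟩ := Triangle.coyoneda_exact₃ _ hTn e e1
    obtain ⟨w, hw⟩ := (h i n).2 u
    dsimp at u hu hw
    rw [hu, ← hw]
    have := comp_distTriang_mor_zero₁₂ _ hTn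
    dsimp at this
    simp only [Linear.units_smul_comp, smul_eq_zero_iff_eq, Linear.comp_units_smul] at this ⊢
    rw [Category.assoc, this, comp_zero]

end
end Groth.L10
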