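import Groth.Agent.L10.Triang2
import Mathlib.Algebra.Homology.DerivedCategory.TStructure
import Mathlib.CategoryTheory.Adjunction.FullyFaithful
import Mathlib.CategoryTheory.Adjunction.Additive

universe v u v' u' w
open CategoryTheory CategoryTheory.Limits CategoryTheory.Pretriangulated
open scoped ZeroObject

set_option backward.defeqAttrib.useBackward true
set_option backward.isDefEq.respectTransparency false
namespace Groth.L10

section
variable {D : Type u} [Category.{v} D] [Preadditive D] [HasZeroObject D] [HasShift D ℤ]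
    [∀ n : ℤ, (shiftFunctor D n).Additive] [Pretriangulated D]

theorem s0969 {D' : Type u'} [Category.{v'} D'] [Preadditive D'] [Limits.HasZeroObject D'] [HasShift D' ℤ]
    [∀ n : ℤ, (shiftFunctor D' n).Additive] [Pretriangulated D']
    (F : D ⥤ D') [F.CommShift ℤ] [F.IsTriangulated] (G : D' ⥤ D) [G.CommShift ℤ] [G.IsTriangulated]
    (adj : F ⊣ G) [F.Full] [F.Faithful] (hG : ∀ X : D', Limits.IsZero (G.obj X) → Limits.IsZero X) :
    F.IsEquivalence := by
  have hX : ∀ X, IsIso (adj.counit.app X) := fun X => by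
    obtain ⟨C, g, h, hT⟩ := distinguished_cocone_triangle (adj.counit.app X)
    refine (Triangle.isZero₃_iff_isIso₁ _ hT).1 (hG _ ?_)
    refine (Triangle.isZero₃_iff_isIso₁ _ (G.map_distinguished _ hT)).2 ?_
    have h1 := adj.right_triangle_components X
    change IsIso (G.map (adj.counit.app X))
    rw [IsIso.eq_inv_of_hom_inv_id h1]
    infer_instance
  have : IsIso adj.counit := NatIso.isIso_of_isIso_app _
  exact adj.toEquivalence.isEquivalence_functor

theorem s14491 {C : Type u'} [Category.{v'} C] [Abelian C]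
    [HasDerivedCategory.{w} C] {E F G : DerivedCategory C} (u : E ⟶ F) (v : F ⟶ G)
    [E.IsLE 0] [G.IsGE 0] (w w' : G ⟶ E⟦(1 : ℤ)⟧)
    (hw : Triangle.mk u v w ∈ distTriang (DerivedCategory C))
    (hw' : Triangle.mk u v w' ∈ distTriang (DerivedCategory C)) : w = w' := by
  obtain ⟨c, hc1, hc2⟩ := complete_distinguished_triangle_morphism _ _ hw hw' (𝟙 E) (𝟙 F) (by simp)
  dsimp at c hc1 hc2
  have h : v ≫ (c - 𝟙 G) = 0 := by simp [Preadditive.comp_sub, hc1]
  obtain ⟨k, hk⟩ := Triangle.yoneda_exact₃ _ hw (c - 𝟙 G) h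
  dsimp at k hk
  let t := DerivedCategory.TStructure.t (C := C)
  have hE : t.IsLE E 0 := inferInstance
  have := t.isLE_shift E 0 1 (-1) (by omega)
  have hk0 : k = 0 := t.zero k (-1) 0 (by omega)
  rw [hk0, comp_zero, sub_eq_zero] at hk
  simpa [hk] using hc2

def BiprodClosed (P : ObjectProperty D) : Prop := ∀ X Y : D, P X → P Y → P (X ⊞ Y)

theorem biprodClosed_retractClosure {P : ObjectProperty D} (h : BiprodClosed P) : BiprodClosed P.retractClosure := by
  rintro X Y ⟨X', hX, ⟨r⟩⟩ ⟨Y', hY, ⟨s⟩⟩
  exact ⟨X' ⊞ Y', h _ _ hX hY, ⟨⟨biprod.map r.i s.i, biprod.map r.r s.r, by ext <;> simp⟩⟩⟩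

theorem biprodClosed_extensionProduct {P Q : ObjectProperty D} (hP : BiprodClosed P) (hQ : BiprodClosed Q) :
    BiprodClosed (ObjectProperty.extensionProduct P Q) := by
  rintro X X' ⟨A, B, f, g, h, hT, hA, hB⟩ ⟨A', B', f', g', h', hT', hA', hB'⟩
  exact ⟨_, _, _, _, _, biprodTriangle_dist _ _ hT hT', hP _ _ hA hA', hQ _ _ hB hB'⟩

theorem biprodClosed_triangEnvelopeIter (P : ObjectProperty D) (n : ℕ) : BiprodClosed (P.triangEnvelopeIter n) := by
  have h0 : BiprodClosed (P.shiftClosure ℤ).binaryProductsClosure.retractClosure :=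
    biprodClosed_retractClosure fun X Y hX hY => by
      have : ((P.shiftClosure ℤ).binaryProductsClosure).IsClosedUnderIsomorphisms := inferInstance
      exact ObjectProperty.prop_of_iso _ (biprod.isoProd X Y).symm (ObjectProperty.prop_prod _ X Y hX hY)
  induction n with
  | zero => rw [ObjectProperty.triangEnvelopeIter_zero]; exact h0
  | succ n ih =>
    rw [ObjectProperty.triangEnvelopeIter_succ]
    exact biprodClosed_retractClosure (biprodClosed_extensionProduct h0 ih)

theorem s1031 [IsTriangulated D]
    (G E : D) (hG : ObjectProperty.IsStrongTriangulatedGenerator (fun X : D => X = G))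
    (hE : ObjectProperty.IsClassicalTriangulatedGenerator (fun X : D => X = E)) :
    ObjectProperty.IsStrongTriangulatedGenerator (fun X : D => X = E) := by
  obtain ⟨m, hm⟩ := hG
  let PE : ObjectProperty D := fun X => X = E
  let PG : ObjectProperty D := fun X => X = G
  have : PE.Nonempty := ObjectProperty.nonempty_of_prop (show PE E from rfl)
  obtain ⟨n, hn⟩ := (PE.prop_triangEnvelope_iff G).1 (by rw [show PE.triangEnvelope = ⊤ from hE]; trivial)
  let R := PE.triangEnvelopeIter n
  have : R.IsStableUnderShift ℤ := inferInstance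
  have : R.IsStableUnderRetracts := inferInstance
  have : R.IsClosedUnderBinaryProducts :=
    ⟨by
      rintro X ⟨p⟩
      refine R.prop_of_iso ?_ (biprodClosed_triangEnvelopeIter PE n _ _
        (p.prop_diag_obj (.mk .left)) (p.prop_diag_obj (.mk .right)))
      exact (biprod.isoProd _ _).trans (IsLimit.conePointUniqueUpToIso (prodIsProd _ _)
        ((IsLimit.postcomposeHomEquiv (diagramIsoPair p.diag) _).2 p.isLimit))⟩
  have base : (PG.shiftClosure ℤ).binaryProductsClosure.retractClosure ≤ R := by
    rw [ObjectProperty.retractClosure_le_iff]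
    refine ObjectProperty.limitsClosure_le ?_
    rw [ObjectProperty.shiftClosure_le_iff]
    intro X hX
    obtain rfl : X = G := hX
    exact hn
  have key : ∀ k, ∃ N, PG.triangEnvelopeIter k ≤ PE.triangEnvelopeIter N := by
    intro k
    induction k with
    | zero => exact ⟨n, by rw [ObjectProperty.triangEnvelopeIter_zero]; exact base⟩
    | succ k ih =>
      obtain ⟨N, hN⟩ := ih
      refine ⟨n + (N + 1), ?_⟩
      rw [ObjectProperty.triangEnvelopeIter_succ, PE.triangEnvelopeIter_add' rfl]
      exact ObjectProperty.monotone_retractClosure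
        ((ObjectProperty.monotone_extensionProduct_left _ base).trans (ObjectProperty.monotone_extensionProduct_right _ hN))
  obtain ⟨N, hN⟩ := key m
  exact ⟨N, top_le_iff.1 (hm ▸ hN)⟩

end
end Groth.L10
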