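import Groth.Agent.L10.DerTrunc

/-! Factoring composites through canonical truncations. -/

universe v u w
open CategoryTheory CategoryTheory.Limits CategoryTheory.Pretriangulated CategoryTheory.Triangulated

set_option backward.defeqAttrib.useBackward true
set_option backward.isDefEq.respectTransparency false
namespace Groth.L10.TruncFactor
open DerivedCategory

variable {A : Type u} [Category.{v} A] [Abelian A] [HasDerivedCategory.{w} A]

local notation "tt" => DerivedCategory.TStructure.t (C := A)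

theorem h_Q_map_eq_zero {K L : CochainComplex A ℤ} (f : K ⟶ L) (m : ℤ) (hf : HomologicalComplex.homologyMap f m = 0) :
    (homologyFunctor A m).map (Q.map f) = 0 := by
  have h := (homologyFunctorFactors A m).hom.naturality f
  simp only [Functor.comp_map, HomologicalComplex.homologyFunctor_map, hf, comp_zero] at h
  exact (cancel_mono ((homologyFunctorFactors A m).hom.app L)).1 (by rw [h, zero_comp])

theorem isIso_h_Q_map {K L : CochainComplex A ℤ} (f : K ⟶ L) (m : ℤ) [QuasiIsoAt f m] :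
    IsIso ((homologyFunctor A m).map (Q.map f)) := by
  refine (NatIso.isIso_map_iff (homologyFunctorFactors A m) f).2 ?_
  exact inferInstanceAs (IsIso (HomologicalComplex.homologyMap f m))

theorem isGE_Q_truncGE (K : CochainComplex A ℤ) (n : ℤ) : (Q.obj (K.truncGE n)).IsGE n :=
  ⟨K.truncGE n, Iso.refl _, inferInstance⟩

theorem isLE_Q_truncLE (K : CochainComplex A ℤ) (n : ℤ) : (Q.obj (K.truncLE n)).IsLE n :=
  ⟨K.truncLE n, Iso.refl _, inferInstance⟩

theorem factor_GE (K : CochainComplex A ℤ) (n : ℤ) {Z : DerivedCategory A} (g : Q.obj K ⟶ Z) (m : ℤ) [Z.IsGE m]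
    (hmn : n ≤ m + 1) (hm : (homologyFunctor A m).map g = 0) :
    ∃ g', Q.map (K.πTruncGE n) ≫ g' = g := by
  have h0 : ((tt).truncLTι n).app (Q.obj K) ≫ g = 0 := by
    have : DerivedCategory.IsLE (((tt).truncLT n).obj (Q.obj K)) m := (tt).isLE_truncLT_obj _ _ _ hmn
    refine eq_zero_of_H_eq_zero m _ ?_
    rw [Functor.map_comp, hm, comp_zero]
  obtain ⟨g₁, hg₁⟩ := Triangle.yoneda_exact₂ _ ((tt).triangleLTGE_distinguished n (Q.obj K)) g h0
  have := isGE_Q_truncGE K n
  let d := (tt).descTruncGE (Q.map (K.πTruncGE n)) n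
  have hd : ((tt).truncGEπ n).app _ ≫ d = Q.map (K.πTruncGE n) := (tt).π_descTruncGE _ n
  have : IsIso d := (DerivedCategory.isIso_iff A d).2 fun i => by
    by_cases hi : n ≤ i
    · have := CochainComplex.quasiIsoAt_πTruncGE K n i hi
      have := isIso_h_Q_map (K.πTruncGE n) i
      have := isIso_H_π n i hi (Q.obj K)
      exact IsIso.of_isIso_fac_left (f := (homologyFunctor A i).map (((tt).truncGEπ n).app (Q.obj K)))
        (by rw [← Functor.map_comp, hd])
    · exact (isZero_H_GE n i (by omega) _).isIso (DerivedCategory.isZero_of_isGE _ n i (by omega)) _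
  exact ⟨inv d ≫ g₁, by rw [← hd, Category.assoc, IsIso.hom_inv_id_assoc]; exact hg₁.symm⟩

theorem factor_LE (K : CochainComplex A ℤ) (n : ℤ) {X : DerivedCategory A} (g : X ⟶ Q.obj K) (m : ℤ) [X.IsLE m]
    (hmn : m ≤ n + 1) (hm : (homologyFunctor A m).map g = 0) :
    ∃ g', g' ≫ Q.map (K.ιTruncLE n) = g := by
  have h0 : g ≫ ((tt).truncGEπ (n + 1)).app (Q.obj K) = 0 := by
    have : DerivedCategory.IsGE (((tt).truncGE (n+1)).obj (Q.obj K)) m := (tt).isGE_of_ge _ m (n+1) hmn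
    refine eq_zero_of_H_eq_zero m _ ?_
    rw [Functor.map_comp, hm, zero_comp]
  obtain ⟨g₁, hg₁⟩ := Triangle.coyoneda_exact₂ _ ((tt).triangleLTGE_distinguished (n+1) (Q.obj K)) g h0
  have := isLE_Q_truncLE K n
  let d := (tt).liftTruncLT (Q.map (K.ιTruncLE n)) n (n+1) rfl
  have hd : d ≫ ((tt).truncLTι (n+1)).app _ = Q.map (K.ιTruncLE n) := (tt).liftTruncLT_ι _ n (n+1) rfl
  have : IsIso d := (DerivedCategory.isIso_iff A d).2 fun i => by
    by_cases hi : i ≤ n
    · have := CochainComplex.quasiIsoAt_ιTruncLE K n i hi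
      have := isIso_h_Q_map (K.ιTruncLE n) i
      have := isIso_H_ι (n+1) i (by omega) (Q.obj K)
      have : IsIso ((homologyFunctor A i).map d ≫ (homologyFunctor A i).map (((tt).truncLTι (n+1)).app (Q.obj K))) := by
        rw [← Functor.map_comp, hd]; infer_instance
      exact IsIso.of_isIso_comp_right _ ((homologyFunctor A i).map (((tt).truncLTι (n+1)).app (Q.obj K)))
    · exact (DerivedCategory.isZero_of_isLE _ n i (by omega)).isIso (isZero_H_LT (n+1) i (by omega) _) _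
  exact ⟨g₁ ≫ inv d, by rw [← hd, Category.assoc, IsIso.inv_hom_id_assoc]; exact hg₁.symm⟩

theorem composite_GE (K : ℕᵒᵖ ⥤ CochainComplex A ℤ) (n : ℕ)
    (h0 : ∀ i : ℤ, i < 0 → IsZero ((K.obj (Opposite.op 0)).homology i))
    (hz : ∀ j : ℕ, j < n → HomologicalComplex.homologyMap (K.map (homOfLE (Nat.le_succ j)).op) (j : ℤ) = 0) :
    ∃ φ : DerivedCategory.Q.obj ((K.obj (Opposite.op n)).truncGE (n : ℤ)) ⟶ DerivedCategory.Q.obj (K.obj (Opposite.op 0)),
      DerivedCategory.Q.map ((K.obj (Opposite.op n)).πTruncGE (n : ℤ)) ≫ φ = DerivedCategory.Q.map (K.map (homOfLE (Nat.zero_le n)).op) := by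
  induction n with
  | zero =>
    have h : (K.obj (Opposite.op 0)).IsGE 0 := (CochainComplex.isGE_iff _ _).2 fun i hi => by
      rw [HomologicalComplex.exactAt_iff_isZero_homology]; exact h0 i hi
    have := (CochainComplex.quasiIso_πTruncGE_iff (K.obj (Opposite.op 0)) 0).2 h
    refine ⟨inv (Q.map ((K.obj (Opposite.op 0)).πTruncGE ((0:ℕ):ℤ))), ?_⟩
    rw [IsIso.hom_inv_id, show (homOfLE (Nat.zero_le 0)).op = 𝟙 _ from rfl, K.map_id, Q.map_id]
  | succ n ih =>
    obtain ⟨φ, hφ⟩ := ih fun j hj => hz j (by omega)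
    have := isGE_Q_truncGE (K.obj (Opposite.op n)) n
    obtain ⟨g', hg'⟩ := factor_GE (K.obj (Opposite.op (n+1))) ((n+1 : ℕ) : ℤ)
      (Q.map (K.map (homOfLE (Nat.le_succ n)).op) ≫ Q.map ((K.obj (Opposite.op n)).πTruncGE (n : ℤ))) (n : ℤ)
      (by omega) (by rw [Functor.map_comp, h_Q_map_eq_zero _ _ (hz n (by omega)), zero_comp])
    refine ⟨g' ≫ φ, ?_⟩
    rw [← Category.assoc, hg', Category.assoc, hφ, ← Q.map_comp, ← K.map_comp]
    rfl

theorem composite_LE (K : ℕ ⥤ CochainComplex A ℤ) (n : ℕ)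
    (h0 : ∀ i : ℤ, 0 < i → IsZero ((K.obj 0).homology i))
    (hz : ∀ j : ℕ, j < n → HomologicalComplex.homologyMap (K.map (homOfLE (Nat.le_succ j))) (-(j : ℤ)) = 0) :
    ∃ φ : DerivedCategory.Q.obj (K.obj 0) ⟶ DerivedCategory.Q.obj ((K.obj n).truncLE (-(n : ℤ))),
      φ ≫ DerivedCategory.Q.map ((K.obj n).ιTruncLE (-(n : ℤ))) = DerivedCategory.Q.map (K.map (homOfLE (Nat.zero_le n))) := by
  induction n with
  | zero =>
    have h : (K.obj 0).IsLE (-((0:ℕ):ℤ)) := (CochainComplex.isLE_iff _ _).2 fun i hi => by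
      rw [HomologicalComplex.exactAt_iff_isZero_homology]; exact h0 i (by simpa using hi)
    have := (CochainComplex.quasiIso_ιTruncLE_iff (K.obj 0) (-((0:ℕ):ℤ))).2 h
    refine ⟨inv (Q.map ((K.obj 0).ιTruncLE (-((0:ℕ):ℤ)))), ?_⟩
    rw [IsIso.inv_hom_id, show homOfLE (Nat.zero_le 0) = 𝟙 _ from rfl, K.map_id, Q.map_id]
  | succ n ih =>
    obtain ⟨φ, hφ⟩ := ih fun j hj => hz j (by omega)
    have := isLE_Q_truncLE (K.obj n) (-(n : ℤ))
    obtain ⟨g', hg'⟩ := factor_LE (K.obj (n+1)) (-((n+1 : ℕ) : ℤ))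
      (Q.map ((K.obj n).ιTruncLE (-(n : ℤ))) ≫ Q.map (K.map (homOfLE (Nat.le_succ n)))) (-(n : ℤ))
      (by omega) (by rw [Functor.map_comp, h_Q_map_eq_zero _ _ (hz n (by omega)), comp_zero])
    refine ⟨φ ≫ g', ?_⟩
    rw [Category.assoc, hg', ← Category.assoc, hφ, ← Q.map_comp, ← K.map_comp]
    rfl

end Groth.L10.TruncFactor
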