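import Groth.Agent.L10.TwoTopHom

/-! Abstract form of the inductive step for comparing two topologies. -/

universe v u v' u'

open CategoryTheory CategoryTheory.Limits HomologicalComplex

set_option backward.defeqAttrib.useBackward true
set_option backward.isDefEq.respectTransparency false

namespace Groth.L10.TwoTopAbstract

open Groth.L10.LeftExactHom

variable {A : Type u} [Category.{v} A] [Abelian A] [EnoughInjectives A]
  {B : Type u'} [Category.{v'} B] [Abelian B] [EnoughInjectives B]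
  {ε : A ⥤ B} [ε.Additive] [PreservesFiniteLimits ε] [ε.Full] [ε.Faithful]
  {a : B ⥤ A} (adj : a ⊣ ε) [PreservesFiniteLimits a] [a.Additive]
  {Φ : A ⥤ A} [Φ.Additive] {Φ' : B ⥤ B} [Φ'.Additive] [PreservesFiniteLimits Φ']
  (η : 𝟭 A ⟶ Φ) (η' : 𝟭 B ⟶ Φ') (c : Φ ⋙ ε ≅ ε ⋙ Φ')
  (hc : ∀ M, ε.map (η.app M) ≫ c.hom.app M = η'.app (ε.obj M))
  (P : ObjectProperty B) [WSerre.IsWeakSerre P] (hP : P ≤ ε.essImage)
  (hΦ : ∀ (j : ℕ) (M : B), P M → P ((Φ'.rightDerived j).obj M))
  (hε : ∀ M : A, Injective M → Injective (ε.obj M))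
  (hmono : ∀ M : A, Injective M → Mono (η.app M) ∧ Injective (Φ.obj M))

theorem homology_zero_iso (I : CochainComplex A ℕ) :
    Nonempty ((img ε I).cycles 0 ≅ ε.obj (I.homology 0)) := by
  have := I.isIso_homologyπ 0 0 (CochainComplex.prev_nat_zero) (I.shape _ _ (by simp))
  exact ⟨cyc ε I 0 ≪≫ ε.mapIso (asIso (I.homologyπ 0))⟩

omit [ε.Full] [ε.Faithful] [EnoughInjectives B] in
theorem exactAt_img (I : CochainComplex A ℕ) (hI : ∀ i, Injective (I.X i)) (hex : ∀ i, 1 ≤ i → I.ExactAt i) (m : ℕ)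
    (hV : ∀ j, j + 1 ≤ m → IsZero ((ε.rightDerived (j + 1)).obj (I.homology 0))) (i : ℕ) (h1 : 1 ≤ i) (h2 : i ≤ m) :
    (img ε I).ExactAt i := by
  obtain ⟨k, rfl⟩ : ∃ k, i = k + 1 := ⟨i - 1, by omega⟩
  rw [exactAt_iff_isZero_homology]
  obtain ⟨e⟩ := nonempty_homology_iso_rightDerived ε I hI k (fun i h _ => hex i h)
  have := I.isIso_homologyπ 0 0 (CochainComplex.prev_nat_zero) (I.shape _ _ (by simp))
  exact (hV k h2).of_iso (e ≪≫ (ε.rightDerived (k + 1)).mapIso (asIso (I.homologyπ 0)))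

include adj c hc hP hΦ hε hmono in
/-- The inductive step. -/
theorem main (m : ℕ) (hV : ∀ M : A, P (ε.obj M) → ∀ j, j + 1 ≤ m → IsZero ((ε.rightDerived (j + 1)).obj M))
    (I : CochainComplex A ℕ) (hI : ∀ i, Injective (I.X i)) (hex : ∀ i, 1 ≤ i → I.ExactAt i)
    (hF : P (ε.obj (I.homology 0))) :
    Mono (homologyMap (ηC η' (img ε I)) (m + 1)) ∧
    ∃ (G : B) (ι : G ⟶ (img Φ' (img ε I)).homology (m + 1)) (w : ι ≫ ν Φ' (img ε I) (m + 1) = 0),
      Mono ι ∧ (ShortComplex.mk ι (ν Φ' (img ε I) (m + 1)) w).Exact ∧ P G := by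
  let T := img ε I
  have hTI : ∀ i, Injective (T.X i) := fun i => hε _ (hI i)
  have hTex : ∀ i, 1 ≤ i → i ≤ m → T.ExactAt i := exactAt_img I hI hex m (hV _ hF)
  obtain ⟨eT0⟩ := homology_zero_iso (ε := ε) I
  have hT0 : P (T.cycles 0) := P.prop_of_iso eT0.symm hF
  refine ⟨?_, ?_⟩
  swap
  · have := hTI m
    obtain ⟨G, ι, w, hι, hex', ⟨e⟩⟩ := exists_kernel_ν Φ' T m
    obtain ⟨e'⟩ := nonempty_rightDerived_cycles Φ' T hTI 0 m hTex
    exact ⟨G, ι, w, hι, hex', P.prop_of_iso (e ≪≫ e').symm (hΦ _ _ hT0)⟩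
  -- the complexes
  let ΦI := img Φ I
  let φ : I ⟶ ΦI := ηC η I
  let e : img ε ΦI ≅ img Φ' T := HomologicalComplex.Hom.isoOfComponents (fun i => c.app (I.X i))
    (fun i j _ => (c.hom.naturality (I.d i j)).symm)
  have heφ : (ε.mapHomologicalComplex _).map φ ≫ e.hom = ηC η' T := by
    ext i
    exact hc (I.X i)
  suffices Mono (homologyMap ((ε.mapHomologicalComplex _).map φ) (m + 1)) by
    rw [← heφ, homologyMap_comp]
    infer_instance
  have : Mono φ := @HomologicalComplex.mono_of_mono_f _ _ _ _ _ _ _ φ (fun i => (hmono _ (hI i)).1)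
  let S : ShortComplex (CochainComplex A ℕ) := ShortComplex.mk φ (cokernel.π φ) (cokernel.condition φ)
  have hS : S.ShortExact := { exact := ShortComplex.exact_of_g_is_cokernel _ (cokernelIsCokernel φ) }
  have hSi : ∀ i, (S.map (HomologicalComplex.eval A _ i)).ShortExact := fun i => hS.map_of_exact _
  let spl : ∀ i, (S.map (HomologicalComplex.eval A _ i)).Splitting := fun i =>
    haveI : Injective (S.map (HomologicalComplex.eval A _ i)).X₁ := hI i
    (hSi i).splittingOfInjective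
  have hJ : ∀ i, Injective (S.X₃.X i) := fun i => ⟨fun g f _ => by
    have : Injective (S.map (HomologicalComplex.eval A _ i)).X₂ := (hmono _ (hI i)).2
    obtain ⟨h, hh⟩ := Injective.factors (g ≫ (spl i).s) f
    refine ⟨h ≫ S.g.f i, ?_⟩
    rw [← Category.assoc, hh, Category.assoc]
    exact (congrArg (g ≫ ·) (spl i).s_g).trans (Category.comp_id g)⟩
  let εS := S.map (ε.mapHomologicalComplex (ComplexShape.up ℕ))
  have hεS : εS.ShortExact := HomologicalComplex.shortExact_of_degreewise_shortExact _ fun i =>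
    ((spl i).map ε).shortExact
  suffices Epi (homologyMap εS.g m) by
    have hδ : hεS.δ m (m + 1) (by simp) = 0 := by
      rw [← cancel_epi (homologyMap εS.g m), comp_zero]
      exact hεS.comp_δ m (m + 1) (by simp)
    exact (hεS.homology_exact₁ m (m + 1) (by simp)).mono_g hδ
  -- membership
  have hΦT : ∀ i ≤ m, P ((img Φ' T).homology i) := fun i hi => by
    cases i with
    | zero =>
      obtain ⟨e0⟩ := nonempty_homology_zero_iso Φ' T
      exact P.prop_of_iso e0.symm (hΦ _ _ hT0)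
    | succ k =>
      obtain ⟨e0⟩ := nonempty_homology_iso_rightDerived Φ' T hTI k (fun j h h' => hTex j h (h'.trans hi))
      exact P.prop_of_iso e0.symm (hΦ _ _ hT0)
  have hΦI : ∀ i ≤ m, P ((img ε ΦI).homology i) := fun i hi =>
    P.prop_of_iso ((homologyFunctor B _ i).mapIso e).symm (hΦT i hi)
  have hν : ∀ i ≤ m, IsIso (ν ε ΦI i) := fun i hi => isIso_ν ΦI adj i (hP _ (hΦI i hi))
  have hΦI' : ∀ i ≤ m, P (ε.obj (ΦI.homology i)) := fun i hi => by
    have := hν i hi
    exact P.prop_of_iso (asIso (ν ε ΦI i)) (hΦI i hi)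
  have hI' : ∀ i, P (ε.obj (I.homology i)) := fun i => by
    cases i with
    | zero => exact hF
    | succ k =>
      obtain ⟨Z, hZ, hPZ⟩ := P.exists_prop_of_containsZero
      exact P.prop_of_iso (hZ.iso (ε.map_isZero ((exactAt_iff_isZero_homology _ _).1 (hex _ (by omega))))) hPZ
  have hepi : ∀ i ≤ m, P (ε.obj (S.X₃.homology i)) ∧ Epi (ε.map (homologyMap S.g i)) := fun i hi => by
    have : Epi (homologyMap S.g i) := (hS.homology_exact₃ i (i + 1) (by simp)).epi_f
      (((exactAt_iff_isZero_homology _ _).1 (hex (i + 1) (by omega))).eq_of_tgt _ _)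
    exact epi_and_prop_of_exact adj P hP
      (ShortComplex.mk (homologyMap S.f i) (homologyMap S.g i) (by rw [← homologyMap_comp, S.zero, homologyMap_zero]))
      (hS.homology_exact₂ i) (hI' i) (hΦI' i hi)
  have hνJ : Mono (ν ε S.X₃ m) := by
    cases m with
    | zero =>
      have := isIso_ν_zero ε S.X₃
      infer_instance
    | succ k =>
      have := hJ k
      obtain ⟨G, ι, w, hι, hex', ⟨e'⟩⟩ := exists_kernel_ν ε S.X₃ k
      exact hex'.mono_g (((isZero_rightDerived_cycles ε S.X₃ hJ k 0 (k + 1) (by omega)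
        (fun i hi l hl => hV _ (hepi i (by omega)).1 l hl)).of_iso e').eq_of_src _ _)
  have := hν m le_rfl
  have h2 := (hepi m le_rfl).2
  have hsq := ν_naturality ε S.g m
  have : Epi (homologyMap εS.g m ≫ ν ε S.X₃ m) := by
    have : Epi (ν ε ΦI m ≫ ε.map (homologyMap S.g m)) := epi_comp _ _
    exact hsq ▸ this
  have : Epi (ν ε S.X₃ m) := epi_of_epi (homologyMap εS.g m) _
  have := isIso_of_mono_of_epi (ν ε S.X₃ m)
  have : Epi ((homologyMap εS.g m ≫ ν ε S.X₃ m) ≫ inv (ν ε S.X₃ m)) := epi_comp _ _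
  simpa using this

end Groth.L10.TwoTopAbstract
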