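import Groth.Agent.L10.TwoTopVanish

/-! Comparison of derived functors for two topologies. -/

universe u

open CategoryTheory CategoryTheory.Limits Opposite HomologicalComplex

set_option backward.defeqAttrib.useBackward true
set_option backward.isDefEq.respectTransparency false

namespace Groth.L10.TwoTopVanish

open Groth.L10 Groth.L10.OverRes Groth.L10.LeftExactHom

variable {C : Type u} [SmallCategory C] {J J' : GrothendieckTopology C} (h : J' ≤ J) (P : MorphismProperty C)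
  (A' : ∀ X : C, ObjectProperty (Sheaf (J'.over X) AddCommGrpCat.{u})) [∀ X : C, WSerre.IsWeakSerre (A' X)]
  (h2 : ∀ ⦃X Y : C⦄ (f : X ⟶ Y) (F' : Sheaf (J'.over Y) AddCommGrpCat.{u}), A' Y F' →
      A' X ((CohSite.push (J'.over Y) (J'.over X) (Over.map f)).obj F'))
  (h3 : ∀ (X : C) (F' : Sheaf (J'.over X) AddCommGrpCat.{u}), A' X F' → Presheaf.IsSheaf (J.over X) F'.obj)
  (h4 : ∀ ⦃X Y : C⦄ (f : X ⟶ Y)
      [((Over.map f).sheafPushforwardCocontinuous AddCommGrpCat.{u} (J'.over X) (J'.over Y)).Additive],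
      P f → ∀ (F' : Sheaf (J'.over X) AddCommGrpCat.{u}), A' X F' → ∀ i : ℕ,
        A' Y ((((Over.map f).sheafPushforwardCocontinuous AddCommGrpCat.{u} (J'.over X) (J'.over Y)).rightDerived i).obj F'))

include h3 h4 in
omit h2 in
/-- Derived direct images along arrows of `P` commute with the comparison in the range of vanishing. -/
theorem nonempty_rightDerived_pf_iso {X Y : C} (f : X ⟶ Y) (hf : P f) (n : ℕ)
    (hV : ∀ i : ℕ, 1 ≤ i → i ≤ n → ∀ G : Sheaf (J.over X) AddCommGrpCat.{u},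
      A' X ((SiteCmp.epsSh (SiteCmp.over_le h X) AddCommGrpCat.{u}).obj G) →
      IsZero (((SiteCmp.epsSh (SiteCmp.over_le h X) AddCommGrpCat.{u}).rightDerived i).obj G))
    (F : Sheaf (J.over X) AddCommGrpCat.{u}) (hF : A' X ((SiteCmp.epsSh (SiteCmp.over_le h X) AddCommGrpCat.{u}).obj F))
    (i : ℕ) (hi : i ≤ n) :
    Nonempty (((pf J' f).rightDerived i).obj ((SiteCmp.epsSh (SiteCmp.over_le h X) AddCommGrpCat.{u}).obj F) ≅
      (SiteCmp.epsSh (SiteCmp.over_le h Y) AddCommGrpCat.{u}).obj (((pf J f).rightDerived i).obj F)) := by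
  let εX := SiteCmp.epsSh (SiteCmp.over_le h X) AddCommGrpCat.{u}
  let εY := SiteCmp.epsSh (SiteCmp.over_le h Y) AddCommGrpCat.{u}
  let R := injectiveResolution F
  obtain ⟨e0⟩ := homology_zero_resolution R
  have hex : ∀ i, 1 ≤ i → R.cocomplex.ExactAt i := fun i hi => by
    obtain ⟨k, rfl⟩ : ∃ k, i = k + 1 := ⟨i - 1, by omega⟩
    exact R.cocomplex_exactAt_succ k
  have hRinj : ∀ i, Injective (R.cocomplex.X i) := fun i => R.injective i
  let T := img εX R.cocomplex
  have hT : ∀ i, 1 ≤ i → i ≤ n → T.ExactAt i := TwoTopAbstract.exactAt_img R.cocomplex hRinj hex n fun j hj =>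
    hV (j + 1) (by omega) (by omega) _ ((A' X).prop_of_iso (εX.mapIso e0).symm hF)
  obtain ⟨ec⟩ := TwoTopAbstract.homology_zero_iso (ε := εX) R.cocomplex
  let eT : img εY (img (pf J f) R.cocomplex) ≅ img (pf J' f) T := HomologicalComplex.Hom.isoOfComponents
    (fun i => (pfEps f h).app (R.cocomplex.X i)) (fun i k _ => ((pfEps f h).hom.naturality (R.cocomplex.d i k)).symm)
  have key : ∃ _ : ((pf J' f).rightDerived i).obj (εX.obj F) ≅ (img (pf J' f) T).homology i, True := by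
    cases i with
    | zero =>
      obtain ⟨e⟩ := nonempty_homology_zero_iso (pf J' f) T
      exact ⟨((pf J' f).rightDerived 0).mapIso (ec ≪≫ εX.mapIso e0).symm ≪≫ e.symm, trivial⟩
    | succ k =>
      obtain ⟨e⟩ := nonempty_homology_iso_rightDerived (pf J' f) T (fun i => injective_eps (SiteCmp.over_le h X) (R.cocomplex.X i)) k
        (fun j h1 h2 => hT j h1 (h2.trans hi))
      exact ⟨((pf J' f).rightDerived (k + 1)).mapIso (ec ≪≫ εX.mapIso e0).symm ≪≫ e.symm, trivial⟩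
  obtain ⟨e1, -⟩ := key
  let e2 : (img εY (img (pf J f) R.cocomplex)).homology i ≅ (img (pf J' f) T).homology i :=
    (HomologicalComplex.homologyFunctor _ _ i).mapIso eT
  have hP : εY.essImage ((img εY (img (pf J f) R.cocomplex)).homology i) :=
    le_essImage h A' h3 Y _ ((A' Y).prop_of_iso (e1 ≪≫ e2.symm) (h4 f hf _ hF i))
  have := isIso_ν (S := εY) (img (pf J f) R.cocomplex) (aAdj (SiteCmp.over_le h Y)) i hP
  exact ⟨e1 ≪≫ e2.symm ≪≫ asIso (ν εY (img (pf J f) R.cocomplex) i) ≪≫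
    εY.mapIso (R.isoRightDerivedObj (pf J f) i).symm⟩

variable (h5 : ∀ (U : C) (S : Sieve U), S ∈ J U → ∃ (ι : Type u) (V : ι → C) (v : ∀ j, V j ⟶ U),
      Sieve.ofArrows V v ∈ J' U ∧ ∀ j, ∃ (W : C) (w : W ⟶ V j), P w ∧
        Sieve.ofArrows (fun _ : PUnit.{u + 1} => W) (fun _ => w) ∈ J (V j) ∧
        ∃ (κ : Type u) (Wk : κ → C) (wk : ∀ k, Wk k ⟶ W), Sieve.ofArrows Wk wk ∈ J' W ∧
          ∀ k, S.arrows (wk k ≫ w ≫ v j))

include h2 h3 h4 h5 in
/-- Cohomology in the two topologies agrees on `A'`. -/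
theorem nonempty_HU_addEquiv (X : C) (F' : Sheaf (J'.over X) AddCommGrpCat.{u}) (hF' : A' X F') (n : ℕ) :
    Nonempty (CohSite.HU F' n (Over.mk (𝟙 X)) ≃+
      CohSite.HU ((SiteCmp.epsShInv (SiteCmp.over_le h X) AddCommGrpCat.{u}).obj F') n (Over.mk (𝟙 X))) := by
  let ε := SiteCmp.epsSh (SiteCmp.over_le h X) AddCommGrpCat.{u}
  obtain ⟨F, ⟨e⟩⟩ := le_essImage h A' h3 X F' hF'
  have := SiteCmp.idContinuous (SiteCmp.over_le h X)
  have hac : SiteCoh.LocAcyclic (J'.over X) (𝟭 (Over X)) F :=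
    (SiteCoh.isZero_Rpush_succ_iff (J'.over X) (𝟭 (Over X)) F).1 fun q =>
      isZero_rightDerived h P A' h2 h3 h4 h5 X F ((A' X).prop_of_iso e.symm hF') (q + 1) (by omega)
  obtain ⟨c⟩ := SiteCoh.nonempty_push_compare (J'.over X) (𝟭 (Over X)) (Over.mk (𝟙 X)) (fun I m hI => by
    have : Injective (ε.obj I) := injective_eps _ I
    exact Abelian.Ext.subsingleton_of_injective _ (ε.obj I) m) F hac n
  let eF : (SiteCmp.epsShInv (SiteCmp.over_le h X) AddCommGrpCat.{u}).obj F' ≅ F :=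
    (SiteCmp.epsShInv (SiteCmp.over_le h X) AddCommGrpCat.{u}).mapIso e.symm ≪≫
      asIso ((SiteCmp.epsShAdj (SiteCmp.over_le h X) AddCommGrpCat.{u}).counit.app F)
  let H := fun {K : GrothendieckTopology (Over X)} => Sheaf.cohomologyPresheafFunctor.{u} K n ⋙
    (evaluation (Over X)ᵒᵖ AddCommGrpCat.{u}).obj (op (Over.mk (𝟙 X)))
  exact ⟨((H (K := J'.over X)).mapIso e.symm).addCommGroupIsoToAddEquiv.trans
    (c.symm.trans ((H (K := J.over X)).mapIso eF.symm).addCommGroupIsoToAddEquiv)⟩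

end Groth.L10.TwoTopVanish
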