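import Groth.Agent.L00.RDerLES
import Groth.Prelude.Def_WeakSerre
import Mathlib.Algebra.Homology.HomologySequence
import Mathlib.Algebra.Homology.HomologicalComplexAbelian
import Mathlib.Algebra.Homology.Refinements
import Mathlib.CategoryTheory.Adjunction.FullyFaithful

/-! Cohomology of complexes of injectives under left exact functors. -/

universe v u v' u'

open CategoryTheory CategoryTheory.Limits CategoryTheory.Pretriangulated HomologicalComplex

set_option backward.defeqAttrib.useBackward true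
set_option backward.isDefEq.respectTransparency false

namespace Groth.L10.LeftExactHom

open Groth.L17.GrothSS Groth.L00.RDerLES

attribute [local instance] HasDerivedCategory.standard

variable {A : Type u} [Category.{v} A] [Abelian A] [EnoughInjectives A]
  {B : Type u'} [Category.{v'} B] [Abelian B] (S : A ⥤ B) [S.Additive] [PreservesFiniteLimits S]

/-! ### Dimension shifting -/

omit [PreservesFiniteLimits S] in
theorem shiftSucc {T : ShortComplex A} (hT : T.ShortExact) [Injective T.X₂] (n : ℕ) :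
    Nonempty ((S.rightDerived (n + 1)).obj T.X₃ ≅ (S.rightDerived (n + 2)).obj T.X₁) := by
  obtain ⟨δ, hd⟩ := exists_plusTriangle hT
  let F := HomotopyCategory.homologyFunctor B (.up ℤ) 0
  let Tr := (RK S).mapTriangle.obj (Triangle.mk ((DerivedCategory.Plus.singleFunctor A 0).map T.f)
    ((DerivedCategory.Plus.singleFunctor A 0).map T.g) δ)
  have hz : ∀ k : ℕ, IsZero ((F.shift ((k + 1 : ℕ) : ℤ)).obj Tr.obj₂) := fun k =>
    (S.isZero_rightDerived_obj_injective_succ k T.X₂).of_iso (hhSingleZeroIso S T.X₂ (k + 1))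
  let d := F.homologySequenceδ Tr ((n + 1 : ℕ) : ℤ) ((n + 2 : ℕ) : ℤ) (by omega)
  have hmono : Mono d := (F.homologySequence_exact₃ _ ((RK S).map_distinguished _ hd) ((n + 1 : ℕ) : ℤ)
    ((n + 2 : ℕ) : ℤ) (by omega)).mono_g ((hz n).eq_of_src _ _)
  have hepi : Epi d := (F.homologySequence_exact₁ _ ((RK S).map_distinguished _ hd) ((n + 1 : ℕ) : ℤ)
    ((n + 2 : ℕ) : ℤ) (by omega)).epi_f ((hz (n + 1)).eq_of_tgt _ _)
  have : IsIso d := isIso_of_mono_of_epi d
  exact ⟨(hhSingleZeroIso S T.X₃ (n + 1)).symm ≪≫ asIso d ≪≫ hhSingleZeroIso S T.X₁ (n + 2)⟩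

theorem shiftZero {T : ShortComplex A} (hT : T.ShortExact) [Injective T.X₂] :
    Nonempty ((S.rightDerived 1).obj T.X₁ ≅ cokernel (S.map T.g)) := by
  obtain ⟨δ, hd⟩ := exists_plusTriangle hT
  let F := HomotopyCategory.homologyFunctor B (.up ℤ) 0
  let Tr := (RK S).mapTriangle.obj (Triangle.mk ((DerivedCategory.Plus.singleFunctor A 0).map T.f)
    ((DerivedCategory.Plus.singleFunctor A 0).map T.g) δ)
  have hz : IsZero ((F.shift ((1 : ℕ) : ℤ)).obj Tr.obj₂) :=
    (S.isZero_rightDerived_obj_injective_succ 0 T.X₂).of_iso (hhSingleZeroIso S T.X₂ 1)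
  let d := F.homologySequenceδ Tr ((0 : ℕ) : ℤ) ((1 : ℕ) : ℤ) (by omega)
  have hepi : Epi d := (F.homologySequence_exact₁ _ ((RK S).map_distinguished _ hd) ((0 : ℕ) : ℤ)
    ((1 : ℕ) : ℤ) (by omega)).epi_f (hz.eq_of_tgt _ _)
  let e₂ := hhSingleZeroIso S T.X₂ 0 ≪≫ S.rightDerivedZeroIsoSelf.app T.X₂
  let e₃ := hhSingleZeroIso S T.X₃ 0 ≪≫ S.rightDerivedZeroIsoSelf.app T.X₃
  let m := (F.shift ((0 : ℕ) : ℤ)).map Tr.mor₂
  have hsq : m ≫ e₃.hom = e₂.hom ≫ S.map T.g := by
    simp only [e₂, e₃, Iso.trans_hom, Iso.app_hom, Category.assoc]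
    rw [← S.rightDerivedZeroIsoSelf.hom.naturality, ← Category.assoc, ← Category.assoc]
    exact congrArg (· ≫ _) (hhSingleZeroIso_naturality S T.g 0)
  have hex := F.homologySequence_exact₃ _ ((RK S).map_distinguished _ hd) ((0 : ℕ) : ℤ) ((1 : ℕ) : ℤ) (by omega)
  let ec : cokernel m ≅ (F.shift ((1 : ℕ) : ℤ)).obj Tr.obj₁ :=
    (cokernelIsCokernel m).coconePointUniqueUpToIso (hex.gIsCokernel)
  exact ⟨(hhSingleZeroIso S T.X₁ 1).symm ≪≫ ec.symm ≪≫ cokernel.mapIso m (S.map T.g) e₂ e₃ hsq⟩

/-! ### Cycles and the comparison of cohomology -/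

variable (K L : CochainComplex A ℕ)

/-- The image complex. -/
noncomputable abbrev img : CochainComplex B ℕ := (S.mapHomologicalComplex (ComplexShape.up ℕ)).obj K

omit [EnoughInjectives A]

/-- Cycles commute with left exact functors. -/
noncomputable def cyc (n : ℕ) : (img S K).cycles n ≅ S.obj (K.cycles n) :=
  ((img S K).cyclesIsKernel n _ rfl).conePointUniqueUpToIso
    (KernelFork.mapIsLimit _ (K.cyclesIsKernel n _ rfl) S)

@[reassoc (attr := simp)]
theorem cyc_hom_i (n : ℕ) : (cyc S K n).hom ≫ S.map (K.iCycles n) = (img S K).iCycles n :=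
  IsLimit.conePointUniqueUpToIso_hom_comp _ _ WalkingParallelPair.zero

theorem toCycles_cyc (i n : ℕ) : (img S K).toCycles i n ≫ (cyc S K n).hom = S.map (K.toCycles i n) := by
  rw [← cancel_mono (S.map (K.iCycles n)), Category.assoc, cyc_hom_i, toCycles_i, ← S.map_comp, toCycles_i]
  rfl

theorem cyc_naturality {K L} (φ : K ⟶ L) (n : ℕ) :
    cyclesMap ((S.mapHomologicalComplex _).map φ) n ≫ (cyc S L n).hom = (cyc S K n).hom ≫ S.map (cyclesMap φ n) := by
  rw [← cancel_mono (S.map (L.iCycles n)), Category.assoc, cyc_hom_i, cyclesMap_i, Category.assoc, ← S.map_comp,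
    cyclesMap_i, S.map_comp, cyc_hom_i_assoc]
  rfl

/-- The canonical map from the cohomology of the image to the image of the cohomology. -/
noncomputable def ν (n : ℕ) : (img S K).homology n ⟶ S.obj (K.homology n) :=
  ((img S K).homologyIsCokernel _ n rfl).desc (CokernelCofork.ofπ ((cyc S K n).hom ≫ S.map (K.homologyπ n)) (by
    rw [← Category.assoc, toCycles_cyc, ← S.map_comp, toCycles_comp_homologyπ, S.map_zero]))

@[reassoc (attr := simp)]
theorem π_ν (n : ℕ) : (img S K).homologyπ n ≫ ν S K n = (cyc S K n).hom ≫ S.map (K.homologyπ n) :=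
  Cofork.IsColimit.π_desc ((img S K).homologyIsCokernel _ n rfl)

theorem ν_naturality {K L} (φ : K ⟶ L) (n : ℕ) :
    homologyMap ((S.mapHomologicalComplex _).map φ) n ≫ ν S L n = ν S K n ≫ S.map (homologyMap φ n) := by
  rw [← cancel_epi ((img S K).homologyπ n), homologyπ_naturality_assoc, π_ν, reassoc_of% (cyc_naturality S φ n),
    π_ν_assoc, ← S.map_comp, ← S.map_comp, homologyπ_naturality]

/-- The map of complexes given by a natural transformation from the identity. -/
noncomputable def ηC {S : A ⥤ A} [S.Additive] (η : 𝟭 A ⟶ S) (K : CochainComplex A ℕ) :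
    K ⟶ (S.mapHomologicalComplex (ComplexShape.up ℕ)).obj K where
  f i := η.app (K.X i)
  comm' i j _ := (η.naturality (K.d i j)).symm

theorem ηC_ν {S : A ⥤ A} [S.Additive] [PreservesFiniteLimits S] (η : 𝟭 A ⟶ S) (K : CochainComplex A ℕ) (n : ℕ) :
    homologyMap (ηC η K) n ≫ ν S K n = η.app (K.homology n) := by
  rw [← cancel_epi (K.homologyπ n), homologyπ_naturality_assoc, π_ν]
  have h1 : cyclesMap (ηC η K) n ≫ (cyc S K n).hom = η.app (K.cycles n) := by
    rw [← cancel_mono (S.map (K.iCycles n)), Category.assoc, cyc_hom_i, cyclesMap_i]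
    exact (η.naturality (K.iCycles n))
  rw [reassoc_of% h1]
  exact (η.naturality (K.homologyπ n)).symm

/-- In degree zero the comparison is an isomorphism. -/
theorem isIso_ν_zero : IsIso (ν S K 0) := by
  have := K.isIso_homologyπ 0 0 (CochainComplex.prev_nat_zero) (K.shape _ _ (by simp))
  have := (img S K).isIso_homologyπ 0 0 (CochainComplex.prev_nat_zero) ((img S K).shape _ _ (by simp))
  have : IsIso ((img S K).homologyπ 0 ≫ ν S K 0) := by
    rw [π_ν]
    infer_instance
  exact IsIso.of_isIso_comp_left ((img S K).homologyπ 0) _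

/-- Cohomology of the image as a cokernel. -/
theorem nonempty_homology_iso_cokernel (n : ℕ) :
    Nonempty ((img S K).homology (n + 1) ≅ cokernel (S.map (K.toCycles n (n + 1)))) :=
  ⟨((img S K).homologyIsCokernel n (n + 1) (by simp)).coconePointUniqueUpToIso (cokernelIsCokernel _) ≪≫
    cokernel.mapIso _ _ (Iso.refl _) (cyc S K (n + 1)) (by rw [toCycles_cyc]; exact (Category.id_comp _).symm)⟩

/-- The sequence of cycles. -/
noncomputable def cycSeq (n : ℕ) : ShortComplex A :=
  ShortComplex.mk (K.iCycles n) (K.toCycles n (n + 1)) (by rw [← cancel_mono (K.iCycles (n + 1))]; simp)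

theorem shortExact_cycSeq (n : ℕ) (h : K.ExactAt (n + 1)) : (cycSeq K n).ShortExact := by
  have : Mono (cycSeq K n).f := inferInstanceAs (Mono (K.iCycles n))
  have hk : IsLimit (KernelFork.ofι (K.iCycles n) (cycSeq K n).zero) :=
    KernelFork.IsLimit.ofι' _ _ fun {W} k hk => ⟨K.liftCycles k (n + 1) (by simp) (by
      have hk' : k ≫ K.toCycles n (n + 1) = 0 := hk
      rw [← K.toCycles_i n (n + 1), ← Category.assoc, hk', zero_comp]), K.liftCycles_i _ _ _ _⟩
  have : Epi (cycSeq K n).g :=
    (ShortComplex.exact_iff_epi (ShortComplex.mk (K.toCycles n (n + 1)) (K.homologyπ (n + 1)) (K.toCycles_comp_homologyπ _ _))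
      (((exactAt_iff_isZero_homology _ _).1 h).eq_of_tgt _ _)).1
      (ShortComplex.exact_of_g_is_cokernel _ (K.homologyIsCokernel n (n + 1) (by simp)))
  exact { exact := ShortComplex.exact_of_f_is_kernel _ hk }

variable [EnoughInjectives A]

theorem nonempty_rightDerived_cycles (hI : ∀ i, Injective (K.X i)) (j : ℕ) :
    ∀ k, (∀ i, 1 ≤ i → i ≤ k → K.ExactAt i) →
      Nonempty ((S.rightDerived (j + 1)).obj (K.cycles k) ≅ (S.rightDerived (j + k + 1)).obj (K.cycles 0)) := by
  intro k
  induction k generalizing j with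
  | zero => exact fun _ => ⟨Iso.refl _⟩
  | succ k ih =>
    intro h
    have : Injective (cycSeq K k).X₂ := hI k
    obtain ⟨e⟩ := shiftSucc S (shortExact_cycSeq K k (h _ (by omega) le_rfl)) j
    obtain ⟨e'⟩ := ih (j + 1) (fun i h1 h2 => h i h1 (by omega))
    exact ⟨e ≪≫ e' ≪≫ eqToIso (by rw [show j + 1 + k + 1 = j + (k + 1) + 1 by omega])⟩

/-- Cohomology of the image of a partial injective resolution computes derived functors. -/
theorem nonempty_homology_iso_rightDerived (hI : ∀ i, Injective (K.X i)) (n : ℕ)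
    (h : ∀ i, 1 ≤ i → i ≤ n + 1 → K.ExactAt i) :
    Nonempty ((img S K).homology (n + 1) ≅ (S.rightDerived (n + 1)).obj (K.cycles 0)) := by
  have : Injective (cycSeq K n).X₂ := hI n
  obtain ⟨e⟩ := nonempty_homology_iso_cokernel S K n
  obtain ⟨e'⟩ := shiftZero S (shortExact_cycSeq K n (h _ (by omega) le_rfl))
  obtain ⟨e''⟩ := nonempty_rightDerived_cycles S K hI 0 n (fun i h1 h2 => h i h1 (by omega))
  exact ⟨e ≪≫ e'.symm ≪≫ e'' ≪≫ eqToIso (by rw [zero_add])⟩

theorem nonempty_homology_zero_iso :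
    Nonempty ((img S K).homology 0 ≅ (S.rightDerived 0).obj (K.cycles 0)) := by
  have := isIso_ν_zero S K
  have := K.isIso_homologyπ 0 0 (CochainComplex.prev_nat_zero) (K.shape _ _ (by simp))
  exact ⟨asIso (ν S K 0) ≪≫ S.mapIso (asIso (K.homologyπ 0)).symm ≪≫ (S.rightDerivedZeroIsoSelf.app _).symm⟩

/-- The kernel of the comparison map is a first derived functor. -/
theorem exists_kernel_ν (n : ℕ) [Injective (K.X n)] :
    ∃ (G : B) (ι : G ⟶ (img S K).homology (n + 1)) (w : ι ≫ ν S K (n + 1) = 0),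
      Mono ι ∧ (ShortComplex.mk ι (ν S K (n + 1)) w).Exact ∧
      Nonempty (G ≅ (S.rightDerived 1).obj (K.cycles n)) := by
  let p := K.homologyπ (n + 1)
  let t : K.X n ⟶ kernel p := kernel.lift p (K.toCycles n (n + 1)) (K.toCycles_comp_homologyπ _ _)
  let T : ShortComplex A := ShortComplex.mk (K.iCycles n) t (by
    rw [← cancel_mono (kernel.ι p), ← cancel_mono (K.iCycles (n + 1))]; simp [t])
  have hte : Epi t := (ShortComplex.mk (K.toCycles n (n + 1)) p (K.toCycles_comp_homologyπ _ _)).exact_iff_epi_kernel_lift.1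
    (ShortComplex.exact_of_g_is_cokernel _ (K.homologyIsCokernel n (n + 1) (by simp)))
  have : Mono T.f := inferInstanceAs (Mono (K.iCycles n))
  have : Epi T.g := hte
  have hk : IsLimit (KernelFork.ofι (K.iCycles n) T.zero) :=
    KernelFork.IsLimit.ofι' _ _ fun {W} k hk => ⟨K.liftCycles k (n + 1) (by simp) (by
      rw [← K.toCycles_i n (n + 1), ← kernel.lift_ι p (K.toCycles n (n + 1)) (K.toCycles_comp_homologyπ _ _),
        ← Category.assoc, ← Category.assoc, hk, zero_comp, zero_comp]), K.liftCycles_i _ _ _ _⟩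
  have hT : T.ShortExact := { exact := ShortComplex.exact_of_f_is_kernel _ hk }
  have : Injective T.X₂ := ‹Injective (K.X n)›
  obtain ⟨e⟩ := shiftZero S hT
  let πK := (img S K).homologyπ (n + 1)
  let l : S.obj (kernel p) ⟶ (img S K).homology (n + 1) := S.map (kernel.ι p) ≫ (cyc S K (n + 1)).inv ≫ πK
  have hl : S.map t ≫ l = 0 := by
    simp only [l, ← S.map_comp_assoc, t, kernel.lift_ι]
    rw [← toCycles_cyc, Category.assoc, Iso.hom_inv_id_assoc]
    exact toCycles_comp_homologyπ _ _ _
  let ι := cokernel.desc (S.map t) l hl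
  have hι : cokernel.π (S.map t) ≫ ι = l := cokernel.π_desc _ _ _
  have w : ι ≫ ν S K (n + 1) = 0 := by
    rw [← cancel_epi (cokernel.π (S.map t)), ← Category.assoc, hι, comp_zero]
    simp only [l, πK, Category.assoc, π_ν, Iso.inv_hom_id_assoc, ← S.map_comp, p, kernel.condition, S.map_zero]
  have hπ : (ShortComplex.mk ((img S K).toCycles n (n + 1)) πK (toCycles_comp_homologyπ _ _ _)).Exact :=
    ShortComplex.exact_of_g_is_cokernel _ ((img S K).homologyIsCokernel n (n + 1) (by simp))
  have hm : Mono ι := by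
    refine Preadditive.mono_of_cancel_zero _ fun {W} y hy => ?_
    obtain ⟨W₁, π₁, _, y', hy'⟩ := surjective_up_to_refinements_of_epi (cokernel.π (S.map t)) y
    have h1 : (y' ≫ S.map (kernel.ι p) ≫ (cyc S K (n + 1)).inv) ≫ πK = 0 := by
      have := congrArg (π₁ ≫ ·) hy
      simp only [comp_zero] at this
      rw [← this, reassoc_of% hy', hι]
      simp [l]
    obtain ⟨W₂, π₂, _, x, hx⟩ := hπ.exact_up_to_refinements _ h1
    dsimp at hx x
    have h2 : π₂ ≫ y' = x ≫ S.map t := by
      rw [← cancel_mono (S.map (kernel.ι p)), Category.assoc, Category.assoc, ← S.map_comp, kernel.lift_ι,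
        ← toCycles_cyc, ← Category.assoc x, ← hx]
      simp
    rw [← cancel_epi π₁, ← cancel_epi π₂, comp_zero, comp_zero, hy', reassoc_of% h2, cokernel.condition, comp_zero]
  refine ⟨_, ι, w, hm, ?_, ⟨e.symm⟩⟩
  rw [ShortComplex.exact_iff_exact_up_to_refinements]
  intro W y hy
  dsimp at y hy ⊢
  obtain ⟨W₁, π₁, _, z, hz⟩ := surjective_up_to_refinements_of_epi πK y
  have hz0 : (z ≫ (cyc S K (n + 1)).hom) ≫ S.map p = 0 := by
    rw [Category.assoc, ← π_ν, ← Category.assoc, ← hz, Category.assoc, hy, comp_zero]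
  let z' := (KernelFork.mapIsLimit _ (kernelIsKernel p) S).lift (KernelFork.ofι _ hz0)
  have hz' : z' ≫ S.map (kernel.ι p) = z ≫ (cyc S K (n + 1)).hom :=
    Fork.IsLimit.lift_ι (KernelFork.mapIsLimit _ (kernelIsKernel p) S)
  refine ⟨W₁, π₁, inferInstance, z' ≫ cokernel.π (S.map t), ?_⟩
  rw [Category.assoc, hι, hz]
  simp [l, πK, reassoc_of% hz']

/-- Vanishing of derived functors on cycles from vanishing on cohomology. -/
theorem isZero_rightDerived_cycles (hI : ∀ i, Injective (K.X i)) (k : ℕ) :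
    ∀ (j m : ℕ), j + 1 + k ≤ m → (∀ i ≤ k, ∀ l, l + 1 ≤ m → IsZero ((S.rightDerived (l + 1)).obj (K.homology i))) →
      IsZero ((S.rightDerived (j + 1)).obj (K.cycles k)) := by
  induction k with
  | zero =>
    intro j m hm h
    have := K.isIso_homologyπ 0 0 (CochainComplex.prev_nat_zero) (K.shape _ _ (by simp))
    exact (h 0 le_rfl j (by omega)).of_iso ((S.rightDerived (j + 1)).mapIso (asIso (K.homologyπ 0)))
  | succ k ih =>
    intro j m hm h
    let p := K.homologyπ (k + 1)
    let t : K.X k ⟶ kernel p := kernel.lift p (K.toCycles k (k + 1)) (K.toCycles_comp_homologyπ _ _)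
    let T : ShortComplex A := ShortComplex.mk (K.iCycles k) t (by
      rw [← cancel_mono (kernel.ι p), ← cancel_mono (K.iCycles (k + 1))]; simp [t])
    have : Epi T.g := (ShortComplex.mk (K.toCycles k (k + 1)) p (K.toCycles_comp_homologyπ _ _)).exact_iff_epi_kernel_lift.1
      (ShortComplex.exact_of_g_is_cokernel _ (K.homologyIsCokernel k (k + 1) (by simp)))
    have : Mono T.f := inferInstanceAs (Mono (K.iCycles k))
    have hk : IsLimit (KernelFork.ofι (K.iCycles k) T.zero) :=
      KernelFork.IsLimit.ofι' _ _ fun {W} g hg => ⟨K.liftCycles g (k + 1) (by simp) (by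
        rw [← K.toCycles_i k (k + 1), ← kernel.lift_ι p (K.toCycles k (k + 1)) (K.toCycles_comp_homologyπ _ _),
          ← Category.assoc, ← Category.assoc, hg, zero_comp, zero_comp]), K.liftCycles_i _ _ _ _⟩
    have hT : T.ShortExact := { exact := ShortComplex.exact_of_f_is_kernel _ hk }
    have : Injective T.X₂ := hI k
    obtain ⟨e⟩ := shiftSucc S hT j
    have hB : IsZero ((S.rightDerived (j + 1)).obj (kernel p)) :=
      (ih (j + 1) m (by omega) (fun i hi => h i (by omega))).of_iso e
    have : Epi p := inferInstanceAs (Epi (K.homologyπ (k + 1)))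
    have hU : (ShortComplex.mk (kernel.ι p) p (kernel.condition p)).ShortExact :=
      { exact := ShortComplex.exact_of_f_is_kernel _ (kernelIsKernel p) }
    have := Groth.L00.RDerLES.additive S (j + 1)
    exact (Groth.L00.RDerLES.exact₂ S hU (j + 1)).isZero_of_both_zeros
      (hB.eq_of_src _ _) ((h (k + 1) le_rfl j (by omega)).eq_of_tgt _ _)

/-! ### Reflective left exact localisations -/

variable {S}

/-- The comparison map is an isomorphism after reflection. -/
theorem isIso_map_ν {a : B ⥤ A} (adj : a ⊣ S) [S.Full] [S.Faithful] [PreservesFiniteLimits a] [a.Additive] (n : ℕ) :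
    IsIso (a.map (ν S K n)) := by
  have := adj.leftAdjoint_preservesColimits
  let π' := (img S K).homologyπ n
  have hsq : a.map π' ≫ a.map (ν S K n) ≫ adj.counit.app (K.homology n) =
      (a.map (cyc S K n).hom ≫ adj.counit.app (K.cycles n)) ≫ K.homologyπ n := by
    rw [← a.map_comp_assoc, π_ν, a.map_comp, Category.assoc, Category.assoc]
    exact congrArg _ (adj.counit.naturality _)
  have : Epi (a.map (ν S K n) ≫ adj.counit.app (K.homology n)) := by
    have : Epi (a.map π' ≫ a.map (ν S K n) ≫ adj.counit.app (K.homology n)) := by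
      rw [hsq]
      exact epi_comp _ _
    exact epi_of_epi (a.map π') _
  have hex : (ShortComplex.mk (K.toCycles ((ComplexShape.up ℕ).prev n) n) (K.homologyπ n) (toCycles_comp_homologyπ _ _ _)).Exact :=
    ShortComplex.exact_of_g_is_cokernel _ (K.homologyIsCokernel _ n rfl)
  have : Mono (a.map (ν S K n) ≫ adj.counit.app (K.homology n)) := by
    refine Preadditive.mono_of_cancel_zero _ fun {W} y hy => ?_
    obtain ⟨W₁, π₁, _, z, hz⟩ := surjective_up_to_refinements_of_epi (a.map π') y
    have h0 : (z ≫ a.map (cyc S K n).hom ≫ adj.counit.app (K.cycles n)) ≫ K.homologyπ n = 0 := by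
      rw [Category.assoc, ← hsq, ← Category.assoc, ← hz, Category.assoc, hy, comp_zero]
    obtain ⟨W₂, π₂, _, x, hx⟩ := hex.exact_up_to_refinements _ h0
    dsimp at hx x
    let i := (ComplexShape.up ℕ).prev n
    have hc : a.map (S.map (K.toCycles i n)) ≫ adj.counit.app (K.cycles n) = adj.counit.app (K.X i) ≫ K.toCycles i n :=
      adj.counit.naturality _
    have hz2 : π₂ ≫ z = (x ≫ inv (adj.counit.app (K.X i))) ≫ a.map ((img S K).toCycles i n) := by
      rw [← cancel_mono (a.map (cyc S K n).hom ≫ adj.counit.app (K.cycles n)), Category.assoc, hx, Category.assoc,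
        ← a.map_comp_assoc, toCycles_cyc, Category.assoc, hc, IsIso.inv_hom_id_assoc]
    rw [← cancel_epi π₁, ← cancel_epi π₂, comp_zero, comp_zero, hz, reassoc_of% hz2, ← a.map_comp,
      toCycles_comp_homologyπ, a.map_zero, comp_zero, comp_zero]
  have := isIso_of_mono_of_epi (a.map (ν S K n) ≫ adj.counit.app (K.homology n))
  exact IsIso.of_isIso_comp_right _ (adj.counit.app (K.homology n))

omit [EnoughInjectives A] [S.Additive] [PreservesFiniteLimits S] in
theorem isIso_of_essImage {a : B ⥤ A} (adj : a ⊣ S) [S.Full] [S.Faithful] {X Y : B} (f : X ⟶ Y)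
    (hX : S.essImage X) (hY : S.essImage Y) [IsIso (a.map f)] : IsIso f := by
  have := adj.isIso_unit_app_of_iso hX.getIso.symm
  have := adj.isIso_unit_app_of_iso hY.getIso.symm
  refine IsIso.of_isIso_fac_right (h := adj.unit.app X ≫ S.map (a.map f)) (adj.unit_naturality f).symm

theorem isIso_ν {a : B ⥤ A} (adj : a ⊣ S) [S.Full] [S.Faithful] [PreservesFiniteLimits a] [a.Additive] (n : ℕ)
    (h : S.essImage ((img S K).homology n)) : IsIso (ν S K n) := by
  have := isIso_map_ν K adj n
  exact isIso_of_essImage adj _ h (S.obj_mem_essImage _)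

/-- Cokernels computed in the reflective subcategory are cokernels. -/
theorem epi_and_prop_of_exact {a : B ⥤ A} (adj : a ⊣ S) [S.Full] [S.Faithful] (P : ObjectProperty B)
    [WSerre.IsWeakSerre P] (hP : P ≤ S.essImage) (T : ShortComplex A) (hT : T.Exact) [Epi T.g]
    (h1 : P (S.obj T.X₁)) (h2 : P (S.obj T.X₂)) : P (S.obj T.X₃) ∧ Epi (S.map T.g) := by
  have := adj.leftAdjoint_preservesColimits
  have hC : P (cokernel (S.map T.f)) :=
    P.prop_of_isColimit_cokernelCofork (k := CokernelCofork.ofπ (cokernel.π _) (cokernel.condition _)) (cokernelIsCokernel _) h1 h2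
  have he : S.map T.f ≫ S.map T.g = 0 := by rw [← S.map_comp, T.zero, S.map_zero]
  let u := cokernel.desc (S.map T.f) (S.map T.g) he
  have hu : cokernel.π (S.map T.f) ≫ u = S.map T.g := cokernel.π_desc _ _ _
  have : IsIso (a.map u) := by
    let e₁ := asIso (adj.counit.app T.X₁)
    let e₂ := asIso (adj.counit.app T.X₂)
    let q : a.obj (cokernel (S.map T.f)) ≅ T.X₃ :=
      PreservesCokernel.iso a _ ≪≫ cokernel.mapIso (a.map (S.map T.f)) T.f e₁ e₂ (adj.counit.naturality T.f) ≪≫
        (cokernelIsCokernel T.f).coconePointUniqueUpToIso hT.gIsCokernel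
    have hq : a.map u ≫ adj.counit.app T.X₃ = q.hom := by
      rw [← cancel_epi (a.map (cokernel.π (S.map T.f))), ← a.map_comp_assoc, hu]
      refine (adj.counit.naturality T.g).trans ?_
      simp [q, e₂]
      exact congrArg _ (IsColimit.comp_coconePointUniqueUpToIso_hom (cokernelIsCokernel T.f) hT.gIsCokernel WalkingParallelPair.one).symm
    have : IsIso (a.map u ≫ adj.counit.app T.X₃) := by rw [hq]; infer_instance
    exact IsIso.of_isIso_comp_right _ (adj.counit.app T.X₃)
  have := isIso_of_essImage adj u (hP _ hC) (S.obj_mem_essImage _)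
  refine ⟨P.prop_of_iso (asIso u) hC, ?_⟩
  rw [← hu]
  exact epi_comp _ _

end Groth.L10.LeftExactHom
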