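import Groth.Agent.L10.TwoTopVanish
import Mathlib.CategoryTheory.Limits.Shapes.Pullback.IsPullback.Basic

/-! Equalised classes over a covering arrow die locally on the base. -/

universe u

open CategoryTheory CategoryTheory.Limits CategoryTheory.Abelian Opposite HomologicalComplex

set_option backward.defeqAttrib.useBackward true
set_option backward.isDefEq.respectTransparency false

namespace Groth.L10.TwoTopVanish

open Groth.L10 Groth.L10.OverRes Groth.L10.LeftExactHom

variable {C : Type u} [SmallCategory C] {X Y : C} (f : X ⟶ Y)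

theorem comp_natural {Q Q' : (Over X)ᵒᵖ ⥤ AddCommGrpCat.{u}} (φ : Q ⟶ Q') {Z : Over Y} (T : Over X)
    (g : (Over.map f).obj T ⟶ Z) (x : ((Over.map f).op.ran.obj Q).obj (op Z)) :
    comp f Q' T g (((Over.map f).op.ran.map φ).app (op Z) x) = φ.app (op T) (comp f Q T g x) := by
  have h1 := congr($(((Over.map f).op.ran.map φ).naturality g.op) x)
  have h2 := congr($(congr_app ((Over.map f).op.ranCounit.naturality φ) (op T)) (((Over.map f).op.ran.obj Q).map g.op x))
  exact (congrArg (((Over.map f).op.ranCounit.app Q').app (op T)) h1.symm).trans h2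

theorem comp_map (Q : (Over X)ᵒᵖ ⥤ AddCommGrpCat.{u}) {Z Z' : Over Y} (a : Z' ⟶ Z) (T : Over X)
    (g : (Over.map f).obj T ⟶ Z') (x : ((Over.map f).op.ran.obj Q).obj (op Z)) :
    comp f Q T g (((Over.map f).op.ran.obj Q).map a.op x) = comp f Q T (g ≫ a) x := by
  simp only [comp, op_comp, Functor.map_comp]
  rfl

/-- Sections of the direct image from a compatible family of maps. -/
theorem exists_lift_comp {Z Q : Over Y} (l : ∀ (T : Over X), ((Over.map f).obj T ⟶ Z) → ((Over.map f).obj T ⟶ Q))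
    (hl : ∀ (T T' : Over X) (m : T' ⟶ T) (g : (Over.map f).obj T ⟶ Z),
      (Over.map f).map m ≫ l T g = l T' ((Over.map f).map m ≫ g))
    (P : (Over Y)ᵒᵖ ⥤ AddCommGrpCat.{u}) (x : P.obj (op Q)) :
    ∃ y : ((Over.map f).op.ran.obj ((Over.map f).op ⋙ P)).obj (op Z),
      ∀ (T : Over X) (g : (Over.map f).obj T ⟶ Z), comp f _ T g y = P.map (l T g).op x := by
  let hlim := (Over.map f).op.isPointwiseRightKanExtensionRanCounit ((Over.map f).op ⋙ P) (op Z)
  let s : Cone (StructuredArrow.proj (op Z) (Over.map f).op ⋙ (Over.map f).op ⋙ P) :=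
    { pt := P.obj (op Q)
      π :=
        { app := fun j => P.map (l j.right.unop j.hom.unop).op
          naturality := fun j j' m => by
            dsimp
            rw [Category.id_comp, ← Functor.map_comp, ← StructuredArrow.w m]
            exact congrArg (fun r => P.map r) (congrArg Quiver.Hom.op (hl _ _ m.right.unop j.hom.unop).symm) } }
  exact ⟨hlim.lift s x, fun T g => congr($(hlim.fac s (StructuredArrow.mk g.op)) x)⟩

variable {J J' : GrothendieckTopology C} (h : J' ≤ J) (P : MorphismProperty C)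
  (A' : ∀ X : C, ObjectProperty (Sheaf (J'.over X) AddCommGrpCat.{u})) [∀ X : C, WSerre.IsWeakSerre (A' X)]
  (h2 : ∀ ⦃X Y : C⦄ (f : X ⟶ Y) (F' : Sheaf (J'.over Y) AddCommGrpCat.{u}), A' Y F' →
      A' X ((CohSite.push (J'.over Y) (J'.over X) (Over.map f)).obj F'))
  (h3 : ∀ (X : C) (F' : Sheaf (J'.over X) AddCommGrpCat.{u}), A' X F' → Presheaf.IsSheaf (J.over X) F'.obj)
  (h4 : ∀ ⦃X Y : C⦄ (f : X ⟶ Y)
      [((Over.map f).sheafPushforwardCocontinuous AddCommGrpCat.{u} (J'.over X) (J'.over Y)).Additive],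
      P f → ∀ (F' : Sheaf (J'.over X) AddCommGrpCat.{u}), A' X F' → ∀ i : ℕ,
        A' Y ((((Over.map f).sheafPushforwardCocontinuous AddCommGrpCat.{u} (J'.over X) (J'.over Y)).rightDerived i).obj F'))

/-- A map of sheaf complexes gives the map on sections. -/
theorem d_natural {D : Type u} [SmallCategory D] {K : GrothendieckTopology D}
    {F G : Sheaf K AddCommGrpCat.{u}} (φ : F ⟶ G) {U V : D} (g : V ⟶ U) (x : F.obj.obj (op U)) :
    G.obj.map g.op (φ.hom.app (op U) x) = φ.hom.app (op V) (F.obj.map g.op x) :=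
  (congr($(φ.hom.naturality g.op) x)).symm

set_option maxHeartbeats 800000 in
include h2 h3 h4 in
/-- Equalised classes die locally. -/
theorem exists_cover_killing {X Y : C} (f : X ⟶ Y) (hf : P f) (hcov : Sieve.ofArrows (fun _ : PUnit.{u + 1} => X) (fun _ => f) ∈ J Y)
    (hpb : ∃ (W : C) (p q : W ⟶ X), IsPullback p q f f)
    (F' : Sheaf (J'.over Y) AddCommGrpCat.{u}) (hF' : A' Y F') (n : ℕ)
    (θ : CohSite.HU F' (n + 1) (Over.mk f))
    (hθ : ∀ (W : C) (p q : W ⟶ X) (hW : IsPullback p q f f),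
      CohSite.res F' (n + 1) (Over.homMk p rfl : Over.mk (p ≫ f) ⟶ Over.mk f) θ =
        CohSite.res F' (n + 1) (Over.homMk q hW.w.symm : Over.mk (p ≫ f) ⟶ Over.mk f) θ) :
    ∃ (ι : Type u) (Z : ι → C) (g : ∀ i, Z i ⟶ Y), Sieve.ofArrows Z g ∈ J' Y ∧
      ∀ (i : ι) (W : C) (p : W ⟶ Z i) (q : W ⟶ X), IsPullback p q (g i) f →
        CohSite.res F' (n + 1) (Over.homMk q rfl : Over.mk (q ≫ f) ⟶ Over.mk f) θ = 0 := by
  obtain ⟨W₀, p₀, q₀, hW₀⟩ := hpb
  let R := injectiveResolution F'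
  let K := R.cocomplex
  obtain ⟨ĉ, hĉ, rfl⟩ := R.extMk_surjective (θ : Ext (SiteCoh.fs (J'.over Y) (Over.mk f)) F' (n + 1)) (n + 2) rfl
  let T := Over.mk f
  let Z₁ := Over.mk (𝟙 Y)
  let u₁ : T ⟶ Z₁ := Over.homMk f (Category.comp_id f)
  let c : (K.X (n + 1)).obj.obj (op T) := SiteCoh.secEquiv _ T _ ĉ
  have hc : (K.d (n + 1) (n + 2)).hom.app (op T) c = 0 := by
    rw [← SiteCoh.secEquiv_comp, hĉ, map_zero]
  have hres : ∀ {V : Over Y} (a : V ⟶ T), CohSite.res F' (n + 1) a (R.extMk ĉ (n + 2) rfl hĉ) =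
      R.extMk (SiteCoh.fsMap (J'.over Y) a ≫ ĉ) (n + 2) rfl (by rw [Category.assoc, hĉ, comp_zero]) := fun {V} a =>
    R.mk₀_comp_extMk ĉ (n + 2) rfl hĉ (SiteCoh.fsMap (J'.over Y) a)
  -- the complex of direct images
  let η' := (resAdj J' f).unit
  let S := img (res J' f ⋙ pf J' f) K
  -- the section `c'`
  obtain ⟨c', hc'⟩ := exists_lift_comp f (Z := Z₁) (Q := T) (fun T' _ => Over.homMk T'.hom rfl)
    (fun T₁ T₂ m _ => by ext; exact Over.w m) (K.X (n + 1)).obj c
  have hdc' : (S.d (n + 1) (n + 2)).hom.app (op Z₁) c' = 0 := by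
    refine comp_ext f _ _ _ fun T' g => ?_
    refine (comp_natural f (Functor.whiskerLeft _ (K.d (n + 1) (n + 2)).hom) T' g c').trans ?_
    rw [hc']
    refine (d_natural (K.d (n + 1) (n + 2)) _ c).symm.trans ?_
    rw [hc, map_zero]
    exact (map_zero _).symm
  have cycEx : ∀ (L : CochainComplex (Sheaf (J'.over Y) AddCommGrpCat.{u}) ℕ) (V : Over Y) (x : (L.X (n + 1)).obj.obj (op V)),
      (L.d (n + 1) (n + 2)).hom.app (op V) x = 0 → ∃ z, (L.iCycles (n + 1)).hom.app (op V) z = x := fun L V x hx => by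
    have hex := (ShortComplex.exact_of_f_is_kernel (ShortComplex.mk (L.iCycles (n + 1)) (L.d (n + 1) (n + 2)) (by simp))
      (L.cyclesIsKernel (n + 1) (n + 2) (by simp))).map_of_mono_of_preservesKernel (secF (J'.over Y) V) inferInstance inferInstance
    rw [ShortComplex.ab_exact_iff] at hex
    exact hex x hx
  obtain ⟨z, hz⟩ := cycEx S Z₁ c' hdc'
  obtain ⟨zc, hzc⟩ := cycEx K T c hc
  let g₀ := (S.homologyπ (n + 1)).hom.app (op Z₁) z
  -- the difference on `T`
  let δ : (K.X (n + 1)).obj.obj (op (Over.mk (p₀ ≫ f))) :=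
    (K.X (n + 1)).obj.map (Over.homMk q₀ hW₀.w.symm : Over.mk (p₀ ≫ f) ⟶ T).op c -
      (K.X (n + 1)).obj.map (Over.homMk p₀ rfl : Over.mk (p₀ ≫ f) ⟶ T).op c
  have hδ : ∃ β : (K.X n).obj.obj (op (Over.mk (p₀ ≫ f))), (K.d n (n + 1)).hom.app _ β = δ := by
    have h0 := hθ W₀ p₀ q₀ hW₀
    rw [hres, hres] at h0
    have h1 : R.extMk (SiteCoh.fsMap (J'.over Y) (Over.homMk q₀ hW₀.w.symm : Over.mk (p₀ ≫ f) ⟶ T) ≫ ĉ -
        SiteCoh.fsMap (J'.over Y) (Over.homMk p₀ rfl : Over.mk (p₀ ≫ f) ⟶ T) ≫ ĉ) (n + 2) rfl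
          (by simp [hĉ]) = 0 := by
      rw [← R.sub_extMk _ _ _ _ (by rw [Category.assoc, hĉ, comp_zero]) (by rw [Category.assoc, hĉ, comp_zero]), h0, sub_self]
    obtain ⟨β, hβ⟩ := (R.extMk_eq_zero_iff _ _ rfl _ n rfl).1 h1
    refine ⟨SiteCoh.secEquiv _ _ _ β, ?_⟩
    rw [← SiteCoh.secEquiv_comp, hβ, map_sub, SiteCoh.secEquiv_map, SiteCoh.secEquiv_map]
  obtain ⟨β, hβ⟩ := hδ
  let lam : ∀ (T' : Over X), ((Over.map f).obj T' ⟶ T) → ((Over.map f).obj T' ⟶ Over.mk (p₀ ≫ f)) := fun T' g =>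
    Over.homMk (hW₀.lift g.left T'.hom (Over.w g)) (by
      change _ ≫ p₀ ≫ f = T'.hom ≫ f
      rw [hW₀.lift_fst_assoc]
      exact Over.w g)
  obtain ⟨b', hb'⟩ := exists_lift_comp f (Z := T) (Q := Over.mk (p₀ ≫ f)) lam
    (fun T₁ T₂ m g => by
      ext
      refine hW₀.hom_ext ?_ ?_
      · change (m.left ≫ hW₀.lift _ _ _) ≫ p₀ = hW₀.lift _ _ _ ≫ p₀
        rw [Category.assoc, hW₀.lift_fst, hW₀.lift_fst]
        rfl
      · change (m.left ≫ hW₀.lift _ _ _) ≫ q₀ = hW₀.lift _ _ _ ≫ q₀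
        rw [Category.assoc, hW₀.lift_snd, hW₀.lift_snd]
        exact Over.w m) (K.X n).obj β
  have hzT : (S.cycles (n + 1)).obj.map u₁.op z =
      (cyclesMap (ηC η' K) (n + 1)).hom.app (op T) zc + (S.toCycles n (n + 1)).hom.app (op T) b' := by
    refine injective_app (S.iCycles (n + 1)) T ?_
    have e1 := congr($(congrArg (secF (J'.over Y) T).map (cyclesMap_i (ηC η' K) (n + 1))) zc)
    have e2 := congr($(congrArg (secF (J'.over Y) T).map (S.toCycles_i n (n + 1))) b')
    rw [map_add, ← d_natural, hz]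
    refine Eq.trans ?_ (congrArg₂ (· + ·) e1.symm e2.symm)
    refine comp_ext f _ _ _ fun T' g => ?_
    have hu := comp_unit f (K.X (n + 1)).obj T' g c
    have hA : comp f _ T' g ((secF (J'.over Y) T).map (K.iCycles (n + 1) ≫ (ηC η' K).f (n + 1)) zc) =
        (K.X (n + 1)).obj.map g.op c := by
      rw [← hzc]
      exact ((congrArg (comp f _ T' g) (congrArg (((resAdj J' f).unit.app (K.X (n + 1))).hom.app (op T)) hzc)).trans
        ((congrArg (comp f _ T' g) (congr($(congr_app ((Over.map f).sheafAdjunctionCocontinuous_unit_app_hom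
          AddCommGrpCat.{u} (J'.over X) (J'.over Y) (K.X (n + 1))) (op T)) c))).trans hu)).trans (by rw [hzc])
    rw [map_add]
    refine Eq.trans ?_ (congrArg₂ (· + ·) hA.symm (comp_natural f (Functor.whiskerLeft _ (K.d n (n + 1)).hom) T' g b').symm)
    refine (comp_map f _ u₁ T' g c').trans ?_
    rw [hc', hb']
    change _ = _ + (K.d n (n + 1)).hom.app _ ((K.X n).obj.map (lam T' g).op β)
    rw [← d_natural, hβ, map_sub]
    have r1 : (lam T' g ≫ (Over.homMk p₀ rfl : Over.mk (p₀ ≫ f) ⟶ T)) = g := by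
      ext; exact hW₀.lift_fst _ _ _
    have r2 : (lam T' g ≫ (Over.homMk q₀ hW₀.w.symm : Over.mk (p₀ ≫ f) ⟶ T)) = Over.homMk T'.hom rfl := by
      ext; exact hW₀.lift_snd _ _ _
    have hm : ∀ (a : Over.mk (p₀ ≫ f) ⟶ T), (K.X (n + 1)).obj.map (lam T' g).op ((K.X (n + 1)).obj.map a.op c) =
        (K.X (n + 1)).obj.map (lam T' g ≫ a).op c := fun a => by
      rw [op_comp, Functor.map_comp]; rfl
    rw [hm, hm, r1, r2]
    exact (add_sub_cancel _ _).symm
  have hKz : IsZero (K.homology (n + 1)) := (exactAt_iff_isZero_homology _ _).1 (R.cocomplex_exactAt_succ n)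
  have hg₀ : (S.homology (n + 1)).obj.map u₁.op g₀ = 0 := by
    rw [d_natural, hzT, map_add]
    have e1 := congr($(congrArg (secF (J'.over Y) T).map (homologyπ_naturality (ηC η' K) (n + 1))) zc)
    have e2 := congr($(congrArg (secF (J'.over Y) T).map (S.toCycles_comp_homologyπ n (n + 1))) b')
    have := AddCommGrpCat.subsingleton_of_isZero ((secF (J'.over Y) T).map_isZero hKz)
    refine (congrArg₂ (· + ·) (e1.symm.trans ?_) (e2.trans ?_)).trans (add_zero 0)
    · refine Eq.trans ?_ (map_zero ((secF (J'.over Y) T).map (homologyMap (ηC η' K) (n + 1))).hom)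
      exact congrArg ((secF (J'.over Y) T).map (homologyMap (ηC η' K) (n + 1))) (Subsingleton.elim _ _)
    · rw [Functor.map_zero]; rfl
  have hG : A' Y (S.homology (n + 1)) :=
    (A' Y).prop_of_iso (R.isoRightDerivedObj (res J' f ⋙ pf J' f) (n + 1)) (prop_rightDerived P A' h2 h4 f hf (n + 1) F' hF')
  have hg : g₀ = 0 := by
    let S₀ := (Sieve.overEquiv Z₁).symm (Sieve.ofArrows (fun _ : PUnit.{u + 1} => X) (fun _ => f))
    refine eq_zero_of_locally (h3 Y _ hG) S₀ (J.overEquiv_symm_mem_over _ _ hcov) g₀ fun W g hgS => ?_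
    rw [Sieve.overEquiv_symm_iff] at hgS
    obtain ⟨_, s, _, hp, hs⟩ := hgS
    cases hp
    have hw : g.left = W.hom := (Category.comp_id g.left).symm.trans (Over.w g)
    let g₁ : W ⟶ T := Over.homMk s (hs.trans hw)
    have hg' : g = g₁ ≫ u₁ := by ext; exact hs.symm
    rw [hg', op_comp, Functor.map_comp]
    exact (congrArg ((S.homology (n + 1)).obj.map g₁.op) hg₀).trans (map_zero ((S.homology (n + 1)).obj.map g₁.op).hom)
  -- locally a boundary
  have hker := (ShortComplex.exact_of_f_is_kernel (ShortComplex.mk (kernel.ι (S.homologyπ (n + 1))) _ (kernel.condition _))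
    (kernelIsKernel _)).map_of_mono_of_preservesKernel (secF (J'.over Y) Z₁) inferInstance inferInstance
  rw [ShortComplex.ab_exact_iff] at hker
  obtain ⟨k, hk⟩ := hker z hg
  have : Epi (kernel.lift (S.homologyπ (n + 1)) (S.toCycles n (n + 1)) (S.toCycles_comp_homologyπ n (n + 1))) :=
    (ShortComplex.mk (S.toCycles n (n + 1)) (S.homologyπ (n + 1)) (S.toCycles_comp_homologyπ n (n + 1))).exact_iff_epi_kernel_lift.1
      (ShortComplex.exact_of_g_is_cokernel _ (S.homologyIsCokernel n (n + 1) (by simp)))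
  obtain ⟨Sc, hSc⟩ := SiteCoh.locally_surjective_of_epi
    (kernel.lift (S.homologyπ (n + 1)) (S.toCycles n (n + 1)) (S.toCycles_comp_homologyπ n (n + 1))) k
  refine ⟨Sc.Arrow, fun a => a.Y.left, fun a => a.Y.hom, ?_, fun a W p q hW => ?_⟩
  · refine J'.superset_covering ?_ ((J'.mem_over_iff _).1 Sc.2)
    intro V r hr
    let r' : Over.mk r ⟶ Z₁ := Over.homMk r (Category.comp_id r)
    have hr' : Sc.1 r' := by
      rw [← OrderIso.symm_apply_apply (Sieve.overEquiv Z₁) Sc.1, Sieve.overEquiv_symm_iff]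
      exact hr
    exact ⟨V, 𝟙 V, r, Presieve.ofArrows.mk (Y := fun a : Sc.Arrow => a.Y.left) (f := fun a => a.Y.hom)
      ⟨Over.mk r, r', hr'⟩, Category.id_comp r⟩
  obtain ⟨b, hb⟩ := hSc a
  have hd : (S.d n (n + 1)).hom.app (op a.Y) b = (S.X (n + 1)).obj.map a.f.op c' := by
    have e1 := congr($(congrArg (secF (J'.over Y) a.Y).map
      (kernel.lift_ι (S.homologyπ (n + 1)) (S.toCycles n (n + 1)) (S.toCycles_comp_homologyπ n (n + 1)))) b)
    have e2 := congr($(congrArg (secF (J'.over Y) a.Y).map (S.toCycles_i n (n + 1))) b)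
    refine e2.symm.trans ?_
    refine (congrArg ((S.iCycles (n + 1)).hom.app (op a.Y)) e1.symm).trans ?_
    rw [← hz, d_natural]
    refine congrArg ((S.iCycles (n + 1)).hom.app (op a.Y)) ?_
    rw [← hk]
    refine Eq.trans (congrArg ((kernel.ι (S.homologyπ (n + 1))).hom.app (op a.Y)) hb) ?_
    exact (d_natural (kernel.ι (S.homologyπ (n + 1))) a.f k).symm
  let Tq : Over X := Over.mk q
  let gW : (Over.map f).obj Tq ⟶ a.Y := Over.homMk p hW.w
  let βW : (K.X n).obj.obj (op ((Over.map f).obj Tq)) := comp f _ Tq gW b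
  have hfin : (K.d n (n + 1)).hom.app _ βW = (K.X (n + 1)).obj.map (Over.homMk q rfl : (Over.map f).obj Tq ⟶ T).op c := by
    refine (comp_natural f (Functor.whiskerLeft _ (K.d n (n + 1)).hom) Tq gW b).symm.trans ?_
    refine (congrArg (comp f _ Tq gW) hd).trans ?_
    exact (comp_map f _ a.f Tq gW c').trans (hc' Tq _)
  rw [hres]
  refine (R.extMk_eq_zero_iff _ _ rfl _ n rfl).2 ⟨(SiteCoh.secEquiv _ _ _).symm βW, ?_⟩
  apply (SiteCoh.secEquiv (J'.over Y) _ _).injective
  rw [SiteCoh.secEquiv_comp, SiteCoh.secEquiv_map, AddEquiv.apply_symm_apply]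
  exact hfin

end Groth.L10.TwoTopVanish
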