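import Groth.Agent.L10.OverRes
import Groth.Agent.L10.SiteCover

/-! Vanishing of higher direct images for the comparison of two topologies. -/

universe u

open CategoryTheory CategoryTheory.Limits Opposite HomologicalComplex ZeroObject

set_option backward.defeqAttrib.useBackward true
set_option backward.isDefEq.respectTransparency false

namespace Groth.L10.TwoTopVanish

open Groth.L10 Groth.L10.OverRes Groth.L10.LeftExactHom

variable {C : Type u} [SmallCategory C]

/-- Sections of abelian sheaves. -/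
noncomputable abbrev secF {D : Type u} [SmallCategory D] (K : GrothendieckTopology D) (Z : D) :
    Sheaf K AddCommGrpCat.{u} ⥤ AddCommGrpCat.{u} :=
  sheafToPresheaf K AddCommGrpCat.{u} ⋙ (evaluation Dᵒᵖ AddCommGrpCat.{u}).obj (op Z)

theorem injective_app {D : Type u} [SmallCategory D] {K : GrothendieckTopology D} {F G : Sheaf K AddCommGrpCat.{u}}
    (φ : F ⟶ G) [Mono φ] (Z : D) : Function.Injective (φ.hom.app (op Z)) := by
  have : Mono ((secF K Z).map φ) := inferInstance
  exact (AddCommGrpCat.mono_iff_injective _).1 this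

/-- Separatedness for abelian sheaves. -/
theorem eq_zero_of_locally {D : Type u} [SmallCategory D] {K : GrothendieckTopology D} {P : Dᵒᵖ ⥤ AddCommGrpCat.{u}}
    (hP : Presheaf.IsSheaf K P) {Z : D} (S : Sieve Z) (hS : S ∈ K Z) (x : P.obj (op Z))
    (h : ∀ ⦃W : D⦄ (g : W ⟶ Z), S g → P.map g.op x = 0) : x = 0 :=
  SiteCover.eq_of_locally_eq (⟨P, hP⟩ : Sheaf K AddCommGrpCat.{u}) S hS x 0 fun W g hg =>
    (h g hg).trans (map_zero (P.map g.op).hom).symm

variable {X Y : C} (f : X ⟶ Y)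

/-- The component of a section of a right Kan extension. -/
noncomputable def comp (Q : (Over X)ᵒᵖ ⥤ AddCommGrpCat.{u}) {Z : Over Y} (T : Over X) (g : (Over.map f).obj T ⟶ Z) :
    ((Over.map f).op.ran.obj Q).obj (op Z) ⟶ Q.obj (op T) :=
  ((Over.map f).op.ran.obj Q).map g.op ≫ ((Over.map f).op.ranCounit.app Q).app (op T)

theorem comp_ext (Q : (Over X)ᵒᵖ ⥤ AddCommGrpCat.{u}) {Z : Over Y} (x y : ((Over.map f).op.ran.obj Q).obj (op Z))
    (h : ∀ (T : Over X) (g : (Over.map f).obj T ⟶ Z), comp f Q T g x = comp f Q T g y) : x = y := by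
  refine Concrete.isLimit_ext _ ((Over.map f).op.isPointwiseRightKanExtensionRanCounit Q (op Z)) _ _ fun j => ?_
  exact h j.right.unop j.hom.unop

theorem comp_unit (P : (Over Y)ᵒᵖ ⥤ AddCommGrpCat.{u}) {Z : Over Y} (T : Over X) (g : (Over.map f).obj T ⟶ Z)
    (x : P.obj (op Z)) :
    comp f ((Over.map f).op ⋙ P) T g ((((Over.map f).op.ranAdjunction AddCommGrpCat.{u}).unit.app P).app (op Z) x) =
      P.map g.op x := by
  let adj := (Over.map f).op.ranAdjunction AddCommGrpCat.{u}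
  have hn := congr($((adj.unit.app P).naturality g.op) x)
  have ht := congr($(congr_app (adj.left_triangle_components P) (op T)) (P.map g.op x))
  refine Eq.trans ?_ ht
  exact congrArg (((Over.map f).op.ranCounit.app ((Over.map f).op ⋙ P)).app (op T)) hn.symm

theorem unit_app_eq_zero (K : GrothendieckTopology C) (M : Sheaf (K.over Y) AddCommGrpCat.{u}) {Z : Over Y}
    (x : M.obj.obj (op Z)) (h : ∀ (T : Over X) (g : (Over.map f).obj T ⟶ Z), M.obj.map g.op x = 0) :
    ((resAdj K f).unit.app M).hom.app (op Z) x = 0 := by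
  rw [Functor.sheafAdjunctionCocontinuous_unit_app_hom]
  refine comp_ext f _ _ _ fun T g => ?_
  exact (comp_unit f M.obj T g x).trans ((h T g).trans (map_zero _).symm)

theorem mono_unit (K : GrothendieckTopology C)
    (hcov : Sieve.ofArrows (fun _ : PUnit.{u + 1} => X) (fun _ => f) ∈ K Y) (M : Sheaf (K.over Y) AddCommGrpCat.{u}) :
    Mono ((resAdj K f).unit.app M) := by
  have : ∀ Z, Mono (((resAdj K f).unit.app M).hom.app Z) := fun Z => by
    rw [AddCommGrpCat.mono_iff_injective, injective_iff_map_eq_zero]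
    intro x hx
    let S := (Sieve.overEquiv Z.unop).symm (Sieve.pullback Z.unop.hom (Sieve.ofArrows (fun _ : PUnit.{u + 1} => X) (fun _ => f)))
    refine eq_zero_of_locally M.property S ((K.overEquiv_symm_mem_over _ _ (K.pullback_stable _ hcov))) x fun W g hg => ?_
    rw [Sieve.overEquiv_symm_iff] at hg
    obtain ⟨_, s, _, hp, hs⟩ := hg
    cases hp
    let T : Over X := Over.mk s
    let g' : (Over.map f).obj T ⟶ Z.unop := Over.homMk g.left (by
      change g.left ≫ Z.unop.hom = s ≫ f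
      exact hs.symm)
    let i : W ⟶ (Over.map f).obj T := Over.homMk (𝟙 W.left) (by
      change 𝟙 W.left ≫ s ≫ f = W.hom
      rw [Category.id_comp, hs, Over.w g])
    have hgi : g = i ≫ g' := by ext; exact (Category.id_comp _).symm
    have h0 : M.obj.map g'.op x = 0 := by
      rw [← comp_unit f M.obj T g' x]
      rw [Functor.sheafAdjunctionCocontinuous_unit_app_hom] at hx
      exact (congrArg (comp f _ T g') hx).trans (map_zero (comp f _ T g').hom)
    rw [hgi, op_comp, Functor.map_comp]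
    exact (congrArg (M.obj.map i.op) h0).trans (map_zero (M.obj.map i.op).hom)
  have := NatTrans.mono_of_mono_app ((resAdj K f).unit.app M).hom
  exact (sheafToPresheaf _ _).mono_of_mono_map (f := (resAdj K f).unit.app M) this

variable {J J' : GrothendieckTopology C} (h : J' ≤ J) (P : MorphismProperty C)
  (A' : ∀ X : C, ObjectProperty (Sheaf (J'.over X) AddCommGrpCat.{u})) [∀ X : C, WSerre.IsWeakSerre (A' X)]
  (h2 : ∀ ⦃X Y : C⦄ (f : X ⟶ Y) (F' : Sheaf (J'.over Y) AddCommGrpCat.{u}), A' Y F' →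
      A' X ((CohSite.push (J'.over Y) (J'.over X) (Over.map f)).obj F'))
  (h3 : ∀ (X : C) (F' : Sheaf (J'.over X) AddCommGrpCat.{u}), A' X F' → Presheaf.IsSheaf (J.over X) F'.obj)
  (h4 : ∀ ⦃X Y : C⦄ (f : X ⟶ Y)
      [((Over.map f).sheafPushforwardCocontinuous AddCommGrpCat.{u} (J'.over X) (J'.over Y)).Additive],
      P f → ∀ (F' : Sheaf (J'.over X) AddCommGrpCat.{u}), A' X F' → ∀ i : ℕ,
        A' Y ((((Over.map f).sheafPushforwardCocontinuous AddCommGrpCat.{u} (J'.over X) (J'.over Y)).rightDerived i).obj F'))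

local notation "εO" => fun Z => SiteCmp.epsSh (SiteCmp.over_le h Z) AddCommGrpCat

include h3 in
omit [∀ X : C, WSerre.IsWeakSerre (A' X)] in
theorem le_essImage (Z : C) : A' Z ≤ (SiteCmp.epsSh (SiteCmp.over_le h Z) AddCommGrpCat.{u}).essImage := fun F' hF' =>
  ⟨⟨F'.obj, h3 Z F' hF'⟩, ⟨(fullyFaithfulSheafToPresheaf _ _).preimageIso (Iso.refl _)⟩⟩

include h2 h4 in
theorem prop_rightDerived {X Y : C} (f : X ⟶ Y) (hf : P f) (j : ℕ) (M : Sheaf (J'.over Y) AddCommGrpCat.{u}) (hM : A' Y M) :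
    A' Y (((res J' f ⋙ pf J' f).rightDerived j).obj M) := by
  obtain ⟨e⟩ := nonempty_rightDerived_resPf J' f j M
  exact (A' Y).prop_of_iso e.symm (h4 f hf _ (h2 f M hM) j)

/-- Comparison of composite endofunctors. -/
noncomputable def cIso {X Y : C} (f : X ⟶ Y) :
    (res J f ⋙ pf J f) ⋙ SiteCmp.epsSh (SiteCmp.over_le h Y) AddCommGrpCat.{u} ≅
      SiteCmp.epsSh (SiteCmp.over_le h Y) AddCommGrpCat.{u} ⋙ (res J' f ⋙ pf J' f) :=
  Functor.associator _ _ _ ≪≫ Functor.isoWhiskerLeft _ (pfEps f h) ≪≫ (Functor.associator _ _ _).symm ≪≫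
    Functor.isoWhiskerRight (resEps f h) _ ≪≫ Functor.associator _ _ _

theorem cIso_unit {X Y : C} (f : X ⟶ Y) (M : Sheaf (J.over Y) AddCommGrpCat.{u}) :
    (SiteCmp.epsSh (SiteCmp.over_le h Y) AddCommGrpCat.{u}).map ((resAdj J f).unit.app M) ≫ (cIso h f).hom.app M =
      (resAdj J' f).unit.app ((SiteCmp.epsSh (SiteCmp.over_le h Y) AddCommGrpCat.{u}).obj M) := by
  rw [← eps_unit f h M]
  have : (cIso h f).hom.app M = 𝟙 _ := by
    simp [cIso, pfEps, resEps]
  rw [this]
  exact Category.comp_id _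

include h2 h3 h4 in
/-- A class killed by a covering arrow of `P` vanishes. -/
theorem core (m : ℕ) {X Y : C} (f : X ⟶ Y) (hf : P f)
    (hcov : Sieve.ofArrows (fun _ : PUnit.{u + 1} => X) (fun _ => f) ∈ J Y)
    (hV : ∀ M, A' Y ((SiteCmp.epsSh (SiteCmp.over_le h Y) AddCommGrpCat.{u}).obj M) → ∀ j, j + 1 ≤ m →
      IsZero (((SiteCmp.epsSh (SiteCmp.over_le h Y) AddCommGrpCat.{u}).rightDerived (j + 1)).obj M))
    (I : CochainComplex (Sheaf (J.over Y) AddCommGrpCat.{u}) ℕ) (hI : ∀ i, Injective (I.X i))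
    (hex : ∀ i, 1 ≤ i → I.ExactAt i)
    (hF : A' Y ((SiteCmp.epsSh (SiteCmp.over_le h Y) AddCommGrpCat.{u}).obj (I.homology 0)))
    (e : ((img (SiteCmp.epsSh (SiteCmp.over_le h Y) AddCommGrpCat.{u}) I).homology (m + 1)).obj.obj (op (Over.mk (𝟙 Y))))
    (he : ((img (SiteCmp.epsSh (SiteCmp.over_le h Y) AddCommGrpCat.{u}) I).homology (m + 1)).obj.map
      (Over.homMk f (Category.comp_id f) : Over.mk f ⟶ Over.mk (𝟙 Y)).op e = 0) : e = 0 := by
  let T := img (SiteCmp.epsSh (SiteCmp.over_le h Y) AddCommGrpCat.{u}) I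
  let η' := (resAdj J' f).unit
  obtain ⟨hρ, G, ι, w, hι, hEx, hG⟩ := TwoTopAbstract.main (aAdj (SiteCmp.over_le h Y)) (resAdj J f).unit η'
    (cIso h f) (cIso_unit h f) (A' Y) (le_essImage h A' h3 Y) (prop_rightDerived P A' h2 h4 f hf)
    (fun M _ => injective_eps _ M)
    (fun M hM => ⟨mono_unit f J hcov M, by
      have := injective_res J f M
      exact injective_pf J f _⟩) m hV I hI hex hF
  let u : Over.mk f ⟶ Over.mk (𝟙 Y) := Over.homMk f (Category.comp_id f)
  let r := (homologyMap (ηC η' T) (m + 1)).hom.app (op (Over.mk (𝟙 Y))) e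
  have hκ : (ν (res J' f ⋙ pf J' f) T (m + 1)).hom.app _ r = 0 := by
    have h1 := congrArg (secF (J'.over Y) (Over.mk (𝟙 Y))).map (ηC_ν η' T (m + 1))
    rw [Functor.map_comp] at h1
    have := congr($h1 e)
    refine this.trans (unit_app_eq_zero f J' _ e fun T' g => ?_)
    let g₁ : (Over.map f).obj T' ⟶ Over.mk f := Over.homMk T'.hom rfl
    have hg : g = g₁ ≫ u := by
      ext
      have := Over.w g
      change g.left ≫ 𝟙 Y = T'.hom ≫ f at this
      exact (Category.comp_id g.left).symm.trans this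
    rw [hg, op_comp, Functor.map_comp]
    exact (congrArg (((img (SiteCmp.epsSh (SiteCmp.over_le h Y) AddCommGrpCat.{u}) I).homology (m + 1)).obj.map g₁.op) he).trans
      (map_zero (((img (SiteCmp.epsSh (SiteCmp.over_le h Y) AddCommGrpCat.{u}) I).homology (m + 1)).obj.map g₁.op).hom)
  have hsec := hEx.map_of_mono_of_preservesKernel (secF (J'.over Y) (Over.mk (𝟙 Y))) hι inferInstance
  rw [ShortComplex.ab_exact_iff] at hsec
  obtain ⟨k, hk⟩ := hsec r hκ
  have hru : ((img (res J' f ⋙ pf J' f) T).homology (m + 1)).obj.map u.op r = 0 :=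
    (congr($((homologyMap (ηC η' T) (m + 1)).hom.naturality u.op) e)).symm.trans
      ((congrArg ((homologyMap (ηC η' T) (m + 1)).hom.app (op (Over.mk f))) he).trans
        (map_zero ((homologyMap (ηC η' T) (m + 1)).hom.app (op (Over.mk f))).hom))
  have hk0 : G.obj.map u.op k = 0 := by
    refine injective_app ι (Over.mk f) ?_
    refine (congr($(ι.hom.naturality u.op) k)).trans ?_
    refine ((congrArg (((img (res J' f ⋙ pf J' f) T).homology (m + 1)).obj.map u.op) hk).trans hru).trans ?_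
    exact (map_zero (ι.hom.app (op (Over.mk f))).hom).symm
  have hk' : k = 0 := by
    let S := (Sieve.overEquiv (Over.mk (𝟙 Y))).symm (Sieve.ofArrows (fun _ : PUnit.{u + 1} => X) (fun _ => f))
    refine eq_zero_of_locally (h3 Y G hG) S (J.overEquiv_symm_mem_over _ _ hcov) k
      fun W g hg => ?_
    rw [Sieve.overEquiv_symm_iff] at hg
    obtain ⟨_, s, _, hp, hs⟩ := hg
    cases hp
    have hw : g.left = W.hom := by
      have := Over.w g
      change g.left ≫ 𝟙 Y = W.hom at this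
      exact (Category.comp_id g.left).symm.trans this
    let g₁ : W ⟶ Over.mk f := Over.homMk s (hs.trans hw)
    have hg' : g = g₁ ≫ u := by ext; exact hs.symm
    rw [hg', op_comp, Functor.map_comp]
    exact (congrArg (G.obj.map g₁.op) hk0).trans (map_zero (G.obj.map g₁.op).hom)
  have hr0 : r = 0 := hk.symm.trans (by rw [hk']; exact map_zero _)
  refine injective_app (homologyMap (ηC η' T) (m + 1)) (Over.mk (𝟙 Y)) ?_
  exact hr0.trans (map_zero ((homologyMap (ηC η' T) (m + 1)).hom.app _).hom).symm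

theorem homology_zero_resolution {A : Type*} [Category A] [Abelian A] {M : A} (R : InjectiveResolution M) :
    Nonempty (R.cocomplex.homology 0 ≅ M) := by
  have := R.cocomplex.isIso_homologyπ 0 0 (CochainComplex.prev_nat_zero) (R.cocomplex.shape _ _ (by simp))
  exact ⟨(asIso (R.cocomplex.homologyπ 0)).symm ≪≫
    (R.cocomplex.cyclesIsKernel 0 1 (by simp)).conePointUniqueUpToIso R.isLimitKernelFork⟩

variable (h5 : ∀ (U : C) (S : Sieve U), S ∈ J U → ∃ (ι : Type u) (V : ι → C) (v : ∀ j, V j ⟶ U),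
      Sieve.ofArrows V v ∈ J' U ∧ ∀ j, ∃ (W : C) (w : W ⟶ V j), P w ∧
        Sieve.ofArrows (fun _ : PUnit.{u + 1} => W) (fun _ => w) ∈ J (V j) ∧
        ∃ (κ : Type u) (Wk : κ → C) (wk : ∀ k, Wk k ⟶ W), Sieve.ofArrows Wk wk ∈ J' W ∧
          ∀ k, S.arrows (wk k ≫ w ≫ v j))

include h2 h3 h4 h5 in
/-- Vanishing. -/
theorem vanish : ∀ (m : ℕ) (Y : C) (I : CochainComplex (Sheaf (J.over Y) AddCommGrpCat.{u}) ℕ), (∀ i, Injective (I.X i)) →
    (∀ i, 1 ≤ i → I.ExactAt i) → A' Y ((SiteCmp.epsSh (SiteCmp.over_le h Y) AddCommGrpCat.{u}).obj (I.homology 0)) →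
    IsZero ((img (SiteCmp.epsSh (SiteCmp.over_le h Y) AddCommGrpCat.{u}) I).homology (m + 1)) := by
  intro m
  induction m using Nat.strong_induction_on with
  | _ m ih =>
  intro Y₀ I hI hex hF
  have hV : ∀ (Y₀ : C) M, A' Y₀ ((SiteCmp.epsSh (SiteCmp.over_le h Y₀) AddCommGrpCat.{u}).obj M) → ∀ j, j + 1 ≤ m →
      IsZero (((SiteCmp.epsSh (SiteCmp.over_le h Y₀) AddCommGrpCat.{u}).rightDerived (j + 1)).obj M) := fun Y₀ M hM j hj => by
    let R := injectiveResolution M
    obtain ⟨e0⟩ := homology_zero_resolution R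
    refine (ih j (by omega) Y₀ R.cocomplex (fun i => R.injective i) (fun i hi => ?_)
      ((A' Y₀).prop_of_iso ((SiteCmp.epsSh (SiteCmp.over_le h Y₀) AddCommGrpCat.{u}).mapIso e0).symm hM)).of_iso
        (R.isoRightDerivedObj _ (j + 1))
    obtain ⟨k, rfl⟩ : ∃ k, i = k + 1 := ⟨i - 1, by omega⟩
    exact R.cocomplex_exactAt_succ k
  let ε := SiteCmp.epsSh (SiteCmp.over_le h Y₀) AddCommGrpCat.{u}
  let E := (img ε I).homology (m + 1)
  have := isIso_map_ν (S := ε) I (aAdj (SiteCmp.over_le h Y₀)) (m + 1)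
  have hEa : IsZero ((presheafToSheaf (J.over Y₀) AddCommGrpCat.{u}).obj E.obj) := by
    refine IsZero.of_iso ?_ (asIso ((aSh (SiteCmp.over_le h Y₀)).map (ν ε I (m + 1))))
    exact Functor.map_isZero _ (Functor.map_isZero _ ((exactAt_iff_isZero_homology _ _).1 (hex _ (by omega))))
  suffices hall : ∀ (Z : Over Y₀) (e : E.obj.obj (op Z)), e = 0 by
    rw [IsZero.iff_id_eq_zero]
    exact Sheaf.hom_ext (NatTrans.ext (funext fun Z => AddCommGrpCat.hom_ext (AddMonoidHom.ext fun e => hall Z.unop e)))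
  intro Z e
  obtain ⟨S, hS⟩ := SiteCoh.locally_zero_of_isZero (J.over Y₀) E.obj hEa Z e
  obtain ⟨ι, V, v, hv, hW⟩ := h5 Z.left (Sieve.overEquiv Z S.1) ((J.mem_over_iff _).1 S.2)
  let S₀ := (Sieve.overEquiv Z).symm (Sieve.ofArrows V v)
  refine eq_zero_of_locally E.property S₀ (J'.overEquiv_symm_mem_over _ _ hv) e
    fun Z' g hg => ?_
  rw [Sieve.overEquiv_symm_iff] at hg
  obtain ⟨_, s, _, hj, hs⟩ := hg
  obtain ⟨j⟩ := hj
  obtain ⟨W, w, hw, hwc, κ, Wk, wk, hwk, hSk⟩ := hW j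
  let vY : V j ⟶ Y₀ := v j ≫ Z.hom
  let g' : (Over.map vY).obj (Over.mk (𝟙 (V j))) ⟶ Z := Over.homMk (v j) (by
    change v j ≫ Z.hom = 𝟙 _ ≫ v j ≫ Z.hom
    rw [Category.id_comp])
  let g'' : Z' ⟶ (Over.map vY).obj (Over.mk (𝟙 (V j))) := Over.homMk s (by
    change s ≫ 𝟙 _ ≫ v j ≫ Z.hom = Z'.hom
    rw [Category.id_comp, ← Category.assoc, hs, Over.w g])
  have hgg : g = g'' ≫ g' := by ext; exact hs.symm
  suffices E.obj.map g'.op e = 0 by
    rw [hgg, op_comp, Functor.map_comp]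
    exact (congrArg (E.obj.map g''.op) this).trans (map_zero (E.obj.map g''.op).hom)
  -- restrict to the slice over `V j`
  let I' := (res J vY).mapHomologicalComplex (ComplexShape.up ℕ) |>.obj I
  let εV := SiteCmp.epsSh (SiteCmp.over_le h (V j)) AddCommGrpCat.{u}
  let eT : img εV I' ≅ img (res J' vY) (img ε I) := HomologicalComplex.Hom.isoOfComponents
    (fun i => (resEps vY h).app (I.X i)) (fun i k _ => ((resEps vY h).hom.naturality (I.d i k)).symm)
  let θ : (img εV I').homology (m + 1) ≅ (res J' vY).obj E :=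
    (HomologicalComplex.homologyFunctor _ _ (m + 1)).mapIso eT ≪≫ ((img ε I).sc (m + 1)).mapHomologyIso (res J' vY)
  let e' := θ.inv.hom.app (op (Over.mk (𝟙 (V j)))) (E.obj.map g'.op e)
  have hI'0 : A' (V j) (εV.obj (I'.homology 0)) := by
    refine (A' (V j)).prop_of_iso ?_ (h2 vY _ hF)
    exact ((resEps vY h).app (I.homology 0)).symm ≪≫ εV.mapIso ((I.sc 0).mapHomologyIso (res J vY)).symm
  have h0 : e' = 0 := by
    refine core h P A' h2 h3 h4 m w hw hwc (hV (V j)) I' (fun i => injective_res J vY (I.X i))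
      (fun i hi => exactAt_map (res J vY) (hex i hi)) hI'0 e' ?_
    refine (congr($(θ.inv.hom.naturality (Over.homMk w (Category.comp_id w) : Over.mk w ⟶ Over.mk (𝟙 (V j))).op)
      (E.obj.map g'.op e))).symm.trans ?_
    refine Eq.trans (congrArg (θ.inv.hom.app (op (Over.mk w))) ?_) (map_zero (θ.inv.hom.app (op (Over.mk w))).hom)
    let Q := (Over.map vY).obj (Over.mk w)
    let a : Q ⟶ (Over.map vY).obj (Over.mk (𝟙 (V j))) := (Over.map vY).map (Over.homMk w (Category.comp_id w))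
    change E.obj.map a.op (E.obj.map g'.op e) = 0
    let S₁ := (Sieve.overEquiv Q).symm (Sieve.ofArrows Wk wk)
    refine eq_zero_of_locally E.property S₁ (J'.overEquiv_symm_mem_over _ _ hwk) _
      fun Z₁ g₁ hg₁ => ?_
    rw [Sieve.overEquiv_symm_iff] at hg₁
    obtain ⟨_, s₁, _, hk, hs₁⟩ := hg₁
    obtain ⟨k⟩ := hk
    have hmem : S.1 (g₁ ≫ a ≫ g') := by
      rw [← OrderIso.symm_apply_apply (Sieve.overEquiv Z) S.1, Sieve.overEquiv_symm_iff]
      change (Sieve.overEquiv Z S.1) (g₁.left ≫ w ≫ v j)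
      rw [← hs₁, Category.assoc]
      exact (Sieve.overEquiv Z S.1).downward_closed (hSk k) s₁
    have := hS ⟨Z₁, g₁ ≫ a ≫ g', hmem⟩
    simp only [op_comp, Functor.map_comp, Category.assoc] at this
    exact this
  have h1 := congrArg (θ.hom.hom.app (op (Over.mk (𝟙 (V j))))) h0
  rw [map_zero] at h1
  refine Eq.trans ?_ h1
  have h3 := congrArg (secF (J'.over (V j)) (Over.mk (𝟙 (V j)))).map θ.inv_hom_id
  rw [Functor.map_comp, CategoryTheory.Functor.map_id] at h3
  exact (congr($h3 (E.obj.map g'.op e))).symm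

end Groth.L10.TwoTopVanish

namespace Groth.L10.TwoTopVanish

open Groth.L10 Groth.L10.OverRes Groth.L10.LeftExactHom

variable {C : Type u} [SmallCategory C] {J J' : GrothendieckTopology C} (h : J' ≤ J) (P : MorphismProperty C)
  (A' : ∀ X : C, ObjectProperty (Sheaf (J'.over X) AddCommGrpCat.{u})) [∀ X : C, WSerre.IsWeakSerre (A' X)]
  (h2 : ∀ ⦃X Y : C⦄ (f : X ⟶ Y) (F' : Sheaf (J'.over Y) AddCommGrpCat.{u}), A' Y F' →
      A' X ((CohSite.push (J'.over Y) (J'.over X) (Over.map f)).obj F'))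
  (h3 : ∀ (X : C) (F' : Sheaf (J'.over X) AddCommGrpCat.{u}), A' X F' → Presheaf.IsSheaf (J.over X) F'.obj)
  (h4 : ∀ ⦃X Y : C⦄ (f : X ⟶ Y)
      [((Over.map f).sheafPushforwardCocontinuous AddCommGrpCat.{u} (J'.over X) (J'.over Y)).Additive],
      P f → ∀ (F' : Sheaf (J'.over X) AddCommGrpCat.{u}), A' X F' → ∀ i : ℕ,
        A' Y ((((Over.map f).sheafPushforwardCocontinuous AddCommGrpCat.{u} (J'.over X) (J'.over Y)).rightDerived i).obj F'))
  (h5 : ∀ (U : C) (S : Sieve U), S ∈ J U → ∃ (ι : Type u) (V : ι → C) (v : ∀ j, V j ⟶ U),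
      Sieve.ofArrows V v ∈ J' U ∧ ∀ j, ∃ (W : C) (w : W ⟶ V j), P w ∧
        Sieve.ofArrows (fun _ : PUnit.{u + 1} => W) (fun _ => w) ∈ J (V j) ∧
        ∃ (κ : Type u) (Wk : κ → C) (wk : ∀ k, Wk k ⟶ W), Sieve.ofArrows Wk wk ∈ J' W ∧
          ∀ k, S.arrows (wk k ≫ w ≫ v j))

include h2 h3 h4 h5 in
/-- Higher derived images of the comparison vanish. -/
theorem isZero_rightDerived (X : C) (F : Sheaf (J.over X) AddCommGrpCat.{u})
    (hF : A' X ((SiteCmp.epsSh (SiteCmp.over_le h X) AddCommGrpCat.{u}).obj F)) (i : ℕ) (hi : 1 ≤ i) :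
    IsZero (((SiteCmp.epsSh (SiteCmp.over_le h X) AddCommGrpCat.{u}).rightDerived i).obj F) := by
  obtain ⟨m, rfl⟩ : ∃ m, i = m + 1 := ⟨i - 1, by omega⟩
  let R := injectiveResolution F
  obtain ⟨e0⟩ := homology_zero_resolution R
  refine (vanish h P A' h2 h3 h4 h5 m X R.cocomplex (fun i => R.injective i) (fun i hi => ?_)
    ((A' X).prop_of_iso ((SiteCmp.epsSh (SiteCmp.over_le h X) AddCommGrpCat.{u}).mapIso e0).symm hF)).of_iso
      (R.isoRightDerivedObj _ (m + 1))
  obtain ⟨k, rfl⟩ : ∃ k, i = k + 1 := ⟨i - 1, by omega⟩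
  exact R.cocomplex_exactAt_succ k

include h2 h3 h4 h5 in
/-- The pulled back subcategory is weak Serre. -/
theorem isWeakSerre_inverseImage (X : C) :
    WSerre.IsWeakSerre ((A' X).inverseImage (SiteCmp.epsSh (SiteCmp.over_le h X) AddCommGrpCat.{u})) := by
  let ε := SiteCmp.epsSh (SiteCmp.over_le h X) AddCommGrpCat.{u}
  obtain ⟨Z, hZ, hPZ⟩ := (A' X).exists_prop_of_containsZero
  exact
  { toContainsZero := ⟨0, isZero_zero _, (A' X).prop_of_iso (hZ.iso (ε.map_isZero (isZero_zero _))) hPZ⟩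
    toIsClosedUnderKernels := ⟨by
      rintro _ ⟨g, k, hk, hF, hG⟩
      exact (A' X).prop_of_isLimit_kernelFork (KernelFork.mapIsLimit _ hk ε) hF hG⟩
    toIsClosedUnderCokernels := ⟨by
      rintro _ ⟨g, k, hk, hF, hG⟩
      have : Epi k.π := Cofork.IsColimit.epi hk
      exact (epi_and_prop_of_exact (S := ε) (aAdj (SiteCmp.over_le h X)) (A' X) (le_essImage h A' h3 X)
        (ShortComplex.mk g k.π k.condition)
        (ShortComplex.exact_of_g_is_cokernel _ (IsColimit.ofIsoColimit hk (Cofork.isoCoforkOfπ k)))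
        hF hG).1⟩
    toIsClosedUnderExtensions :=
      { prop_X₂_of_shortExact := fun {S} hS h₁ h₃ => by
          have := hS.mono_f
          letI := HasDerivedCategory.standard (Sheaf (J.over X) AddCommGrpCat.{u})
          have : Epi (ε.map S.g) := by
            have := Groth.L00.RDerLES.epi_map_g ε hS 0 (isZero_rightDerived h P A' h2 h3 h4 h5 X S.X₁ h₁ 1 le_rfl)
            have hn := ε.rightDerivedZeroIsoSelf.hom.naturality S.g
            have : Epi ((ε.rightDerived 0).map S.g ≫ ε.rightDerivedZeroIsoSelf.hom.app S.X₃) := epi_comp _ _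
            rw [hn] at this
            exact epi_of_epi (ε.rightDerivedZeroIsoSelf.hom.app S.X₂) _
          have : Mono (ε.map S.f) := inferInstance
          exact (A' X).prop_X₂_of_shortExact
            ({ exact := hS.exact.map_of_mono_of_preservesKernel ε hS.mono_f inferInstance
               mono_f := ‹Mono (ε.map S.f)›
               epi_g := ‹Epi (ε.map S.g)› } : (S.map ε).ShortExact) h₁ h₃ } }

end Groth.L10.TwoTopVanish
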