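import Groth.Prelude.Def_CohSite
import Mathlib.CategoryTheory.Abelian.GrothendieckAxioms.Basic
import Mathlib.CategoryTheory.Sites.EpiMono
import Mathlib.CategoryTheory.Sites.Limits
import Mathlib.CategoryTheory.Abelian.FunctorCategory
import Mathlib.Algebra.Homology.ShortComplex.ExactFunctor
import Mathlib.CategoryTheory.Limits.Types.Limits

/-! # Products are exact when weakly contractible objects cover -/

universe u

open CategoryTheory CategoryTheory.Limits Opposite

set_option backward.defeqAttrib.useBackward true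
set_option backward.isDefEq.respectTransparency false
set_option synthInstance.maxHeartbeats 200000
set_option linter.style.haveILetI false

noncomputable section

namespace Groth.L10.WeakAB4

variable {C : Type u} [SmallCategory C] {J : GrothendieckTopology C}

theorem surjective_app {U : C} (hU : CohSite.IsWeaklyContractible J U) {F G : Sheaf J AddCommGrpCat.{u}}
    (e : F ⟶ G) [Epi e] : Function.Surjective (e.hom.app (op U)) := by
  haveI : Sheaf.IsLocallySurjective e :=
    (Sheaf.isLocallySurjective_iff_epi' (J := J) (A := AddCommGrpCat.{u}) e).2 inferInstance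
  exact hU _ _ ((sheafCompose J (forget AddCommGrpCat.{u})).map e) inferInstance

theorem epi_limMap {B : Set C} (hB : ∀ U ∈ B, CohSite.IsWeaklyContractible J U)
    (hcov : ∀ V : C, ∃ (ι : Type u) (U : ι → C) (f : ∀ i, U i ⟶ V), (∀ i, U i ∈ B) ∧ Sieve.ofArrows U f ∈ J V)
    {α : Type u} {P Q : Discrete α ⥤ Sheaf J AddCommGrpCat.{u}} (φ : P ⟶ Q) (hφ : ∀ j, Epi (φ.app j)) :
    Epi (lim.map φ) := by
  refine (Sheaf.isLocallySurjective_iff_epi' (J := J) (A := AddCommGrpCat.{u}) _).1 ⟨fun {V} s => ?_⟩
  obtain ⟨ι, U, f, hUB, hf⟩ := hcov V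
  refine J.superset_covering ?_ hf
  rw [Sieve.ofArrows, Sieve.generate_le_iff]
  rintro _ _ ⟨i⟩
  let ev := sheafToPresheaf J AddCommGrpCat.{u} ⋙ (evaluation Cᵒᵖ AddCommGrpCat.{u}).obj (op (U i)) ⋙ forget AddCommGrpCat.{u}
  choose t ht using fun j => (haveI := hφ j; surjective_app (hB _ (hUB i)) (φ.app j))
    ((limit.π Q j).hom.app (op (U i)) ((limit Q).obj.map (f i).op s))
  haveI : PreservesLimit P ev := inferInstance
  haveI : PreservesLimit Q ev := inferInstance
  let σ : (P ⋙ ev).sections := ⟨t, fun {j j'} g => by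
    obtain ⟨j⟩ := j; obtain ⟨j'⟩ := j'
    obtain rfl : j = j' := Discrete.eq_of_hom g
    rw [show g = 𝟙 _ from Subsingleton.elim _ _, (P ⋙ ev).map_id]
    rfl⟩
  refine ⟨(Types.isLimitEquivSections (isLimitOfPreserves ev (limit.isLimit P))).symm σ, ?_⟩
  refine (Types.isLimitEquivSections (isLimitOfPreserves ev (limit.isLimit Q))).injective (Subtype.ext (funext fun j => ?_))
  refine Eq.trans ?_ (ht j)
  refine (congr($(congrArg (fun m : limit P ⟶ Q.obj j => m.hom.app (op (U i))) (limMap_π φ j)) _)).trans ?_
  exact congrArg ((φ.app j).hom.app (op (U i))) <|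
    congrFun (congrArg Subtype.val ((Types.isLimitEquivSections (isLimitOfPreserves ev (limit.isLimit P))).apply_symm_apply σ)) j

end Groth.L10.WeakAB4
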